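import Mathlib
import Cfsg.Prelude.Def_OddOrderLocal
import Cfsg.Prelude.Def_OddOrderChar
import Cfsg.Prelude.Def_OddOrder
import Cfsg.Agent.Lib.Helper11.BG1537Defs
import Cfsg.Agent.Lib.Helper25.BGHallConj
import Cfsg.Agent.Lib.Helper34.BG10a

/-!
# Piece (P5) of helper11's BG1537 lemma server (S1537)

A maximal subgroup of (Lean-)Type I has `K = ⊥` in every σ-decomposition.
-/

set_option autoImplicit false

namespace Cfsg.Agent.Helper86.BG1537

open Subgroup Cfsg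
open Cfsg.Agent.Helper11.BG1537 (Rows)

variable {G : Type*} [Group G] [Finite G]

/-- **(P5)** Lean-Type I forces `K = ⊥`. -/
theorem K_eq_bot_of_typeI (hG : IsMinSimpleOddOrder G) (rows : Rows G)
    {M K U : Subgroup G} (hM : IsCoatom M) (hKU : IsSigmaDecomposition M K U)
    (h : IsOfTypeI M) : K = ⊥ := by
  by_contra hK1
  obtain ⟨hF, -⟩ := h
  obtain ⟨-, -, -, -, U₁, -, hcompl, -, U₀, -, hexp, hfpf⟩ := hF
  -- a prime `p` of `K`
  have hcK : Nat.card K ≠ 1 := fun h1 => hK1 (Subgroup.card_eq_one.mp h1)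
  obtain ⟨p, hp, hpK⟩ := Nat.exists_prime_and_dvd hcK
  have : Fact p.Prime := ⟨hp⟩
  have hpκ : p ∈ kappa M := hKU.hall.2.1 p hp hpK
  have hpσ : p ∉ sigma M := hpκ.2.2.1
  have hpM : p ∣ Nat.card M := hpκ.2.1
  obtain ⟨hFσ1, hFσ, -⟩ := rows.r1355 M hM
  have hHall := (rows.r1350 M hM).1
  -- `p ∤ |M_F|`
  have hpH : ¬ p ∣ Nat.card (fittingHall ↥M) := by
    intro hd
    have h1 : Nat.card (fittingHallOf M) = Nat.card (fittingHall ↥M) := by
      unfold fittingHallOf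
      exact Subgroup.card_map_of_injective M.subtype_injective
    rw [← h1] at hd
    exact hpσ (hHall.2.1 p hp (hd.trans (Subgroup.card_dvd_of_le hFσ)))
  -- `p ∣ |U₁|`
  have hpU₁ : p ∣ Nat.card U₁ := by
    have hmul := hcompl.card_mul_card
    rw [← hmul] at hpM
    rcases (Nat.Prime.dvd_mul hp).1 hpM with h | h
    · exact absurd h hpH
    · exact h
  -- `p ∣ exponent U₀`, so `U₀` has an element of order `p`
  obtain ⟨u₁, hu₁⟩ := exists_prime_orderOf_dvd_card' p hpU₁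
  have hpe : p ∣ Monoid.exponent ↥U₀ := by
    rw [hexp, ← hu₁]
    exact Monoid.order_dvd_exponent u₁
  have hpU₀ : p ∣ Nat.card ↥U₀ :=
    hpe.trans (Monoid.exponent_dvd.mpr (fun g => orderOf_dvd_natCard g))
  obtain ⟨u, hu⟩ := exists_prime_orderOf_dvd_card' p hpU₀
  -- the element of `G`
  set y : G := ((u : ↥M) : G) with hy
  have hyo : orderOf y = p := by
    rw [hy, Subgroup.orderOf_coe, Subgroup.orderOf_coe, hu]
  have hyM : y ∈ M := (u : ↥M).2
  have hsolv : Group.IsSolvable M := Cfsg.Agent.Helper34.BG.solvable_of_ne_top hG hM.1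
  obtain ⟨m, hmM, hmy⟩ := Cfsg.Agent.Helper25.BGHallConj.exists_conj_mem_of_isPiHallOf hKU.hall
    hsolv y hyM (by
      intro q hq hqy
      rw [hyo] at hqy
      rw [(Nat.prime_dvd_prime_iff_eq hq hp).1 hqy]
      exact hpκ)
  -- `K* ≠ ⊥`, `K* ≤ M_F`
  obtain ⟨-, hKs1, hKsF, -⟩ := rows.r1364 M hM K U hKU hK1
  obtain ⟨z, hz1⟩ := (Subgroup.ne_bot_iff_exists_ne_one).1 hKs1
  have hzK : (z : G) ∈ sigmaCore M ⊓ centralizer (K : Set G) := z.2
  have hzF : (z : G) ∈ fittingHallOf M := hKsF z.2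
  unfold fittingHallOf at hzF
  obtain ⟨z', hz'H, hz'z⟩ := hzF
  have hcomm : (m * y * m⁻¹) * (z : G) = (z : G) * (m * y * m⁻¹) :=
    (Subgroup.mem_centralizer_iff.1 hzK.2) _ hmy
  -- the fixed point
  let Mm : ↥M := ⟨m, hmM⟩
  have hxH : Mm⁻¹ * z' * Mm ∈ fittingHall ↥M := by
    have := (fittingHall_normal ↥M).conj_mem z' hz'H Mm⁻¹
    simpa using this
  have hcx : (u : ↥M) * (Mm⁻¹ * z' * Mm) = (Mm⁻¹ * z' * Mm) * (u : ↥M) := by
    apply Subtype.ext
    show y * (m⁻¹ * (z' : G) * m) = (m⁻¹ * (z' : G) * m) * y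
    have hz'' : ((z' : ↥M) : G) = (z : G) := hz'z
    rw [hz'']
    have e1 : y * (m⁻¹ * (z : G) * m) = m⁻¹ * ((m * y * m⁻¹) * (z : G)) * m := by group
    have e2 : (m⁻¹ * (z : G) * m) * y = m⁻¹ * ((z : G) * (m * y * m⁻¹)) * m := by group
    rw [e1, e2, hcomm]
  have hu1 : (u : ↥M) ≠ 1 := by
    intro h1
    have : orderOf y = 1 := by
      rw [hy, h1]; simp
    rw [hyo] at this
    exact hp.one_lt.ne' this
  have hx1 := hfpf (u : ↥M) u.2 hu1 (Mm⁻¹ * z' * Mm) hxH hcx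
  -- so `z' = 1`
  have hz'1 : z' = 1 := by
    have : z' = Mm * (Mm⁻¹ * z' * Mm) * Mm⁻¹ := by group
    rw [this, hx1]; group
  apply hz1
  apply Subtype.ext
  rw [← hz'z, hz'1]
  rfl

end Cfsg.Agent.Helper86.BG1537
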