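import Mathlib
import Cfsg.Prelude.Def_OddOrderLocal
import Cfsg.Prelude.Def_OddOrderChar
import Cfsg.Prelude.Def_OddOrder
import Cfsg.Agent.Lib.Helper11.BG1537Defs
import Cfsg.Agent.Lib.Helper55.BGDecomp2

/-!
# Piece (P7) of helper11's BG1537 lemma server (S1537)

Elements of `M'` are not `M`-conjugate to elements of `K#`, so `sigmaHat M ∩ M' ⊆ sigmaA0 M K`.
-/

set_option autoImplicit false

namespace Cfsg.Agent.Helper86.BG1537

open Subgroup Cfsg
open Cfsg.Agent.Helper11.BG1537 (Rows)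

variable {G : Type*} [Group G] [Finite G]

/-- `K ⊓ (U ⊔ M_σ) = ⊥` for a σ-decomposition (coprime orders). -/
theorem K_inf_U_sup_sigmaCore (rows : Rows G) {M K U : Subgroup G} (hM : IsCoatom M)
    (hKU : IsSigmaDecomposition M K U) : K ⊓ (U ⊔ sigmaCore M) = ⊥ := by
  rw [Subgroup.eq_bot_iff_forall]
  rintro k ⟨hkK, hkUS⟩
  have hHall := (rows.r1350 M hM).1
  have hUn : U ≤ normalizer ((sigmaCore M : Subgroup G) : Set G) :=
    hKU.compl.1.trans (Cfsg.Agent.Helper55.BGB.le_normalizer_sigmaCore M)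
  have hcard := Cfsg.Agent.Helper50.card_sup_mul_card_inf_of_le_normalizer (sigmaCore M) U hUn
  have hdvd : Nat.card ↥(U ⊔ sigmaCore M) ∣ Nat.card (sigmaCore M) * Nat.card U := by
    rw [sup_comm, ← hcard]
    exact Dvd.intro _ rfl
  have h1 : orderOf k = 1 := by
    rw [Nat.eq_one_iff_not_exists_prime_dvd]
    intro p hp hpk
    have hpK : p ∣ Nat.card K := by
      have := orderOf_dvd_natCard (⟨k, hkK⟩ : ↥K)
      rw [Subgroup.orderOf_mk] at this
      exact hpk.trans this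
    have hpκ : p ∈ kappa M := hKU.hall.2.1 p hp hpK
    have hpUS : p ∣ Nat.card (sigmaCore M) * Nat.card U := by
      have := orderOf_dvd_natCard (⟨k, hkUS⟩ : ↥(U ⊔ sigmaCore M))
      rw [Subgroup.orderOf_mk] at this
      exact (hpk.trans this).trans hdvd
    rcases (Nat.Prime.dvd_mul hp).1 hpUS with h | h
    · exact hpκ.2.2.1 (hHall.2.1 p hp h)
    · exact (Cfsg.Agent.Helper55.BGB.U_prime_not_mem hKU hHall hp h).1 hpκ
  exact orderOf_eq_one_iff.mp h1

/-- **(P7)** elements of `M'` are not `M`-conjugate to elements of `K#`: `sigmaHat M ∩ M' ⊆ sigmaA0 M K`. -/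
theorem mem_sigmaA0_of_mem_commutator (hG : IsMinSimpleOddOrder G) (rows : Rows G)
    {M K U : Subgroup G} (hM : IsCoatom M) (hKU : IsSigmaDecomposition M K U)
    {a : G} (ha : a ∈ ⁅M, M⁆) (hhat : a ∈ sigmaHat M) : a ∈ sigmaA0 M K := by
  refine ⟨hhat, ?_⟩
  rintro ⟨k, hkK, hk1, m, hmM, rfl⟩
  have hK1 : K ≠ ⊥ := by
    intro h
    rw [h, Subgroup.mem_bot] at hkK
    exact hk1 hkK
  have hkM' : k ∈ ⁅M, M⁆ := by
    have hn : m⁻¹ ∈ normalizer ((⁅M, M⁆ : Subgroup G) : Set G) :=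
      Cfsg.Agent.Helper55.BGB.le_normalizer_commutator M (M.inv_mem hmM)
    have h2 := (Subgroup.mem_normalizer_iff.1 hn (m * k * m⁻¹)).1 ha
    have e : m⁻¹ * (m * k * m⁻¹) * m⁻¹⁻¹ = k := by group
    rwa [e] at h2
  obtain ⟨hM', -⟩ := rows.r1365 M hM K U hKU hK1
  rw [hM'] at hkM'
  have hbot := K_inf_U_sup_sigmaCore rows hM hKU
  have : k ∈ K ⊓ (U ⊔ sigmaCore M) := ⟨hkK, hkM'⟩
  rw [hbot, Subgroup.mem_bot] at this
  exact hk1 this

end Cfsg.Agent.Helper86.BG1537
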