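import Mathlib

/-!
# ES piece (REC) for helper97's S5877 server: the commutant recursion
`dim C(T) ≥ w² + dim C(T')` for `T'` induced on `V ⧸ eigenspace T c`.
-/

set_option autoImplicit false

namespace Cfsg.Agent.Helper86.ES

section lin

variable {F V : Type*} [Field F] [AddCommGroup V] [Module F V] [FiniteDimensional F V]

/-- **(REC) the commutant recursion (Mathlib only).** -/
theorem rec_bound (T : Module.End F V) (c : F)
    (T' : Module.End F (V ⧸ Module.End.eigenspace T c))
    (hT' : T' ∘ₗ (Module.End.eigenspace T c).mkQ = (Module.End.eigenspace T c).mkQ ∘ₗ T) :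
    Module.finrank F (Module.End.eigenspace T c) * Module.finrank F (Module.End.eigenspace T c) +
        Module.finrank F (Subalgebra.centralizer F ({T'} : Set (Module.End F (V ⧸ Module.End.eigenspace T c))))
      ≤ Module.finrank F (Subalgebra.centralizer F ({T} : Set (Module.End F V))) := by
  classical
  obtain ⟨W, hW⟩ : ∃ W : Submodule F V, W = Module.End.eigenspace T c := ⟨_, rfl⟩
  obtain ⟨N, hN⟩ : ∃ N : Module.End F V, N = T - c • 1 := ⟨_, rfl⟩
  have hWker : Module.End.eigenspace T c = LinearMap.ker N := by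
    rw [hN, Module.End.eigenspace_def]
  revert T'
  rw [hWker]
  intro T' hT'
  obtain ⟨N', hN'⟩ : ∃ N' : Module.End F (V ⧸ LinearMap.ker N), N' = T' - c • 1 := ⟨_, rfl⟩
  set π := (LinearMap.ker N).mkQ with hπ
  have hπsurj : Function.Surjective π := Submodule.mkQ_surjective _
  -- pointwise forms
  have hTN : ∀ v, T v = N v + c • v := fun v => by
    rw [hN]; simp
  have hT'N' : ∀ u, T' u = N' u + c • u := fun u => by
    rw [hN']; simp
  have hT'π : ∀ v, T' (π v) = π (T v) := fun v => LinearMap.congr_fun hT' v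
  have hN'π : ∀ v, N' (π v) = π (N v) := fun v => by
    have h1 := hT'π v
    rw [hT'N', hTN, map_add, map_smul] at h1
    exact add_right_cancel h1
  -- Ñ
  let Nt : (V ⧸ LinearMap.ker N) →ₗ[F] V := (LinearMap.ker N).liftQ N le_rfl
  have hNtπ : ∀ v, Nt (π v) = N v := fun v => by
    simp [Nt, hπ]
  have hπNt : ∀ u, π (Nt u) = N' u := fun u => by
    obtain ⟨v, rfl⟩ := hπsurj u
    rw [hNtπ, hN'π]
  have hNtinj : LinearMap.ker Nt = ⊥ := Submodule.ker_liftQ_eq_bot _ _ _ le_rfl
  obtain ⟨P, hP⟩ := LinearMap.exists_leftInverse_of_injective Nt hNtinj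
  have hP' : ∀ u, P (Nt u) = u := fun u => LinearMap.congr_fun hP u
  obtain ⟨s, hs⟩ := LinearMap.exists_rightInverse_of_surjective π (LinearMap.range_eq_top.mpr hπsurj)
  have hs' : ∀ u, π (s u) = u := fun u => LinearMap.congr_fun hs u
  -- Φ
  let Φ : Module.End F (V ⧸ LinearMap.ker N) →ₗ[F] Module.End F V :=
    { toFun := fun B => Nt ∘ₗ B ∘ₗ P + s ∘ₗ B ∘ₗ π ∘ₗ (LinearMap.id - Nt ∘ₗ P)
      map_add' := fun B B' => by
        ext v; simp only [LinearMap.add_apply, LinearMap.comp_apply, map_add]; abel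
      map_smul' := fun a B => by
        ext v; simp only [LinearMap.add_apply, LinearMap.comp_apply, LinearMap.smul_apply, map_smul,
          smul_add, RingHom.id_apply] }
  have hΦ_apply : ∀ B v, Φ B v = Nt (B (P v)) + s (B (π (v - Nt (P v)))) := fun B v => rfl
  -- commuting with T' gives commuting with N'
  have hcomm' : ∀ B : Module.End F (V ⧸ LinearMap.ker N), T' * B = B * T' → ∀ u, B (N' u) = N' (B u) := by
    intro B hB u
    have h1 : T' (B u) = B (T' u) := LinearMap.congr_fun hB u
    rw [hT'N', hT'N', map_add, map_smul] at h1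
    exact (add_right_cancel h1).symm
  have hπΦ : ∀ B : Module.End F (V ⧸ LinearMap.ker N), T' * B = B * T' → ∀ v, π (Φ B v) = B (π v) := by
    intro B hB v
    rw [hΦ_apply, map_add, hπNt, hs', map_sub, hπNt, map_sub, hcomm' B hB]
    abel
  have hΦN : ∀ B : Module.End F (V ⧸ LinearMap.ker N), T' * B = B * T' → ∀ v, Φ B (N v) = N (Φ B v) := by
    intro B hB v
    have h1 : Φ B (N v) = Nt (B (π v)) := by
      rw [← hNtπ v, hΦ_apply, hP', sub_self, map_zero, map_zero, map_zero, add_zero]
    rw [h1, ← hNtπ (Φ B v), hπΦ B hB]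
  -- Ψ
  let Ψ : ((V ⧸ LinearMap.range N) →ₗ[F] LinearMap.ker N) →ₗ[F] Module.End F V :=
    { toFun := fun φ => (LinearMap.ker N).subtype ∘ₗ φ ∘ₗ (LinearMap.range N).mkQ
      map_add' := fun φ φ' => by
        ext v; simp
      map_smul' := fun a φ => by
        ext v; simp }
  have hΨ_apply : ∀ φ v, Ψ φ v = ((φ ((LinearMap.range N).mkQ v) : LinearMap.ker N) : V) := fun φ v => rfl
  have hπΨ : ∀ φ v, π (Ψ φ v) = 0 := fun φ v => by
    rw [hΨ_apply, hπ, Submodule.mkQ_apply, Submodule.Quotient.mk_eq_zero]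
    exact (φ _).2
  have hNΨ : ∀ φ v, N (Ψ φ v) = 0 := fun φ v => by
    rw [hΨ_apply]; exact LinearMap.mem_ker.mp (φ _).2
  have hΨN : ∀ φ v, Ψ φ (N v) = 0 := fun φ v => by
    rw [hΨ_apply]
    have : (LinearMap.range N).mkQ (N v) = 0 := by
      rw [Submodule.mkQ_apply, Submodule.Quotient.mk_eq_zero]; exact LinearMap.mem_range_self N v
    rw [this, map_zero]; rfl
  -- the submodules
  let CT : Submodule F (Module.End F V) := Subalgebra.toSubmodule (Subalgebra.centralizer F ({T} : Set (Module.End F V)))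
  let CT' : Submodule F (Module.End F (V ⧸ LinearMap.ker N)) :=
    Subalgebra.toSubmodule (Subalgebra.centralizer F ({T'} : Set (Module.End F (V ⧸ LinearMap.ker N))))
  have hmemCT' : ∀ B, B ∈ CT' ↔ T' * B = B * T' := fun B => by
    change B ∈ Subalgebra.centralizer F _ ↔ _
    rw [Subalgebra.mem_centralizer_iff]; simp
  have hmemCT : ∀ A : Module.End F V, (∀ v, A (N v) = N (A v)) → A ∈ CT := fun A hA => by
    change A ∈ Subalgebra.centralizer F _
    rw [Subalgebra.mem_centralizer_iff]
    intro g hg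
    rw [Set.mem_singleton_iff] at hg
    rw [hg]
    ext v
    change T (A v) = A (T v)
    rw [hTN, hTN, map_add, map_smul, hA]
  let J₀ : (((V ⧸ LinearMap.range N) →ₗ[F] LinearMap.ker N) × CT') →ₗ[F] Module.End F V :=
    Ψ.coprod (Φ ∘ₗ CT'.subtype)
  have hJ₀_apply : ∀ x v, J₀ x v = Ψ x.1 v + Φ (x.2 : Module.End F (V ⧸ LinearMap.ker N)) v := fun x v => rfl
  have hJ₀mem : ∀ x, J₀ x ∈ CT := by
    intro x
    apply hmemCT
    intro v
    have hB := (hmemCT' _).mp x.2.2
    rw [hJ₀_apply, hJ₀_apply, map_add, hΨN, hNΨ, hΦN _ hB]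
  let J : (((V ⧸ LinearMap.range N) →ₗ[F] LinearMap.ker N) × CT') →ₗ[F] CT := J₀.codRestrict CT hJ₀mem
  have hJinj : Function.Injective J := by
    rw [injective_iff_map_eq_zero]
    intro x hx
    have hx0 : J₀ x = 0 := by
      have := congrArg Subtype.val hx
      simpa [J] using this
    have hB := (hmemCT' _).mp x.2.2
    have hB0 : (x.2 : Module.End F (V ⧸ LinearMap.ker N)) = 0 := by
      refine LinearMap.ext fun u => ?_
      obtain ⟨v, rfl⟩ := hπsurj u
      have h1 : π (J₀ x v) = 0 := by rw [hx0]; simp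
      rw [hJ₀_apply, map_add, hπΨ, zero_add, hπΦ _ hB] at h1
      simpa using h1
    have hφ0 : x.1 = 0 := by
      refine LinearMap.ext fun u => ?_
      obtain ⟨v, rfl⟩ := Submodule.mkQ_surjective _ u
      have h1 : J₀ x v = 0 := by rw [hx0]; simp
      rw [hJ₀_apply, hB0, map_zero, LinearMap.zero_apply, add_zero, hΨ_apply] at h1
      simpa using h1
    exact Prod.ext hφ0 (Subtype.ext hB0)
  have hle := LinearMap.finrank_le_finrank_of_injective hJinj
  have : Module.Free F CT' := Module.Free.of_divisionRing F CT'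
  have : Module.Finite F CT' := inferInstance
  rw [Module.finrank_prod, Module.finrank_linearMap] at hle
  have hq : Module.finrank F (V ⧸ LinearMap.range N) = Module.finrank F (LinearMap.ker N) := by
    have h1 := Submodule.finrank_quotient_add_finrank (LinearMap.range N)
    have h2 := LinearMap.finrank_range_add_finrank_ker N
    omega
  rw [hq] at hle
  exact hle

end lin

end Cfsg.Agent.Helper86.ES
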