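import Mathlib
import Cfsg.Prelude.Def_Transfer

set_option autoImplicit false

namespace Cfsg.Agent.Helper86

open Cfsg
open scoped Pointwise

/-- `O^p(G)` (generated by the `p'`-elements) is a normal subgroup. -/
theorem pResidual_normal (p : ℕ) (G : Type*) [Group G] : (pResidual p G).Normal := by
  constructor
  intro n hn g
  unfold pResidual at *
  induction hn using Subgroup.closure_induction with
  | mem x hx =>
    apply Subgroup.subset_closure
    show Nat.Coprime (orderOf (g * x * g⁻¹)) p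
    have : g * x * g⁻¹ = MulAut.conj g x := rfl
    rw [this, MulEquiv.orderOf_eq]
    exact hx
  | one => simp
  | mul x y _ _ hx hy =>
    have : g * (x * y) * g⁻¹ = (g * x * g⁻¹) * (g * y * g⁻¹) := by group
    rw [this]
    exact Subgroup.mul_mem _ hx hy
  | inv x _ hx =>
    have : g * x⁻¹ * g⁻¹ = (g * x * g⁻¹)⁻¹ := by group
    rw [this]
    exact Subgroup.inv_mem _ hx

theorem coprime_orderOf_pow_of_not_dvd {p : ℕ} [hp : Fact p.Prime] {G : Type*} [Group G] (g : G) {e m : ℕ}
    (hm : ¬ p ∣ m) (hem : orderOf g = p ^ e * m) : Nat.Coprime (orderOf (g ^ p ^ e)) p := by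
  have h1 : (g ^ p ^ e) ^ m = 1 := by rw [← pow_mul, ← hem, pow_orderOf_eq_one]
  have hd : orderOf (g ^ p ^ e) ∣ m := orderOf_dvd_of_pow_eq_one h1
  have hmc : m.Coprime p := (hp.out.coprime_iff_not_dvd.mpr hm).symm
  exact hmc.coprime_dvd_left hd

/-- `G / O^p(G)` is a `p`-group. -/
theorem isPGroup_quotient_pResidual (p : ℕ) [hp : Fact p.Prime] (G : Type*) [Group G] [Finite G]
    [(pResidual p G).Normal] : IsPGroup p (G ⧸ pResidual p G) := by
  intro x
  obtain ⟨g, rfl⟩ := QuotientGroup.mk_surjective x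
  obtain ⟨e, m, hm, hem⟩ := Nat.exists_eq_pow_mul_and_not_dvd (orderOf_pos g).ne' p hp.out.ne_one
  refine ⟨e, ?_⟩
  rw [← QuotientGroup.mk_pow, QuotientGroup.eq_one_iff]
  apply Subgroup.subset_closure
  exact coprime_orderOf_pow_of_not_dvd g hm hem

/-- A finite group is the product of `O^p(G)` and any Sylow `p`-subgroup. -/
theorem exists_mul_of_sylow {p : ℕ} [hp : Fact p.Prime] {G : Type*} [Group G] [Finite G] (R : Sylow p G) (a : G) :
    ∃ ρ ∈ pResidual p G, ∃ τ ∈ (R : Subgroup G), a = ρ * τ := by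
  have hN : (pResidual p G).Normal := pResidual_normal p G
  have htop : pResidual p G ⊔ (R : Subgroup G) = ⊤ := by
    have h1 : (pResidual p G ⊔ (R : Subgroup G)).index ∣ (pResidual p G).index :=
      Subgroup.index_dvd_of_le le_sup_left
    have h2 : (pResidual p G ⊔ (R : Subgroup G)).index ∣ (R : Subgroup G).index :=
      Subgroup.index_dvd_of_le le_sup_right
    obtain ⟨k, hk⟩ := (IsPGroup.iff_card).mp (isPGroup_quotient_pResidual p G)
    rw [Subgroup.index_eq_card (pResidual p G), hk] at h1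
    obtain ⟨j, _, hidx⟩ := (Nat.dvd_prime_pow hp.out).mp h1
    rcases j with _ | j
    · rw [pow_zero] at hidx
      exact Subgroup.index_eq_one.mp hidx
    · exfalso
      apply R.not_dvd_index
      refine dvd_trans ?_ h2
      rw [hidx, pow_succ]
      exact dvd_mul_left _ _
  have ha : a ∈ ((pResidual p G ⊔ (R : Subgroup G) : Subgroup G) : Set G) := by
    rw [htop]; trivial
  rw [Subgroup.normal_mul] at ha
  obtain ⟨ρ, hρ, τ, hτ, h⟩ := Set.mem_mul.mp ha
  exact ⟨ρ, hρ, τ, hτ, h.symm⟩

theorem pResidual_map_subtype_mono (p : ℕ) {G : Type*} [Group G] {A B : Subgroup G} (h : A ≤ B) :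
    (pResidual p A).map A.subtype ≤ (pResidual p B).map B.subtype := by
  rw [Subgroup.map_le_iff_le_comap]
  unfold pResidual
  rw [Subgroup.closure_le]
  intro g hg
  refine ⟨⟨g, h g.2⟩, Subgroup.subset_closure ?_, rfl⟩
  show Nat.Coprime (orderOf (⟨(g : G), h g.2⟩ : B)) p
  have h1 : orderOf (⟨(g : G), h g.2⟩ : B) = orderOf (g : G) := Subgroup.orderOf_mk _ _
  have h2 : orderOf (g : G) = orderOf g := Subgroup.orderOf_coe g
  rw [h1, h2]
  exact hg

end Cfsg.Agent.Helper86
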