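import Mathlib
import Cfsg.Prelude.Def_Solvable
import Cfsg.Agent.Lib.Helper86.GroupLemmas

set_option autoImplicit false

namespace Cfsg.Agent.Helper86

open Cfsg

theorem aut_pow_apply_eq {G : Type*} [Group G] (β : MulAut G) (x y : G) (hx : β x = x * y) (hy : β y = y)
    (k : ℕ) : (β ^ k) x = x * y ^ k := by
  induction k with
  | zero => simp
  | succ k ih =>
    rw [pow_succ', MulAut.mul_apply, ih, map_mul, map_pow, hx, hy, mul_assoc, ← pow_succ']

/-- An automorphism of order prime to `p` of a finite `p`-group that stabilizes a chain of subgroups from the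
whole group down to the trivial group (acting trivially on the successive "quotients") is trivial. -/
theorem coprime_aut_eq_one_of_chain {p : ℕ} [Fact p.Prime] {R : Type*} [Group R] [Finite R] (hR : IsPGroup p R)
    (D : ℕ → Subgroup R) (m : ℕ) (h0 : D 0 = ⊤) (hm : D m = ⊥) (β : MulAut R)
    (hβ : ∀ k < m, ∀ x ∈ D k, x⁻¹ * β x ∈ D (k + 1)) (hcop : (orderOf β).Coprime p) : β = 1 := by
  have hfix : ∀ j ≤ m, ∀ x ∈ D (m - j), β x = x := by
    intro j
    induction j with
    | zero =>
      intro _ x hx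
      rw [Nat.sub_zero, hm, Subgroup.mem_bot] at hx
      rw [hx, map_one]
    | succ j ih =>
      intro hj x hx
      have hk : m - (j + 1) < m := by omega
      have hy : x⁻¹ * β x ∈ D (m - (j + 1) + 1) := hβ _ hk x hx
      have hidx : m - (j + 1) + 1 = m - j := by omega
      rw [hidx] at hy
      set y := x⁻¹ * β x with hydef
      have hβy : β y = y := ih (by omega) y hy
      have hβx : β x = x * y := by simp [hydef]
      have h1 := aut_pow_apply_eq β x y hβx hβy (orderOf β)
      rw [pow_orderOf_eq_one, MulAut.one_apply] at h1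
      have hym : y ^ orderOf β = 1 := by
        have : x * 1 = x * y ^ orderOf β := by rw [mul_one]; exact h1
        exact (mul_left_cancel this).symm
      obtain ⟨k, hk⟩ := hR y
      have hd1 : orderOf y ∣ orderOf β := orderOf_dvd_of_pow_eq_one hym
      have hd2 : orderOf y ∣ p ^ k := orderOf_dvd_of_pow_eq_one hk
      have hc : (orderOf y).Coprime (p ^ k) := (hcop.pow_right k).coprime_dvd_left hd1
      have ho : orderOf y = 1 := hc.eq_one_of_dvd hd2
      have hy1 : y = 1 := orderOf_eq_one_iff.mp ho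
      rw [hβx, hy1, mul_one]
  ext x
  have := hfix m le_rfl x (by rw [Nat.sub_self, h0]; trivial)
  simpa using this

/-- The stabilizer in `A ≤ Aut(R)` of an `A`-invariant chain of subgroups of the finite `p`-group `R` lies in `O_p(A)`. -/
theorem chain_stabilizer_mem_pCore {p : ℕ} [Fact p.Prime] {R : Type*} [Group R] [Finite R] (hR : IsPGroup p R)
    (A : Subgroup (MulAut R)) (D : ℕ → Subgroup R) (m : ℕ) (h0 : D 0 = ⊤) (hm : D m = ⊥)
    (hinv : ∀ k, ∀ α ∈ A, ∀ x ∈ D k, α x ∈ D k)
    (β : MulAut R) (hβA : β ∈ A) (hβ : ∀ k < m, ∀ x ∈ D k, x⁻¹ * β x ∈ D (k + 1)) :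
    (⟨β, hβA⟩ : A) ∈ pCore p A := by
  let B : Subgroup A :=
    { carrier := {γ | ∀ k < m, ∀ x ∈ D k, x⁻¹ * (γ : MulAut R) x ∈ D (k + 1)}
      one_mem' := by
        intro k _ x _
        simp
      mul_mem' := by
        intro γ δ hγ hδ k hk x hx
        have h1 : x⁻¹ * (δ : MulAut R) x ∈ D (k + 1) := hδ k hk x hx
        have h2 : (γ : MulAut R) (x⁻¹ * (δ : MulAut R) x) ∈ D (k + 1) := hinv (k + 1) γ γ.2 _ h1
        have h3 : x⁻¹ * (γ : MulAut R) x ∈ D (k + 1) := hγ k hk x hx
        have h4 : x⁻¹ * ((γ * δ : A) : MulAut R) x =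
            (x⁻¹ * (γ : MulAut R) x) * (γ : MulAut R) (x⁻¹ * (δ : MulAut R) x) := by
          simp [map_mul, mul_assoc]
        rw [h4]
        exact (D (k + 1)).mul_mem h3 h2
      inv_mem' := by
        intro γ hγ k hk x hx
        have hz : ((γ⁻¹ : A) : MulAut R) x ∈ D k := hinv k _ (γ⁻¹).2 x hx
        have h1 := hγ k hk _ hz
        have h2 : (γ : MulAut R) (((γ⁻¹ : A) : MulAut R) x) = x := by simp
        rw [h2] at h1
        have h3 : x⁻¹ * ((γ⁻¹ : A) : MulAut R) x = ((((γ⁻¹ : A) : MulAut R) x)⁻¹ * x)⁻¹ := by group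
        rw [h3]
        exact (D (k + 1)).inv_mem h1 }
  have hBn : B.Normal := by
    constructor
    intro γ hγ α k hk x hx
    have hw : ((α⁻¹ : A) : MulAut R) x ∈ D k := hinv k _ (α⁻¹).2 x hx
    have h1 : (((α⁻¹ : A) : MulAut R) x)⁻¹ * (γ : MulAut R) (((α⁻¹ : A) : MulAut R) x) ∈ D (k + 1) :=
      hγ k hk _ hw
    have h2 := hinv (k + 1) α α.2 _ h1
    have h3 : x⁻¹ * ((α * γ * α⁻¹ : A) : MulAut R) x =
        (α : MulAut R) ((((α⁻¹ : A) : MulAut R) x)⁻¹ * (γ : MulAut R) (((α⁻¹ : A) : MulAut R) x)) := by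
      simp [map_mul]
    rw [h3]
    exact h2
  have hBp : IsPGroup p B := by
    rintro ⟨γ, hγ⟩
    have hpos : orderOf (γ : MulAut R) ≠ 0 := (orderOf_pos (γ : MulAut R)).ne'
    obtain ⟨e, n, hn, hen⟩ := Nat.exists_eq_pow_mul_and_not_dvd hpos p (Fact.out : p.Prime).ne_one
    refine ⟨e, ?_⟩
    apply Subtype.ext
    apply Subtype.ext
    show (γ : MulAut R) ^ p ^ e = 1
    have hmem : γ ^ p ^ e ∈ B := B.pow_mem hγ _
    apply coprime_aut_eq_one_of_chain hR D m h0 hm
    · intro k hk x hx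
      have := hmem k hk x hx
      simpa using this
    · exact coprime_orderOf_pow_of_not_dvd (γ : MulAut R) hn hen
  have hle : B ≤ pCore p A := le_sSup ⟨hBn, hBp⟩
  exact hle hβ

end Cfsg.Agent.Helper86
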