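import Mathlib
import Cfsg.Agent.Lib.Helper86.ChainStabilizer

set_option autoImplicit false

namespace Cfsg.Agent.Helper86

/-- If every automorphism of a finite `p`-group stabilizes some chain from the group to the trivial subgroup then
the automorphism group is a `p`-group. -/
theorem isPGroup_mulAut_of_chain {p : ℕ} [Fact p.Prime] {R : Type*} [Group R] [Finite R] (hR : IsPGroup p R)
    (D : ℕ → Subgroup R) (m : ℕ) (h0 : D 0 = ⊤) (hm : D m = ⊥)
    (h : ∀ β : MulAut R, ∀ k < m, ∀ x ∈ D k, x⁻¹ * β x ∈ D (k + 1)) : IsPGroup p (MulAut R) := by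
  intro α
  have hpos : orderOf α ≠ 0 := (orderOf_pos α).ne'
  obtain ⟨e, n, hn, hen⟩ := Nat.exists_eq_pow_mul_and_not_dvd hpos p (Fact.out : p.Prime).ne_one
  refine ⟨e, ?_⟩
  apply coprime_aut_eq_one_of_chain hR D m h0 hm _ (h _)
  exact coprime_orderOf_pow_of_not_dvd α hn hen

section Dihedral

open DihedralGroup

variable {M : ℕ}

/-- the rotations `r (2^j * c)` -/
def dihedralRot (M j : ℕ) : Subgroup (DihedralGroup M) where
  carrier := {x | ∃ c : ZMod M, x = r ((2 : ZMod M) ^ j * c)}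
  one_mem' := ⟨0, by rw [mul_zero, r_zero]⟩
  mul_mem' := by
    rintro _ _ ⟨c, rfl⟩ ⟨d, rfl⟩
    exact ⟨c + d, by rw [r_mul_r]; congr 1; ring⟩
  inv_mem' := by
    rintro _ ⟨c, rfl⟩
    exact ⟨-c, by rw [inv_r]; congr 1; ring⟩

theorem dihedral_aut_rot (k : ℕ) (hk : 2 ≤ k) (β : MulAut (DihedralGroup (2 ^ k))) :
    ∃ v : ZMod (2 ^ k), ∀ i : ZMod (2 ^ k), β (r i) = r ((1 + 2 * v) * i) := by
  have hM : NeZero (2 ^ k) := ⟨by positivity⟩
  have hord : orderOf (β (r 1)) = 2 ^ k := by rw [MulEquiv.orderOf_eq, orderOf_r_one]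
  have h4 : 4 ≤ 2 ^ k := by
    calc 4 = 2 ^ 2 := by norm_num
      _ ≤ 2 ^ k := Nat.pow_le_pow_right (by norm_num) hk
  obtain ⟨u, hu⟩ : ∃ u, β (r 1) = r u := by
    rcases hβ : β (r 1) with u | u
    · exact ⟨u, rfl⟩
    · rw [hβ, orderOf_sr] at hord
      omega
  rw [hu, orderOf_r] at hord
  have hgcd : Nat.gcd (2 ^ k) u.val = 1 := by
    have hdvd : Nat.gcd (2 ^ k) u.val ∣ 2 ^ k := Nat.gcd_dvd_left _ _
    have hpos : 0 < Nat.gcd (2 ^ k) u.val := Nat.gcd_pos_of_pos_left _ (by positivity)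
    have := Nat.div_eq_self.mp hord
    rcases this with h | h
    · omega
    · exact h
  have hodd : ¬ 2 ∣ u.val := by
    intro h2
    have : 2 ∣ Nat.gcd (2 ^ k) u.val := Nat.dvd_gcd (dvd_pow_self 2 (by omega)) h2
    rw [hgcd] at this
    omega
  obtain ⟨w, hw⟩ : ∃ w, u.val = 2 * w + 1 := by
    have := Nat.odd_iff.mpr (Nat.two_dvd_ne_zero.mp hodd)
    obtain ⟨w, hw⟩ := this
    exact ⟨w, hw⟩
  refine ⟨(w : ZMod (2 ^ k)), fun i => ?_⟩
  have hu' : u = 1 + 2 * (w : ZMod (2 ^ k)) := by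
    have : (u.val : ZMod (2 ^ k)) = u := ZMod.natCast_zmod_val u
    rw [← this, hw]
    push_cast
    ring
  have hi : r i = (r 1 : DihedralGroup (2 ^ k)) ^ i.val := by
    rw [r_one_pow, ZMod.natCast_zmod_val]
  rw [hi, map_pow, hu, r_pow, ZMod.natCast_zmod_val, hu']

theorem dihedral_aut_sr (k : ℕ) (hk : 2 ≤ k) (β : MulAut (DihedralGroup (2 ^ k))) (i : ZMod (2 ^ k)) :
    ∃ j, β (sr i) = sr j := by
  rcases hβ : β (sr i) with j | j
  · exfalso
    obtain ⟨v, hv⟩ := dihedral_aut_rot k hk β⁻¹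
    have h1 : sr i = β⁻¹ (r j) := by rw [← hβ]; simp
    rw [hv] at h1
    cases h1
  · exact ⟨j, rfl⟩

theorem dihedral_aut_isPGroup (k : ℕ) (hk : 2 ≤ k) : IsPGroup 2 (MulAut (DihedralGroup (2 ^ k))) := by
  have hM : NeZero (2 ^ k) := ⟨by positivity⟩
  have hG : IsPGroup 2 (DihedralGroup (2 ^ k)) := by
    apply IsPGroup.of_card (n := k + 1)
    rw [nat_card, pow_succ]
    ring
  let D : ℕ → Subgroup (DihedralGroup (2 ^ k)) := fun j =>
    match j with
    | 0 => ⊤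
    | (j + 1) => dihedralRot (2 ^ k) j
  apply isPGroup_mulAut_of_chain hG D (k + 1) rfl
  · show dihedralRot (2 ^ k) k = ⊥
    rw [eq_bot_iff]
    rintro _ ⟨c, rfl⟩
    have : ((2 : ZMod (2 ^ k)) ^ k) = 0 := by
      have h := ZMod.natCast_self (2 ^ k)
      push_cast at h
      exact h
    rw [this, zero_mul, r_zero]
    exact Subgroup.one_mem _
  · intro β j hj x hx
    obtain ⟨v, hv⟩ := dihedral_aut_rot k hk β
    match j, hx with
    | 0, _ =>
      show x⁻¹ * β x ∈ dihedralRot (2 ^ k) 0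
      rcases x with i | i
      · rw [hv, inv_r, r_mul_r]
        exact ⟨-i + (1 + 2 * v) * i, by simp⟩
      · obtain ⟨j', hj'⟩ := dihedral_aut_sr k hk β i
        rw [hj', inv_sr, sr_mul_sr]
        exact ⟨j' - i, by simp⟩
    | (j + 1), hx =>
      show x⁻¹ * β x ∈ dihedralRot (2 ^ k) (j + 1)
      obtain ⟨c, rfl⟩ := hx
      rw [hv, inv_r, r_mul_r]
      exact ⟨v * c, by congr 1; ring⟩

end Dihedral

section Quaternion

open QuaternionGroup

/-- the elements `a (2^j * c)` -/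
def quaternionRot (M j : ℕ) : Subgroup (QuaternionGroup M) where
  carrier := {x | ∃ c : ZMod (2 * M), x = a ((2 : ZMod (2 * M)) ^ j * c)}
  one_mem' := ⟨0, by rw [mul_zero, a_zero]⟩
  mul_mem' := by
    rintro _ _ ⟨c, rfl⟩ ⟨d, rfl⟩
    exact ⟨c + d, by rw [a_mul_a]; congr 1; ring⟩
  inv_mem' := by
    rintro _ ⟨c, rfl⟩
    refine ⟨-c, ?_⟩
    have : (a ((2 : ZMod (2 * M)) ^ j * c))⁻¹ = a (-((2 : ZMod (2 * M)) ^ j * c)) := rfl
    rw [this]
    congr 1
    ring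

theorem quaternion_aut_rot (k : ℕ) (hk : 2 ≤ k) (β : MulAut (QuaternionGroup (2 ^ k))) :
    ∃ v : ZMod (2 * 2 ^ k), ∀ i : ZMod (2 * 2 ^ k), β (a i) = a ((1 + 2 * v) * i) := by
  have hM : NeZero (2 ^ k) := ⟨by positivity⟩
  have hord : orderOf (β (a 1)) = 2 * 2 ^ k := by rw [MulEquiv.orderOf_eq, orderOf_a_one]
  have h4 : 4 ≤ 2 ^ k := by
    calc 4 = 2 ^ 2 := by norm_num
      _ ≤ 2 ^ k := Nat.pow_le_pow_right (by norm_num) hk
  obtain ⟨u, hu⟩ : ∃ u, β (a 1) = a u := by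
    rcases hβ : β (a 1) with u | u
    · exact ⟨u, rfl⟩
    · rw [hβ, orderOf_xa] at hord
      omega
  rw [hu, orderOf_a] at hord
  have hgcd : Nat.gcd (2 * 2 ^ k) u.val = 1 := by
    have hpos : 0 < Nat.gcd (2 * 2 ^ k) u.val := Nat.gcd_pos_of_pos_left _ (by positivity)
    have := Nat.div_eq_self.mp hord
    rcases this with h | h
    · omega
    · exact h
  have hodd : ¬ 2 ∣ u.val := by
    intro h2
    have : 2 ∣ Nat.gcd (2 * 2 ^ k) u.val := Nat.dvd_gcd (dvd_mul_right 2 _) h2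
    rw [hgcd] at this
    omega
  obtain ⟨w, hw⟩ : ∃ w, u.val = 2 * w + 1 := by
    have := Nat.odd_iff.mpr (Nat.two_dvd_ne_zero.mp hodd)
    obtain ⟨w, hw⟩ := this
    exact ⟨w, hw⟩
  refine ⟨(w : ZMod (2 * 2 ^ k)), fun i => ?_⟩
  have hu' : u = 1 + 2 * (w : ZMod (2 * 2 ^ k)) := by
    have : (u.val : ZMod (2 * 2 ^ k)) = u := ZMod.natCast_zmod_val u
    rw [← this, hw]
    push_cast
    ring
  have hpow : ∀ (x : ZMod (2 * 2 ^ k)) (n : ℕ),
      (a x : QuaternionGroup (2 ^ k)) ^ n = a (x * (n : ZMod (2 * 2 ^ k))) := by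
    intro x n
    induction n with
    | zero => rw [pow_zero, Nat.cast_zero, mul_zero, a_zero]
    | succ n ih => rw [pow_succ, ih, a_mul_a]; congr 1; push_cast; ring
  have hi : a i = (a 1 : QuaternionGroup (2 ^ k)) ^ i.val := by
    rw [a_one_pow, ZMod.natCast_zmod_val]
  rw [hi, map_pow, hu, hpow, ZMod.natCast_zmod_val, hu']

theorem quaternion_aut_xa (k : ℕ) (hk : 2 ≤ k) (β : MulAut (QuaternionGroup (2 ^ k))) (i : ZMod (2 * 2 ^ k)) :
    ∃ j, β (xa i) = xa j := by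
  rcases hβ : β (xa i) with j | j
  · exfalso
    obtain ⟨v, hv⟩ := quaternion_aut_rot k hk β⁻¹
    have h1 : xa i = β⁻¹ (a j) := by rw [← hβ]; simp
    rw [hv] at h1
    cases h1
  · exact ⟨j, rfl⟩

theorem quaternion_aut_isPGroup (k : ℕ) (hk : 2 ≤ k) : IsPGroup 2 (MulAut (QuaternionGroup (2 ^ k))) := by
  have hM : NeZero (2 ^ k) := ⟨by positivity⟩
  have hG : IsPGroup 2 (QuaternionGroup (2 ^ k)) := by
    apply IsPGroup.of_card (n := k + 2)
    rw [Nat.card_eq_fintype_card, QuaternionGroup.card, pow_succ, pow_succ]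
    ring
  let D : ℕ → Subgroup (QuaternionGroup (2 ^ k)) := fun j =>
    match j with
    | 0 => ⊤
    | (j + 1) => quaternionRot (2 ^ k) j
  apply isPGroup_mulAut_of_chain hG D (k + 2) rfl
  · show quaternionRot (2 ^ k) (k + 1) = ⊥
    rw [eq_bot_iff]
    rintro _ ⟨c, rfl⟩
    have : ((2 : ZMod (2 * 2 ^ k)) ^ (k + 1)) = 0 := by
      have h := ZMod.natCast_self (2 * 2 ^ k)
      push_cast at h
      rw [pow_succ, mul_comm ((2 : ZMod (2 * 2 ^ k)) ^ k) 2]
      exact h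
    rw [this, zero_mul, a_zero]
    exact Subgroup.one_mem _
  · intro β j hj x hx
    obtain ⟨v, hv⟩ := quaternion_aut_rot k hk β
    match j, hx with
    | 0, _ =>
      show x⁻¹ * β x ∈ quaternionRot (2 ^ k) 0
      rcases x with i | i
      · rw [hv]
        have : (a i : QuaternionGroup (2 ^ k))⁻¹ = a (-i) := rfl
        rw [this, a_mul_a]
        exact ⟨-i + (1 + 2 * v) * i, by simp⟩
      · obtain ⟨j', hj'⟩ := quaternion_aut_xa k hk β i
        rw [hj']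
        have : (xa i : QuaternionGroup (2 ^ k))⁻¹ = xa (((2 ^ k : ℕ) : ZMod (2 * 2 ^ k)) + i) := rfl
        rw [this, xa_mul_xa]
        exact ⟨j' - i, by simp⟩
    | (j + 1), hx =>
      show x⁻¹ * β x ∈ quaternionRot (2 ^ k) (j + 1)
      obtain ⟨c, rfl⟩ := hx
      rw [hv]
      have : (a ((2 : ZMod (2 * 2 ^ k)) ^ j * c) : QuaternionGroup (2 ^ k))⁻¹ = a (-((2 : ZMod (2 * 2 ^ k)) ^ j * c)) := rfl
      rw [this, a_mul_a]
      exact ⟨v * c, by congr 1; ring⟩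

end Quaternion

end Cfsg.Agent.Helper86
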