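import Mathlib
import Cfsg.Agent.Lib.Helper64.S4017Defs

set_option autoImplicit false

/-!
# S4017M (A1): in case A, `C(t) = Q` for `t ∈ Q \ {1}`
-/

namespace Cfsg.Agent.Helper86.S4017M

open Cfsg.Agent.Helper64.S4017

variable {G : Type*} [Group G] [Finite G] {a p : ℕ} {Q : Subgroup G} {x : G}

/-- (A1) `C(t) = Q`. -/
theorem A_centralizer (h : Setting a p Q x) (T : Tools a p Q x)
    (hA : ∀ u z : G, IsInv u → IsPel p z → z * u = u * z → z = 1) {t : G} (ht : t ∈ Q)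
    (ht1 : t ≠ 1) {g : G} (hg : g * t = t * g) : g ∈ Q := by
  obtain ⟨z, s, hz, hzt, hs, rfl⟩ := T.ct1 t ht ht1 g hg
  have hz1 : z = 1 := hA t z ⟨ht1, h.elem t ht⟩ hz hzt
  rw [hz1, one_mul]
  exact hs

end Cfsg.Agent.Helper86.S4017M
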