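import Mathlib
import Cfsg.Agent.Lib.Helper64.S4017Defs

set_option autoImplicit false

/-!
# S4017M (A0): the case A hypothesis is global; `Q` is a Sylow `2`-subgroup
-/

namespace Cfsg.Agent.Helper86.S4017M

open Cfsg.Agent.Helper64.S4017

variable {G : Type*} [Group G] [Finite G] {a p : ℕ} {Q : Subgroup G} {x : G}

/-- `Q` is a Sylow `2`-subgroup. -/
theorem h86_sylowQ (h : Setting a p Q x) : ∃ S : Sylow 2 G, (S : Subgroup G) = Q := by
  have hne : Nat.card G ≠ 0 := Nat.card_pos.ne'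
  have h1 : 2 ^ a ∣ Nat.card G := by
    rw [← h.card_Q]
    exact Subgroup.card_subgroup_dvd_card Q
  have h2 := (Nat.prime_two.pow_dvd_iff_le_factorization hne).mp h1
  have h3 : ¬ a + 1 ≤ (Nat.card G).factorization 2 := fun hle =>
    h.sylow ((Nat.prime_two.pow_dvd_iff_le_factorization hne).mpr hle)
  have hfac : (Nat.card G).factorization 2 = a := by omega
  exact ⟨Sylow.ofCard Q (by rw [h.card_Q, hfac]), Sylow.coe_ofCard _ _⟩

/-- Every `2`-element is conjugate into `Q`. -/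
theorem h86_two_conj (h : Setting a p Q x) {g : G} (hg : ∃ j : ℕ, orderOf g = 2 ^ j) :
    ∃ c : G, c * g * c⁻¹ ∈ Q := by
  obtain ⟨S, hS⟩ := h86_sylowQ h
  obtain ⟨j, hj⟩ := hg
  have : Fact (Nat.Prime 2) := ⟨Nat.prime_two⟩
  have hZ : IsPGroup 2 (Subgroup.zpowers g) := IsPGroup.of_card (n := j) (by
    rw [Nat.card_zpowers, hj])
  obtain ⟨S', hS'⟩ := hZ.exists_le_sylow
  obtain ⟨c, hc⟩ := MulAction.exists_smul_eq G S' S
  refine ⟨c, ?_⟩
  rw [← hS, ← hc]
  have hg' : g ∈ (S' : Subgroup G) := hS' (Subgroup.mem_zpowers g)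
  exact ⟨g, hg', rfl⟩

/-- Every `2`-element has square `1`. -/
theorem h86_two_sq (h : Setting a p Q x) {g : G} (hg : ∃ j : ℕ, orderOf g = 2 ^ j) :
    g * g = 1 := by
  obtain ⟨c, hc⟩ := h86_two_conj h hg
  have h1 := h.elem _ hc
  have h2 : c * (g * g) * c⁻¹ = 1 := by
    rw [← h1]; group
  calc g * g = c⁻¹ * (c * (g * g) * c⁻¹) * c := by group
    _ = 1 := by rw [h2]; group

omit [Finite G] in
/-- An involution is a `2`-element. -/
theorem h86_inv_two {u : G} (hu : IsInv u) : ∃ j : ℕ, orderOf u = 2 ^ j := by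
  refine ⟨1, ?_⟩
  rw [pow_one]
  exact orderOf_eq_prime (by rw [pow_two]; exact hu.2) hu.1

omit [Finite G] in
/-- Conjugation preserves `p`-elements. -/
theorem h86_isPel_conj {p : ℕ} {z : G} (hz : IsPel p z) (c : G) : IsPel p (c * z * c⁻¹) := by
  obtain ⟨j, hj⟩ := hz
  refine ⟨j, ?_⟩
  rw [← hj]
  exact (MulAut.conj c).orderOf_eq z

/-- (A0) -/
theorem hA_global (h : Setting a p Q x)
    (hloc : ∀ t ∈ Q, t ≠ 1 → ∀ z : G, IsPel p z → z * t = t * z → z = 1) :
    ∀ u z : G, IsInv u → IsPel p z → z * u = u * z → z = 1 := by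
  intro u z hu hz hzu
  obtain ⟨c, hc⟩ := h86_two_conj h (h86_inv_two hu)
  have ht1 : c * u * c⁻¹ ≠ 1 := by
    intro h1
    apply hu.1
    calc u = c⁻¹ * (c * u * c⁻¹) * c := by group
      _ = 1 := by rw [h1]; group
  have hcomm : (c * z * c⁻¹) * (c * u * c⁻¹) = (c * u * c⁻¹) * (c * z * c⁻¹) := by
    calc (c * z * c⁻¹) * (c * u * c⁻¹) = c * (z * u) * c⁻¹ := by group
      _ = c * (u * z) * c⁻¹ := by rw [hzu]
      _ = (c * u * c⁻¹) * (c * z * c⁻¹) := by group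
  have h1 := hloc _ hc ht1 _ (h86_isPel_conj hz c) hcomm
  calc z = c⁻¹ * (c * z * c⁻¹) * c := by group
    _ = 1 := by rw [h1]; group

end Cfsg.Agent.Helper86.S4017M
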