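import Mathlib
import Cfsg.Agent.Lib.Helper64.S4017Defs
import Cfsg.Agent.Lib.Helper86.S4017A0
import Cfsg.Agent.Lib.Helper86.S4017A1

set_option autoImplicit false

/-!
# S4017M (A2), (A3): cores, with the pieces (E1), (E23), (SYLC) passed as hypotheses
-/

namespace Cfsg.Agent.Helper86.S4017M

open Cfsg.Agent.Helper64.S4017

variable {G : Type*} [Group G] [Finite G] {a p : ℕ} {Q : Subgroup G} {x : G}

omit [Finite G] in
/-- The elements of a Sylow `p`-subgroup are `p`-elements. -/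
theorem h86_isPel_of_mem (hp : p.Prime) (P : Sylow p G) {z : G} (hz : z ∈ P) : IsPel p z := by
  obtain ⟨k, hk⟩ := P.2 ⟨z, hz⟩
  have h1 : z ^ p ^ k = 1 := by
    have := congrArg Subtype.val hk
    simpa using this
  obtain ⟨j, _, hj⟩ := (Nat.dvd_prime_pow hp).mp (orderOf_dvd_of_pow_eq_one h1)
  exact ⟨j, hj⟩

omit [Finite G] in
/-- A `p`-element normalising a Sylow `p`-subgroup lies in it. -/
theorem h86_mem_sylow_of_pel (hp : p.Prime) (P : Sylow p G) {g : G} (hg : IsPel p g)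
    (hgN : g ∈ Subgroup.normalizer ((P : Subgroup G) : Set G)) : g ∈ P := by
  have : Fact p.Prime := ⟨hp⟩
  obtain ⟨j, hj⟩ := hg
  have hZ : IsPGroup p (Subgroup.zpowers g) := IsPGroup.of_card (n := j) (by
    rw [Nat.card_zpowers, hj])
  have h1 := hZ.inf_normalizer_sylow P
  have h2 : g ∈ Subgroup.zpowers g ⊓ Subgroup.normalizer (P : Set G) :=
    ⟨Subgroup.mem_zpowers g, hgN⟩
  rw [h1] at h2
  exact h2.2

omit [Finite G] in
/-- An involution has `u⁻¹ = u`. -/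
theorem h86_inv_eq {u : G} (hu : IsInv u) : u⁻¹ = u := inv_eq_of_mul_eq_one_right hu.2

omit [Finite G] in
/-- Conjugates of involutions are involutions. -/
theorem h86_isInv_conj {u : G} (hu : IsInv u) (c : G) : IsInv (c * u * c⁻¹) := by
  refine ⟨fun h1 => hu.1 ?_, ?_⟩
  · calc u = c⁻¹ * (c * u * c⁻¹) * c := by group
      _ = 1 := by rw [h1]; group
  · calc c * u * c⁻¹ * (c * u * c⁻¹) = c * (u * u) * c⁻¹ := by group
      _ = 1 := by rw [hu.2]; group

/-- `p` is odd. -/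
theorem h86_p_odd (h : Setting a p Q x) : p % 2 = 1 := by
  have h1 := h.p_eq
  have h2 := h.two_le
  obtain ⟨b, rfl⟩ : ∃ b, a = b + 1 := ⟨a - 1, by omega⟩
  rw [pow_succ] at h1
  omega

/-- An involution is not a `p`-element. -/
theorem h86_not_isPel_inv (h : Setting a p Q x) {u : G} (hu : IsInv u) : ¬ IsPel p u := by
  rintro ⟨j, hj⟩
  have h2 : orderOf u = 2 := orderOf_eq_prime (by rw [pow_two]; exact hu.2) hu.1
  rw [h2] at hj
  have hodd := h86_p_odd h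
  have : (p ^ j) % 2 = 1 := by
    simp [Nat.pow_mod, hodd]
  omega


/-- The key step: a Sylow `p`-subgroup `P = C(y)` with `y` inverted by the involution `u`. -/
theorem h86_sylow_key (h : Setting a p Q x)
    (hA : ∀ u z : G, IsInv u → IsPel p z → z * u = u * z → z = 1)
    (SYLC : ∀ {u y : G}, IsInv u → IsPel p y → y ≠ 1 → u * y * u⁻¹ = y⁻¹ →
      (∀ s : G, IsInv s → s * y ≠ y * s) →
      ∃ P : Sylow p G, (P : Subgroup G) = Subgroup.centralizer {y})
    (P : Sylow p G) {u y : G} (hu : IsInv u) (huy : u * y * u⁻¹ = y⁻¹)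
    (hP : (P : Subgroup G) = Subgroup.centralizer {y}) :
    (∀ z ∈ P, u * z * u⁻¹ = z⁻¹) ∧ ∀ z ∈ P, z ≠ 1 → ∀ g : G, g * z = z * g → g ∈ P := by
  have hp := h.prime
  have hmemP : ∀ g : G, g ∈ P ↔ g * y = y * g := by
    intro g
    rw [← Subgroup.mem_centralizer_singleton_iff, ← hP]
    rfl
  have huinv := h86_inv_eq hu
  -- `u` normalises `P`
  have huP : ∀ z ∈ P, u * z * u⁻¹ ∈ P := by
    intro z hz
    rw [hmemP] at hz ⊢
    have e1 : y = u * y⁻¹ * u⁻¹ := by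
      rw [← huy]; simp only [huinv]
      calc y = (u * u) * y * (u * u) := by rw [hu.2, one_mul, mul_one]
        _ = u * (u * y * u) * u := by group
    have hz' : z * y⁻¹ = y⁻¹ * z := by
      calc z * y⁻¹ = y⁻¹ * (y * z) * y⁻¹ := by group
        _ = y⁻¹ * (z * y) * y⁻¹ := by rw [hz]
        _ = y⁻¹ * z := by group
    calc u * z * u⁻¹ * y = u * z * u⁻¹ * (u * y⁻¹ * u⁻¹) := by rw [← e1]
      _ = u * (z * y⁻¹) * u⁻¹ := by group
      _ = u * (y⁻¹ * z) * u⁻¹ := by rw [hz']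
      _ = (u * y⁻¹ * u⁻¹) * (u * z * u⁻¹) := by group
      _ = y * (u * z * u⁻¹) := by rw [← e1]
  have hinv : ∀ z ∈ P, u * z * u⁻¹ = z⁻¹ := by
    intro z hz
    have hz2 := huP z hz
    have hw : z * (u * z * u⁻¹) ∈ P := P.mul_mem hz hz2
    have hab : z * (u * z * u⁻¹) = (u * z * u⁻¹) * z := h.abel P z hz _ hz2
    have hcomm : z * (u * z * u⁻¹) * u = u * (z * (u * z * u⁻¹)) := by
      calc z * (u * z * u⁻¹) * u = (u * z * u⁻¹) * z * u := by rw [hab]
        _ = u * (z * (u⁻¹ * z * u)) := by group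
        _ = u * (z * (u * z * u⁻¹)) := by simp only [huinv]
    have hw1 := hA u _ hu (h86_isPel_of_mem hp P hw) hcomm
    calc u * z * u⁻¹ = z⁻¹ * (z * (u * z * u⁻¹)) := by group
      _ = z⁻¹ := by rw [hw1, mul_one]
  refine ⟨hinv, ?_⟩
  intro z hz hz1 g hg
  have hzpel := h86_isPel_of_mem hp P hz
  have hodd : ∀ s : G, IsInv s → s * z ≠ z * s := fun s hs hsz =>
    hz1 (hA s z hs hzpel hsz.symm)
  obtain ⟨P', hP'⟩ := SYLC hu hzpel hz1 (hinv z hz) hodd
  have hle : (P : Subgroup G) ≤ P' := by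
    intro w hw
    rw [hP', Subgroup.mem_centralizer_singleton_iff]
    exact h.abel P w hw z hz
  have heq : (P' : Subgroup G) = P := P.3 P'.2 hle
  have : g ∈ (P' : Subgroup G) := by
    rw [hP', Subgroup.mem_centralizer_singleton_iff]
    exact hg
  rw [heq] at this
  exact this

/-- (A2), with (E1), (E23), (SYLC) as hypotheses. -/
theorem A_sylow_core
    (hall : ∀ (Q' : Subgroup G) (x' : G), Setting a p Q' x' → Tools a p Q' x')
    (h : Setting a p Q x) (hA : ∀ u z : G, IsInv u → IsPel p z → z * u = u * z → z = 1)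
    (E1 : ∃ u v : G, IsInv u ∧ IsInv v ∧ u * v ≠ v * u)
    (E23 : (∀ (Q' : Subgroup G) (x' : G), Setting a p Q' x' →
        ∀ t ∈ Q', t ≠ 1 → ∀ u : G, IsInv u → u * t = t * u → u ∈ Q') →
      ∀ {u v : G}, IsInv u → IsInv v → u * v ≠ v * u → IsPel p (u * v))
    (SYLC : ∀ {u y : G}, IsInv u → IsPel p y → y ≠ 1 → u * y * u⁻¹ = y⁻¹ →
      (∀ s : G, IsInv s → s * y ≠ y * s) →
      ∃ P : Sylow p G, (P : Subgroup G) = Subgroup.centralizer {y})
    (P : Sylow p G) :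
    (∃ u : G, IsInv u ∧ ∀ z ∈ P, u * z * u⁻¹ = z⁻¹) ∧
      ∀ z ∈ P, z ≠ 1 → ∀ g : G, g * z = z * g → g ∈ P := by
  have : Fact p.Prime := ⟨h.prime⟩
  have h2c : ∀ (Q' : Subgroup G) (x' : G), Setting a p Q' x' →
      ∀ t ∈ Q', t ≠ 1 → ∀ u : G, IsInv u → u * t = t * u → u ∈ Q' :=
    fun Q' x' h' t ht ht1 u _ hut => A_centralizer h' (hall Q' x' h') hA ht ht1 hut
  obtain ⟨u, v, hu, hv, huv⟩ := E1
  have hy : IsPel p (u * v) := E23 h2c hu hv huv
  have huinv := h86_inv_eq hu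
  have hvinv := h86_inv_eq hv
  have hy1 : u * v ≠ 1 := by
    intro h1
    apply huv
    have : v = u⁻¹ := (inv_eq_of_mul_eq_one_right h1).symm
    rw [this, mul_inv_cancel, inv_mul_cancel]
  have huy : u * (u * v) * u⁻¹ = (u * v)⁻¹ := by
    rw [mul_inv_rev, hvinv, huinv, ← mul_assoc, hu.2, one_mul]
  have hodd : ∀ s : G, IsInv s → s * (u * v) ≠ (u * v) * s := fun s hs hsy =>
    hy1 (hA s _ hs hy hsy.symm)
  obtain ⟨P₀, hP₀⟩ := SYLC hu hy hy1 huy hodd
  obtain ⟨c, hc⟩ := MulAction.exists_smul_eq G P₀ P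
  have hyP₀ : u * v ∈ (P₀ : Subgroup G) := by
    rw [hP₀, Subgroup.mem_centralizer_singleton_iff]
  have hzP : c * (u * v) * c⁻¹ ∈ (P : Subgroup G) := by
    rw [← hc]
    exact ⟨u * v, hyP₀, rfl⟩
  have hz1 : c * (u * v) * c⁻¹ ≠ 1 := by
    intro h1
    apply hy1
    calc u * v = c⁻¹ * (c * (u * v) * c⁻¹) * c := by group
      _ = 1 := by rw [h1]; group
  have hu' : IsInv (c * u * c⁻¹) := h86_isInv_conj hu c
  have hzpel : IsPel p (c * (u * v) * c⁻¹) := h86_isPel_conj hy c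
  have huz : (c * u * c⁻¹) * (c * (u * v) * c⁻¹) * (c * u * c⁻¹)⁻¹ = (c * (u * v) * c⁻¹)⁻¹ := by
    calc (c * u * c⁻¹) * (c * (u * v) * c⁻¹) * (c * u * c⁻¹)⁻¹
        = c * (u * (u * v) * u⁻¹) * c⁻¹ := by group
      _ = c * (u * v)⁻¹ * c⁻¹ := by rw [huy]
      _ = (c * (u * v) * c⁻¹)⁻¹ := by group
  have hodd' : ∀ s : G, IsInv s → s * (c * (u * v) * c⁻¹) ≠ (c * (u * v) * c⁻¹) * s :=
    fun s hs hsy => hz1 (hA s _ hs hzpel hsy.symm)
  obtain ⟨P', hP'⟩ := SYLC hu' hzpel hz1 huz hodd'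
  have hle : (P : Subgroup G) ≤ P' := by
    intro w hw
    rw [hP', Subgroup.mem_centralizer_singleton_iff]
    exact h.abel P w hw _ hzP
  have heq : (P' : Subgroup G) = P := P.3 P'.2 hle
  have hPc : (P : Subgroup G) = Subgroup.centralizer {c * (u * v) * c⁻¹} := by
    rw [← heq, hP']
  obtain ⟨k1, k2⟩ := h86_sylow_key h hA SYLC P hu' huz hPc
  exact ⟨⟨c * u * c⁻¹, hu', k1⟩, k2⟩

end Cfsg.Agent.Helper86.S4017M
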