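import Mathlib
import Cfsg.Agent.Lib.Helper64.S4017Defs
import Cfsg.Agent.Lib.Helper41.S4017DIH1
import Cfsg.Agent.Lib.Helper41.S4017DIH2
import Cfsg.Agent.Lib.Helper22.S4017S1

set_option autoImplicit false

/-!
# S4017M (E23): two non-commuting involutions have product a `p`-element
-/

namespace Cfsg.Agent.Helper86.S4017M

open Cfsg.Agent.Helper64.S4017

variable {G : Type*} [Group G] [Finite G] {a p : ℕ} {Q : Subgroup G} {x : G}

/-- (E23) if every involution commuting with `t ∈ Q' \ {1}` lies in `Q'` (all settings), then two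
non-commuting involutions have product a `p`-element. -/
theorem isPel_mul_of_not_comm (h : Setting a p Q x)
    (h2c : ∀ (Q' : Subgroup G) (x' : G), Setting a p Q' x' →
      ∀ t ∈ Q', t ≠ 1 → ∀ u : G, IsInv u → u * t = t * u → u ∈ Q')
    {u v : G} (hu : IsInv u) (hv : IsInv v) (huv : u * v ≠ v * u) : IsPel p (u * v) := by
  have hm0 : orderOf (u * v) ≠ 0 := (orderOf_pos _).ne'
  have hodd : ¬ 2 ∣ orderOf (u * v) := by
    intro h2
    obtain ⟨z, hz, hzu, hzv⟩ := Cfsg.Agent.Helper41.S4017M.exists_central_inv hu hv h2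
    obtain ⟨Q', x', h', huQ'⟩ := Cfsg.Agent.Helper22.S4017M.exists_setting h hu
    have hzQ' : z ∈ Q' := h2c Q' x' h' u huQ' hu.1 z hz hzu
    have hvQ' : v ∈ Q' := h2c Q' x' h' z hzQ' hz.1 v hv hzv.symm
    -- `Q'` is abelian
    have hab : ∀ s ∈ Q', ∀ s' ∈ Q', s * s' = s' * s := by
      intro s hs s' hs'
      have e1 := h'.elem s hs
      have e2 := h'.elem s' hs'
      have e3 := h'.elem (s * s') (Q'.mul_mem hs hs')
      have i1 : s⁻¹ = s := inv_eq_of_mul_eq_one_right e1
      have i2 : s'⁻¹ = s' := inv_eq_of_mul_eq_one_right e2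
      have i3 : (s * s')⁻¹ = s * s' := inv_eq_of_mul_eq_one_right e3
      calc s * s' = (s * s')⁻¹ := i3.symm
        _ = s'⁻¹ * s⁻¹ := mul_inv_rev _ _
        _ = s' * s := by rw [i1, i2]
    exact huv (hab u huQ' v hvQ')
  have hprimes : ∀ {d : ℕ}, d.Prime → d ∣ orderOf (u * v) → d = p := by
    intro d hd hdm
    rcases Cfsg.Agent.Helper41.S4017M.prime_dvd_orderOf_mul h hu hv hd hdm with h2 | h2
    · exact absurd (h2 ▸ hdm) hodd
    · exact h2
  exact ⟨_, Nat.eq_prime_pow_of_unique_prime_dvd hm0 hprimes⟩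

end Cfsg.Agent.Helper86.S4017M
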