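import Mathlib
import Cfsg.Agent.Lib.Helper64.S4017Defs
import Cfsg.Agent.Lib.Helper86.S4017A23core
import Cfsg.Agent.Lib.Helper86.S4017E23
import Cfsg.Agent.Lib.Helper41.S4017E1
import Cfsg.Agent.Lib.Helper30.S4017SYLC

set_option autoImplicit false

/-!
# S4017M (A2): every Sylow `p`-subgroup is inverted by an involution and is the centraliser of each
of its nontrivial elements
-/

namespace Cfsg.Agent.Helper86.S4017M

open Cfsg.Agent.Helper64.S4017

variable {G : Type*} [Group G] [Finite G] {a p : ℕ} {Q : Subgroup G} {x : G}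

/-- (A2) every Sylow `p`-subgroup is inverted by an involution, and is the centraliser of each of
its nontrivial elements. From (E1), (E23), (SYLC), `z * (u z u⁻¹)` is centralised by `u`, Sylow. -/
theorem A_sylow (hall : ∀ (Q' : Subgroup G) (x' : G), Setting a p Q' x' → Tools a p Q' x')
    (h : Setting a p Q x) (hA : ∀ u z : G, IsInv u → IsPel p z → z * u = u * z → z = 1)
    (P : Sylow p G) :
    (∃ u : G, IsInv u ∧ ∀ z ∈ P, u * z * u⁻¹ = z⁻¹) ∧
      ∀ z ∈ P, z ≠ 1 → ∀ g : G, g * z = z * g → g ∈ P :=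
  A_sylow_core hall h hA (Cfsg.Agent.Helper41.S4017M.exists_invs_not_comm h)
    (fun h2c _ _ hu hv huv => isPel_mul_of_not_comm h h2c hu hv huv)
    (fun hu hy hy1 huy hodd =>
      Cfsg.Agent.Helper30.S4017M.centralizer_eq_sylow h hu hy hy1 huy hodd) P

end Cfsg.Agent.Helper86.S4017M
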