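import Mathlib
import Cfsg.Agent.Lib.Helper12.SUOT0
import Cfsg.Agent.Lib.Helper12.SUOT_T14

/-! SUOT piece (T8a) hup_formula (helper12 sub-server, S2282): `H (u p) p` for `p = z + al^q N z`. -/

set_option autoImplicit false
set_option linter.unusedSectionVars false
set_option linter.unusedVariables false

namespace Cfsg.Agent.Helper86.SUOT

open Matrix Cfsg Cfsg.Agent.Helper13 Cfsg.Agent.Helper87.PsuA Cfsg.Agent.Helper12.SUOT

variable {F : Type*} [Field F] [Fintype F] {q n : ℕ}

/-- (T8a) `H (u p) p = H p p + (al - al^q) (H z (N z) + al H (N z) (N z))` for `p = z + al^q N z` -/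
theorem hup_formula (hF : Fintype.card F = q ^ 2) {b : Fin n → Fin n → F} (hb : HB q b) (al : F)
    (z : Fin n → F) :
    Cfsg.hermForm n F q (actv (uEl q b al) (z + al ^ q • (Nm q b *ᵥ z)))
        (z + al ^ q • (Nm q b *ᵥ z)) =
      Cfsg.hermForm n F q (z + al ^ q • (Nm q b *ᵥ z)) (z + al ^ q • (Nm q b *ᵥ z)) +
        (al - al ^ q) * (Cfsg.hermForm n F q z (Nm q b *ᵥ z) +
          al * Cfsg.hermForm n F q (Nm q b *ᵥ z) (Nm q b *ᵥ z)) := by
  rw [uEl_key hF hb]
  have hadj : Cfsg.hermForm n F q (Nm q b *ᵥ z) z = Cfsg.hermForm n F q z (Nm q b *ᵥ z) :=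
    Nm_adj hF hb z z
  simp only [hermForm_add_left, hermForm_smul_left, hermForm_add_right hF, hermForm_smul_right,
    frob_frob hF, hadj]
  ring

end Cfsg.Agent.Helper86.SUOT
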