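import Mathlib
import Cfsg.Agent.Lib.Helper14.GLIDefs

/-!
# GLI (LINES) core: `lines_decomp` with (GST) as a hypothesis (helper14 server #6551, S5958)
-/

set_option autoImplicit false

namespace Cfsg.Agent.Helper86.GLI

open Module Polynomial Cfsg.Agent.Helper14.GLI

section gen

variable {F V : Type*} [Field F] [AddCommGroup V] [Module F V]

/-- powers of `x` fix the fixed vectors -/
theorem h86_pow_fix (x : V →ₗ[F] V) (v : V) (hv : x v = v) (j : ℕ) : (x ^ j) v = v := by
  induction j with
  | zero => simp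
  | succ j ih => rw [pow_succ, Module.End.mul_apply, hv, ih]

/-- the norm operator on a fixed vector -/
theorem h86_norm_fix (x : V →ₗ[F] V) (r : ℕ) (v : V) (hv : x v = v) :
    (∑ j ∈ Finset.range r, x ^ j) v = (r : F) • v := by
  rw [LinearMap.sum_apply]
  rw [Finset.sum_congr rfl (fun j _ => h86_pow_fix x v hv j)]
  rw [Finset.sum_const, Finset.card_range, Nat.cast_smul_eq_nsmul]

/-- the norm operator kills the image of `x - 1` -/
theorem h86_norm_moved (x : V →ₗ[F] V) (r : ℕ) (hxr : x ^ r = 1) (w : V) :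
    (∑ j ∈ Finset.range r, x ^ j) ((x - 1) w) = 0 := by
  have h := geom_sum_mul x r
  rw [hxr, sub_self] at h
  have h2 := congrArg (fun f : Module.End F V => f w) h
  simpa [Module.End.mul_apply] using h2

/-- `x ^ j = x ^ (j % r)` -/
theorem h86_pow_mod (x : V →ₗ[F] V) (r : ℕ) (hxr : x ^ r = 1) (j : ℕ) : x ^ j = x ^ (j % r) :=
  pow_eq_pow_mod j hxr

/-- fixed and moved parts are disjoint -/
theorem h86_disjoint (x : V →ₗ[F] V) (r : ℕ) (hr0 : (r : F) ≠ 0) (hxr : x ^ r = 1) :
    Disjoint (LinearMap.ker (x - 1)) (LinearMap.range (x - 1)) := by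
  rw [Submodule.disjoint_def]
  intro v hvU hvM
  have hv : x v = v := by
    have : (x - 1) v = 0 := hvU
    rw [LinearMap.sub_apply, Module.End.one_apply, sub_eq_zero] at this
    exact this
  obtain ⟨w, rfl⟩ := hvM
  have h1 := h86_norm_fix x r _ hv
  rw [h86_norm_moved x r hxr w] at h1
  rcases smul_eq_zero.mp h1.symm with h | h
  · exact absurd h hr0
  · exact h

/-- the dimension of a finite supremum of an independent family is the sum of the dimensions -/
theorem h86_finrank_biSup [FiniteDimensional F V] {K : Type*} (W : K → Submodule F V)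
    (hind : iSupIndep W) (s : Finset K) :
    finrank F ↥(⨆ k ∈ s, W k) = ∑ k ∈ s, finrank F (W k) := by
  classical
  induction s using Finset.induction_on with
  | empty => simp
  | insert k s₀ hk ih =>
    rw [Finset.iSup_insert, Finset.sum_insert hk, ← ih]
    have hdisj : Disjoint (W k) (⨆ i ∈ s₀, W i) := by
      have h := hind.disjoint_biSup (x := k) (y := (↑s₀ : Set K)) (by simpa using hk)
      simpa using h
    have h := Submodule.finrank_sup_add_finrank_inf_eq (W k) (⨆ i ∈ s₀, W i)
    rw [disjoint_iff.mp hdisj, finrank_bot, add_zero] at h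
    exact h

/-- arithmetic: `m ≤ dU` -/
theorem h86_arith (t dU m c r : ℕ) (hc : 0 < c) (hr : r = c + 1) (ht : dU + m * c = t)
    (hnk : t ≤ (t % c) * r) : m ≤ dU := by
  subst hr
  have h1 : t % c = dU % c := by rw [← ht, Nat.add_mul_mod_self_right]
  have h2 : dU % c ≤ dU := Nat.mod_le _ _
  have h3 : (t % c) * (c + 1) ≤ dU * (c + 1) := by
    rw [h1]; exact Nat.mul_le_mul_right _ h2
  have h4 : dU + m * c ≤ dU * c + dU := by
    calc dU + m * c = t := ht
      _ ≤ (t % c) * (c + 1) := hnk
      _ ≤ dU * (c + 1) := h3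
      _ = dU * c + dU := by ring
  have h5 : m * c ≤ dU * c := by omega
  exact Nat.le_of_mul_le_mul_right h5 hc

/-- the rotation of `Fin r` raises the exponent by one -/
theorem h86_rot (x : V →ₗ[F] V) (r : ℕ) (hxr : x ^ r = 1) (j : Fin r) :
    x ^ ((finRotate r j : Fin r) : ℕ) = x ^ ((j : ℕ) + 1) := by
  rcases r with _ | k
  · exact j.elim0
  · rw [coe_finRotate]
    split_ifs with h
    · subst h
      rw [Fin.val_last, hxr, pow_zero]
    · rfl

end gen

/-- (LINES) core, with (GST) as a hypothesis -/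
theorem lines_core {F V : Type*} [Field F] [Fintype F] [AddCommGroup V] [Module F V]
    [FiniteDimensional F V] (x : V →ₗ[F] V) (r : ℕ) [Fact r.Prime]
    (hr0 : (r : F) ≠ 0) (hxr : x ^ r = 1)
    (hc1 : 1 < orderOf ((Fintype.card F : ℕ) : ZMod r))
    (hcr : orderOf ((Fintype.card F : ℕ) : ZMod r) = r - 1)
    (t : ℕ) (ht : finrank F V = t)
    (hnk : t ≤ (t % orderOf ((Fintype.card F : ℕ) : ZMod r)) * r)
    (hGST : ∀ (R : Submodule F V), R.map x ≤ R → (∀ v ∈ R, x v = v → v = 0) →
      ∃ (m : ℕ) (W : Fin m → Submodule F V), IsIndepFam R W ∧ (∀ k, (W k).map x ≤ W k) ∧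
      (∀ k, finrank F (W k) = orderOf ((Fintype.card F : ℕ) : ZMod r)) ∧
      (∀ k, ∀ Z : Submodule F V, Z ≤ W k → Z.map x ≤ Z → Z = ⊥ ∨ Z = W k)) :
    ∃ D : Fin t → Submodule F V, IsIndepFam ⊤ D ∧ (∀ j, finrank F (D j) = 1) ∧
      ∃ σ : Equiv.Perm (Fin t), ∀ j, (D j).map x = D (σ j) := by
  classical
  generalize hc : orderOf ((Fintype.card F : ℕ) : ZMod r) = c at hc1 hcr hnk hGST
  have hrc : r = c + 1 := by omega
  have hdisj : Disjoint (LinearMap.ker (x - 1)) (LinearMap.range (x - 1)) :=
    h86_disjoint x r hr0 hxr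
  have hdim : finrank F (LinearMap.range (x - 1)) + finrank F (LinearMap.ker (x - 1)) =
      finrank F V := LinearMap.finrank_range_add_finrank_ker (x - 1)
  have hfix_of_mem : ∀ v ∈ LinearMap.ker (x - 1), x v = v := by
    intro v hv
    have : (x - 1) v = 0 := hv
    rw [LinearMap.sub_apply, Module.End.one_apply, sub_eq_zero] at this
    exact this
  have hMx : (LinearMap.range (x - 1)).map x ≤ LinearMap.range (x - 1) := by
    rintro _ ⟨_, ⟨w, rfl⟩, rfl⟩
    refine ⟨x w, ?_⟩
    simp [LinearMap.sub_apply]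
  have hfpf : ∀ v ∈ LinearMap.range (x - 1), x v = v → v = 0 := by
    intro v hvM hv
    have hvU : v ∈ LinearMap.ker (x - 1) := by
      rw [LinearMap.mem_ker, LinearMap.sub_apply, Module.End.one_apply, hv, sub_self]
    exact (Submodule.disjoint_def.mp hdisj) v hvU hvM
  obtain ⟨m, W, hW, hWx, hWc, hWirr⟩ := hGST _ hMx hfpf
  -- dimension of the moved part
  have hMdim : finrank F (LinearMap.range (x - 1)) = m * c := by
    have h := h86_finrank_biSup W hW.indep Finset.univ
    have hsup : (⨆ k ∈ (Finset.univ : Finset (Fin m)), W k) = LinearMap.range (x - 1) := by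
      rw [← hW.sup]; simp
    rw [hsup] at h
    rw [h, Finset.sum_congr rfl (fun k _ => hWc k), Finset.sum_const, Finset.card_univ,
      Fintype.card_fin, smul_eq_mul]
  generalize hdU : finrank F (LinearMap.ker (x - 1)) = dU at hdim
  have hmdU : m ≤ dU := h86_arith t dU m c r (by omega) hrc (by omega) hnk
  -- bases
  let bU : Basis (Fin dU) F (LinearMap.ker (x - 1)) :=
    (Module.finBasis F (LinearMap.ker (x - 1))).reindex (finCongr hdU)
  let u : Fin m → V := fun i => ((bU ⟨i.1, lt_of_lt_of_le i.2 hmdU⟩ : LinearMap.ker (x - 1)) : V)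
  have hbUfix : ∀ k, x ((bU k : LinearMap.ker (x - 1)) : V) = ((bU k : LinearMap.ker (x - 1)) : V) :=
    fun k => hfix_of_mem _ (bU k).2
  have huU : ∀ i, x (u i) = u i := fun i => hbUfix _
  have hbb : ∀ i : Fin m, ∃ b : V, b ∈ W i ∧ b ≠ 0 := by
    intro i
    have hpos : 0 < finrank F (W i) := by rw [hWc i]; omega
    obtain ⟨⟨b, hb⟩, hb0⟩ := Module.finrank_pos_iff_exists_ne_zero.mp hpos
    exact ⟨b, hb, fun h => hb0 (Subtype.ext h)⟩
  choose bb hbbW hbb0 using hbb
  have hWM : ∀ i, W i ≤ LinearMap.range (x - 1) := fun i => hW.sup ▸ le_iSup W i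
  -- the family
  let f : (Fin m × Fin r) ⊕ Fin (dU - m) → V :=
    Sum.elim (fun p => (x ^ (p.2 : ℕ)) (bb p.1 + u p.1))
      (fun k => ((bU ⟨m + k.1, by have := k.2; omega⟩ : LinearMap.ker (x - 1)) : V))
  let π : Equiv.Perm ((Fin m × Fin r) ⊕ Fin (dU - m)) :=
    Equiv.sumCongr (Equiv.prodCongr (Equiv.refl (Fin m)) (finRotate r)) (Equiv.refl _)
  have hxf : ∀ p, x (f p) = f (π p) := by
    rintro (⟨i, j⟩ | k)
    · show x ((x ^ (j : ℕ)) (bb i + u i)) = (x ^ ((finRotate r j : Fin r) : ℕ)) (bb i + u i)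
      rw [h86_rot x r hxr j, pow_succ', Module.End.mul_apply]
    · exact hbUfix _
  -- spanning
  have huS : ∀ i, u i ∈ Submodule.span F (Set.range f) := by
    intro i
    have hsum : ∑ j : Fin r, f (Sum.inl (i, j)) = (r : F) • u i := by
      have h1 : ∑ j : Fin r, f (Sum.inl (i, j)) =
          (∑ j ∈ Finset.range r, x ^ j) (bb i + u i) := by
        rw [LinearMap.sum_apply, ← Fin.sum_univ_eq_sum_range (fun j => (x ^ j) (bb i + u i)) r]
        rfl
      rw [h1, map_add, h86_norm_fix x r _ (huU i)]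
      obtain ⟨w, hw⟩ := hWM i (hbbW i)
      rw [← hw, h86_norm_moved x r hxr w, zero_add]
    have hmem : (r : F) • u i ∈ Submodule.span F (Set.range f) := by
      rw [← hsum]
      exact Submodule.sum_mem _ (fun j _ => Submodule.subset_span ⟨_, rfl⟩)
    have := Submodule.smul_mem _ ((r : F)⁻¹) hmem
    rwa [smul_smul, inv_mul_cancel₀ hr0, one_smul] at this
  have hxbS : ∀ i (j : ℕ), (x ^ j) (bb i) ∈ Submodule.span F (Set.range f) := by
    intro i j
    have hr_pos : 0 < r := (Fact.out : r.Prime).pos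
    rw [h86_pow_mod x r hxr j]
    have hf : f (Sum.inl (i, ⟨j % r, Nat.mod_lt _ hr_pos⟩)) =
        (x ^ (j % r)) (bb i) + u i := by
      show (x ^ (j % r)) (bb i + u i) = _
      rw [map_add, h86_pow_fix x _ (huU i)]
    have : (x ^ (j % r)) (bb i) = f (Sum.inl (i, ⟨j % r, Nat.mod_lt _ hr_pos⟩)) - u i := by
      rw [hf, add_sub_cancel_right]
    rw [this]
    exact Submodule.sub_mem _ (Submodule.subset_span ⟨_, rfl⟩) (huS i)
  have hWS : ∀ i, W i ≤ Submodule.span F (Set.range f) := by
    intro i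
    have hZle : Submodule.span F (Set.range fun j : ℕ => (x ^ j) (bb i)) ≤ W i := by
      rw [Submodule.span_le]
      rintro _ ⟨j, rfl⟩
      show (x ^ j) (bb i) ∈ W i
      induction j with
      | zero => simpa using hbbW i
      | succ j ih =>
        have : (x ^ (j + 1)) (bb i) = x ((x ^ j) (bb i)) := by
          rw [pow_succ', Module.End.mul_apply]
        rw [this]
        exact hWx i ⟨_, ih, rfl⟩
    have hZinv : (Submodule.span F (Set.range fun j : ℕ => (x ^ j) (bb i))).map x ≤
        Submodule.span F (Set.range fun j : ℕ => (x ^ j) (bb i)) := by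
      rw [Submodule.map_span, Submodule.span_le]
      rintro _ ⟨_, ⟨j, rfl⟩, rfl⟩
      refine Submodule.subset_span ⟨j + 1, ?_⟩
      show (x ^ (j + 1)) (bb i) = x ((x ^ j) (bb i))
      rw [pow_succ', Module.End.mul_apply]
    rcases hWirr i _ hZle hZinv with h | h
    · exfalso
      have : bb i ∈ Submodule.span F (Set.range fun j : ℕ => (x ^ j) (bb i)) :=
        Submodule.subset_span ⟨0, by simp⟩
      rw [h, Submodule.mem_bot] at this
      exact hbb0 i this
    · rw [← h, Submodule.span_le]
      rintro _ ⟨j, rfl⟩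
      exact hxbS i j
  have hMS : LinearMap.range (x - 1) ≤ Submodule.span F (Set.range f) := by
    rw [← hW.sup]
    exact iSup_le hWS
  have hUS : LinearMap.ker (x - 1) ≤ Submodule.span F (Set.range f) := by
    have hUspan : LinearMap.ker (x - 1) =
        Submodule.span F (Set.range fun k => ((bU k : LinearMap.ker (x - 1)) : V)) := by
      have h1 := bU.span_eq
      have h2 := congrArg (Submodule.map (LinearMap.ker (x - 1)).subtype) h1
      rw [Submodule.map_span, Submodule.map_top, Submodule.range_subtype, ← Set.range_comp] at h2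
      exact h2.symm
    rw [hUspan, Submodule.span_le]
    rintro _ ⟨k, rfl⟩
    show ((bU k : LinearMap.ker (x - 1)) : V) ∈ Submodule.span F (Set.range f)
    by_cases hk : k.1 < m
    · exact huS ⟨k.1, hk⟩
    · have hk' : k.1 - m < dU - m := by have := k.2; omega
      have : ((bU k : LinearMap.ker (x - 1)) : V) = f (Sum.inr ⟨k.1 - m, hk'⟩) := by
        show _ = ((bU ⟨m + (k.1 - m), _⟩ : LinearMap.ker (x - 1)) : V)
        congr 3
        apply Fin.ext
        show k.1 = m + (k.1 - m)
        omega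
      rw [this]
      exact Submodule.subset_span ⟨_, rfl⟩
  have hspan : ⊤ ≤ Submodule.span F (Set.range f) := by
    rw [← Submodule.eq_top_of_disjoint _ _ (by omega) hdisj]
    exact sup_le hUS hMS
  have hcard : Fintype.card ((Fin m × Fin r) ⊕ Fin (dU - m)) = finrank F V := by
    rw [Fintype.card_sum, Fintype.card_prod, Fintype.card_fin, Fintype.card_fin, Fintype.card_fin,
      hrc, Nat.mul_succ]
    omega
  have hli : LinearIndependent F f :=
    linearIndependent_of_top_le_span_of_card_eq_finrank hspan hcard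
  -- the decomposition
  let e : (Fin m × Fin r) ⊕ Fin (dU - m) ≃ Fin t := Fintype.equivFinOfCardEq (hcard.trans ht)
  refine ⟨fun j => Submodule.span F {f (e.symm j)}, ⟨?_, ?_⟩, ?_, e.symm.trans (π.trans e), ?_⟩
  · exact (hli.comp e.symm e.symm.injective).iSupIndep_span_singleton
  · have h1 : (⨆ j, Submodule.span F {f (e.symm j)}) =
        Submodule.span F (Set.range (f ∘ e.symm)) :=
      (Submodule.span_range_eq_iSup (v := f ∘ e.symm)).symm
    rw [h1, e.symm.surjective.range_comp f]
    exact eq_top_iff.mpr hspan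
  · intro j
    exact finrank_span_singleton (hli.ne_zero _)
  · intro j
    rw [Submodule.map_span, Set.image_singleton, hxf]
    simp

end Cfsg.Agent.Helper86.GLI
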