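import Mathlib
import Cfsg.Agent.Lib.Helper93.MD0

/-!
# MD piece (T3) + `exists_tau` for helper93's S2140 server
Duality: `|B| * |perp τ B| = q ^ n` for every additive subgroup `B` of the dual space, via a
`ZMod p`-structure on `V` and `Subspace.finrank_add_finrank_dualCoannihilator_eq`.
-/

set_option autoImplicit false

namespace Cfsg.Agent.Helper86.MD

open Module Cfsg.Agent.Helper93.McL Cfsg.Agent.Helper93.MD

/-- abstract duality count over `ZMod p` -/
theorem t3_abstract {p : ℕ} [Fact p.Prime] {X : Type*} [AddCommGroup X] [Module (ZMod p) X] [Finite X]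
    (W : Submodule (ZMod p) (Module.Dual (ZMod p) X)) :
    Nat.card W * Nat.card W.dualCoannihilator = Nat.card X := by
  have h := Subspace.finrank_add_finrank_dualCoannihilator_eq W
  rw [Module.natCard_eq_pow_finrank (K := ZMod p) (V := W),
    Module.natCard_eq_pow_finrank (K := ZMod p) (V := W.dualCoannihilator),
    Module.natCard_eq_pow_finrank (K := ZMod p) (V := X), ← pow_add, h]

/-- the duality count for any `ZMod p`-module structure on `V` -/
theorem t3_main {F V : Type*} [Field F] [AddCommGroup V] [Module F V] {p : ℕ} [Fact p.Prime]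
    [Module (ZMod p) V] [Finite V] (τ : F →+ ZMod p) (hτ : τ ≠ 0) (B : AddSubgroup (Dual F V)) :
    Nat.card ↥B * Nat.card ↥(perp τ B) = Nat.card V := by
  classical
  let Θ : Dual F V →+ (V →ₗ[ZMod p] ZMod p) :=
    ((AddMonoidHom.toZModLinearMapEquiv p).toAddMonoidHom.comp (AddMonoidHom.compHom τ)).comp
      LinearMap.toAddMonoidHom'
  have hΘ_apply : ∀ (φ : Dual F V) (x : V), Θ φ x = τ (φ x) := fun _ _ => rfl
  have hΘ_inj : Function.Injective Θ := by
    rw [injective_iff_map_eq_zero]
    intro φ hφ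
    by_contra hne
    obtain ⟨x₀, hx₀⟩ : ∃ x₀, φ x₀ ≠ 0 := by
      by_contra hcon
      push Not at hcon
      exact hne (LinearMap.ext hcon)
    apply hτ
    ext c
    have h1 : φ ((c / φ x₀) • x₀) = c := by
      rw [map_smul, smul_eq_mul, div_mul_cancel₀ c hx₀]
    have h2 : Θ φ ((c / φ x₀) • x₀) = 0 := by rw [hφ]; rfl
    rw [hΘ_apply, h1] at h2
    simpa using h2
  let W : Submodule (ZMod p) (Module.Dual (ZMod p) V) := AddSubgroup.toZModSubmodule p (B.map Θ)
  have hperp : ∀ x : V, x ∈ perp τ B ↔ x ∈ W.dualCoannihilator := by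
    intro x
    rw [mem_perp, Submodule.mem_dualCoannihilator]
    constructor
    · intro h ψ hψ
      obtain ⟨φ, hφ, rfl⟩ := hψ
      exact h φ hφ
    · intro h φ hφ
      exact h (Θ φ) ⟨φ, hφ, rfl⟩
  have hc1 : Nat.card B = Nat.card W :=
    Nat.card_congr (AddSubgroup.equivMapOfInjective B Θ hΘ_inj).toEquiv
  have hc2 : Nat.card (perp τ B) = Nat.card W.dualCoannihilator :=
    Nat.card_congr (Equiv.subtypeEquivRight hperp)
  rw [hc1, hc2, t3_abstract W]

variable {F V : Type*} [Field F] [Fintype F] [AddCommGroup V] [Module F V] [FiniteDimensional F V]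

section tri

variable {Ω : Type*} [Fintype Ω] [MulAction ↥(SLV F V) Ω] {p : ℕ} [Fact p.Prime] [CharP F p]

/-- (T3) duality: perfect pairing `(φ, x) ↦ τ (φ x)` between `PhiA u` and `V / F u`. -/
theorem card_mul_card_perp {u : V} (hu : u ≠ 0) (τ : F →+ ZMod p) (hτ : τ ≠ 0)
    (B : AddSubgroup (Dual F V)) (hB : B ≤ PhiA u) :
    Nat.card ↥B * Nat.card ↥(perp τ B) = Fintype.card F ^ finrank F V := by
  have hpx : ∀ x : V, p • x = 0 := fun x => by
    rw [← Nat.cast_smul_eq_nsmul F, CharP.cast_eq_zero, zero_smul]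
  have hfin : Finite V := Module.finite_of_finite F
  rw [@t3_main F V _ _ _ p _ (AddCommGroup.zmodModule hpx) hfin τ hτ B,
    Module.natCard_eq_pow_finrank (K := F) (V := V), Nat.card_eq_fintype_card]

theorem exists_tau : ∃ τ : F →+ ZMod p, τ ≠ 0 := by
  let _ : Algebra (ZMod p) F := ZMod.algebra F p
  have h1 : (1 : F) ∉ (⊥ : Submodule (ZMod p) F) := by
    rw [Submodule.mem_bot]; exact one_ne_zero
  obtain ⟨g, hg, -⟩ := Submodule.exists_dual_map_eq_bot_of_notMem h1 inferInstance
  refine ⟨g.toAddMonoidHom, ?_⟩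
  intro h0
  apply hg
  have := congrArg (fun t : F →+ ZMod p => t 1) h0
  simpa using this

end tri

end Cfsg.Agent.Helper86.MD
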