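import Mathlib
import Cfsg.Agent.Lib.Helper64.S4017Defs
import Cfsg.Agent.Lib.Helper86.S4017A23core

set_option autoImplicit false

/-!
# S4017M (A3): core, with the statement of (A2) passed as a hypothesis
-/

namespace Cfsg.Agent.Helper86.S4017M

open Cfsg.Agent.Helper64.S4017

variable {G : Type*} [Group G] [Finite G] {a p : ℕ} {Q : Subgroup G} {x : G}

/-- `x ≠ 1`. -/
theorem h86_x_ne_one (h : Setting a p Q x) : x ≠ 1 := by
  intro hx1
  have hcard : 4 ≤ Nat.card Q := by
    rw [h.card_Q]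
    calc 4 = 2 ^ 2 := by norm_num
      _ ≤ 2 ^ a := Nat.pow_le_pow_right (by norm_num) h.two_le
  have hne : Q ≠ ⊥ := by
    intro hb
    rw [hb, Subgroup.card_bot] at hcard
    omega
  obtain ⟨t, ht1⟩ := (Subgroup.ne_bot_iff_exists_ne_one.mp hne)
  have ht1' : (t : G) ≠ 1 := fun h1 => ht1 (Subtype.ext h1)
  have hall : ∀ s ∈ Q, s ≠ 1 → s = (t : G) := by
    intro s hs hs1
    obtain ⟨i, hi⟩ := h.x_trans t t.2 ht1' s hs hs1
    rw [hx1, one_pow, one_mul, inv_one, mul_one] at hi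
    exact hi.symm
  have hle : Q ≤ Subgroup.zpowers (t : G) := by
    intro s hs
    by_cases hs1 : s = 1
    · rw [hs1]; exact Subgroup.one_mem _
    · rw [hall s hs hs1]; exact Subgroup.mem_zpowers _
  have h1 := Subgroup.card_le_of_le hle
  rw [Nat.card_zpowers] at h1
  have h2 : orderOf (t : G) ≤ 2 :=
    orderOf_le_of_pow_eq_one (by norm_num) (by rw [pow_two]; exact h.elem _ t.2)
  omega

/-- `p` divides `|G|`. -/
theorem h86_p_dvd (h : Setting a p Q x) : p ∣ Nat.card G := by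
  obtain ⟨j, hj⟩ := h.x_pel
  have hj0 : j ≠ 0 := by
    rintro rfl
    rw [pow_zero, orderOf_eq_one_iff] at hj
    exact h86_x_ne_one h hj
  calc p ∣ p ^ j := dvd_pow_self p hj0
    _ = orderOf x := hj.symm
    _ ∣ Nat.card G := orderOf_dvd_natCard x

/-- (A3), with the statement of (A2) as a hypothesis. -/
theorem A_normalizer_core (h : Setting a p Q x)
    (hA : ∀ u z : G, IsInv u → IsPel p z → z * u = u * z → z = 1)
    (P : Sylow p G)
    (hA2 : (∃ u : G, IsInv u ∧ ∀ z ∈ P, u * z * u⁻¹ = z⁻¹) ∧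
      ∀ z ∈ P, z ≠ 1 → ∀ g : G, g * z = z * g → g ∈ P) :
    Nat.card (Subgroup.normalizer ((P : Subgroup G) : Set G)) = 2 * Nat.card P := by
  have hp := h.prime
  have : Fact p.Prime := ⟨hp⟩
  obtain ⟨⟨u, hu, hinv⟩, hcen⟩ := hA2
  have huinv := h86_inv_eq hu
  set N := Subgroup.normalizer ((P : Subgroup G) : Set G) with hN
  have hPN : (P : Subgroup G) ≤ N := Subgroup.le_normalizer
  -- `u ∉ P`
  have huP : u ∉ (P : Subgroup G) := fun hmem =>
    h86_not_isPel_inv h hu (h86_isPel_of_mem hp P hmem)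
  -- `u ∈ N`
  have huN : u ∈ N := by
    rw [hN, Subgroup.mem_normalizer_iff]
    intro z
    constructor
    · intro hz
      have := hinv z hz
      show u * z * u⁻¹ ∈ (P : Subgroup G)
      rw [this]
      exact P.inv_mem hz
    · intro hz
      have hz' : u * z * u⁻¹ ∈ (P : Subgroup G) := hz
      have h1 := hinv _ hz'
      have h2 : z = (u * z * u⁻¹)⁻¹ := by
        rw [← h1]; simp only [huinv]
        calc z = (u * u) * z * (u * u) := by rw [hu.2, one_mul, mul_one]
          _ = u * (u * z * u) * u := by group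
      have h3 : z ∈ (P : Subgroup G) := by
        rw [h2]; exact (P : Subgroup G).inv_mem hz'
      exact h3
  -- `P ≠ ⊥`, `P ≠ ⊤`, `N ≠ ⊤`
  have hPbot : (P : Subgroup G) ≠ ⊥ := P.ne_bot_of_dvd_card (h86_p_dvd h)
  have hPtop : (P : Subgroup G) ≠ ⊤ := fun ht => huP (ht ▸ Subgroup.mem_top u)
  have hNtop : N ≠ ⊤ := by
    intro ht
    have hn : (P : Subgroup G).Normal := Subgroup.normalizer_eq_top_iff.mp ht
    have := h.simple
    rcases hn.eq_bot_or_eq_top with h1 | h1
    · exact hPbot h1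
    · exact hPtop h1
  have h2N : 2 ∣ Nat.card N := by
    have h1 : orderOf u = 2 := orderOf_eq_prime (by rw [pow_two]; exact hu.2) hu.1
    rw [← h1]
    exact Subgroup.orderOf_dvd_natCard N huN
  obtain ⟨z₀, hz₀, hz₀1⟩ : ∃ z₀ ∈ (P : Subgroup G), z₀ ≠ 1 := by
    obtain ⟨z, hz1⟩ := Subgroup.ne_bot_iff_exists_ne_one.mp hPbot
    exact ⟨z, z.2, fun h1 => hz1 (Subtype.ext h1)⟩
  -- involutions of `N` lie in `P u`
  have hinvN : ∀ t ∈ N, IsInv t → t * u ∈ (P : Subgroup G) := by
    intro t htN ht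
    have htinv := h86_inv_eq ht
    have htP : ∀ z ∈ (P : Subgroup G), t * z * t⁻¹ ∈ (P : Subgroup G) := fun z hz =>
      ((Subgroup.mem_normalizer_iff.mp htN) z).mp hz
    have htI : ∀ z ∈ (P : Subgroup G), t * z * t⁻¹ = z⁻¹ := by
      intro z hz
      have hz2 := htP z hz
      have hw : z * (t * z * t⁻¹) ∈ (P : Subgroup G) := (P : Subgroup G).mul_mem hz hz2
      have hab : z * (t * z * t⁻¹) = (t * z * t⁻¹) * z := h.abel P z hz _ hz2
      have hcomm : z * (t * z * t⁻¹) * t = t * (z * (t * z * t⁻¹)) := by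
        calc z * (t * z * t⁻¹) * t = (t * z * t⁻¹) * z * t := by rw [hab]
          _ = t * (z * (t⁻¹ * z * t)) := by group
          _ = t * (z * (t * z * t⁻¹)) := by simp only [htinv]
      have hw1 := hA t _ ht (h86_isPel_of_mem hp P hw) hcomm
      calc t * z * t⁻¹ = z⁻¹ * (z * (t * z * t⁻¹)) := by group
        _ = z⁻¹ := by rw [hw1, mul_one]
    apply hcen z₀ hz₀ hz₀1
    have e1 := htI z₀ hz₀
    have e2 := hinv z₀ hz₀
    have e3 : u * z₀ = z₀⁻¹ * u := by
      calc u * z₀ = (u * z₀ * u⁻¹) * u := by group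
        _ = z₀⁻¹ * u := by rw [e2]
    have e4 : t * z₀⁻¹ = z₀ * t := by
      calc t * z₀⁻¹ = (t * z₀ * t⁻¹)⁻¹ * t := by group
        _ = z₀ * t := by rw [e1, inv_inv]
    calc t * u * z₀ = t * (u * z₀) := by group
      _ = t * (z₀⁻¹ * u) := by rw [e3]
      _ = (t * z₀⁻¹) * u := by group
      _ = z₀ * t * u := by rw [e4]
      _ = z₀ * (t * u) := by group
  -- every element of `N` lies in `P` or `P u`
  have hdich : ∀ n ∈ N, n ∈ (P : Subgroup G) ∨ n * u ∈ (P : Subgroup G) := by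
    intro n hn
    have hm0 : orderOf n ≠ 0 := (orderOf_pos n).ne'
    obtain ⟨i, m', hm'odd, hm⟩ := Nat.exists_eq_two_pow_mul_odd hm0
    have hm'0 : m' ≠ 0 := by
      rintro rfl
      simp at hm'odd
    have hprimes : ∀ {d : ℕ}, d.Prime → d ∣ m' → d = p := by
      intro d hd hdm
      have h1 : d ∣ Nat.card N :=
        (hdm.trans (Dvd.intro_left _ hm.symm)).trans (Subgroup.orderOf_dvd_natCard N hn)
      rcases h.star N hNtop h2N d hd h1 with h2 | h2
      · exfalso
        rw [h2] at hdm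
        obtain ⟨k, hk⟩ := hm'odd
        omega
      · exact h2
    have hm'p := Nat.eq_prime_pow_of_unique_prime_dvd hm'0 hprimes
    set j := m'.primeFactorsList.length with hj
    -- `t = n ^ (p ^ j)` is a `2`-element
    have ht2 : (n ^ p ^ j) ^ 2 ^ i = 1 := by
      rw [← pow_mul, mul_comm, ← hm'p, ← hm]
      exact pow_orderOf_eq_one n
    have ht2' : ∃ k : ℕ, orderOf (n ^ p ^ j) = 2 ^ k := by
      obtain ⟨k, _, hk⟩ := (Nat.dvd_prime_pow Nat.prime_two).mp (orderOf_dvd_of_pow_eq_one ht2)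
      exact ⟨k, hk⟩
    have htsq : n ^ p ^ j * n ^ p ^ j = 1 := h86_two_sq h ht2'
    have htN : n ^ p ^ j ∈ N := N.pow_mem hn _
    -- `n ^ 2` is a `p`-element of `N`, hence lies in `P`
    have hn2 : n ^ 2 ∈ (P : Subgroup G) := by
      apply h86_mem_sylow_of_pel hp P _ (N.pow_mem hn _)
      have h1 : (n ^ 2) ^ p ^ j = 1 := by
        rw [← pow_mul, mul_comm, pow_mul, pow_two]
        exact htsq
      obtain ⟨k, _, hk⟩ := (Nat.dvd_prime_pow hp).mp (orderOf_dvd_of_pow_eq_one h1)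
      exact ⟨k, hk⟩
    have hpodd : Odd (p ^ j) := by
      apply Odd.pow
      rw [Nat.odd_iff]
      exact h86_p_odd h
    obtain ⟨k, hk⟩ := hpodd
    have hdecomp : n ^ p ^ j = n * (n ^ 2) ^ k := by
      rw [hk, ← pow_mul, pow_succ']
    by_cases ht1 : n ^ p ^ j = 1
    · left
      apply h86_mem_sylow_of_pel hp P _ hn
      obtain ⟨k', _, hk'⟩ := (Nat.dvd_prime_pow hp).mp (orderOf_dvd_of_pow_eq_one ht1)
      exact ⟨k', hk'⟩
    · right
      have h1 := hinvN _ htN ⟨ht1, htsq⟩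
      rw [hdecomp] at h1
      -- `n * w * u ∈ P` with `w ∈ P`
      have hw : (n ^ 2) ^ k ∈ (P : Subgroup G) := (P : Subgroup G).pow_mem hn2 _
      have hw' : u⁻¹ * ((n ^ 2) ^ k)⁻¹ * u ∈ (P : Subgroup G) := by
        have := ((Subgroup.mem_normalizer_iff''.mp huN) (((n ^ 2) ^ k)⁻¹)).mp
          ((P : Subgroup G).inv_mem hw)
        exact this
      have h2 := (P : Subgroup G).mul_mem h1 hw'
      have e : n * (n ^ 2) ^ k * u * (u⁻¹ * ((n ^ 2) ^ k)⁻¹ * u) = n * u := by group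
      rw [e] at h2
      exact h2
  -- the index of `P` in `N` is `2`
  have hidx : (P : Subgroup G).relIndex N = 2 := by
    rw [Subgroup.relIndex_eq_two_iff]
    refine ⟨u, huN, fun n hn => ?_⟩
    rcases hdich n hn with h1 | h1
    · right
      refine ⟨h1, fun h2 => huP ?_⟩
      have := (P : Subgroup G).mul_mem ((P : Subgroup G).inv_mem h1) h2
      rwa [inv_mul_cancel_left] at this
    · left
      refine ⟨h1, fun h2 => huP ?_⟩
      have := (P : Subgroup G).mul_mem ((P : Subgroup G).inv_mem h2) h1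
      rwa [inv_mul_cancel_left] at this
  have hmul := Subgroup.relIndex_mul_relIndex (⊥ : Subgroup G) (P : Subgroup G) N bot_le hPN
  rw [Subgroup.relIndex_bot_left, Subgroup.relIndex_bot_left, hidx] at hmul
  rw [← hmul, mul_comm]

end Cfsg.Agent.Helper86.S4017M
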