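import Mathlib
import Cfsg.Agent.Lib.Helper64.S4017Defs
import Cfsg.Agent.Lib.Helper86.S4017A3core
import Cfsg.Agent.Lib.Helper86.S4017A2

set_option autoImplicit false

/-!
# S4017M (A3): `|N(P)| = 2 |P|`
-/

namespace Cfsg.Agent.Helper86.S4017M

open Cfsg.Agent.Helper64.S4017

variable {G : Type*} [Group G] [Finite G] {a p : ℕ} {Q : Subgroup G} {x : G}

/-- (A3) the involutions normalising `P` are the coset `P u`; hence `|N(P)| = 2 |P|`. -/
theorem A_normalizer (hall : ∀ (Q' : Subgroup G) (x' : G), Setting a p Q' x' → Tools a p Q' x')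
    (h : Setting a p Q x) (hA : ∀ u z : G, IsInv u → IsPel p z → z * u = u * z → z = 1)
    (P : Sylow p G) : Nat.card (Subgroup.normalizer ((P : Subgroup G) : Set G)) = 2 * Nat.card P :=
  A_normalizer_core h hA P (A_sylow hall h hA P)

end Cfsg.Agent.Helper86.S4017M
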