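import Mathlib
import Cfsg.Prelude.Def_OddOrderLocal
import Cfsg.Agent.Lib.Helper52.Coprime
import Cfsg.Agent.Lib.Helper1.ZCoprime
import Cfsg.Agent.Lib.Helper76.EqOrd1

/-!
Piece (E1) of helper2's lemma server "BG157" (for S1383, B-G Theorem 15.7(e)):
a central product `P₁ ∘ P₂` (`P₁` extraspecial of order `p^3`, `P₂` cyclic) with a coprime group `K`
of operators whose fixed points on `P` form a central subgroup of order `p`, is `P₁`.
-/

set_option autoImplicit false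
set_option linter.style.haveILetI false
set_option linter.unusedSectionVars false
set_option linter.unusedVariables false

namespace Cfsg.Agent.Helper86.BG157

open Subgroup Cfsg

variable {G : Type*} [Group G] [Finite G]

theorem card_eq_cube_of_struct {p : ℕ} [Fact p.Prime] (hp : p ≠ 2) (P K : Subgroup G) (hP : IsPGroup p P)
    (hstruct : ∃ P₁ P₂ : Subgroup G, P₁ ⊔ P₂ = P ∧ (∀ a ∈ P₁, ∀ b ∈ P₂, a * b = b * a) ∧
        ¬ IsMulCommutative P₁ ∧ Nat.card P₁ = p ^ 3 ∧ Monoid.exponent P₁ = p ∧ IsCyclic P₂ ∧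
        Subgroup.closure {x : G | x ∈ P₂ ∧ x ^ p = 1} = P₁ ⊓ Subgroup.centralizer (P₁ : Set G))
    (hKP : K ≤ normalizer (P : Set G)) (hcop : (Nat.card K).Coprime p)
    (hfix : Nat.card ↥(P ⊓ centralizer (K : Set G)) = p)
    (hfixc : P ⊓ centralizer (K : Set G) ≤ centralizer (P : Set G)) : Nat.card P = p ^ 3 := by
  obtain ⟨P₁, P₂, hsup, hcomm, _hna, hc1, _hexp, hcyc, hclos⟩ := hstruct
  have hpp : p.Prime := Fact.out
  have hP₁P : P₁ ≤ P := hsup ▸ le_sup_left
  have hP₂P : P₂ ≤ P := hsup ▸ le_sup_right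
  -- `P₂` is abelian
  have hP₂comm : ∀ a ∈ P₂, ∀ b ∈ P₂, a * b = b * a := by
    intro a ha b hb
    obtain ⟨g, hg⟩ := hcyc.exists_generator
    obtain ⟨i, hi⟩ := Subgroup.mem_zpowers_iff.mp (hg ⟨a, ha⟩)
    obtain ⟨j, hj⟩ := Subgroup.mem_zpowers_iff.mp (hg ⟨b, hb⟩)
    have h1 : (⟨a, ha⟩ : P₂) * ⟨b, hb⟩ = ⟨b, hb⟩ * ⟨a, ha⟩ := by
      rw [← hi, ← hj, ← zpow_add, ← zpow_add, add_comm]
    exact congrArg Subtype.val h1
  haveI hP₂mc : IsMulCommutative P₂ :=
    ⟨⟨fun a b => Subtype.ext (hP₂comm a a.2 b b.2)⟩⟩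
  -- `P₂ ≤ C(P)`
  have hP₂cent : P₂ ≤ centralizer (P : Set G) := by
    rw [le_centralizer_iff, ← hsup]
    refine sup_le ?_ ?_
    · intro a ha
      rw [mem_centralizer_iff]
      intro b hb
      exact (hcomm a ha b hb).symm
    · intro a ha
      rw [mem_centralizer_iff]
      intro b hb
      exact (hP₂comm a ha b hb).symm
  -- every element of `P` is a product
  have hP₂norm : P₁ ≤ normalizer (P₂ : Set G) := by
    intro a ha
    rw [mem_normalizer_iff]
    intro b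
    have key : ∀ c ∈ P₂, a * c * a⁻¹ = c := by
      intro c hc
      rw [hcomm a ha c hc, mul_inv_cancel_right]
    constructor
    · intro hb
      rw [key b hb]; exact hb
    · intro hb
      have h2 := key _ hb
      have h3 : b = a⁻¹ * (a * b * a⁻¹) * a := by group
      have h4 : a⁻¹ * (a * b * a⁻¹) * a = a * b * a⁻¹ := by
        have h5 := hcomm a ha _ hb
        calc a⁻¹ * (a * b * a⁻¹) * a = a⁻¹ * ((a * b * a⁻¹) * a) := by group
          _ = a⁻¹ * (a * (a * b * a⁻¹)) := by rw [h5]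
          _ = a * b * a⁻¹ := by group
      rw [h3, h4]; exact hb
  have hmem : ∀ x ∈ P, ∃ a ∈ P₁, ∃ b ∈ P₂, x = a * b := by
    intro x hx
    rw [← hsup, ← SetLike.mem_coe, coe_mul_of_left_le_normalizer_right P₁ P₂ hP₂norm] at hx
    obtain ⟨a, ha, b, hb, rfl⟩ := Set.mem_mul.mp hx
    exact ⟨a, ha, b, hb, rfl⟩
  -- `Z(P) ≤ P₂`
  have hZle : P ⊓ centralizer (P : Set G) ≤ P₂ := by
    intro z hz
    obtain ⟨hzP, hzc⟩ := Subgroup.mem_inf.mp hz
    obtain ⟨a, ha, b, hb, rfl⟩ := hmem z hzP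
    have hbc : b ∈ centralizer (P : Set G) := hP₂cent hb
    have hac : a ∈ centralizer (P : Set G) := by
      have := (centralizer (P : Set G)).mul_mem hzc ((centralizer (P : Set G)).inv_mem hbc)
      rwa [mul_inv_cancel_right] at this
    have ha1 : a ∈ P₁ ⊓ centralizer (P₁ : Set G) :=
      Subgroup.mem_inf.mpr ⟨ha, centralizer_le (SetLike.coe_subset_coe.mpr hP₁P) hac⟩
    rw [← hclos] at ha1
    have hcl : closure {x : G | x ∈ P₂ ∧ x ^ p = 1} ≤ P₂ :=
      (closure_le P₂).mpr (fun x hx => hx.1)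
    exact P₂.mul_mem (hcl ha1) hb
  have hZeq : P ⊓ centralizer (P : Set G) = P₂ :=
    le_antisymm hZle (le_inf hP₂P hP₂cent)
  -- `K` normalizes `Z(P) = P₂`
  have hKZ : K ≤ normalizer (P₂ : Set G) := by
    intro k hk
    have hkP := hKP hk
    rw [mem_normalizer_iff] at hkP
    have key : ∀ k' : G, (∀ h, h ∈ P ↔ k' * h * k'⁻¹ ∈ P) → ∀ z ∈ P₂, k' * z * k'⁻¹ ∈ P₂ := by
      intro k' hk' z hz
      rw [← hZeq] at hz ⊢
      obtain ⟨hzP, hzc⟩ := Subgroup.mem_inf.mp hz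
      refine Subgroup.mem_inf.mpr ⟨(hk' z).mp hzP, ?_⟩
      rw [mem_centralizer_iff]
      intro x hx
      have hx' : k'⁻¹ * x * k' ∈ P := by
        rw [hk' (k'⁻¹ * x * k')]
        have : k' * (k'⁻¹ * x * k') * k'⁻¹ = x := by group
        rw [this]; exact hx
      have h1 := (mem_centralizer_iff.mp hzc) _ hx'
      calc x * (k' * z * k'⁻¹) = k' * ((k'⁻¹ * x * k') * z) * k'⁻¹ := by group
        _ = k' * (z * (k'⁻¹ * x * k')) * k'⁻¹ := by rw [h1]
        _ = k' * z * k'⁻¹ * x := by group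
    rw [mem_normalizer_iff]
    intro z
    constructor
    · exact key k hkP z
    · intro hz
      have hkinv : ∀ h, h ∈ P ↔ k⁻¹ * h * k⁻¹⁻¹ ∈ P := by
        intro h
        rw [hkP (k⁻¹ * h * k⁻¹⁻¹)]
        have : k * (k⁻¹ * h * k⁻¹⁻¹) * k⁻¹ = h := by group
        rw [this]
      have := key k⁻¹ hkinv _ hz
      have h2 : k⁻¹ * (k * z * k⁻¹) * k⁻¹⁻¹ = z := by group
      rwa [h2] at this
  -- coprimality
  have hP₂p : IsPGroup p P₂ := hP.to_le hP₂P
  obtain ⟨n, hn⟩ := IsPGroup.iff_card.mp hP₂p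
  have hcop2 : (Nat.card K).Coprime (Nat.card P₂) := by
    rw [hn]; exact Nat.Coprime.pow_right n hcop
  -- the fixed points
  set C : Subgroup G := P ⊓ centralizer (K : Set G) with hC
  have hCP₂ : C ≤ P₂ := by
    rw [← hZeq]
    exact le_inf inf_le_left hfixc
  haveI : Group.IsSolvable P₂ := by
    haveI : IsMulCommutative P₂ := hP₂mc
    letI : CommGroup P₂ := { (inferInstance : Group P₂) with mul_comm := fun a b => mul_comm' a b }
    infer_instance
  have hdecomp := Cfsg.Agent.Helper52.eq_commutator_sup_centralizer P₂ K hKZ hcop2 (Or.inr inferInstance)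
  have hbot := Cfsg.Agent.Helper1.ZCoprime.commutator_inf_centralizer_eq_bot K P₂ hKZ hcop2
  have hDle : ⁅P₂, K⁆ ≤ P₂ := by
    conv_rhs => rw [hdecomp]
    exact le_sup_left
  -- `[P₂, K] = 1`
  have hD : ⁅P₂, K⁆ = ⊥ := by
    by_contra hne
    have hDp : IsPGroup p (⁅P₂, K⁆ : Subgroup G) := hP₂p.to_le hDle
    have hnt : Nontrivial (⁅P₂, K⁆ : Subgroup G) := (Subgroup.nontrivial_iff_ne_bot _).mpr hne
    obtain ⟨m, hm⟩ := IsPGroup.iff_card.mp hDp
    have hm0 : m ≠ 0 := by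
      rintro rfl
      rw [pow_zero] at hm
      have := (Nat.card_eq_one_iff_unique.mp hm).1
      exact not_subsingleton _ this
    have hdvd : p ∣ Nat.card (⁅P₂, K⁆ : Subgroup G) := by
      rw [hm]; exact dvd_pow_self p hm0
    obtain ⟨d, hd⟩ := exists_prime_orderOf_dvd_card' p hdvd
    have hdP₂ : zpowers (d : G) ≤ P₂ := by
      rw [zpowers_le]; exact hDle d.2
    have hcardz : Nat.card (zpowers (d : G)) = p := by
      rw [Nat.card_zpowers, Subgroup.orderOf_coe, hd]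
    have heq : zpowers (d : G) = C :=
      Cfsg.Agent.Helper76.EqOrd.eq_of_card_eq_of_le_isCyclic P₂ _ _ hdP₂ hCP₂ (by rw [hcardz, hfix])
    have hdC : (d : G) ∈ C := heq ▸ mem_zpowers (d : G)
    have hd1 : (d : G) ∈ ⁅P₂, K⁆ ⊓ centralizer (K : Set G) :=
      Subgroup.mem_inf.mpr ⟨d.2, (Subgroup.mem_inf.mp hdC).2⟩
    rw [hbot, Subgroup.mem_bot] at hd1
    have hd2 : d = 1 := Subtype.ext hd1
    rw [hd2, orderOf_one] at hd
    exact hpp.one_lt.ne hd
  -- `P₂ = C` has order `p`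
  have hP₂C : P₂ ≤ C := by
    have h1 : P₂ = P₂ ⊓ centralizer (K : Set G) := by
      conv_lhs => rw [hdecomp, hD, bot_sup_eq]
    rw [h1]
    exact inf_le_inf_right _ hP₂P
  have hP₂eq : P₂ = C := le_antisymm hP₂C hCP₂
  have hP₂card : Nat.card P₂ = p := by rw [hP₂eq]; exact hfix
  -- `P₂ ≤ P₁`
  have hP₂P₁ : P₂ ≤ P₁ := by
    have h1 : P₂ ≤ closure {x : G | x ∈ P₂ ∧ x ^ p = 1} := by
      intro x hx
      apply Subgroup.subset_closure
      refine ⟨hx, ?_⟩
      have h2 : (⟨x, hx⟩ : P₂) ^ Nat.card P₂ = 1 := pow_card_eq_one'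
      rw [hP₂card] at h2
      exact congrArg Subtype.val h2
    rw [hclos] at h1
    exact h1.trans inf_le_left
  have hPeq : P = P₁ := by
    rw [← hsup]; exact sup_eq_left.mpr hP₂P₁
  rw [hPeq]; exact hc1

end Cfsg.Agent.Helper86.BG157
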