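import Mathlib
import Cfsg.Prelude.Def_OddOrderLocal
import Cfsg.Agent.Lib.Helper73.BG161Defs
import Cfsg.Agent.Lib.Helper35.BG153Defs
import Cfsg.Agent.Lib.Helper34.BG10b
import Cfsg.Agent.Lib.Helper55.BGFit
import Cfsg.Agent.Lib.Helper60.BG144b

/-!
# B–G Corollary 15.3(b), part (3) (piece (B) of helper35's BG153 lemma server for S1356)

`κ(M) ≠ ∅ → F(M) ≤ M'`, with the earlier rows as explicit hypotheses.
-/

set_option autoImplicit false

namespace Cfsg.Agent.Helper86.BG153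

open Subgroup Cfsg
open Cfsg.Agent.Helper73.BG161 (T1350 T1352 T1365 T1420 T1430 T1437)
open Cfsg.Agent.Helper35.BG153 (T1351 T1355 T1438 T1439)

/-- PURE: if `M = M' K` then every element of `M` of order coprime to `|K|` lies in `M'`
(the abelianization of `M` is an image of `K`). -/
theorem mem_commutator_of_coprime {G : Type*} [Group G] {M K : Subgroup G} (hKM : K ≤ M)
    (hgen : M ≤ ⁅M, M⁆ ⊔ K) {c : G} (hcM : c ∈ M)
    (hcop : (orderOf c).Coprime (Nat.card K)) : c ∈ ⁅M, M⁆ := by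
  classical
  let f : ↥K →* Abelianization ↥M := (Abelianization.of).comp (Subgroup.inclusion hKM)
  let T' : Subgroup G := (f.range.comap (Abelianization.of)).map M.subtype
  have hcomm : ⁅M, M⁆ ≤ T' := by
    intro x hx
    rw [← Subgroup.map_subtype_commutator] at hx
    obtain ⟨y, hy, rfl⟩ := hx
    refine ⟨y, ?_, rfl⟩
    show Abelianization.of y ∈ f.range
    have h1 : Abelianization.of y = 1 := by
      rw [← MonoidHom.mem_ker, Abelianization.ker_of]
      exact hy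
    rw [h1]
    exact one_mem _
  have hK : K ≤ T' := by
    intro k hk
    refine ⟨⟨k, hKM hk⟩, ?_, rfl⟩
    show Abelianization.of (⟨k, hKM hk⟩ : ↥M) ∈ f.range
    exact ⟨⟨k, hk⟩, rfl⟩
  have hMT : M ≤ T' := hgen.trans (sup_le hcomm hK)
  obtain ⟨y, hy, hyc⟩ := hMT hcM
  obtain ⟨k, hk⟩ : Abelianization.of y ∈ f.range := hy
  have hyo : orderOf y = orderOf c := by
    rw [← hyc]
    exact (Subgroup.orderOf_coe y).symm
  have h1 : orderOf (Abelianization.of y) ∣ orderOf c := hyo ▸ orderOf_map_dvd _ y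
  have h2 : orderOf (Abelianization.of y) ∣ Nat.card K := by
    rw [← hk]
    exact (orderOf_map_dvd f k).trans (orderOf_dvd_natCard k)
  have h3 : orderOf (Abelianization.of y) = 1 := Nat.eq_one_of_dvd_coprimes hcop h1 h2
  have h4 : Abelianization.of y = 1 := orderOf_eq_one_iff.mp h3
  have h5 : y ∈ commutator ↥M := by
    rw [← Abelianization.ker_of, MonoidHom.mem_ker]
    exact h4
  rw [← Subgroup.map_subtype_commutator, ← hyc]
  exact ⟨y, h5, rfl⟩

variable {G : Type*} [Group G] [Finite G]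

/-- **B–G Corollary 15.3(b), part (3)**: `κ(M) ≠ ∅ → F(M) ≤ M'`. -/
theorem fittingOf_le_commutator (hG : IsMinSimpleOddOrder G)
    (h1350 : T1350 G) (h1351 : T1351 G) (h1352 : T1352 G) (h1365 : T1365 G) (h1439 : T1439 G)
    (M : Subgroup G) (hM : IsCoatom M) (hκ : (Cfsg.kappa M).Nonempty) :
    Cfsg.fittingOf M ≤ ⁅M, M⁆ := by
  obtain ⟨⟨K, hK⟩, hcyc⟩ := h1351 M hM
  obtain ⟨⟨U, hKU⟩, -⟩ := h1352 M hM K (hcyc K hK) hK
  have hK1 : K ≠ ⊥ := by
    obtain ⟨q, hq⟩ := hκ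
    intro hb
    apply hK.2.2 q hq.1 hq
    rw [hb, Subgroup.relIndex_bot_left]
    exact hq.2.1
  obtain ⟨hM', -⟩ := h1365 M hM K U hKU hK1
  obtain ⟨-, hτ, hF⟩ := h1439 M hM
  have hσ : Cfsg.sigmaCore M ≤ ⁅M, M⁆ := by rw [hM']; exact le_sup_right
  have hU : U ≤ ⁅M, M⁆ := by rw [hM']; exact le_sup_left
  have hgen : M ≤ ⁅M, M⁆ ⊔ K := by
    intro m hm
    obtain ⟨a, ha, b, hb, rfl⟩ := hKU.compl.2.2.2 m hm
    exact Subgroup.mul_mem _ (le_sup_left (a := ⁅M, M⁆) (hU ha))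
      ((sup_le le_sup_right (hσ.trans le_sup_left) : K ⊔ Cfsg.sigmaCore M ≤ ⁅M, M⁆ ⊔ K) hb)
  rw [hF]
  refine sup_le ?_ ?_
  · exact (Cfsg.Agent.Helper55.BGB.fittingOf_le (Cfsg.sigmaCore M)).trans hσ
  · intro c hc
    have hcF : c ∈ Cfsg.fittingOf M := by
      unfold Cfsg.piCoreOf at hc
      obtain ⟨y, -, rfl⟩ := hc
      exact y.2
    have hcM : c ∈ M := Cfsg.Agent.Helper55.BGB.fittingOf_le M hcF
    refine mem_commutator_of_coprime hK.1 hgen hcM ?_
    refine Nat.Coprime.symm (Nat.Coprime.symm (Nat.coprime_of_dvd ?_))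
    intro p hp hpc hpK
    have hpC : p ∣ Nat.card ↥(Cfsg.piCoreOf {q | q.Prime ∧ q ∉ Cfsg.sigma M} (Cfsg.fittingOf M)) := by
      refine hpc.trans ?_
      have := orderOf_dvd_natCard (⟨c, hc⟩ : ↥(Cfsg.piCoreOf {q | q.Prime ∧ q ∉ Cfsg.sigma M} (Cfsg.fittingOf M)))
      rwa [Subgroup.orderOf_mk] at this
    exact Cfsg.Agent.Helper60.BG144.not_mem_kappa_of_mem_tau2 (hτ p hp hpC) (hK.2.1 p hp hpK)

end Cfsg.Agent.Helper86.BG153
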