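import Mathlib
import Cfsg.Agent.Lib.Helper31.H2Defs

set_option autoImplicit false
set_option linter.style.haveILetI false

/-!
# H2 (S1): the lower set-up for an arbitrary `p`-soluble group
-/

namespace Cfsg.Agent.Helper86.H2

open Cfsg Cfsg.Agent.Helper31.H2 Cfsg.Agent.Helper31.HHB Cfsg.Agent.Helper48.Wreath

universe u

theorem setup_low {p : ℕ} [Fact p.Prime] (hS2 : SetupUp.{u} p) (G : Type u) [Group G] [Finite G]
    (hsol : IsPSolvable p G) :
    ∃ (W : Type u) (_ : CommGroup W) (_ : Finite W) (ψ : G ⧸ pPrimePCore p G →* MulAut W),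
      (∀ w : W, w ^ p = 1) ∧ Function.Injective ψ ∧
      ∀ n : ℕ, ExpLE p (n + 1) G → ∀ x : G, (∃ k : ℕ, x ^ p ^ k = 1) → ∀ w : W,
        ∏ j ∈ Finset.range (p ^ (n + 1)),
          ((ψ (QuotientGroup.mk' (pPrimePCore p G) x)) ^ j) w = 1 := by
  set K := pPrimeCore p G with hK
  have hsol' : IsPSolvable p (G ⧸ K) := Cfsg.Agent.Helper76.IsPSolvable.quotient hsol _
  have hbot : pPrimeCore p (G ⧸ K) = ⊥ := Cfsg.Agent.Helper55.pPrimeCore_quotient_eq_bot p
  obtain ⟨W, iW, fW, φ, cls, hWexp, hker, hsurj, heq⟩ := hS2 (G ⧸ K) hsol' hbot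
  haveI hPn : (pCore p (G ⧸ K)).Normal := Cfsg.pCore_normal p (G ⧸ K)
  have hPp : IsPGroup p (pCore p (G ⧸ K)) := Cfsg.Agent.Helper55.isPGroup_pCore
  set φ' : G →* MulAut W := φ.comp (QuotientGroup.mk' K) with hφ'
  have hkerφ' : φ'.ker = pPrimePCore p G := by
    ext g
    rw [MonoidHom.mem_ker]
    show φ (QuotientGroup.mk' K g) = 1 ↔ QuotientGroup.mk' K g ∈ pCore p (G ⧸ K)
    rw [← hker, MonoidHom.mem_ker]
  have hle : pPrimePCore p G ≤ φ'.ker := hkerφ'.ge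
  refine ⟨W, iW, fW, QuotientGroup.lift (pPrimePCore p G) φ' hle, hWexp, ?_, ?_⟩
  · rw [injective_iff_map_eq_one]
    intro g' hg'
    obtain ⟨g, rfl⟩ := QuotientGroup.mk_surjective g'
    have h1 : φ' g = 1 := hg'
    have h2 : g ∈ φ'.ker := MonoidHom.mem_ker.mpr h1
    rw [hkerφ'] at h2
    exact (QuotientGroup.eq_one_iff g).mpr h2
  · intro n hexp x hx w
    obtain ⟨v, rfl⟩ := hsurj w
    set xb : G ⧸ K := QuotientGroup.mk' K x with hxb
    have hψx : (QuotientGroup.lift (pPrimePCore p G) φ' hle)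
        (QuotientGroup.mk' (pPrimePCore p G) x) = φ xb := rfl
    rw [hψx]
    have hexp' : ExpLE p (n + 1) (G ⧸ K) := hexp.quotient K
    have hxbk : ∃ k : ℕ, xb ^ p ^ k = 1 := by
      obtain ⟨k, hk⟩ := hx
      exact ⟨k, by rw [hxb, ← map_pow, hk, map_one]⟩
    have hxN : xb ^ p ^ (n + 1) = 1 := hexp' xb hxbk
    have hind : ∀ m : ℕ, ∃ u : ↥(pCore p (G ⧸ K)), (u : G ⧸ K) = ((v : G ⧸ K) * xb) ^ m * (xb ^ m)⁻¹ ∧
        ∏ j ∈ Finset.range m, ((φ xb) ^ j) (cls v) = cls u := by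
      intro m
      induction m with
      | zero => exact ⟨1, by simp, by simp⟩
      | succ m ih =>
        obtain ⟨u, hu1, hu2⟩ := ih
        refine ⟨u * ⟨xb ^ m * v * (xb ^ m)⁻¹, hPn.conj_mem _ v.2 _⟩, ?_, ?_⟩
        · rw [Subgroup.coe_mul, hu1]
          show ((v : G ⧸ K) * xb) ^ m * (xb ^ m)⁻¹ * (xb ^ m * (v : G ⧸ K) * (xb ^ m)⁻¹) = _
          rw [pow_succ, pow_succ]
          group
        · rw [Finset.prod_range_succ, hu2, ← map_pow, heq, map_mul]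
    obtain ⟨u, hu1, hu2⟩ := hind (p ^ (n + 1))
    rw [hu2]
    have hvx : ∃ k : ℕ, ((v : G ⧸ K) * xb) ^ p ^ k = 1 := by
      have hZ : IsPGroup p (Subgroup.zpowers xb) := by
        obtain ⟨k, hk⟩ := hxbk
        rintro ⟨g, hg⟩
        obtain ⟨i, rfl⟩ := Subgroup.mem_zpowers_iff.mp hg
        refine ⟨k, ?_⟩
        apply Subtype.ext
        rw [Subgroup.coe_pow]
        show (xb ^ i) ^ p ^ k = 1
        rw [← zpow_natCast, ← zpow_mul, mul_comm, zpow_mul, zpow_natCast, hk, one_zpow]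
      have hsup : IsPGroup p (pCore p (G ⧸ K) ⊔ Subgroup.zpowers xb : Subgroup (G ⧸ K)) :=
        IsPGroup.to_sup_of_normal_left hPp hZ
      have hmem : (v : G ⧸ K) * xb ∈ pCore p (G ⧸ K) ⊔ Subgroup.zpowers xb :=
        Subgroup.mul_mem _ (Subgroup.mem_sup_left v.2)
          (Subgroup.mem_sup_right (Subgroup.mem_zpowers xb))
      obtain ⟨k, hk⟩ := hsup ⟨(v : G ⧸ K) * xb, hmem⟩
      refine ⟨k, ?_⟩
      have := congrArg Subtype.val hk
      rwa [Subgroup.coe_pow] at this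
    rw [hexp' _ hvx, hxN, inv_one, mul_one] at hu1
    have hu : u = 1 := Subtype.ext hu1
    rw [hu, map_one]

end Cfsg.Agent.Helper86.H2
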