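import Mathlib
import Cfsg.Prelude.Def_FusionSystem
import Cfsg.Agent.Lib.Helper84.GrpFus

set_option autoImplicit false

/-! Saturation of `F_T(K)` for `T` a Sylow `p`-subgroup of the subgroup `K` (relative version of
Helper84's `gfs_saturated`). -/

namespace Cfsg.Agent.Helper86

open Cfsg Cfsg.FusionSystem Cfsg.Agent.Helper84
open scoped Pointwise

variable {G : Type*} [Group G]

theorem fsos_isConj_iff (K T : Subgroup G) (hTK : T ≤ K) (P Q : Subgroup G) :
    (fusionSystemOfSubgroup K T hTK).IsConj P Q ↔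
      P ≤ T ∧ Q ≤ T ∧ ∃ g ∈ K, P.map (MulAut.conj g).toMonoidHom = Q := by
  constructor
  · rintro ⟨φ, ⟨hPS, hφS, g, hgK, hg⟩, rfl⟩
    refine ⟨hPS, ?_, g, hgK, ?_⟩
    · rintro _ ⟨x, rfl⟩
      exact hφS x
    · ext y
      constructor
      · rintro ⟨x, hx, rfl⟩
        exact ⟨⟨x, hx⟩, hg _⟩
      · rintro ⟨x, rfl⟩
        exact ⟨x, x.2, (hg x).symm⟩
  · rintro ⟨hPS, hQS, g, hgK, rfl⟩
    refine ⟨conjHom P g, ⟨hPS, fun x => hQS ⟨x, x.2, rfl⟩, g, hgK, fun x => rfl⟩, ?_⟩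
    ext y
    constructor
    · rintro ⟨x, rfl⟩
      exact ⟨x, x.2, rfl⟩
    · rintro ⟨x, hx, rfl⟩
      exact ⟨⟨x, hx⟩, rfl⟩

theorem fsos_autGroup_eq (K T : Subgroup G) (hTK : T ≤ K) (Q : Subgroup G) (hQ : Q ≤ T) :
    (fusionSystemOfSubgroup K T hTK).autGroup Q = autInducedBy K Q := by
  ext α
  rw [Cfsg.Agent.Helper84.mem_autGroup_iff _ hQ, Cfsg.Agent.Helper84.mem_autInducedBy_iff]
  constructor
  · rintro ⟨-, -, g, hgK, hg⟩
    exact ⟨g, hgK, fun x => hg x⟩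
  · rintro ⟨g, hgK, hg⟩
    exact ⟨hQ, fun x => hQ (α x).2, g, hgK, fun x => hg x⟩

theorem le_normalizer_centralizerIn (K Q : Subgroup G) :
    normalizerIn K Q ≤ Subgroup.normalizer ((centralizerIn K Q : Subgroup G) : Set G) := by
  intro n hn
  have hnK : n ∈ K := hn.1
  have hnN : n ∈ Subgroup.normalizer ((Subgroup.centralizer (Q : Set G) : Subgroup G) : Set G) :=
    normalizer_le_normalizer_centralizer Q hn.2
  rw [Subgroup.mem_normalizer_iff] at hnN ⊢
  intro x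
  constructor
  · rintro ⟨hxK, hxC⟩
    exact ⟨K.mul_mem (K.mul_mem hnK hxK) (K.inv_mem hnK), (hnN x).1 hxC⟩
  · rintro ⟨hxK, hxC⟩
    refine ⟨?_, (hnN x).2 hxC⟩
    have : x = n⁻¹ * (n * x * n⁻¹) * n := by group
    rw [this]
    exact K.mul_mem (K.mul_mem (K.inv_mem hnK) hxK) hnK

variable [Finite G] {p : ℕ} [Fact p.Prime]

/-- Every subgroup of `T` has a `K`-conjugate in `T` whose `T`-normalizer is Sylow in its `K`-normalizer. -/
theorem exists_conj_normalizer_sylow_rel {K T : Subgroup G} (hT : IsSylIn p T K) (P : Subgroup G)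
    (hP : P ≤ T) :
    ∃ g ∈ K, P.map (MulAut.conj g).toMonoidHom ≤ T ∧
      IsSylIn p (normalizerIn T (P.map (MulAut.conj g).toMonoidHom))
        (normalizerIn K (P.map (MulAut.conj g).toMonoidHom)) := by
  have hNTp : IsPGroup p (normalizerIn T P) := hT.2.1.to_le inf_le_left
  have hNle : normalizerIn T P ≤ normalizerIn K P := inf_le_inf_right _ hT.1
  obtain ⟨T₁, hT1, hT₁⟩ := exists_isSylIn_ge hNle hNTp
  obtain ⟨h, hhK, hle⟩ := hT.exists_conj_ge (hT₁.1.trans inf_le_left) hT₁.2.1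
  have hPT₁ : P ≤ T₁ := (le_inf hP Subgroup.le_normalizer).trans hT1
  have hT₁T : T₁.map (MulAut.conj h⁻¹).toMonoidHom ≤ T := by
    have := Subgroup.map_mono (f := (MulAut.conj h⁻¹).toMonoidHom) hle
    rwa [map_conj_map_conj_inv] at this
  refine ⟨h⁻¹, K.inv_mem hhK, (Subgroup.map_mono hPT₁).trans hT₁T, ?_⟩
  have h1 := hT₁.map_conj h⁻¹
  rw [normalizerIn_map_conj, map_conj_eq_self_of_mem (K.inv_mem hhK)] at h1
  have h2 := normalizerIn_map_conj_le T P h⁻¹ T₁ (hT₁.1.trans inf_le_right) hT₁T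
  exact h1.of_card_ge (inf_le_inf_right _ hT.1) (hT.2.1.to_le inf_le_left) (Subgroup.card_le_of_le h2)

/-- If `N_T(Q)` is Sylow in `N_K(Q)` then `Aut_T(Q)` is Sylow in `Aut_K(Q)`. -/
theorem autInduced_sylow_rel {K T Q : Subgroup G}
    (h : IsSylIn p (normalizerIn T Q) (normalizerIn K Q)) :
    IsSylIn p (autInducedBy T Q) (autInducedBy K Q) := by
  have hle : normalizerIn K Q ≤ Subgroup.normalizer (Q : Set G) := inf_le_right
  let π : normalizerIn K Q →* MulAut Q := Q.normalizerMonoidHom.comp (Subgroup.inclusion hle)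
  obtain ⟨R, hR⟩ := h.exists_sylow
  have h1 : IsSylIn p ((normalizerIn T Q).subgroupOf (normalizerIn K Q)) ⊤ := by
    refine ⟨le_top, hR ▸ R.isPGroup', ?_⟩
    rw [Subgroup.relIndex_top_right, ← hR]
    exact R.not_dvd_index
  have h2 := isSylIn_map_of_sylow π h1
  have e1 : autInducedBy T Q = ((normalizerIn T Q).subgroupOf (normalizerIn K Q)).map π := by
    ext α
    rw [Cfsg.Agent.Helper84.mem_autInducedBy_iff]
    constructor
    · rintro ⟨g, hg, e⟩
      have hgN := mem_normalizer_of_autInduced e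
      refine ⟨⟨g, h.1 ⟨hg, hgN⟩⟩, Subgroup.mem_subgroupOf.2 ⟨hg, hgN⟩, ?_⟩
      ext x
      rw [e]
      rfl
    · rintro ⟨n, hn, rfl⟩
      exact ⟨n, (Subgroup.mem_subgroupOf.1 hn).1, fun x => rfl⟩
  have e2 : autInducedBy K Q = π.range := by
    ext α
    rw [Cfsg.Agent.Helper84.mem_autInducedBy_iff]
    constructor
    · rintro ⟨g, hg, e⟩
      have hgN := mem_normalizer_of_autInduced e
      refine ⟨⟨g, ⟨hg, hgN⟩⟩, ?_⟩
      ext x
      rw [e]
      rfl
    · rintro ⟨n, rfl⟩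
      exact ⟨n, n.2.1, fun x => rfl⟩
  rw [e1, e2]
  exact h2

/-- Sylow extension lemma, relative version. -/
theorem sylow_extension_rel (K T P Q : Subgroup G) (g : G)
    (hN : IsSylIn p (normalizerIn T Q) (normalizerIn K Q))
    (hp : IsPGroup p (normalizerIn T P)) :
    ∃ h ∈ centralizerIn K Q,
      ((normalizerIn T P) ⊓ (normalizerIn T Q ⊔ centralizerIn K Q).comap
        (MulAut.conj g).toMonoidHom).map (MulAut.conj (h * g)).toMonoidHom ≤ normalizerIn T Q := by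
  set M := normalizerIn T Q ⊔ centralizerIn K Q with hM
  have hMle : M ≤ normalizerIn K Q :=
    sup_le hN.1 (le_inf inf_le_left (inf_le_right.trans (Subgroup.centralizer_le_normalizer _)))
  have hsylM : IsSylIn p (normalizerIn T Q) M := hN.of_le le_sup_left hMle
  set N := (normalizerIn T P) ⊓ M.comap (MulAut.conj g).toMonoidHom with hNdef
  have hNp : IsPGroup p (N.map (MulAut.conj g).toMonoidHom) := (hp.to_inf_left).map _
  have hNM : N.map (MulAut.conj g).toMonoidHom ≤ M := by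
    rintro _ ⟨x, hx, rfl⟩
    exact hx.2
  have hfinM : Finite M := inferInstance
  obtain ⟨m, hm, hle⟩ := hsylM.exists_conj_ge hNM hNp
  have hm' : m⁻¹ ∈ M := M.inv_mem hm
  have hcoe : ((M : Subgroup G) : Set G) =
      (normalizerIn T Q : Set G) * (centralizerIn K Q : Set G) :=
    Subgroup.coe_mul_of_left_le_normalizer_right _ _
      (hN.1.trans (le_normalizer_centralizerIn K Q))
  have hm'' : m⁻¹ ∈ ((M : Subgroup G) : Set G) := hm'
  rw [hcoe] at hm''
  obtain ⟨s', hs', c', hc', hsc⟩ := hm''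
  refine ⟨c', hc', ?_⟩
  rintro _ ⟨x, hx, rfl⟩
  obtain ⟨y, hy, hyx⟩ := hle ⟨x, hx, rfl⟩
  have hmeq : m = c'⁻¹ * s'⁻¹ := by
    have : m = (m⁻¹)⁻¹ := by simp
    rw [this, ← hsc]
    simp
  have key : (MulAut.conj (c' * g)).toMonoidHom x = s'⁻¹ * y * s' := by
    have h1 : g * x * g⁻¹ = m * y * m⁻¹ := by
      simpa [MulAut.conj_apply] using hyx.symm
    simp only [MulEquiv.coe_toMonoidHom, MulAut.conj_apply, mul_inv_rev]
    have h2 : c' * g * x * (g⁻¹ * c'⁻¹) = c' * (g * x * g⁻¹) * c'⁻¹ := by group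
    rw [h2, h1, hmeq]
    group
  rw [key]
  exact (normalizerIn T Q).mul_mem ((normalizerIn T Q).mul_mem ((normalizerIn T Q).inv_mem hs') hy) hs'

theorem fsos_fullyAutomized_of_normalizer_sylow {K T Q : Subgroup G} (hTK : T ≤ K) (hQ : Q ≤ T)
    (h : IsSylIn p (normalizerIn T Q) (normalizerIn K Q)) :
    (fusionSystemOfSubgroup K T hTK).IsFullyAutomized p Q := by
  refine ⟨hQ, ?_⟩
  rw [fsos_autGroup_eq K T hTK Q hQ]
  exact (autInduced_sylow_rel h).exists_sylow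

theorem fsos_receptive_of_normalizer_sylow {K T Q : Subgroup G} (hTK : T ≤ K) (hQ : Q ≤ T)
    (hT : IsPGroup p T)
    (h : IsSylIn p (normalizerIn T Q) (normalizerIn K Q)) :
    (fusionSystemOfSubgroup K T hTK).IsReceptive Q := by
  refine ⟨hQ, ?_⟩
  rintro P φ ⟨hPS, hφS, k, hkK, hk⟩ hr
  have hQk : P.map (MulAut.conj k).toMonoidHom = Q := by
    rw [← hr]
    ext y
    constructor
    · rintro ⟨x, hx, rfl⟩
      exact ⟨⟨x, hx⟩, hk _⟩
    · rintro ⟨x, rfl⟩
      exact ⟨x, x.2, (hk x).symm⟩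
  obtain ⟨c', hc', hle⟩ := sylow_extension_rel K T P Q k h (hT.to_le inf_le_left)
  have hext : extender T P φ ≤ (normalizerIn T P) ⊓
      (normalizerIn T Q ⊔ centralizerIn K Q).comap (MulAut.conj k).toMonoidHom := by
    apply (Subgroup.closure_le _).mpr
    rintro x ⟨hxS, hxN, h', hh'S, hh'⟩
    refine ⟨⟨hxS, hxN⟩, ?_⟩
    show k * x * k⁻¹ ∈ normalizerIn T Q ⊔ centralizerIn K Q
    have hkxN : k * x * k⁻¹ ∈ Subgroup.normalizer (Q : Set G) := by
      rw [← hQk, normalizer_map_conj]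
      exact ⟨x, hxN, rfl⟩
    have hcen : h'⁻¹ * (k * x * k⁻¹) ∈ Subgroup.centralizer (Q : Set G) := by
      rw [Subgroup.mem_centralizer_iff]
      intro z hz
      rw [← hQk] at hz
      obtain ⟨y, hy, rfl⟩ := hz
      have hxy : x * y * x⁻¹ ∈ P := (Subgroup.mem_normalizer_iff.mp hxN y).mp hy
      have := hh' ⟨y, hy⟩ hxy
      rw [hk, hk] at this
      simp only [MulEquiv.coe_toMonoidHom, MulAut.conj_apply]
      have e : k * (x * y * x⁻¹) * k⁻¹ = h' * (k * y * k⁻¹) * h'⁻¹ := this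
      have e2 : k * y * k⁻¹ = h'⁻¹ * (k * (x * y * x⁻¹) * k⁻¹) * h' := by rw [e]; group
      calc k * y * k⁻¹ * (h'⁻¹ * (k * x * k⁻¹))
          = h'⁻¹ * (k * (x * y * x⁻¹) * k⁻¹) * h' * (h'⁻¹ * (k * x * k⁻¹)) := by rw [← e2]
        _ = h'⁻¹ * (k * x * k⁻¹) * (k * y * k⁻¹) := by group
    have hcenK : h'⁻¹ * (k * x * k⁻¹) ∈ K :=
      K.mul_mem (K.inv_mem (hTK hh'S)) (K.mul_mem (K.mul_mem hkK (hTK hxS)) (K.inv_mem hkK))
    have hh'N : h' ∈ Subgroup.normalizer (Q : Set G) := by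
      have h1 : h' = (k * x * k⁻¹) * (h'⁻¹ * (k * x * k⁻¹))⁻¹ := by group
      rw [h1]
      exact Subgroup.mul_mem _ hkxN (Subgroup.inv_mem _ (Subgroup.centralizer_le_normalizer _ hcen))
    have h2 : k * x * k⁻¹ = h' * (h'⁻¹ * (k * x * k⁻¹)) := by group
    rw [h2]
    exact Subgroup.mul_mem _ ((le_sup_left : normalizerIn T Q ≤ _) ⟨hh'S, hh'N⟩)
      ((le_sup_right : centralizerIn K Q ≤ _) ⟨hcenK, hcen⟩)
  have hextS : extender T P φ ≤ T := hext.trans (inf_le_left.trans inf_le_left)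
  refine ⟨conjHom (extender T P φ) (c' * k),
    ⟨hextS, ?_, c' * k, K.mul_mem hc'.1 hkK, fun x => rfl⟩, ?_⟩
  · intro x
    have : (MulAut.conj (c' * k)).toMonoidHom x ∈ normalizerIn T Q := hle ⟨x, hext x.2, rfl⟩
    exact this.1
  · intro x hxP hxN
    rw [hk]
    show c' * k * x * (c' * k)⁻¹ = k * x * k⁻¹
    have hz : k * x * k⁻¹ ∈ Q := by
      rw [← hQk]; exact ⟨x, hxP, rfl⟩
    have := hc'.2 (k * x * k⁻¹) hz
    calc c' * k * x * (c' * k)⁻¹ = c' * (k * x * k⁻¹) * c'⁻¹ := by group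
      _ = (k * x * k⁻¹) * c' * c'⁻¹ := by rw [← this]
      _ = k * x * k⁻¹ := by group

/-- `F_T(K)` is saturated when `T` is a Sylow `p`-subgroup of `K`. -/
theorem fsos_saturated {K T : Subgroup G} (hTK : T ≤ K) (hT : IsSylIn p T K) :
    (fusionSystemOfSubgroup K T hTK).IsSaturated p := by
  intro P hP
  obtain ⟨g, hgK, hgS, hg⟩ := exists_conj_normalizer_sylow_rel hT P hP
  exact ⟨_, (fsos_isConj_iff _ _ _ _ _).mpr ⟨hP, hgS, g, hgK, rfl⟩,
    fsos_fullyAutomized_of_normalizer_sylow hTK hgS hg,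
    fsos_receptive_of_normalizer_sylow hTK hgS hT.2.1 hg⟩

end Cfsg.Agent.Helper86
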