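import Mathlib

set_option autoImplicit false

/-! Coprime action in automorphism form: fixed points in invariant cosets, generation of `O^p` by elements of
prime power order. -/

namespace Cfsg.Agent.Helper86

/-- the automorphisms `β` of `P` with `x⁻¹ β(x) ∈ M` for all `x` -/
def commStab {P : Type*} [Group P] (M : Subgroup P) : Subgroup (MulAut P) where
  carrier := {β | ∀ x : P, x⁻¹ * β x ∈ M}
  one_mem' := fun x => by simp
  mul_mem' := by
    intro β₁ β₂ h1 h2 x
    have : x⁻¹ * (β₁ * β₂) x = (x⁻¹ * β₂ x) * ((β₂ x)⁻¹ * β₁ (β₂ x)) := by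
      rw [MulAut.mul_apply]; group
    rw [this]
    exact M.mul_mem (h2 x) (h1 _)
  inv_mem' := by
    intro β h x
    have : x⁻¹ * β⁻¹ x = ((β⁻¹ x)⁻¹ * β (β⁻¹ x))⁻¹ := by
      rw [MulAut.apply_inv_self]; group
    rw [this]
    exact M.inv_mem (h _)

theorem mem_commStab {P : Type*} [Group P] {M : Subgroup P} {β : MulAut P} :
    β ∈ commStab M ↔ ∀ x : P, x⁻¹ * β x ∈ M := Iff.rfl

theorem commStab_map_mem {P : Type*} [Group P] {M : Subgroup P} {β : MulAut P} (h : β ∈ commStab M)
    {m : P} (hm : m ∈ M) : β m ∈ M := by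
  have := M.mul_mem hm (h m)
  rwa [mul_inv_cancel_left] at this

/-- fixed points lift: an automorphism of prime power order `q^k` acting trivially modulo a subgroup `M` of order
prime to `q` fixes an element in every coset of `M`. -/
theorem exists_fixed_mul {q : ℕ} [Fact q.Prime] {P : Type*} [Group P] [Finite P] (α : MulAut P) (k : ℕ)
    (hα : α ^ (q ^ k) = 1) (M : Subgroup P) (hM : (Nat.card M).Coprime q) (hcomm : α ∈ commStab M)
    (x : P) : ∃ m ∈ M, α (x * m) = x * m := by
  classical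
  have hZ : IsPGroup q (Subgroup.zpowers α) := by
    rintro ⟨β, hβ⟩
    obtain ⟨j, rfl⟩ := Subgroup.mem_zpowers_iff.1 hβ
    refine ⟨k, Subtype.ext ?_⟩
    show (α ^ j) ^ (q ^ k) = 1
    rw [← zpow_natCast, ← zpow_mul, mul_comm, zpow_mul, zpow_natCast, hα, one_zpow]
  have hle : Subgroup.zpowers α ≤ commStab M := (Subgroup.zpowers_le).2 hcomm
  letI : MulAction (Subgroup.zpowers α) M :=
    { smul := fun β m => ⟨x⁻¹ * (β : MulAut P) (x * m), by
        have h1 : x⁻¹ * (β : MulAut P) (x * m) = (x⁻¹ * (β : MulAut P) x) * (β : MulAut P) m := by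
          rw [map_mul]; group
        rw [h1]
        exact M.mul_mem (hle β.2 x) (commStab_map_mem (hle β.2) m.2)⟩
      one_smul := by
        intro m
        apply Subtype.ext
        show x⁻¹ * ((1 : MulAut P)) (x * m) = m
        simp
      mul_smul := by
        intro β₁ β₂ m
        apply Subtype.ext
        show x⁻¹ * ((β₁ : MulAut P) * (β₂ : MulAut P)) (x * m) =
          x⁻¹ * (β₁ : MulAut P) (x * (x⁻¹ * (β₂ : MulAut P) (x * m)))
        rw [MulAut.mul_apply, mul_inv_cancel_left] }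
  have hnd : ¬ q ∣ Nat.card M := by
    intro hd
    have := Nat.Coprime.eq_one_of_dvd hM.symm hd
    exact (Fact.out : q.Prime).one_lt.ne' this
  obtain ⟨m, hm⟩ := hZ.nonempty_fixed_point_of_prime_not_dvd_card M hnd
  refine ⟨m, m.2, ?_⟩
  have h1 := hm ⟨α, Subgroup.mem_zpowers α⟩
  have h2 : x⁻¹ * α (x * m) = m := congrArg Subtype.val h1
  calc α (x * m) = x * (x⁻¹ * α (x * m)) := by group
    _ = x * m := by rw [h2]

/-- an element of order prime to `p` is a product of elements of prime power order `q^k`, `q ≠ p` -/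
theorem mem_closure_primePow {p : ℕ} [hp : Fact p.Prime] {A : Type*} [Group A] [Finite A] (g : A)
    (hg : (orderOf g).Coprime p) :
    g ∈ Subgroup.closure {h : A | ∃ q k : ℕ, q.Prime ∧ q ≠ p ∧ h ^ (q ^ k) = 1} := by
  suffices H : ∀ n : ℕ, ∀ g : A, orderOf g = n → n.Coprime p →
      g ∈ Subgroup.closure {h : A | ∃ q k : ℕ, q.Prime ∧ q ≠ p ∧ h ^ (q ^ k) = 1} from H _ g rfl hg
  intro n
  induction n using Nat.strong_induction_on with
  | _ n ih =>
  intro g hgn hcop
  by_cases hn1 : n = 1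
  · have : g = 1 := orderOf_eq_one_iff.1 (hgn.trans hn1)
    rw [this]
    exact Subgroup.one_mem _
  have hnpos : 0 < n := hgn ▸ orderOf_pos g
  obtain ⟨q, hq, hqn⟩ := Nat.exists_prime_and_dvd hn1
  have hqp : q ≠ p := by
    rintro rfl
    have := Nat.Coprime.eq_one_of_dvd hcop.symm hqn
    exact hq.one_lt.ne' this
  obtain ⟨k, m, hm, hnkm⟩ := Nat.exists_eq_pow_mul_and_not_dvd hnpos.ne' q hq.ne_one
  have hk : 0 < k := by
    rcases Nat.eq_zero_or_pos k with h0 | h0
    · exfalso
      rw [h0, pow_zero, one_mul] at hnkm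
      exact hm (hnkm ▸ hqn)
    · exact h0
  have hcop2 : Nat.Coprime (q ^ k) m := Nat.Coprime.pow_left k ((Nat.Prime.coprime_iff_not_dvd hq).2 hm)
  -- Bezout
  have hbez : IsCoprime ((q ^ k : ℕ) : ℤ) (m : ℤ) := Nat.isCoprime_iff_coprime.2 hcop2
  obtain ⟨u, v, huv⟩ := hbez
  have hmpos : 0 < m := by
    rcases Nat.eq_zero_or_pos m with h0 | h0
    · rw [h0, mul_zero] at hnkm; omega
    · exact h0
  have hg1 : g = (g ^ (q ^ k)) ^ u * (g ^ m) ^ v := by
    rw [← zpow_natCast g (q ^ k), ← zpow_natCast g m, ← zpow_mul, ← zpow_mul, ← zpow_add]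
    have : ((q ^ k : ℕ) : ℤ) * u + (m : ℤ) * v = 1 := by rw [← huv]; ring
    rw [this, zpow_one]
  rw [hg1]
  apply Subgroup.mul_mem
  · apply Subgroup.zpow_mem
    have hord : orderOf (g ^ (q ^ k)) = m := by
      rw [orderOf_pow' g (pow_pos hq.pos k).ne', hgn, hnkm, Nat.gcd_eq_right (Dvd.intro _ rfl)]
      exact Nat.mul_div_cancel_left m (pow_pos hq.pos k)
    have hlt : m < n := by
      rw [hnkm]
      have : 1 < q ^ k := Nat.one_lt_pow hk.ne' hq.one_lt
      nlinarith
    exact ih m hlt _ hord (Nat.Coprime.coprime_dvd_left ⟨q ^ k, by rw [hnkm]; ring⟩ hcop)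
  · apply Subgroup.zpow_mem
    apply Subgroup.subset_closure
    refine ⟨q, k, hq, hqp, ?_⟩
    rw [← pow_mul, mul_comm, ← hnkm, ← hgn, pow_orderOf_eq_one]

end Cfsg.Agent.Helper86
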