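import Mathlib
import Cfsg.Prelude.Def_FusionSystem

set_option autoImplicit false

namespace Cfsg.Agent.Helper86

open Cfsg Cfsg.FusionSystem

variable {Ω : Type*} [Group Ω] {S : Subgroup Ω}

/-! ### Basic closure properties of the maps of a fusion system -/

theorem conjHom_apply (P : Subgroup Ω) (g : Ω) (x : P) : conjHom P g x = g * (x : Ω) * g⁻¹ := rfl

theorem conjHom_one (P : Subgroup Ω) : conjHom P (1 : Ω) = P.subtype := by
  ext x; simp [conjHom_apply]

theorem subtype_mem (F : FusionSystem S) {P : Subgroup Ω} (hP : P ≤ S) : P.subtype ∈ F.Hom P := by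
  have := F.conj_mem (P := P) (g := 1) hP S.one_mem
  rwa [conjHom_one] at this

theorem le_of_hom (F : FusionSystem S) {P : Subgroup Ω} {φ : P →* Ω} (h : φ ∈ F.Hom P) : P ≤ S :=
  (F.le_of_mem h).1

theorem hom_mem_S (F : FusionSystem S) {P : Subgroup Ω} {φ : P →* Ω} (h : φ ∈ F.Hom P) (x : P) : φ x ∈ S :=
  (F.le_of_mem h).2 x

/-- Restriction of a map of the system to a smaller subgroup. -/
theorem restrict_mem (F : FusionSystem S) {P Q : Subgroup Ω} (hPQ : P ≤ Q) {φ : Q →* Ω} (hφ : φ ∈ F.Hom Q) :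
    φ.comp (Subgroup.inclusion hPQ) ∈ F.Hom P := by
  have hQ := le_of_hom F hφ
  have h1 := subtype_mem F (hPQ.trans hQ)
  have h2 := F.comp_mem h1 hφ (fun x => hPQ x.2)
  convert h2 using 1
  ext x; rfl

/-- Transport of a map along an equality of sources. -/
theorem cast_mem (F : FusionSystem S) {P Q : Subgroup Ω} (h : P = Q) {φ : Q →* Ω} (hφ : φ ∈ F.Hom Q) :
    φ.comp (Subgroup.inclusion h.le) ∈ F.Hom P :=
  restrict_mem F h.le hφ

/-! ### Isomorphisms of the system -/

/-- The isomorphism `e : P ≃* Q` between subgroups of the ambient group is a map of the system. -/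
def IsIso (F : FusionSystem S) {P Q : Subgroup Ω} (e : P ≃* Q) : Prop :=
  Q.subtype.comp e.toMonoidHom ∈ F.Hom P

theorem IsIso.le_left {F : FusionSystem S} {P Q : Subgroup Ω} {e : P ≃* Q} (h : IsIso F e) : P ≤ S :=
  le_of_hom F h

theorem IsIso.le_right {F : FusionSystem S} {P Q : Subgroup Ω} {e : P ≃* Q} (h : IsIso F e) : Q ≤ S := by
  intro y hy
  have := hom_mem_S F h (e.symm ⟨y, hy⟩)
  simpa using this

theorem isIso_refl (F : FusionSystem S) {P : Subgroup Ω} (hP : P ≤ S) : IsIso F (MulEquiv.refl P) := by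
  unfold IsIso
  convert subtype_mem F hP using 1
  ext x; rfl

theorem IsIso.trans {F : FusionSystem S} {P Q R : Subgroup Ω} {e₁ : P ≃* Q} {e₂ : Q ≃* R}
    (h₁ : IsIso F e₁) (h₂ : IsIso F e₂) : IsIso F (e₁.trans e₂) := by
  unfold IsIso at *
  have h := F.comp_mem h₁ h₂ (fun x => by simp)
  convert h using 1
  ext x; rfl

/-- The isomorphism onto `Q` defined by an injective homomorphism with range `Q`. -/
noncomputable def isoOfHom {P Q : Subgroup Ω} (φ : P →* Ω) (hinj : Function.Injective φ) (hr : φ.range = Q) :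
    P ≃* Q :=
  (MonoidHom.ofInjective hinj).trans (MulEquiv.subgroupCongr hr)

@[simp] theorem isoOfHom_apply {P Q : Subgroup Ω} (φ : P →* Ω) (hinj : Function.Injective φ) (hr : φ.range = Q)
    (x : P) : ((isoOfHom φ hinj hr x : Q) : Ω) = φ x := rfl

theorem subtype_comp_isoOfHom {P Q : Subgroup Ω} (φ : P →* Ω) (hinj : Function.Injective φ) (hr : φ.range = Q) :
    Q.subtype.comp (isoOfHom φ hinj hr).toMonoidHom = φ := by
  ext x; rfl

theorem isIso_isoOfHom (F : FusionSystem S) {P Q : Subgroup Ω} {φ : P →* Ω} (hφ : φ ∈ F.Hom P)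
    (hr : φ.range = Q) : IsIso F (isoOfHom φ (F.injective_of_mem hφ) hr) := by
  unfold IsIso
  rw [subtype_comp_isoOfHom]
  exact hφ

theorem range_of_isIso {P Q : Subgroup Ω} (e : P ≃* Q) : (Q.subtype.comp e.toMonoidHom).range = Q := by
  ext y
  constructor
  · rintro ⟨x, rfl⟩
    exact (e x).2
  · intro hy
    exact ⟨e.symm ⟨y, hy⟩, by simp⟩

theorem IsIso.symm {F : FusionSystem S} {P Q : Subgroup Ω} {e : P ≃* Q} (h : IsIso F e) : IsIso F e.symm := by
  unfold IsIso at *
  obtain ⟨ψ, hψ, hψx⟩ := F.inv_mem h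
  have hr := range_of_isIso e
  have h2 := cast_mem F hr.symm hψ
  convert h2 using 1
  ext y
  obtain ⟨x, rfl⟩ := e.surjective y
  have := hψx x
  simp only [MonoidHom.coe_comp, Subgroup.coe_subtype, MulEquiv.coe_toMonoidHom, Function.comp_apply,
    MulEquiv.symm_apply_apply]
  rw [← this]
  rfl

/-- A map of the system with source `P`, restricted to `R ≤ P`, as an isomorphism onto its image. -/
theorem isIso_of_restrict (F : FusionSystem S) {P R Q : Subgroup Ω} (hRP : R ≤ P) {φ : P →* Ω}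
    (hφ : φ ∈ F.Hom P) (e : R ≃* Q) (he : ∀ x : R, ((e x : Q) : Ω) = φ (Subgroup.inclusion hRP x)) :
    IsIso F e := by
  unfold IsIso
  have := restrict_mem F hRP hφ
  convert this using 1
  ext x
  simpa using he x

theorem IsIso.hom_mem {F : FusionSystem S} {P Q : Subgroup Ω} {e : P ≃* Q} (h : IsIso F e)
    (φ : P →* Ω) (hφ : ∀ x : P, φ x = (e x : Ω)) : φ ∈ F.Hom P := by
  unfold IsIso at h
  convert h using 1
  ext x
  simpa using hφ x

end Cfsg.Agent.Helper86
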