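import Mathlib
import Cfsg.Prelude.Def_FusionSystem
import Cfsg.Agent.Lib.Helper86.FusionBasic

set_option autoImplicit false

namespace Cfsg.Agent.Helper86

open Cfsg Cfsg.FusionSystem

variable {Ω : Type*} [Group Ω] {S : Subgroup Ω}

/-! ### `Aut_F(P)` as a set -/

theorem isIso_mul {F : FusionSystem S} {P : Subgroup Ω} {α β : MulAut P} (hα : IsIso F α) (hβ : IsIso F β) :
    IsIso F (α * β) := by
  have : α * β = (β : P ≃* P).trans α := rfl
  rw [this]
  exact hβ.trans hα

theorem isIso_inv {F : FusionSystem S} {P : Subgroup Ω} {α : MulAut P} (hα : IsIso F α) : IsIso F α⁻¹ := by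
  have : α⁻¹ = (α : P ≃* P).symm := rfl
  rw [this]
  exact hα.symm

theorem isIso_one (F : FusionSystem S) {P : Subgroup Ω} (hP : P ≤ S) : IsIso F (1 : MulAut P) :=
  isIso_refl F hP

theorem mem_autGroup_iff (F : FusionSystem S) {P : Subgroup Ω} (hP : P ≤ S) (α : MulAut P) :
    α ∈ F.autGroup P ↔ IsIso F α := by
  constructor
  · intro h
    unfold FusionSystem.autGroup at h
    induction h using Subgroup.closure_induction with
    | mem x hx => exact hx
    | one => exact isIso_one F hP
    | mul x y _ _ hx hy => exact isIso_mul hx hy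
    | inv x _ hx => exact isIso_inv hx
  · intro h
    exact Subgroup.subset_closure h

theorem mem_autGroup_of_isIso (F : FusionSystem S) {P : Subgroup Ω} {α : MulAut P} (h : IsIso F α) :
    α ∈ F.autGroup P :=
  Subgroup.subset_closure h

/-! ### Automorphisms induced by conjugation -/

/-- Conjugation by an element of the normalizer of `P`, as an automorphism of `P`. -/
def conjAut (P : Subgroup Ω) (g : Ω) (hg : g ∈ Subgroup.normalizer (P : Set Ω)) : MulAut P where
  toFun x := ⟨g * x * g⁻¹, (Subgroup.mem_normalizer_iff.mp hg x).mp x.2⟩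
  invFun x := ⟨g⁻¹ * x * g, by
    have := (Subgroup.mem_normalizer_iff.mp ((Subgroup.normalizer (P : Set Ω)).inv_mem hg) x).mp x.2
    simpa using this⟩
  left_inv x := by ext; simp [mul_assoc]
  right_inv x := by ext; simp [mul_assoc]
  map_mul' x y := by ext; simp [mul_assoc]

@[simp] theorem conjAut_apply (P : Subgroup Ω) (g : Ω) (hg : g ∈ Subgroup.normalizer (P : Set Ω)) (x : P) :
    ((conjAut P g hg x : P) : Ω) = g * x * g⁻¹ := rfl

theorem mem_normalizer_of_conj {P : Subgroup Ω} [Finite P] {g : Ω} (α : MulAut P)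
    (h : ∀ x : P, ((α x : P) : Ω) = g * x * g⁻¹) : g ∈ Subgroup.normalizer (P : Set Ω) := by
  rw [Subgroup.mem_normalizer_iff]
  intro y
  constructor
  · intro hy
    have := h ⟨y, hy⟩
    rw [← this]
    exact (α ⟨y, hy⟩).2
  · intro hy
    obtain ⟨x, hx⟩ := α.surjective ⟨g * y * g⁻¹, hy⟩
    have h1 := h x
    rw [hx] at h1
    have h2 : y = (x : Ω) := by
      have : g * y * g⁻¹ = g * (x : Ω) * g⁻¹ := h1
      exact mul_left_cancel (mul_right_cancel this)
    rw [h2]
    exact x.2

theorem mem_autInducedBy_iff (K P : Subgroup Ω) (α : MulAut P) :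
    α ∈ autInducedBy K P ↔ ∃ g ∈ K, ∀ x : P, ((α x : P) : Ω) = g * x * g⁻¹ := by
  constructor
  · intro h
    unfold autInducedBy at h
    induction h using Subgroup.closure_induction with
    | mem x hx => exact hx
    | one => exact ⟨1, K.one_mem, fun x => by simp⟩
    | mul a b _ _ ha hb =>
      obtain ⟨g, hg, hga⟩ := ha
      obtain ⟨k, hk, hkb⟩ := hb
      refine ⟨g * k, K.mul_mem hg hk, fun x => ?_⟩
      rw [MulAut.mul_apply, hga, hkb]
      simp [mul_assoc]
    | inv a _ ha =>
      obtain ⟨g, hg, hga⟩ := ha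
      refine ⟨g⁻¹, K.inv_mem hg, fun x => ?_⟩
      have h1 := hga (a⁻¹ x)
      rw [MulAut.apply_inv_self] at h1
      rw [h1]
      simp [mul_assoc]
  · intro h
    exact Subgroup.subset_closure h

theorem conjAut_mem_autInducedBy {K P : Subgroup Ω} {g : Ω} (hgK : g ∈ K)
    (hg : g ∈ Subgroup.normalizer (P : Set Ω)) : conjAut P g hg ∈ autInducedBy K P :=
  (mem_autInducedBy_iff K P _).mpr ⟨g, hgK, fun _ => rfl⟩

theorem isIso_of_conj (F : FusionSystem S) {P : Subgroup Ω} (hP : P ≤ S) {g : Ω} (hg : g ∈ S) (α : MulAut P)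
    (h : ∀ x : P, ((α x : P) : Ω) = g * x * g⁻¹) : IsIso F α := by
  unfold IsIso
  have := F.conj_mem hP hg
  convert this using 1
  ext x
  simpa [conjHom_apply] using h x

theorem autInducedBy_le_autGroup (F : FusionSystem S) {P : Subgroup Ω} (hP : P ≤ S) :
    autInducedBy S P ≤ F.autGroup P := by
  intro α hα
  obtain ⟨g, hg, h⟩ := (mem_autInducedBy_iff S P α).mp hα
  exact mem_autGroup_of_isIso F (isIso_of_conj F hP hg α h)

theorem pow_apply_of_conj {P : Subgroup Ω} {g : Ω} (α : MulAut P)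
    (h : ∀ x : P, ((α x : P) : Ω) = g * x * g⁻¹) (n : ℕ) (x : P) :
    (((α ^ n) x : P) : Ω) = g ^ n * x * (g ^ n)⁻¹ := by
  induction n generalizing x with
  | zero => simp
  | succ n ih =>
    rw [pow_succ, MulAut.mul_apply, ih, h]
    simp [pow_succ, mul_assoc]

theorem isPGroup_autInducedBy {p : ℕ} (hS : IsPGroup p S) (P : Subgroup Ω) :
    IsPGroup p (autInducedBy S P) := by
  rintro ⟨α, hα⟩
  obtain ⟨g, hg, h⟩ := (mem_autInducedBy_iff S P α).mp hα
  obtain ⟨k, hk⟩ := hS ⟨g, hg⟩
  refine ⟨k, ?_⟩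
  have hgk : g ^ p ^ k = 1 := by
    have := congrArg Subtype.val hk
    simpa using this
  apply Subtype.ext
  show α ^ p ^ k = 1
  ext x
  rw [pow_apply_of_conj α h, hgk]
  simp

end Cfsg.Agent.Helper86
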