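import Mathlib
import Cfsg.Prelude.Def_FusionSystem
import Cfsg.Agent.Lib.Helper86.FusionBasic
import Cfsg.Agent.Lib.Helper86.FusionAut

set_option autoImplicit false

namespace Cfsg.Agent.Helper86

open Cfsg Cfsg.FusionSystem
open scoped Pointwise

variable {Ω : Type*} [Group Ω] {S : Subgroup Ω}

theorem le_normalizerIn {P : Subgroup Ω} (hP : P ≤ S) : P ≤ normalizerIn S P :=
  le_inf hP Subgroup.le_normalizer

theorem normalizerIn_le (S P : Subgroup Ω) : normalizerIn S P ≤ S := inf_le_left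

theorem finite_of_le [Finite S] {P : Subgroup Ω} (hP : P ≤ S) : Finite P :=
  Finite.of_injective (Subgroup.inclusion hP) (Subgroup.inclusion_injective hP)

/-- In a finite `p`-group, a proper subgroup is properly contained in its normalizer. -/
theorem exists_mem_normalizerIn_not_mem {p : ℕ} [Fact p.Prime] [Finite S] (hS : IsPGroup p S)
    {P : Subgroup Ω} (hP : P ≤ S) (hne : P ≠ S) : ∃ x ∈ normalizerIn S P, x ∉ P := by
  have : Group.IsNilpotent S := hS.isNilpotent
  have hnc := Group.normalizerCondition_of_isNilpotent (G := S)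
  have hlt : P.subgroupOf S < ⊤ := by
    rw [lt_top_iff_ne_top]
    intro h
    rw [Subgroup.subgroupOf_eq_top] at h
    exact hne (le_antisymm hP h)
  have h2 := hnc _ hlt
  obtain ⟨x, hx, hx'⟩ := SetLike.exists_of_lt h2
  rw [← Subgroup.subgroupOf_normalizer_eq hP] at hx
  refine ⟨x, ⟨x.2, ?_⟩, ?_⟩
  · simpa [Subgroup.mem_subgroupOf] using hx
  · simpa [Subgroup.mem_subgroupOf] using hx'

theorem card_lt_card_normalizerIn {p : ℕ} [Fact p.Prime] [Finite S] (hS : IsPGroup p S)
    {P : Subgroup Ω} (hP : P ≤ S) (hne : P ≠ S) : Nat.card P < Nat.card (normalizerIn S P) := by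
  have : Finite (normalizerIn S P) := finite_of_le (normalizerIn_le S P)
  by_contra hcon
  rw [not_lt] at hcon
  have := Subgroup.eq_of_le_of_card_ge (le_normalizerIn hP) hcon
  obtain ⟨x, hx, hx'⟩ := exists_mem_normalizerIn_not_mem hS hP hne
  rw [← this] at hx
  exact hx' hx

/-- Key lemma: if `Q` is fully automized and receptive and `P` is conjugate to `Q` in the system, then some map of
the system defined on `N_S(P)` carries `P` onto `Q`. -/
theorem exists_extension_to_normalizer {p : ℕ} [Fact p.Prime] [Finite S] (hS : IsPGroup p S)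
    (F : FusionSystem S) {P Q : Subgroup Ω} (hfa : F.IsFullyAutomized p Q) (hrec : F.IsReceptive Q)
    (e : P ≃* Q) (he : IsIso F e) :
    ∃ χ ∈ F.Hom (normalizerIn S P), ∃ e' : P ≃* Q, IsIso F e' ∧
      ∀ (x : P), χ ⟨x, le_normalizerIn he.le_left x.2⟩ = ((e' x : Q) : Ω) := by
  obtain ⟨hQS, R, hR⟩ := hfa
  have hPS : P ≤ S := he.le_left
  have : Finite P := finite_of_le hPS
  have : Finite Q := finite_of_le hQS
  let c : MulAut P ≃* MulAut Q := MulAut.congr e
  let B' : Subgroup (MulAut Q) := (autInducedBy S P).map c.toMonoidHom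
  have hB'A : B' ≤ (F.autGroup Q) := by
    rintro _ ⟨α, hα, rfl⟩
    have h1 : IsIso F α := (mem_autGroup_iff F hPS α).mp (autInducedBy_le_autGroup F hPS hα)
    apply mem_autGroup_of_isIso
    show IsIso F (e.symm.trans ((α : P ≃* P).trans e))
    exact he.symm.trans (h1.trans he)
  have hB'p : IsPGroup p B' := (isPGroup_autInducedBy hS P).map _
  have hB''p : IsPGroup p (B'.subgroupOf (F.autGroup Q)) := hB'p.comap_subtype
  obtain ⟨R', hR'⟩ := hB''p.exists_le_sylow
  obtain ⟨a, ha⟩ := MulAction.exists_smul_eq (F.autGroup Q) R R'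
  -- β = a⁻¹
  have hβ : IsIso F ((a⁻¹ : (F.autGroup Q)) : MulAut Q) := (mem_autGroup_iff F hQS _).mp (a⁻¹).2
  let e' : P ≃* Q := e.trans ((a⁻¹ : (F.autGroup Q)) : MulAut Q)
  have he' : IsIso F e' := he.trans hβ
  -- the hom φ'
  let φ' : P →* Ω := Q.subtype.comp e'.toMonoidHom
  have hφ' : φ' ∈ F.Hom P := he'
  have hφ'r : φ'.range = Q := range_of_isIso e'
  have hle : normalizerIn S P ≤ extender S P φ' := by
    intro g hg
    obtain ⟨hgS, hgN⟩ := hg
    apply Subgroup.subset_closure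
    refine ⟨hgS, hgN, ?_⟩
    have hαg : conjAut P g hgN ∈ autInducedBy S P := conjAut_mem_autInducedBy hgS hgN
    have hb : c (conjAut P g hgN) ∈ B' := ⟨_, hαg, rfl⟩
    have hbA : c (conjAut P g hgN) ∈ (F.autGroup Q) := hB'A hb
    have h1 : (⟨c (conjAut P g hgN), hbA⟩ : (F.autGroup Q)) ∈ (R' : Subgroup (F.autGroup Q)) := hR' (by
      rw [Subgroup.mem_subgroupOf]; exact hb)
    rw [← ha, Sylow.coe_subgroup_smul, Subgroup.mem_pointwise_smul_iff_inv_smul_mem] at h1
    have h2 : (MulAut.conj a)⁻¹ • (⟨c (conjAut P g hgN), hbA⟩ : (F.autGroup Q)) ∈ (R : Subgroup (F.autGroup Q)) := h1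
    rw [hR, Subgroup.mem_subgroupOf] at h2
    obtain ⟨h, hhS, hh⟩ := (mem_autInducedBy_iff S Q _).mp h2
    refine ⟨h, hhS, fun x hx => ?_⟩
    have h3 := hh (e' x)
    have h4 : ((MulAut.conj a)⁻¹ • (⟨c (conjAut P g hgN), hbA⟩ : (F.autGroup Q)) : (F.autGroup Q)) =
        a⁻¹ * ⟨c (conjAut P g hgN), hbA⟩ * a := by
      simp [MulAut.smul_def, MulAut.conj_inv_apply]
    rw [h4] at h3
    have h5 : (((a⁻¹ * ⟨c (conjAut P g hgN), hbA⟩ * a : (F.autGroup Q)) : MulAut Q) (e' x)) =
        e' (conjAut P g hgN x) := by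
      show ((a⁻¹ : (F.autGroup Q)) : MulAut Q) ((c (conjAut P g hgN)) ((a : MulAut Q) (((a⁻¹ : (F.autGroup Q)) : MulAut Q) (e x)))) = _
      have : (a : MulAut Q) (((a⁻¹ : (F.autGroup Q)) : MulAut Q) (e x)) = e x := by
        have h6 : ((a * a⁻¹ : (F.autGroup Q)) : MulAut Q) (e x) = e x := by simp
        exact h6
      rw [this]
      show ((a⁻¹ : (F.autGroup Q)) : MulAut Q) (e ((conjAut P g hgN) (e.symm (e x)))) = _
      rw [MulEquiv.symm_apply_apply]
      rfl
    rw [h5] at h3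
    have h7 : (⟨g * (x : Ω) * g⁻¹, hx⟩ : P) = conjAut P g hgN x := Subtype.ext rfl
    rw [h7]
    exact h3
  obtain ⟨ψ, hψ, hψx⟩ := hrec.2 P φ' hφ' hφ'r
  refine ⟨ψ.comp (Subgroup.inclusion hle), restrict_mem F hle hψ, e', he', fun x => ?_⟩
  exact hψx x x.2 (hle (le_normalizerIn hPS x.2))

end Cfsg.Agent.Helper86
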