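import Mathlib
import Cfsg.Prelude.Def_FusionSystem
import Cfsg.Agent.Lib.Helper86.FusionBasic
import Cfsg.Agent.Lib.Helper86.FusionAut
import Cfsg.Agent.Lib.Helper86.FusionAlperin

set_option autoImplicit false

namespace Cfsg.Agent.Helper86

open Cfsg Cfsg.FusionSystem

variable {Ω : Type*} [Group Ω] {S : Subgroup Ω}

theorem card_eq_of_iso {P Q : Subgroup Ω} (e : P ≃* Q) : Nat.card P = Nat.card Q :=
  Nat.card_congr e.toEquiv

theorem eq_top_of_iso [Finite S] {Q : Subgroup Ω} (hQ : Q ≤ S) (e : S ≃* Q) : Q = S :=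
  Subgroup.eq_of_le_of_card_ge hQ (card_eq_of_iso e).le

/-- Weak form of Alperin's fusion theorem: a saturated fusion system over a finite `p`-group is generated by the
automorphism groups of its fully automized receptive subgroups. Stated for a target system `E` over an arbitrary
subgroup `U`. -/
theorem weak_alperin {p : ℕ} [Fact p.Prime] [Finite S] (hS : IsPGroup p S) (F : FusionSystem S)
    (hF : F.IsSaturated p) {U : Subgroup Ω} (E : FusionSystem U)
    (hE : ∀ P : Subgroup Ω, F.IsFullyAutomized p P → F.IsReceptive P → ∀ α : MulAut P, IsIso F α → IsIso E α) :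
    F.IsSubsystemOf E := by
  have key : ∀ n : ℕ, ∀ P : Subgroup Ω, P ≤ S → Nat.card S - Nat.card P = n →
      ∀ φ ∈ F.Hom P, φ ∈ E.Hom P := by
    intro n
    induction n using Nat.strong_induction_on with
    | _ n ih =>
      intro P hPS hn φ hφ
      obtain ⟨Q, ⟨ψ₀, hψ₀, hψ₀r⟩, hQfa, hQrec⟩ := hF P hPS
      have hQS : Q ≤ S := hQfa.1
      let e₀ : P ≃* Q := isoOfHom ψ₀ (F.injective_of_mem hψ₀) hψ₀r
      have he₀ : IsIso F e₀ := isIso_isoOfHom F hψ₀ hψ₀r
      let eφ : P ≃* φ.range := isoOfHom φ (F.injective_of_mem hφ) rfl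
      have heφ : IsIso F eφ := isIso_isoOfHom F hφ rfl
      have hP'S : φ.range ≤ S := heφ.le_right
      by_cases hPeq : P = S
      · subst hPeq
        have hQeq : Q = P := eq_top_of_iso hQS e₀
        subst hQeq
        have hreq : φ.range = Q := eq_top_of_iso hP'S eφ
        let α : MulAut Q := isoOfHom φ (F.injective_of_mem hφ) hreq
        have hα : IsIso F α := isIso_isoOfHom F hφ hreq
        have hαE : IsIso E α := hE Q hQfa hQrec α hα
        exact hαE.hom_mem φ (fun x => rfl)
      · have hP'ne : φ.range ≠ S := by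
          intro h
          have h1 : Nat.card P = Nat.card S := by rw [card_eq_of_iso eφ, h]
          exact hPeq (Subgroup.eq_of_le_of_card_ge hPS h1.ge)
        obtain ⟨χ₁, hχ₁, e₁, he₁, hχe₁⟩ := exists_extension_to_normalizer hS F hQfa hQrec e₀ he₀
        have he₀' : IsIso F (eφ.symm.trans e₀) := heφ.symm.trans he₀
        obtain ⟨χ₂, hχ₂, e₂, he₂, hχe₂⟩ :=
          exists_extension_to_normalizer hS F hQfa hQrec (eφ.symm.trans e₀) he₀'
        have hNS : Nat.card (normalizerIn S P) ≤ Nat.card S := Subgroup.card_le_of_le (normalizerIn_le S P)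
        have hNS' : Nat.card (normalizerIn S φ.range) ≤ Nat.card S :=
          Subgroup.card_le_of_le (normalizerIn_le S φ.range)
        have hlt₁ := card_lt_card_normalizerIn hS hPS hPeq
        have hlt₂ := card_lt_card_normalizerIn hS hP'S hP'ne
        have hcard : Nat.card P = Nat.card φ.range := card_eq_of_iso eφ
        have hχ₁E : χ₁ ∈ E.Hom (normalizerIn S P) :=
          ih (Nat.card S - Nat.card (normalizerIn S P)) (by omega) _ (normalizerIn_le S P) rfl χ₁ hχ₁
        have hχ₂E : χ₂ ∈ E.Hom (normalizerIn S φ.range) :=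
          ih (Nat.card S - Nat.card (normalizerIn S φ.range)) (by omega) _ (normalizerIn_le S _) rfl χ₂ hχ₂
        have he₁E : IsIso E e₁ :=
          isIso_of_restrict E (le_normalizerIn hPS) hχ₁E e₁ (fun x => (hχe₁ x).symm)
        have he₂E : IsIso E e₂ :=
          isIso_of_restrict E (le_normalizerIn hP'S) hχ₂E e₂ (fun x => (hχe₂ x).symm)
        let α : MulAut Q := e₁.symm.trans (eφ.trans e₂)
        have hα : IsIso F α := he₁.symm.trans (heφ.trans he₂)
        have hαE : IsIso E α := hE Q hQfa hQrec α hα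
        have hcomp : IsIso E (e₁.trans ((α : Q ≃* Q).trans e₂.symm)) := he₁E.trans (hαE.trans he₂E.symm)
        apply hcomp.hom_mem φ
        intro x
        show φ x = ((e₂.symm (e₂ (eφ (e₁.symm (e₁ x)))) : φ.range) : Ω)
        rw [MulEquiv.symm_apply_apply, MulEquiv.symm_apply_apply]
        rfl
  intro P φ hφ
  exact key _ P (le_of_hom F hφ) rfl φ hφ

/-- Frobenius' criterion: if all `Aut_F(P)` are `p`-groups then the saturated system is the inner system. -/
theorem hom_eq_inner_of_isPGroup_autGroup {p : ℕ} [Fact p.Prime] [Finite S] (hS : IsPGroup p S)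
    (F : FusionSystem S) (hF : F.IsSaturated p) (h : ∀ P : Subgroup Ω, P ≤ S → IsPGroup p (F.autGroup P)) :
    ∀ P : Subgroup Ω, F.Hom P = (innerFusionSystem S).Hom P := by
  have h1 : F.IsSubsystemOf (innerFusionSystem S) := by
    apply weak_alperin hS F hF
    intro P hfa hrec α hα
    obtain ⟨hPS, R, hR⟩ := hfa
    have : Finite P := finite_of_le hPS
    have hp : IsPGroup p (F.autGroup P) := h P hPS
    -- the Sylow subgroup is everything
    have htop : (R : Subgroup (F.autGroup P)) = ⊤ :=
      (R.is_maximal' (hp.to_subgroup ⊤) le_top).symm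
    have hαA : α ∈ F.autGroup P := mem_autGroup_of_isIso F hα
    have h3 : (⟨α, hαA⟩ : F.autGroup P) ∈ (R : Subgroup (F.autGroup P)) := by rw [htop]; trivial
    rw [hR, Subgroup.mem_subgroupOf] at h3
    obtain ⟨g, hg, hgα⟩ := (mem_autInducedBy_iff S P α).mp h3
    exact isIso_of_conj (innerFusionSystem S) hPS hg α hgα
  intro P
  apply Set.Subset.antisymm (h1 P)
  rintro φ ⟨hPS, g, hg, hgφ⟩
  have := F.conj_mem hPS hg
  convert this using 1
  ext x
  exact hgφ x

end Cfsg.Agent.Helper86
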