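import Mathlib
import Cfsg.Prelude.Def_FusionSystem
import Cfsg.Agent.Lib.Helper87.FusionNormal
import Cfsg.Agent.Lib.Helper86.ChainStabilizer

set_option autoImplicit false

namespace Cfsg.Agent.Helper86

open Cfsg Cfsg.FusionSystem Cfsg.Agent.Helper87

variable {Ω : Type*} [Group Ω] {S : Subgroup Ω}

/-- A map of the system defined on `P ⊔ Q` that carries `P` and `Q` into `T` carries `P ⊔ Q` into `T`. -/
theorem mor_maps_sup {F : FusionSystem S} {P Q T : Subgroup Ω} {f : Ω → Ω} (hf : Mor F (P ⊔ Q) f)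
    (hP : ∀ x ∈ P, f x ∈ T) (hQ : ∀ x ∈ Q, f x ∈ T) : ∀ x ∈ P ⊔ Q, f x ∈ T := by
  let U : Subgroup Ω :=
    { carrier := {x | x ∈ P ⊔ Q ∧ f x ∈ T}
      one_mem' := ⟨Subgroup.one_mem _, by rw [hf.map_one]; exact T.one_mem⟩
      mul_mem' := by
        rintro a b ⟨ha, ha'⟩ ⟨hb, hb'⟩
        exact ⟨Subgroup.mul_mem _ ha hb, by rw [hf.map_mul ha hb]; exact T.mul_mem ha' hb'⟩
      inv_mem' := by
        rintro a ⟨ha, ha'⟩
        exact ⟨Subgroup.inv_mem _ ha, by rw [hf.map_inv ha]; exact T.inv_mem ha'⟩ }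
  have hPU : P ≤ U := fun x hx => ⟨(le_sup_left : P ≤ P ⊔ Q) hx, hP x hx⟩
  have hQU : Q ≤ U := fun x hx => ⟨(le_sup_right : Q ≤ P ⊔ Q) hx, hQ x hx⟩
  intro x hx
  exact ((sup_le hPU hQU) hx).2

theorem stronglyClosed_mor {F : FusionSystem S} {Q R : Subgroup Ω} (hQ : F.StronglyClosed Q) (hRQ : R ≤ Q)
    {f : Ω → Ω} (hf : Mor F R f) : ∀ x ∈ R, f x ∈ Q := by
  obtain ⟨φ, hφ, e⟩ := hf
  intro x hx
  rw [← e ⟨x, hx⟩]
  exact hQ.2 R hRQ φ hφ ⟨x, hx⟩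

/-- AKO I.4.5 (one direction): a strongly closed subgroup contained in every fully normalized centric radical subgroup
is normal in the system. -/
theorem isNormal_of_stronglyClosed_of_le {p : ℕ} [Fact p.Prime] [Finite S] (hS : IsPGroup p S)
    {F : FusionSystem S} (hF : F.IsSaturated p) {Q : Subgroup Ω} (hQ : F.StronglyClosed Q)
    (h : ∀ R : Subgroup Ω, F.IsFullyNormalized R → F.IsCentric R → F.IsRadical p R → Q ≤ R) :
    F.IsNormal Q := by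
  rw [isNormal_iff]
  refine ⟨hQ.1, ?_⟩
  have hclosed : AlperinClosed F (fun P f => ∃ g, Mor F (P ⊔ Q) g ∧ (∀ x ∈ P, g x = f x) ∧
      ∀ y, y ∈ Q ↔ ∃ x ∈ Q, g x = y) := by
    constructor
    · rintro P f f' ⟨g, hg, e1, e2⟩ hff
      exact ⟨g, hg, fun x hx => (e1 x hx).trans (hff x hx), e2⟩
    · rintro P P' f - ⟨g, hg, e1, e2⟩ hP'P
      exact ⟨g, hg.restrict (sup_le_sup_right hP'P Q), fun x hx => e1 x (hP'P hx), e2⟩
    · rintro P P₁ f g hf hg hPP₁ ⟨f', hf', e1, e2⟩ ⟨g', hg', e3, e4⟩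
      have hmaps : ∀ x ∈ P ⊔ Q, f' x ∈ P₁ ⊔ Q := by
        apply mor_maps_sup hf'
        · intro x hx
          rw [e1 x hx]
          exact (le_sup_left : P₁ ≤ P₁ ⊔ Q) (hPP₁ x hx)
        · intro x hx
          exact (le_sup_right : Q ≤ P₁ ⊔ Q) ((e2 _).2 ⟨x, hx, rfl⟩)
      refine ⟨fun x => g' (f' x), hf'.comp hg' hmaps, fun x hx => ?_, fun y => ?_⟩
      · show g' (f' x) = g (f x)
        rw [e1 x hx, e3 _ (hPP₁ x hx)]
      · constructor
        · intro hy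
          obtain ⟨z, hz, rfl⟩ := (e4 y).1 hy
          obtain ⟨x, hx, rfl⟩ := (e2 z).1 hz
          exact ⟨x, hx, rfl⟩
        · rintro ⟨x, hx, rfl⟩
          exact (e4 _).2 ⟨f' x, (e2 _).2 ⟨x, hx, rfl⟩, rfl⟩
  apply alperin hS hF _ hclosed
  intro R hfn hcen hrad α hα
  have hQR : Q ≤ R := h R hfn hcen hrad
  have hsup : R ⊔ Q = R := sup_eq_left.mpr hQR
  have hmor : Mor F R (extAut α) := (mem_autGroup_iff hcen.1).1 hα
  have hmorinv : Mor F R (extAut α⁻¹) := (mem_autGroup_iff hcen.1).1 ((F.autGroup R).inv_mem hα)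
  refine ⟨extAut α, by rw [hsup]; exact hmor, fun _ _ => rfl, fun y => ?_⟩
  constructor
  · intro hy
    refine ⟨extAut α⁻¹ y, ?_, extAut_inv_right α (hQR hy)⟩
    exact stronglyClosed_mor hQ le_rfl (hmorinv.restrict hQR) y hy
  · rintro ⟨x, hx, rfl⟩
    exact stronglyClosed_mor hQ le_rfl (hmor.restrict hQR) x hx

/-- A subgroup normal in the system is strongly closed. -/
theorem stronglyClosed_of_isNormal {F : FusionSystem S} {Q : Subgroup Ω} (hQ : F.IsNormal Q) :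
    F.StronglyClosed Q := by
  rw [isNormal_iff] at hQ
  obtain ⟨hQS, h⟩ := hQ
  refine ⟨hQS, fun R hRQ φ hφ x => ?_⟩
  obtain ⟨g, hg, e1, e2⟩ := h R (extFun φ) (mor_of_mem hφ)
  have h1 : g x = φ x := by rw [e1 x x.2, extFun_apply]
  rw [← h1]
  exact (e2 _).2 ⟨x, hRQ x.2, rfl⟩

/-- If `n ∈ N_S(R)` induces an inner automorphism of the centric subgroup `R`, then `n ∈ R`. -/
theorem mem_of_conjAut_mem_inn {F : FusionSystem S} {R : Subgroup Ω} (hcen : F.IsCentric R) {n : Ω}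
    (hn : n ∈ normalizerIn S R) (h1 : Helper87.conjAut R n hn.2 ∈ Inn R) : n ∈ R := by
  obtain ⟨x, hx⟩ := h1
  have hc : (x : Ω)⁻¹ * n ∈ centralizerIn S R := by
    refine ⟨S.mul_mem (S.inv_mem (hcen.1 x.2)) hn.1, ?_⟩
    intro y hy
    have h2 : ((MulAut.conj x ⟨y, hy⟩ : R) : Ω) = ((Helper87.conjAut R n hn.2 ⟨y, hy⟩ : R) : Ω) := by rw [hx]
    rw [Helper87.conjAut_apply] at h2
    have h3 : (x : Ω) * y * (x : Ω)⁻¹ = n * y * n⁻¹ := by
      rw [← h2]; simp [MulAut.conj_apply]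
    calc y * ((x : Ω)⁻¹ * n) = (x : Ω)⁻¹ * ((x : Ω) * y * (x : Ω)⁻¹) * n := by group
      _ = (x : Ω)⁻¹ * (n * y * n⁻¹) * n := by rw [h3]
      _ = (x : Ω)⁻¹ * n * y := by group
  have h4 := hcen.2 R (isConj_refl hcen.1) hc
  have h5 : n = (x : Ω) * ((x : Ω)⁻¹ * n) := by group
  rw [h5]
  exact R.mul_mem x.2 h4

end Cfsg.Agent.Helper86
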