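import Mathlib
import Cfsg.Agent.Lib.Helper40.StVal.Defs

/-!
# STV piece (G) for helper40's S2425 server: invariant complements are graphs of equivariant maps
-/

set_option autoImplicit false

namespace Cfsg.Agent.Helper86.STV

open Cfsg Cfsg.Agent.Helper40.Par Cfsg.Agent.Helper40.StVal Polynomial

section Mod

variable {F V : Type*} [Field F] [AddCommGroup V] [Module F V]

/-- the map `u ↦ u + φ u` -/
def h86_graphMap (U₀ S : Submodule F V) (φ : ↥U₀ →ₗ[F] ↥S) : ↥U₀ →ₗ[F] V :=
  U₀.subtype + S.subtype.comp φ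

theorem h86_graphMap_apply (U₀ S : Submodule F V) (φ : ↥U₀ →ₗ[F] ↥S) (u : ↥U₀) :
    h86_graphMap U₀ S φ u = (u : V) + (φ u : V) := rfl

theorem h86_mem_graph (U₀ S : Submodule F V) (φ : ↥U₀ →ₗ[F] ↥S) (w : V) :
    w ∈ LinearMap.range (h86_graphMap U₀ S φ) ↔ ∃ u : ↥U₀, (u : V) + (φ u : V) = w := by
  rw [LinearMap.mem_range]
  rfl

/-- the graph of an equivariant map as an invariant complement -/
def h86_toCompl (T : Module.End F V) (S U₀ : Submodule F V)
    (hS : S ∈ T.invtSubmodule) (hU₀ : U₀ ∈ T.invtSubmodule) (hdisj : Disjoint U₀ S)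
    (φ : EqHom T U₀ S hU₀ hS) : Compl T S (U₀ ⊔ S) :=
  ⟨LinearMap.range (h86_graphMap U₀ S φ.1), by
    refine ⟨?_, ?_, ?_⟩
    · rw [Module.End.mem_invtSubmodule_iff_forall_mem_of_mem]
      intro w hw
      obtain ⟨u, rfl⟩ := (h86_mem_graph U₀ S φ.1 w).1 hw
      rw [h86_mem_graph]
      refine ⟨LinearMap.restrict T hU₀ u, ?_⟩
      rw [φ.2 u, map_add]
      rfl
    · rw [Submodule.disjoint_def]
      intro w hw hwS
      obtain ⟨u, rfl⟩ := (h86_mem_graph U₀ S φ.1 w).1 hw
      have hu : (u : V) ∈ S := by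
        have := S.sub_mem hwS (φ.1 u).2
        simpa using this
      have hu0 : (u : V) = 0 := (Submodule.disjoint_def.1 hdisj) _ u.2 hu
      have hu0' : u = 0 := Subtype.ext hu0
      rw [hu0', map_zero]
      simp
    · apply le_antisymm
      · refine sup_le ?_ le_sup_right
        intro w hw
        obtain ⟨u, rfl⟩ := (h86_mem_graph U₀ S φ.1 w).1 hw
        exact Submodule.add_mem_sup u.2 (φ.1 u).2
      · refine sup_le ?_ le_sup_right
        intro u hu
        have h1 : u + ((φ.1 ⟨u, hu⟩ : ↥S) : V) ∈ LinearMap.range (h86_graphMap U₀ S φ.1) :=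
          (h86_mem_graph U₀ S φ.1 _).2 ⟨⟨u, hu⟩, rfl⟩
        have h2 : (-(φ.1 ⟨u, hu⟩ : ↥S) : V) ∈ S := S.neg_mem (φ.1 ⟨u, hu⟩).2
        have := Submodule.add_mem_sup h1 h2
        simpa using this⟩

theorem h86_toCompl_injective (T : Module.End F V) (S U₀ : Submodule F V)
    (hS : S ∈ T.invtSubmodule) (hU₀ : U₀ ∈ T.invtSubmodule) (hdisj : Disjoint U₀ S) :
    Function.Injective (h86_toCompl T S U₀ hS hU₀ hdisj) := by
  intro φ ψ h
  have h' : LinearMap.range (h86_graphMap U₀ S φ.1) = LinearMap.range (h86_graphMap U₀ S ψ.1) :=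
    congrArg Subtype.val h
  apply Subtype.ext
  apply LinearMap.ext
  intro u
  have h1 : (u : V) + (φ.1 u : V) ∈ LinearMap.range (h86_graphMap U₀ S ψ.1) := by
    rw [← h']
    exact (h86_mem_graph U₀ S φ.1 _).2 ⟨u, rfl⟩
  obtain ⟨u', hu'⟩ := (h86_mem_graph U₀ S ψ.1 _).1 h1
  -- u' + ψ u' = u + φ u, so u' - u = φ u - ψ u' ∈ U₀ ⊓ S
  have h2 : (u' : V) - (u : V) = (φ.1 u : V) - (ψ.1 u' : V) := by
    have := hu'
    rw [sub_eq_sub_iff_add_eq_add]
    rw [add_comm (φ.1 u : V)]
    exact this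
  have h3 : (u' : V) - (u : V) ∈ U₀ := U₀.sub_mem u'.2 u.2
  have h4 : (u' : V) - (u : V) ∈ S := by
    rw [h2]
    exact S.sub_mem (φ.1 u).2 (ψ.1 u').2
  have h5 : (u' : V) - (u : V) = 0 := (Submodule.disjoint_def.1 hdisj) _ h3 h4
  have h6 : u' = u := Subtype.ext (sub_eq_zero.1 h5)
  subst h6
  apply Subtype.ext
  have h7 : (φ.1 u' : V) - (ψ.1 u' : V) = 0 := by rw [← h2, h5]
  exact sub_eq_zero.1 h7

theorem h86_toCompl_surjective (T : Module.End F V) (S U₀ : Submodule F V)
    (hS : S ∈ T.invtSubmodule) (hU₀ : U₀ ∈ T.invtSubmodule) (hdisj : Disjoint U₀ S) :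
    Function.Surjective (h86_toCompl T S U₀ hS hU₀ hdisj) := by
  rintro ⟨U, hUT, hUS, hsup⟩
  -- existence and uniqueness of the S-component
  have hex : ∀ u : ↥U₀, ∃ s : ↥S, (u : V) + (s : V) ∈ U := by
    intro u
    have hu : (u : V) ∈ U ⊔ S := by
      rw [hsup]
      exact Submodule.mem_sup_left u.2
    obtain ⟨w, hw, s, hs, hws⟩ := Submodule.mem_sup.1 hu
    refine ⟨⟨-s, S.neg_mem hs⟩, ?_⟩
    have : (u : V) + -s = w := by rw [← hws]; abel
    simp only
    rw [this]
    exact hw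
  have huniq : ∀ (u : ↥U₀) (s s' : ↥S), (u : V) + (s : V) ∈ U → (u : V) + (s' : V) ∈ U → s = s' := by
    intro u s s' h1 h2
    have h3 : (s : V) - (s' : V) ∈ U := by
      have := U.sub_mem h1 h2
      simpa using this
    have h4 : (s : V) - (s' : V) ∈ S := S.sub_mem s.2 s'.2
    have h5 := (Submodule.disjoint_def.1 hUS) _ h3 h4
    exact Subtype.ext (sub_eq_zero.1 h5)
  choose f hf using hex
  let φ : ↥U₀ →ₗ[F] ↥S :=
    { toFun := f
      map_add' := by
        intro u v
        apply huniq (u + v) _ _ (hf (u + v))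
        have := U.add_mem (hf u) (hf v)
        have e : ((u + v : ↥U₀) : V) + ((f u + f v : ↥S) : V) =
            ((u : V) + (f u : V)) + ((v : V) + (f v : V)) := by
          push_cast
          abel
        rw [e]
        exact this
      map_smul' := by
        intro c u
        apply huniq (c • u) _ _ (hf (c • u))
        have := U.smul_mem c (hf u)
        have e : ((c • u : ↥U₀) : V) + (((RingHom.id F) c • f u : ↥S) : V) =
            c • ((u : V) + (f u : V)) := by
          simp [smul_add]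
        rw [e]
        exact this }
  have hφ : ∀ u, φ u = f u := fun _ => rfl
  have heq : ∀ v, φ (LinearMap.restrict T hU₀ v) = LinearMap.restrict T hS (φ v) := by
    intro v
    apply huniq (LinearMap.restrict T hU₀ v) _ _ (hf _)
    have h1 : T ((v : V) + (f v : V)) ∈ U := hUT (hf v)
    rw [map_add] at h1
    exact h1
  refine ⟨⟨φ, heq⟩, ?_⟩
  apply Subtype.ext
  show LinearMap.range (h86_graphMap U₀ S φ) = U
  apply le_antisymm
  · intro w hw
    obtain ⟨u, rfl⟩ := (h86_mem_graph U₀ S φ w).1 hw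
    exact hf u
  · intro w hw
    have hw' : w ∈ U₀ ⊔ S := by
      rw [← hsup]
      exact Submodule.mem_sup_left hw
    obtain ⟨u, hu, s, hs, hws⟩ := Submodule.mem_sup.1 hw'
    rw [h86_mem_graph]
    refine ⟨⟨u, hu⟩, ?_⟩
    have : f ⟨u, hu⟩ = ⟨s, hs⟩ := by
      apply huniq ⟨u, hu⟩ _ _ (hf _)
      simp only
      rw [hws]
      exact hw
    rw [hφ, this]
    exact hws

variable [FiniteDimensional F V]

/-- **(G) invariant complements are graphs of equivariant maps.**
Paper proof: `φ ↦ {u + φ u : u ∈ U₀}` is a bijection from `EqHom U₀ S` onto the invariant complements of `S` in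
`S ⊔ U₀` (inverse: `U ↦ (u ↦ the S-component of the element of U lying over u)`). -/
theorem card_compl_eq_card_eqHom (T : Module.End F V) (S U₀ : Submodule F V)
    (hS : S ∈ T.invtSubmodule) (hU₀ : U₀ ∈ T.invtSubmodule) (hdisj : Disjoint U₀ S) :
    Nat.card (Compl T S (U₀ ⊔ S)) = Nat.card (EqHom T U₀ S hU₀ hS) := by
  exact (Nat.card_eq_of_bijective _ ⟨h86_toCompl_injective T S U₀ hS hU₀ hdisj,
    h86_toCompl_surjective T S U₀ hS hU₀ hdisj⟩).symm

end Mod

end Cfsg.Agent.Helper86.STV
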