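import Mathlib
import Cfsg.Agent.Lib.Helper40.StVal.Defs

/-!
# STV piece (H) for helper40's S2425 server: Philip Hall's theorem
`μ(⊥, b)` is the alternating count of the chains `⊥ < c₁ < ... < c_k = b`.
-/

set_option autoImplicit false

namespace Cfsg.Agent.Helper86.STV

open Cfsg Cfsg.Agent.Helper40.Par Cfsg.Agent.Helper40.StVal Polynomial

section Hall

variable {α : Type*} [PartialOrder α]

/-- a nonempty finite chain has a top element -/
theorem h86_chain_top (C : Finset α) (hC : IsChain (· ≤ ·) (C : Set α)) (hne : C.Nonempty) :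
    ∃ x ∈ C, ∀ c ∈ C, c ≤ x := by
  obtain ⟨m, hm⟩ := C.exists_maximal hne
  refine ⟨m, hm.1, fun c hc => ?_⟩
  rcases eq_or_ne c m with h | h
  · exact h.le
  · rcases hC (Finset.mem_coe.2 hc) (Finset.mem_coe.2 hm.1) h with h1 | h1
    · exact h1
    · exact hm.2 hc h1

end Hall

open Classical in
/-- the signed count of the chains in `(⊥, b]` with top `b` -/
noncomputable def h86_f {α : Type*} [PartialOrder α] [OrderBot α] [LocallyFiniteOrder α]
    [DecidableEq α] [Fintype α] (b : α) : ℤ :=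
  ∑ C ∈ (Finset.univ : Finset (Finset α)).filter
    (fun C : Finset α => IsChain (· ≤ ·) (C : Set α) ∧ ⊥ ∉ C ∧ b ∈ C ∧ ∀ c ∈ C, c ≤ b), (-1 : ℤ) ^ C.card

open Classical in
/-- the signed count of the chains in `(⊥, b)` -/
noncomputable def h86_g {α : Type*} [PartialOrder α] [OrderBot α] [LocallyFiniteOrder α]
    [DecidableEq α] [Fintype α] (b : α) : ℤ :=
  ∑ C ∈ (Finset.univ : Finset (Finset α)).filter
    (fun C : Finset α => IsChain (· ≤ ·) (C : Set α) ∧ ⊥ ∉ C ∧ ∀ c ∈ C, c < b), (-1 : ℤ) ^ C.card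

open Classical in
theorem h86_f_eq_neg_g {α : Type*} [PartialOrder α] [OrderBot α] [LocallyFiniteOrder α]
    [DecidableEq α] [Fintype α] (b : α) (hb : b ≠ ⊥) : h86_f b = - h86_g b := by
  unfold h86_f h86_g
  rw [← Finset.sum_neg_distrib]
  refine Finset.sum_bij' (fun C _ => C.erase b) (fun C _ => insert b C) ?_ ?_ ?_ ?_ ?_
  · intro C hC
    simp only [Finset.mem_filter, Finset.mem_univ, true_and] at hC ⊢
    obtain ⟨h1, h2, h3, h4⟩ := hC
    refine ⟨h1.mono (by simp), fun h => h2 (Finset.mem_of_mem_erase h), fun c hc => ?_⟩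
    exact lt_of_le_of_ne (h4 c (Finset.mem_of_mem_erase hc)) (Finset.ne_of_mem_erase hc)
  · intro C hC
    simp only [Finset.mem_filter, Finset.mem_univ, true_and] at hC ⊢
    obtain ⟨h1, h2, h3⟩ := hC
    refine ⟨?_, ?_, Finset.mem_insert_self _ _, ?_⟩
    · rw [Finset.coe_insert]
      refine h1.insert fun c hc _ => Or.inr (h3 c (Finset.mem_coe.1 hc)).le
    · intro h
      rcases Finset.mem_insert.1 h with h | h
      · exact hb h.symm
      · exact h2 h
    · intro c hc
      rcases Finset.mem_insert.1 hc with h | h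
      · exact h.le
      · exact (h3 c h).le
  · intro C hC
    simp only [Finset.mem_filter, Finset.mem_univ, true_and] at hC
    exact Finset.insert_erase hC.2.2.1
  · intro C hC
    simp only [Finset.mem_filter, Finset.mem_univ, true_and] at hC
    exact Finset.erase_insert fun h => lt_irrefl _ (hC.2.2 b h)
  · intro C hC
    simp only [Finset.mem_filter, Finset.mem_univ, true_and] at hC
    have : C.card = (C.erase b).card + 1 := (Finset.card_erase_add_one hC.2.2.1).symm
    rw [this, pow_succ]; ring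

open Classical in
theorem h86_g_eq {α : Type*} [PartialOrder α] [OrderBot α] [LocallyFiniteOrder α]
    [DecidableEq α] [Fintype α] (b : α) :
    h86_g b = 1 + ∑ x ∈ Finset.Ioo ⊥ b, h86_f x := by
  unfold h86_g h86_f
  have hset : (Finset.univ : Finset (Finset α)).filter
      (fun C : Finset α => IsChain (· ≤ ·) (C : Set α) ∧ ⊥ ∉ C ∧ ∀ c ∈ C, c < b) =
      insert ∅ ((Finset.Ioo ⊥ b).biUnion fun x => (Finset.univ : Finset (Finset α)).filter
        (fun C : Finset α => IsChain (· ≤ ·) (C : Set α) ∧ ⊥ ∉ C ∧ x ∈ C ∧ ∀ c ∈ C, c ≤ x)) := by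
    ext C
    simp only [Finset.mem_filter, Finset.mem_univ, true_and, Finset.mem_insert, Finset.mem_biUnion,
      Finset.mem_Ioo]
    constructor
    · rintro ⟨h1, h2, h3⟩
      rcases C.eq_empty_or_nonempty with h | h
      · exact Or.inl h
      · right
        obtain ⟨x, hx, hxt⟩ := h86_chain_top C h1 h
        refine ⟨x, ⟨bot_lt_iff_ne_bot.2 fun h0 => h2 (h0 ▸ hx), h3 x hx⟩, h1, h2, hx, hxt⟩
    · rintro (h | ⟨x, ⟨hx1, hx2⟩, h1, h2, h3, h4⟩)
      · subst h
        simp
      · exact ⟨h1, h2, fun c hc => lt_of_le_of_lt (h4 c hc) hx2⟩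
  rw [hset, Finset.sum_insert, Finset.sum_biUnion]
  · simp
  · intro x _ y _ hxy
    rw [Function.onFun, Finset.disjoint_left]
    intro C hCx hCy
    simp only [Finset.mem_filter, Finset.mem_univ, true_and] at hCx hCy
    exact hxy (le_antisymm (hCy.2.2.2 x hCx.2.2.1) (hCx.2.2.2 y hCy.2.2.1))
  · simp only [Finset.mem_biUnion, Finset.mem_filter, Finset.mem_univ, true_and, not_exists, not_and]
    intro x _ _ _ hx
    simp at hx

open Classical in
theorem h86_mu_eq_f {α : Type*} [PartialOrder α] [OrderBot α] [LocallyFiniteOrder α]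
    [DecidableEq α] [Fintype α] (b : α) (hb : b ≠ ⊥) :
    IncidenceAlgebra.mu ℤ ⊥ b = h86_f b := by
  induction b using WellFoundedLT.induction with
  | ind b ih =>
    rw [IncidenceAlgebra.mu_eq_neg_sum_Ico_of_ne (Ne.symm hb), h86_f_eq_neg_g b hb, h86_g_eq b]
    have hIco : Finset.Ico ⊥ b = insert ⊥ (Finset.Ioo ⊥ b) := by
      ext x
      simp only [Finset.mem_Ico, Finset.mem_insert, Finset.mem_Ioo, bot_le, true_and]
      constructor
      · intro h
        rcases eq_or_ne x ⊥ with h0 | h0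
        · exact Or.inl h0
        · exact Or.inr ⟨bot_lt_iff_ne_bot.2 h0, h⟩
      · rintro (h | h)
        · rw [h]; exact bot_lt_iff_ne_bot.2 hb
        · exact h.2
    rw [hIco, Finset.sum_insert (by simp), IncidenceAlgebra.mu_self]
    congr 2
    refine Finset.sum_congr rfl fun x hx => ?_
    rw [Finset.mem_Ioo] at hx
    exact ih x hx.2 (bot_lt_iff_ne_bot.1 hx.1)

open Classical in
/-- **(H) Philip Hall's theorem.** `μ(⊥, b)` is the alternating count of the chains `⊥ < c₁ < ... < c_k = b`.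
Paper proof: strong induction on `b` with `IncidenceAlgebra.mu_eq_neg_sum_Ico_of_ne`; a chain `C ≠ {b}` is
`C' ∪ {b}` for a unique chain `C'` ending at `x = max (C \ {b})`, `⊥ < x < b`. -/
theorem hall {α : Type*} [PartialOrder α] [OrderBot α] [LocallyFiniteOrder α] [DecidableEq α]
    [Fintype α] (b : α) (hb : b ≠ ⊥) :
    IncidenceAlgebra.mu ℤ ⊥ b =
      ∑ C ∈ (Finset.univ : Finset (Finset α)).filter
        (fun C : Finset α => IsChain (· ≤ ·) (C : Set α) ∧ ⊥ ∉ C ∧ b ∈ C ∧ ∀ c ∈ C, c ≤ b), (-1 : ℤ) ^ C.card := by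
  exact h86_mu_eq_f b hb

end Cfsg.Agent.Helper86.STV
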