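import Mathlib
import Cfsg.Agent.S1017

/-!
# O4320 (B1c): `b1_inverted` (helper50 server #6393, S0977)
-/

set_option autoImplicit false

namespace Cfsg.Agent.Helper86.O4320

open Cfsg MulAction

universe u

section B1c

variable {G : Type u} [Group G] [Finite G]

/-- an involution normalizing but not centralizing a subgroup of order 5 inverts it -/
theorem h86_inverts (Q : Subgroup G) (hQ : Nat.card Q = 5) (u : G) (hu2 : u * u = 1)
    (hnorm : ∀ y ∈ Q, u * y * u⁻¹ ∈ Q) (hnc : ¬ Q ≤ Subgroup.centralizer ({u} : Set G)) :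
    ∀ y ∈ Q, u * y * u⁻¹ = y⁻¹ := by
  intro y hy
  by_contra hne
  apply hnc
  have hwQ : y * (u * y * u⁻¹) ∈ Q := Q.mul_mem hy (hnorm y hy)
  have hw1 : y * (u * y * u⁻¹) ≠ 1 := by
    intro h
    exact hne (eq_inv_of_mul_eq_one_right h)
  haveI : Fact (Nat.Prime 5) := ⟨by norm_num⟩
  obtain ⟨hz, -⟩ := Cfsg.Agent.S1017.zpowers_eq_of_card_prime Q hQ _ hwQ hw1
  have hcomm : ∀ a ∈ Q, ∀ b ∈ Q, a * b = b * a := by
    intro a ha b hb
    rw [← hz] at ha hb
    obtain ⟨i, rfl⟩ := Subgroup.mem_zpowers_iff.mp ha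
    obtain ⟨j, rfl⟩ := Subgroup.mem_zpowers_iff.mp hb
    exact ((Commute.refl _).zpow_zpow i j).eq
  have hu' : u⁻¹ = u := inv_eq_of_mul_eq_one_right hu2
  have h2 : u * (u * y * u⁻¹) * u⁻¹ = y := by
    rw [hu']
    calc u * (u * y * u) * u = (u * u) * y * (u * u) := by simp only [mul_assoc]
      _ = y := by rw [hu2]; simp
  have huw : u * (y * (u * y * u⁻¹)) * u⁻¹ = y * (u * y * u⁻¹) := by
    have h1 : u * (y * (u * y * u⁻¹)) * u⁻¹ = (u * y * u⁻¹) * (u * (u * y * u⁻¹) * u⁻¹) := by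
      simp only [mul_assoc, inv_mul_cancel_left]
    rw [h1, h2]
    exact hcomm _ (hnorm y hy) _ hy
  rw [← hz, Subgroup.zpowers_le, Subgroup.mem_centralizer_iff]
  intro x hx
  rw [Set.mem_singleton_iff] at hx
  subst hx
  exact mul_inv_eq_iff_eq_mul.mp huw

/-- `u * y` is conjugate to `u` when `u` inverts the subgroup `Q` of order 5 and `y ∈ Q` -/
theorem h86_conj_mul (Q : Subgroup G) (hQ : Nat.card Q = 5) (u : G)
    (hinv : ∀ y ∈ Q, u * y * u⁻¹ = y⁻¹) (y : G) (hy : y ∈ Q) : IsConj u (u * y) := by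
  rw [isConj_iff]
  have hy5 : y ^ 5 = 1 := by
    have := pow_card_eq_one' (G := Q) (x := ⟨y, hy⟩)
    rw [hQ] at this
    simpa using congrArg Subtype.val this
  have hz : u * (y ^ 3) * u⁻¹ = (y ^ 3)⁻¹ := hinv _ (Q.pow_mem hy 3)
  have hz' : (y ^ 3)⁻¹ * u = u * y ^ 3 := by
    rw [← hz]; simp
  refine ⟨(y ^ 3)⁻¹, ?_⟩
  rw [inv_inv, hz', mul_assoc, ← pow_add]
  have : y ^ (3 + 3) = y := by
    calc y ^ (3 + 3) = y ^ 5 * y := by rw [← pow_succ]
      _ = y := by rw [hy5, one_mul]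
  rw [this]

end B1c

section GT2

variable {G : Type u} [Group G] [Finite G] [IsSimpleGroup G]

/-- (B1c) -/
theorem b1_inverted (hG : Nat.card G = 4320) (u : G) (hu : orderOf u = 2) :
    1 + 4 * (Nat.card (fixedBy (Sylow 5 G) u) -
        Nat.card {Q : Sylow 5 G // (Q : Subgroup G) ≤ Subgroup.centralizer ({u} : Set G)}) ≤
      Nat.card {g : G // IsConj u g} := by
  classical
  have hp5 : Fact (Nat.Prime 5) := ⟨by norm_num⟩
  have hu2 : u * u = 1 := by
    have := pow_orderOf_eq_one u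
    rw [hu, pow_two] at this
    exact this
  have hcardQ : ∀ Q : Sylow 5 G, Nat.card (Q : Subgroup G) = 5 := by
    intro Q
    have := Cfsg.Agent.S1017.sylow_card_eq Q 1 864 (by rw [hG]; norm_num) (by norm_num)
    simpa using this
  -- the Sylow 5-subgroups normalized but not centralized by `u`
  let D := {Q : Sylow 5 G // Q ∈ fixedBy (Sylow 5 G) u ∧
    ¬ ((Q : Subgroup G) ≤ Subgroup.centralizer ({u} : Set G))}
  let A := {Q : Sylow 5 G // (Q : Subgroup G) ≤ Subgroup.centralizer ({u} : Set G)}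
  -- counting `F ≤ D + A`
  have hFDA : Nat.card (fixedBy (Sylow 5 G) u) ≤ Nat.card D + Nat.card A := by
    rw [← Nat.card_sum]
    let φ : fixedBy (Sylow 5 G) u → D ⊕ A := fun Q =>
      if h : ((Q : Sylow 5 G) : Subgroup G) ≤ Subgroup.centralizer ({u} : Set G) then
        Sum.inr ⟨Q, h⟩ else Sum.inl ⟨Q, Q.2, h⟩
    apply Nat.card_le_card_of_injective φ
    intro Q Q' hQQ'
    by_cases h1 : ((Q : Sylow 5 G) : Subgroup G) ≤ Subgroup.centralizer ({u} : Set G) <;>
      by_cases h2 : ((Q' : Sylow 5 G) : Subgroup G) ≤ Subgroup.centralizer ({u} : Set G)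
    · have e1 : φ Q = Sum.inr ⟨Q, h1⟩ := dif_pos h1
      have e2 : φ Q' = Sum.inr ⟨Q', h2⟩ := dif_pos h2
      rw [e1, e2] at hQQ'
      exact Subtype.ext (congrArg (fun x : A => (x : Sylow 5 G)) (Sum.inr.inj hQQ'))
    · have e1 : φ Q = Sum.inr ⟨Q, h1⟩ := dif_pos h1
      have e2 : φ Q' = Sum.inl ⟨Q', Q'.2, h2⟩ := dif_neg h2
      rw [e1, e2] at hQQ'
      exact absurd hQQ' (by simp)
    · have e1 : φ Q = Sum.inl ⟨Q, Q.2, h1⟩ := dif_neg h1
      have e2 : φ Q' = Sum.inr ⟨Q', h2⟩ := dif_pos h2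
      rw [e1, e2] at hQQ'
      exact absurd hQQ' (by simp)
    · have e1 : φ Q = Sum.inl ⟨Q, Q.2, h1⟩ := dif_neg h1
      have e2 : φ Q' = Sum.inl ⟨Q', Q'.2, h2⟩ := dif_neg h2
      rw [e1, e2] at hQQ'
      exact Subtype.ext (congrArg (fun x : D => (x : Sylow 5 G)) (Sum.inl.inj hQQ'))
  -- inversion
  have hinvD : ∀ Q : D, ∀ y ∈ ((Q : Sylow 5 G) : Subgroup G), u * y * u⁻¹ = y⁻¹ := by
    intro Q
    apply h86_inverts _ (hcardQ Q) u hu2 _ Q.2.2
    intro y hy
    have hfix : u • (Q : Sylow 5 G) = (Q : Sylow 5 G) := Q.2.1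
    have hn := Sylow.smul_eq_iff_mem_normalizer.mp hfix
    exact (Subgroup.mem_normalizer_iff.mp hn y).mp hy
  -- generators
  have hgen : ∀ Q : D, ∃ y : G, y ∈ ((Q : Sylow 5 G) : Subgroup G) ∧ y ≠ 1 := by
    intro Q
    by_contra hcon
    push Not at hcon
    have hbot : ((Q : Sylow 5 G) : Subgroup G) = ⊥ := by
      rw [eq_bot_iff]
      intro y hy
      exact Subgroup.mem_bot.mpr (hcon y hy)
    have h5 := hcardQ Q
    rw [hbot, Subgroup.card_bot] at h5
    omega
  choose yQ hyQ hyQ1 using hgen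
  have hord : ∀ Q : D, orderOf (yQ Q) = 5 := fun Q =>
    (Cfsg.Agent.S1017.zpowers_eq_of_card_prime _ (hcardQ Q) _ (hyQ Q) (hyQ1 Q)).2
  -- the injection
  let f : Option (Fin 4 × D) → {g : G // IsConj u g} := fun o =>
    match o with
    | none => ⟨u, IsConj.refl u⟩
    | some (i, Q) => ⟨u * (yQ Q) ^ (i.1 + 1),
        h86_conj_mul _ (hcardQ Q) u (hinvD Q) _ (Subgroup.pow_mem _ (hyQ Q) _)⟩
  have hpow_ne : ∀ (Q : D) (i : Fin 4), (yQ Q) ^ (i.1 + 1) ≠ 1 := by
    intro Q i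
    apply pow_ne_one_of_lt_orderOf (by omega)
    rw [hord Q]
    have := i.2
    omega
  have hf : Function.Injective f := by
    intro o o' hoo'
    rcases o with _ | ⟨i, Q⟩ <;> rcases o' with _ | ⟨j, Q'⟩
    · rfl
    · exfalso
      have h := congrArg Subtype.val hoo'
      simp only [f] at h
      have : (yQ Q') ^ (j.1 + 1) = 1 := by
        have h' : u * 1 = u * (yQ Q') ^ (j.1 + 1) := by rw [mul_one]; exact h
        exact (mul_left_cancel h').symm
      exact hpow_ne Q' j this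
    · exfalso
      have h := congrArg Subtype.val hoo'
      simp only [f] at h
      have : (yQ Q) ^ (i.1 + 1) = 1 := by
        have h' : u * (yQ Q) ^ (i.1 + 1) = u * 1 := by rw [mul_one]; exact h
        exact mul_left_cancel h'
      exact hpow_ne Q i this
    · have h := congrArg Subtype.val hoo'
      simp only [f] at h
      have hx : (yQ Q) ^ (i.1 + 1) = (yQ Q') ^ (j.1 + 1) := mul_left_cancel h
      have hxQ : (yQ Q) ^ (i.1 + 1) ∈ ((Q : Sylow 5 G) : Subgroup G) :=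
        Subgroup.pow_mem _ (hyQ Q) _
      have hxQ' : (yQ Q) ^ (i.1 + 1) ∈ ((Q' : Sylow 5 G) : Subgroup G) := by
        rw [hx]; exact Subgroup.pow_mem _ (hyQ Q') _
      have h1 := (Cfsg.Agent.S1017.zpowers_eq_of_card_prime _ (hcardQ Q) _ hxQ (hpow_ne Q i)).1
      have h2 := (Cfsg.Agent.S1017.zpowers_eq_of_card_prime _ (hcardQ Q') _ hxQ' (hpow_ne Q i)).1
      have hQQ' : Q = Q' := Subtype.ext (Sylow.ext (h1.symm.trans h2))
      subst hQQ'
      have hij : i.1 + 1 = j.1 + 1 := by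
        apply pow_injOn_Iio_orderOf (x := yQ Q)
        · rw [Set.mem_Iio, hord Q]; have := i.2; omega
        · rw [Set.mem_Iio, hord Q]; have := j.2; omega
        · exact hx
      have : i = j := Fin.ext (by omega)
      rw [this]
  have hcard := Nat.card_le_card_of_injective f hf
  rw [Finite.card_option, Nat.card_prod, Nat.card_fin] at hcard
  have hA : Nat.card A =
      Nat.card {Q : Sylow 5 G // (Q : Subgroup G) ≤ Subgroup.centralizer ({u} : Set G)} := rfl
  omega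

end GT2

end Cfsg.Agent.Helper86.O4320
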