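import Mathlib

/-! O459648 piece (B3u) unique_to_normal (helper53 server, S1022): a subgroup of `C_G(P)` that is the
only one of its order there is normalised by `N_G(P)`. -/

set_option autoImplicit false

namespace Cfsg.Agent.Helper86.O459648

open Subgroup

theorem h86_conj_mem_centralizer {G : Type*} [Group G] (P : Subgroup G) (n : G)
    (hn : n ∈ normalizer (P : Set G)) (c : G) (hc : c ∈ centralizer (P : Set G)) :
    n * c * n⁻¹ ∈ centralizer (P : Set G) := by
  rw [mem_centralizer_iff] at hc ⊢
  intro x hx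
  have hx' : n⁻¹ * x * n ∈ (P : Set G) := by
    have := (mem_normalizer_iff.mp (inv_mem hn) x).mp hx
    simpa using this
  have h1 := hc _ hx'
  calc x * (n * c * n⁻¹) = n * ((n⁻¹ * x * n) * c) * n⁻¹ := by group
    _ = n * (c * (n⁻¹ * x * n)) * n⁻¹ := by rw [h1]
    _ = n * c * n⁻¹ * x := by group

theorem unique_to_normal {G : Type*} [Group G] [Finite G] (P : Subgroup G) (j : ℕ)
    (W : Subgroup ↥(Subgroup.centralizer (P : Set G))) (hW : Nat.card W = j)
    (huniq : ∀ W' : Subgroup ↥(Subgroup.centralizer (P : Set G)), Nat.card W' = j → W' = W) :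
    ∃ V : Subgroup G, Nat.card V = j ∧ V ≤ Subgroup.centralizer (P : Set G) ∧
      Subgroup.normalizer (P : Set G) ≤ Subgroup.normalizer (V : Set G) := by
  set V : Subgroup G := W.map (centralizer (P : Set G)).subtype with hV
  have hVC : V ≤ centralizer (P : Set G) := by
    rintro x ⟨y, _, rfl⟩
    exact y.2
  have hVcard : Nat.card V = j := by
    rw [hV, Nat.card_congr (W.equivMapOfInjective _ (subtype_injective _)).symm.toEquiv, hW]
  have key : ∀ n ∈ normalizer (P : Set G), ∀ h ∈ V, n * h * n⁻¹ ∈ V := by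
    intro n hn h hh
    set V' : Subgroup G := V.map (MulAut.conj n).toMonoidHom with hV'
    have hV'C : V' ≤ centralizer (P : Set G) := by
      rintro x ⟨y, hy, rfl⟩
      exact h86_conj_mem_centralizer P n hn y (hVC hy)
    have hV'card : Nat.card V' = j := by
      rw [hV', Nat.card_congr (V.equivMapOfInjective _ (MulAut.conj n).injective).symm.toEquiv,
        hVcard]
    have hW' : V'.subgroupOf (centralizer (P : Set G)) = W := by
      apply huniq
      rw [Nat.card_congr (subgroupOfEquivOfLe hV'C).toEquiv, hV'card]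
    have hmem : n * h * n⁻¹ ∈ V' := ⟨h, hh, by simp [MulAut.conj_apply]⟩
    have hmemC : n * h * n⁻¹ ∈ centralizer (P : Set G) := hV'C hmem
    have : (⟨n * h * n⁻¹, hmemC⟩ : centralizer (P : Set G)) ∈ V'.subgroupOf (centralizer (P : Set G)) := by
      rw [mem_subgroupOf]; exact hmem
    rw [hW'] at this
    exact ⟨⟨n * h * n⁻¹, hmemC⟩, this, rfl⟩
  refine ⟨V, hVcard, hVC, ?_⟩
  intro n hn
  rw [mem_normalizer_iff]
  intro h
  constructor
  · exact key n hn h
  · intro hh
    have := key n⁻¹ (inv_mem hn) _ hh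
    have e : n⁻¹ * (n * h * n⁻¹) * n⁻¹⁻¹ = h := by group
    rwa [e] at this

end Cfsg.Agent.Helper86.O459648
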