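import Mathlib

/-!
# helper86: index ≤ 2 lemma for the N96 server (helper54, S0980)

If every element of a subgroup `N` conjugates `x` (of order 3) into `zpowers x`, then
`N ⊓ C(x)` has index at most 2 in `N`.
-/

set_option autoImplicit false

namespace Cfsg.Agent.Helper86.N96

universe u

variable {G : Type u} [Group G]

theorem h86_conj_cases {x y : G} (hx : orderOf x = 3) (hy : y ∈ Subgroup.zpowers x)
    (hy1 : y ≠ 1) : y = x ∨ y = x⁻¹ := by
  obtain ⟨k, rfl⟩ := Subgroup.mem_zpowers_iff.mp hy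
  have h3 : x ^ (3 : ℕ) = 1 := by rw [← hx]; exact pow_orderOf_eq_one x
  have hk : x ^ k = x ^ (k % 3) := by
    have := zpow_mod_orderOf x k
    rw [hx] at this
    exact_mod_cast this.symm
  have hk3 : k % 3 = 0 ∨ k % 3 = 1 ∨ k % 3 = 2 := by omega
  rcases hk3 with h | h | h
  · exfalso; apply hy1; rw [hk, h]; simp
  · left; rw [hk, h]; simp
  · right; rw [hk, h]
    have : x ^ (2 : ℤ) * x = 1 := by
      have : x ^ (2 : ℤ) * x = x ^ (3 : ℕ) := by
        rw [pow_succ]; norm_cast
      rw [this, h3]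
    exact eq_inv_of_mul_eq_one_left this

theorem h86_conj_ne_one {x n : G} (hx : orderOf x = 3) : n * x * n⁻¹ ≠ 1 := by
  intro h
  have : x = 1 := by
    have h2 : n * x = n := by
      have := congrArg (· * n) h
      simpa using this
    exact mul_eq_left.mp h2
  rw [this] at hx
  simp at hx

theorem h86_x_ne_inv {x : G} (hx : orderOf x = 3) : x⁻¹ ≠ x := by
  intro h
  have h2 : x ^ 2 = 1 := by
    rw [pow_two]
    nth_rewrite 1 [← h]
    simp
  have := orderOf_dvd_of_pow_eq_one h2
  rw [hx] at this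
  omega

theorem h86_card_inf_centralizer [Finite G] (N : Subgroup G) (x : G) (hx : orderOf x = 3)
    (hnx : ∀ n ∈ N, n * x * n⁻¹ ∈ Subgroup.zpowers x) :
    Nat.card N = Nat.card ↥(N ⊓ Subgroup.centralizer ({x} : Set G)) ∨
    Nat.card N = 2 * Nat.card ↥(N ⊓ Subgroup.centralizer ({x} : Set G)) := by
  classical
  set K : Subgroup G := N ⊓ Subgroup.centralizer ({x} : Set G) with hK
  have hcard : Nat.card (K.subgroupOf N) = Nat.card K :=
    Nat.card_congr (Subgroup.subgroupOfEquivOfLe (inf_le_left : K ≤ N)).toEquiv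
  have hmul : (K.subgroupOf N).index * Nat.card (K.subgroupOf N) = Nat.card N :=
    Subgroup.index_mul_card _
  have hmemK : ∀ n : G, n ∈ N → (n ∈ K ↔ n * x * n⁻¹ = x) := by
    intro n hn
    rw [hK, Subgroup.mem_inf, Subgroup.mem_centralizer_iff]
    constructor
    · rintro ⟨_, h⟩
      have := h x (Set.mem_singleton x)
      rw [← this]; simp
    · intro h
      refine ⟨hn, ?_⟩
      intro y hy
      rw [Set.mem_singleton_iff] at hy
      subst hy
      have := congrArg (· * n) h
      simpa using this.symm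
  have hcases : ∀ n : G, n ∈ N → n * x * n⁻¹ = x ∨ n * x * n⁻¹ = x⁻¹ :=
    fun n hn => h86_conj_cases hx (hnx n hn) (h86_conj_ne_one hx)
  by_cases hall : ∀ n ∈ N, n * x * n⁻¹ = x
  · left
    have : K = N := by
      apply le_antisymm inf_le_left
      intro n hn
      exact (hmemK n hn).mpr (hall n hn)
    rw [this]
  · right
    push Not at hall
    obtain ⟨n₀, hn₀N, hn₀⟩ := hall
    have hn₀' : n₀ * x * n₀⁻¹ = x⁻¹ := (hcases n₀ hn₀N).resolve_left hn₀
    have hidx : (K.subgroupOf N).index = 2 := by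
      rw [Subgroup.index_eq_two_iff]
      refine ⟨⟨n₀, hn₀N⟩, ?_⟩
      rintro ⟨b, hbN⟩
      rw [Subgroup.mem_subgroupOf, Subgroup.mem_subgroupOf]
      simp only [Subgroup.coe_mul]
      rw [hmemK b hbN, hmemK (b * n₀) (N.mul_mem hbN hn₀N)]
      have hexp : b * n₀ * x * (b * n₀)⁻¹ = b * (n₀ * x * n₀⁻¹) * b⁻¹ := by
        simp [mul_assoc]
      rw [hexp, hn₀']
      have hinv : b * x⁻¹ * b⁻¹ = (b * x * b⁻¹)⁻¹ := by simp [mul_assoc]
      rw [hinv]
      rcases hcases b hbN with h | h
      · right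
        refine ⟨h, ?_⟩
        rw [h]
        exact h86_x_ne_inv hx
      · left
        refine ⟨?_, ?_⟩
        · rw [h]; simp
        · rw [h]; exact h86_x_ne_inv hx
    rw [hidx, hcard] at hmul
    exact hmul.symm

end Cfsg.Agent.Helper86.N96
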