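import Mathlib
import Cfsg.Agent.Lib.Helper86.N96Idx

/-!
# helper86: N96 (P3a) m_cases (helper54 server, S0980)
-/

set_option autoImplicit false

namespace Cfsg.Agent.Helper86.N96

open Cfsg MulAction

universe u

section NoSimple

variable {G : Type u} [Group G] [Finite G]

/-- (P3a) `K := N(R) ⊓ C(x)` has index `≤ 2` in `N(R)`: `|K| ∈ {30, 60}`. -/
theorem m_cases (R : Sylow 5 G) (hR : Nat.card (R : Subgroup G) = 5)
    (hN : Nat.card (Subgroup.normalizer ((R : Subgroup G) : Set G)) = 60)
    (x : G) (hx : orderOf x = 3) (hxC : x ∈ Subgroup.centralizer ((R : Subgroup G) : Set G))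
    (hnx : ∀ n ∈ Subgroup.normalizer ((R : Subgroup G) : Set G), n * x * n⁻¹ ∈ Subgroup.zpowers x) :
    Nat.card ↥(Subgroup.normalizer ((R : Subgroup G) : Set G) ⊓ Subgroup.centralizer ({x} : Set G)) = 30 ∨
    Nat.card ↥(Subgroup.normalizer ((R : Subgroup G) : Set G) ⊓ Subgroup.centralizer ({x} : Set G)) = 60 := by
  rcases h86_card_inf_centralizer (Subgroup.normalizer ((R : Subgroup G) : Set G)) x hx hnx with h | h
  · right; rw [← h, hN]
  · left; rw [hN] at h; omega

end NoSimple

end Cfsg.Agent.Helper86.N96
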