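import Mathlib
import Cfsg.Agent.S1017

/-!
# helper86: N96 (P3d) cx_card (helper54 server, S0980)
-/

set_option autoImplicit false

namespace Cfsg.Agent.Helper86.N96

open Cfsg MulAction

universe u

theorem h86_arith (a m : ℕ) (hm' : m = 30 ∨ m = 60) (hdvd : a * m ∣ 5760) (h9 : 9 ∣ a * m)
    (hle : a ≤ 96) (hne : a ≠ 96) (hmod : a % 5 = 1) : a = 6 := by
  rcases hm' with rfl | rfl
  · interval_cases a <;> first | rfl | omega
  · interval_cases a <;> first | rfl | omega

section NoSimple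

variable {G : Type u} [Group G] [Finite G]

/-- (P3d) `|C(x)| = 6 m`. -/
theorem cx_card (hG : Nat.card G = 5760) (h96 : Nat.card (Sylow 5 G) = 96) (R : Sylow 5 G)
    (x : G) (hxC : x ∈ Subgroup.centralizer ((R : Subgroup G) : Set G))
    (m : ℕ) (hm : Nat.card ↥(Subgroup.normalizer ((R : Subgroup G) : Set G) ⊓
      Subgroup.centralizer ({x} : Set G)) = m) (hm' : m = 30 ∨ m = 60)
    (h9 : 9 ∣ Nat.card (Subgroup.centralizer ({x} : Set G)))
    (hA : Nat.card {Q : Sylow 5 G // (Q : Subgroup G) ≤ Subgroup.centralizer ({x} : Set G)} ≠ 96)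
    (hB2 : Nat.card {Q : Sylow 5 G // (Q : Subgroup G) ≤ Subgroup.centralizer ({x} : Set G)} ≡ 1 [MOD 5]) :
    Nat.card (Subgroup.centralizer ({x} : Set G)) = 6 * m := by
  have : Fact (Nat.Prime 5) := ⟨by norm_num⟩
  have hRC : (R : Subgroup G) ≤ Subgroup.centralizer ({x} : Set G) :=
    (Cfsg.Agent.S1017.le_centralizer_singleton_iff (R : Subgroup G) x).mpr hxC
  have hcm := Cfsg.Agent.S1017.card_eq_card_mul (Subgroup.centralizer ({x} : Set G)) R hRC
  rw [hm] at hcm
  have hdvd : Nat.card (Subgroup.centralizer ({x} : Set G)) ∣ 5760 := by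
    rw [← hG]; exact Subgroup.card_subgroup_dvd_card _
  have hle : Nat.card {Q : Sylow 5 G // (Q : Subgroup G) ≤ Subgroup.centralizer ({x} : Set G)} ≤ 96 := by
    rw [← h96]
    exact Nat.card_le_card_of_injective Subtype.val Subtype.val_injective
  rw [hcm] at hdvd h9 ⊢
  have hmod : Nat.card {Q : Sylow 5 G // (Q : Subgroup G) ≤ Subgroup.centralizer ({x} : Set G)} % 5 = 1 := hB2
  rw [h86_arith _ m hm' hdvd h9 hle hA hmod]

end NoSimple

end Cfsg.Agent.Helper86.N96
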