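import Mathlib
import Cfsg.Prelude.Def_Blocks
import Cfsg.Agent.Lib.Helper55.O2520Defs

/-! O2520 pieces (SUMS) sum_S and (SUMU) sum_U (helper55 server, S0984): sums of a class function over
`⟨u⟩`, `⟨u²⟩`, the dihedral group `⟨u⟩ ⊔ ⟨w⟩` and the four-group `⟨u²⟩ ⊔ ⟨w⟩`. -/

set_option autoImplicit false

namespace Cfsg.Agent.Helper86.O2520

open Cfsg Cfsg.Agent.Helper55.O2520
open scoped Classical

universe u

section helpers

variable {G : Type u} [Group G] [Fintype G]

/-- sum over a cyclic group of known order -/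
theorem h86_sum_zpowers (x : G) (n : ℕ) (hx : orderOf x = n) (_hn : 0 < n) (F : G → ℂ) :
    ∑ g : G, (if g ∈ Subgroup.zpowers x then F g else 0) = ∑ k ∈ Finset.range n, F (x ^ k) := by
  rw [← Finset.sum_filter]
  have hfin : IsOfFinOrder x := isOfFinOrder_of_finite x
  have hset : (Finset.univ.filter (fun g => g ∈ Subgroup.zpowers x))
      = (Finset.range n).image (fun k => x ^ k) := by
    ext g
    simp only [Finset.mem_filter, Finset.mem_univ, true_and]
    rw [mem_zpowers_iff_mem_range_orderOf, hx]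
  rw [hset, Finset.sum_image]
  intro a ha b hb hab
  have ha' : a < orderOf x := by rw [hx]; exact Finset.mem_range.mp ha
  have hb' : b < orderOf x := by rw [hx]; exact Finset.mem_range.mp hb
  exact pow_injOn_Iio_orderOf ha' hb' hab

/-- the indicator sum of `⟨x⟩ ⊔ ⟨w⟩` when `w` is an involution normalising `⟨x⟩` outside `⟨x⟩` -/
theorem h86_sum_sup (x w : G) (hw : orderOf w = 2)
    (hnorm : w ∈ Subgroup.normalizer ((Subgroup.zpowers x : Subgroup G) : Set G))
    (hnot : w ∉ Subgroup.zpowers x) (F : G → ℂ) :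
    ∑ g : G, (if g ∈ Subgroup.zpowers x ⊔ Subgroup.zpowers w then F g else 0)
      = ∑ g : G, (if g ∈ Subgroup.zpowers x then F g else 0)
        + ∑ g : G, (if g ∈ Subgroup.zpowers x then F (g * w) else 0) := by
  have hw2 : w ^ 2 = 1 := by rw [← hw]; exact pow_orderOf_eq_one w
  have hwinv : w⁻¹ = w := by
    rw [inv_eq_iff_mul_eq_one, ← sq]; exact hw2
  have hle : Subgroup.zpowers w ≤ Subgroup.normalizer ((Subgroup.zpowers x : Subgroup G) : Set G) :=
    Subgroup.zpowers_le.mpr hnorm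
  have hset := Subgroup.coe_mul_of_right_le_normalizer_left (Subgroup.zpowers x) (Subgroup.zpowers w) hle
  have hmem : ∀ g : G, g ∈ Subgroup.zpowers x ⊔ Subgroup.zpowers w ↔
      (g ∈ Subgroup.zpowers x ∨ g * w ∈ Subgroup.zpowers x) := by
    intro g
    rw [← SetLike.mem_coe, hset]
    constructor
    · rintro ⟨a, ha, b, hb, rfl⟩
      have hb' : b ∈ Subgroup.zpowers w := hb
      rw [mem_zpowers_iff_mem_range_orderOf, hw] at hb'
      simp only [Finset.mem_image, Finset.mem_range] at hb'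
      obtain ⟨k, hk, rfl⟩ := hb'
      interval_cases k
      · left; simpa using ha
      · right
        have : a * w ^ 1 * w = a := by
          rw [pow_one, mul_assoc, ← sq, hw2, mul_one]
        rw [this]; exact ha
    · rintro (h | h)
      · exact ⟨g, h, 1, one_mem _, mul_one g⟩
      · refine ⟨g * w, h, w, Subgroup.mem_zpowers w, ?_⟩
        show g * w * w = g
        rw [mul_assoc, ← sq, hw2, mul_one]
  have hexcl : ∀ g : G, ¬ (g ∈ Subgroup.zpowers x ∧ g * w ∈ Subgroup.zpowers x) := by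
    rintro g ⟨h1, h2⟩
    apply hnot
    have := mul_mem (inv_mem h1) h2
    simpa using this
  have hpt : ∀ g : G, (if g ∈ Subgroup.zpowers x ⊔ Subgroup.zpowers w then F g else 0)
      = (if g ∈ Subgroup.zpowers x then F g else 0)
        + (if g * w ∈ Subgroup.zpowers x then F g else 0) := by
    intro g
    by_cases h1 : g ∈ Subgroup.zpowers x
    · have h2 : ¬ g * w ∈ Subgroup.zpowers x := fun h2 => hexcl g ⟨h1, h2⟩
      rw [if_pos ((hmem g).mpr (Or.inl h1)), if_pos h1, if_neg h2, add_zero]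
    · by_cases h2 : g * w ∈ Subgroup.zpowers x
      · rw [if_pos ((hmem g).mpr (Or.inr h2)), if_neg h1, if_pos h2, zero_add]
      · have : ¬ g ∈ Subgroup.zpowers x ⊔ Subgroup.zpowers w := by
          rw [hmem]; push Not; exact ⟨h1, h2⟩
        rw [if_neg this, if_neg h1, if_neg h2, add_zero]
  rw [Finset.sum_congr rfl (fun g _ => hpt g), Finset.sum_add_distrib]
  congr 1
  -- reindex by right multiplication by `w`
  rw [← Equiv.sum_comp (Equiv.mulRight w)]
  apply Finset.sum_congr rfl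
  intro g _
  simp only [Equiv.coe_mulRight]
  have : g * w * w = g := by rw [mul_assoc, ← sq, hw2, mul_one]
  exact if_congr (by rw [this]) rfl rfl

/-- cardinality from the indicator sum -/
theorem h86_card_of_sum (S : Subgroup G) (n : ℕ)
    (h : ∑ g : G, (if g ∈ S then (1 : ℂ) else 0) = n) : Nat.card S = n := by
  rw [Finset.sum_boole] at h
  have h2 : Nat.card S = (Finset.univ.filter (fun g => g ∈ S)).card := by
    rw [Nat.card_eq_fintype_card, Fintype.card_subtype]
  rw [h2]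
  exact_mod_cast h

end helpers

section sums
variable {G : Type u} [Group G] [Fintype G] (P : Subgroup G) (u w : G) (hc : Config P u w)
  (χ : G → ℂ) (hcl : ∀ g x : G, χ (g * x * g⁻¹) = χ x)
include hc hcl


/-- (SUMU) -/
theorem sum_U :
    Nat.card (Subgroup.zpowers u) = 4 ∧ Nat.card (Subgroup.zpowers (u ^ 2)) = 2 ∧
    ∑ g : G, (if g ∈ Subgroup.zpowers u then χ g else 0) = χ 1 + χ u + χ (u ^ 2) + χ (u ^ 3) ∧
    ∑ g : G, (if g ∈ Subgroup.zpowers (u ^ 2) then χ g else 0) = χ 1 + χ (u ^ 2) := by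
  have ho2 : orderOf (u ^ 2) = 2 := by
    rw [orderOf_pow' u (by norm_num : (2 : ℕ) ≠ 0), hc.ordu]; norm_num
  refine ⟨?_, ?_, ?_, ?_⟩
  · rw [Nat.card_zpowers, hc.ordu]
  · rw [Nat.card_zpowers, ho2]
  · rw [h86_sum_zpowers u 4 hc.ordu (by norm_num) χ]
    simp [Finset.sum_range_succ]
  · rw [h86_sum_zpowers (u ^ 2) 2 ho2 (by norm_num) χ]
    simp [Finset.sum_range_succ]

/-- (SUMS) -/
theorem sum_S :
    Nat.card (Subgroup.zpowers u ⊔ Subgroup.zpowers w : Subgroup G) = 8 ∧
    Nat.card (Subgroup.zpowers (u ^ 2) ⊔ Subgroup.zpowers w : Subgroup G) = 4 ∧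
    ∑ g : G, (if g ∈ Subgroup.zpowers u ⊔ Subgroup.zpowers w then χ g else 0) =
      χ 1 + χ u + χ (u ^ 2) + χ (u ^ 3) + 4 * χ (u ^ 2) ∧
    ∑ g : G, (if g ∈ Subgroup.zpowers (u ^ 2) ⊔ Subgroup.zpowers w then χ g else 0) =
      χ 1 + 3 * χ (u ^ 2) := by
  have ho2 : orderOf (u ^ 2) = 2 := by
    rw [orderOf_pow' u (by norm_num : (2 : ℕ) ≠ 0), hc.ordu]; norm_num
  have hu4 : u ^ 4 = 1 := by rw [← hc.ordu]; exact pow_orderOf_eq_one u
  -- `w` normalises `⟨u⟩` and `⟨u²⟩`
  have hconj : ∀ k : ℕ, w * u ^ k * w⁻¹ = (u⁻¹) ^ k := by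
    intro k
    rw [← hc.wu, conj_pow]
  have hn1 : w ∈ Subgroup.normalizer ((Subgroup.zpowers u : Subgroup G) : Set G) := by
    rw [Subgroup.mem_normalizer_iff_map_conj_eq, MonoidHom.map_zpowers]
    change Subgroup.zpowers (w * u * w⁻¹) = Subgroup.zpowers u
    rw [hc.wu, Subgroup.zpowers_inv]
  have hn2 : w ∈ Subgroup.normalizer ((Subgroup.zpowers (u ^ 2) : Subgroup G) : Set G) := by
    rw [Subgroup.mem_normalizer_iff_map_conj_eq, MonoidHom.map_zpowers]
    change Subgroup.zpowers (w * u ^ 2 * w⁻¹) = Subgroup.zpowers (u ^ 2)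
    rw [hconj 2, inv_pow, Subgroup.zpowers_inv]
  -- `w ∉ ⟨u⟩`
  have hnot1 : w ∉ Subgroup.zpowers u := by
    intro hmem
    obtain ⟨k, hk⟩ := Subgroup.mem_zpowers_iff.mp hmem
    have hcomm : w * u = u * w := by
      rw [← hk, ← zpow_add_one, ← zpow_one_add]
      rw [add_comm]
    have h1 : u⁻¹ = u := by
      rw [← hc.wu, hcomm, mul_inv_cancel_right]
    have h2 : u ^ 2 = 1 := by
      rw [sq]; nth_rewrite 1 [← h1]; exact inv_mul_cancel u
    have := orderOf_dvd_of_pow_eq_one h2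
    rw [hc.ordu] at this
    omega
  have hnot2 : w ∉ Subgroup.zpowers (u ^ 2) := by
    intro hmem
    apply hnot1
    exact (Subgroup.zpowers_le.mpr (Subgroup.pow_mem _ (Subgroup.mem_zpowers u) 2)) hmem
  -- class-function values on the reflections
  have hval : ∀ k : ℕ, χ (u ^ k * w) = χ (u ^ 2) := by
    intro k
    obtain ⟨c, hc'⟩ := isConj_iff.mp (hc.conj k)
    have e1 : χ (u ^ k * w) = χ (w * u ^ k) := by
      have := hcl w (u ^ k * w)
      rw [← this]
      congr 1
      group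
    rw [e1, ← hc', hcl]
  have hS : ∀ F : G → ℂ, ∑ g : G, (if g ∈ Subgroup.zpowers u ⊔ Subgroup.zpowers w then F g else 0)
      = (F 1 + F u + F (u ^ 2) + F (u ^ 3))
        + (F (1 * w) + F (u * w) + F (u ^ 2 * w) + F (u ^ 3 * w)) := by
    intro F
    rw [h86_sum_sup u w hc.ordw hn1 hnot1 F, h86_sum_zpowers u 4 hc.ordu (by norm_num) F,
      h86_sum_zpowers u 4 hc.ordu (by norm_num) (fun g => F (g * w))]
    simp [Finset.sum_range_succ]
  have hV : ∀ F : G → ℂ,
      ∑ g : G, (if g ∈ Subgroup.zpowers (u ^ 2) ⊔ Subgroup.zpowers w then F g else 0)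
      = (F 1 + F (u ^ 2)) + (F (1 * w) + F (u ^ 2 * w)) := by
    intro F
    rw [h86_sum_sup (u ^ 2) w hc.ordw hn2 hnot2 F, h86_sum_zpowers (u ^ 2) 2 ho2 (by norm_num) F,
      h86_sum_zpowers (u ^ 2) 2 ho2 (by norm_num) (fun g => F (g * w))]
    simp [Finset.sum_range_succ]
  refine ⟨?_, ?_, ?_, ?_⟩
  · apply h86_card_of_sum
    rw [hS (fun _ => 1)]
    norm_num
  · apply h86_card_of_sum
    rw [hV (fun _ => 1)]
    norm_num
  · rw [hS χ]
    have h0 := hval 0
    have h1 := hval 1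
    have h2 := hval 2
    have h3 := hval 3
    rw [pow_zero] at h0
    rw [pow_one] at h1
    rw [h0, h1, h2, h3]
    ring
  · rw [hV χ]
    have h0 := hval 0
    have h2 := hval 2
    rw [pow_zero] at h0
    rw [h0, h2]
    ring

end sums

end Cfsg.Agent.Helper86.O2520
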