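import Mathlib
import Cfsg.Agent.Lib.Helper7.CWDefs

set_option autoImplicit false
open Matrix

/-!
# CW (I): integrality of the inner products of a Conway lattice
-/

namespace Cfsg.Agent.Helper86.CW
open Cfsg Cfsg.Agent.Helper7.CW

variable {Λ : AddSubgroup V}

/-- (I) [easy] integrality: `∑ (y+z)² = ∑ y² + ∑ z² + 2 ∑ y z`, all three sums of squares are
divisible by 16 (`h.div` for `y`, `z`, `y + z`), so `16 ∣ 2 ∑ y z`. -/
theorem integral (h : CL Λ) (y z : V) (hy : y ∈ Λ) (hz : z ∈ Λ) : (8 : ℤ) ∣ ∑ i, y i * z i := by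
  have e : ∑ i, (y + z) i ^ 2 = ∑ i, y i ^ 2 + ∑ i, z i ^ 2 + 2 * ∑ i, y i * z i := by
    rw [Finset.mul_sum, ← Finset.sum_add_distrib, ← Finset.sum_add_distrib]
    apply Finset.sum_congr rfl
    intro i _
    simp only [Pi.add_apply]
    ring
  obtain ⟨a, ha⟩ := h.div _ (Λ.add_mem hy hz)
  obtain ⟨b, hb⟩ := h.div y hy
  obtain ⟨c, hc⟩ := h.div z hz
  refine ⟨a - b - c, ?_⟩
  linarith

end Cfsg.Agent.Helper86.CW
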