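import Mathlib
import Cfsg.Agent.Lib.Helper7.CWDefs

set_option autoImplicit false
open Matrix

/-!
# CW (O): the code of a Conway lattice is self-orthogonal
-/

namespace Cfsg.Agent.Helper86.CW
open Cfsg Cfsg.Agent.Helper7.CW

variable {Λ : AddSubgroup V}

/-- the class mod 2 of an integer is zero iff it is even -/
theorem h86_cast_eq_zero_iff (n : ℤ) : ((n : ℤ) : ZMod 2) = 0 ↔ Even n := by
  rw [ZMod.intCast_zmod_eq_zero_iff_dvd, even_iff_two_dvd]
  rfl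

/-- A word of the code is `0` or the reduction of a `±1/0` vector `b` with `dbl b ∈ Λ`. -/
theorem h86_code_rep
    (hW1 : ∀ a : V, dbl a ∈ Λ → (∃ i, Odd (a i)) →
      ∃ b : V, dbl b ∈ Λ ∧ ∀ i, (Odd (a i) → (b i = 1 ∨ b i = -1)) ∧ (Even (a i) → b i = 0))
    (v : Fin 24 → ZMod 2) (hv : v ∈ code Λ) :
    ∃ b : V, dbl b ∈ Λ ∧ redV b = v := by
  obtain ⟨a, ha, rfl⟩ := hv
  by_cases hex : ∃ i, Odd (a i)
  · obtain ⟨b, hb, hbi⟩ := hW1 a ha hex
    refine ⟨b, hb, ?_⟩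
    funext i
    simp only [redV]
    rw [ZMod.intCast_eq_intCast_iff_dvd_sub]
    by_cases ho : Odd (a i)
    · have h1 := Int.odd_iff.mp ho
      rcases (hbi i).1 ho with e | e <;> rw [e] <;> push_cast <;> omega
    · have he := Int.not_odd_iff_even.mp ho
      have h1 := Int.even_iff.mp he
      rw [(hbi i).2 he]
      push_cast
      omega
  · push Not at hex
    refine ⟨0, by rw [dbl_zero]; exact Λ.zero_mem, ?_⟩
    rw [redV_zero]
    funext i
    have := hex i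
    rw [Int.not_odd_iff_even, ← h86_cast_eq_zero_iff] at this
    exact this.symm

/-- (O) [medium] the code is self-orthogonal.  If `v = 0` or `w = 0` trivial.  Otherwise normal forms
`b`, `b'` (from `hW1`) of representatives: `∑ (dbl b) i * (dbl b') i = 4 ∑ b i * b' i`, and
`b i * b' i = ±1` exactly when `v i = 1 = w i`, else `0`; so `∑ b b' ≡ #{i | v i = 1 ∧ w i = 1} (mod 2)`.
`hI` gives `8 ∣ 4 ∑ b b'`, hence that number is even, i.e. `∑ v i * w i = 0` in `ZMod 2`. -/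
theorem orth (h : CL Λ)
    (hI : ∀ y ∈ Λ, ∀ z ∈ Λ, (8 : ℤ) ∣ ∑ i, y i * z i)
    (hW1 : ∀ a : V, dbl a ∈ Λ → (∃ i, Odd (a i)) →
      ∃ b : V, dbl b ∈ Λ ∧ ∀ i, (Odd (a i) → (b i = 1 ∨ b i = -1)) ∧ (Even (a i) → b i = 0))
    (v w : Fin 24 → ZMod 2) (hv : v ∈ code Λ) (hw : w ∈ code Λ) : ∑ i, v i * w i = 0 := by
  obtain ⟨b, hb, rfl⟩ := h86_code_rep hW1 v hv
  obtain ⟨b', hb', rfl⟩ := h86_code_rep hW1 w hw
  have h8 := hI _ hb _ hb'
  have e : ∑ i, (dbl b) i * (dbl b') i = 4 * ∑ i, b i * b' i := by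
    rw [Finset.mul_sum]
    apply Finset.sum_congr rfl
    intro i _
    simp only [dbl]
    ring
  rw [e] at h8
  have h2 : (2 : ℤ) ∣ ∑ i, b i * b' i := by
    obtain ⟨k, hk⟩ := h8
    exact ⟨k, by linarith⟩
  have h3 : ((∑ i, b i * b' i : ℤ) : ZMod 2) = 0 := by
    rw [ZMod.intCast_zmod_eq_zero_iff_dvd]
    exact h2
  rw [← h3]
  push_cast
  rfl

end Cfsg.Agent.Helper86.CW
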