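import Mathlib
import Cfsg.Agent.Lib.Helper7.CWDefs

set_option autoImplicit false
open Matrix

/-!
# CW (W1): normal form of an even vector with an odd half
-/

namespace Cfsg.Agent.Helper86.CW
open Cfsg Cfsg.Agent.Helper7.CW

variable {Λ : AddSubgroup V}

/-- (W1) [medium] normal form of an even vector with a coordinate `≡ 2 (mod 4)`:
let `b0 i = a i % 2 ∈ {0,1}`, `a - b0 = 2c`.  If `∑ c` is even then `dbl a - dbl b0 = 4c ∈ D ⊆ Λ`
(`hD`), take `b = b0`.  Otherwise pick `i0` with `a i0` odd and take `b = b0 - 2•e_{i0}`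
(so `b i0 = -1`): `a - b = 2(c + e_{i0})` has even coordinate sum, again `dbl a - dbl b ∈ D`. -/
theorem normal_form (h : CL Λ)
    (hD : ∀ y : V, (∀ i, (4 : ℤ) ∣ y i) → (8 : ℤ) ∣ ∑ i, y i → y ∈ Λ)
    (a : V) (ha : dbl a ∈ Λ) (hodd : ∃ i, Odd (a i)) :
    ∃ b : V, dbl b ∈ Λ ∧ ∀ i, (Odd (a i) → (b i = 1 ∨ b i = -1)) ∧ (Even (a i) → b i = 0) := by
  by_cases hc : Even (∑ i, a i / 2)
  · -- `b = a mod 2`
    refine ⟨fun i => a i % 2, ?_, ?_⟩
    · have hy : (fun i => 4 * (a i / 2) : V) ∈ Λ := by
        apply hD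
        · intro i
          exact Dvd.intro _ rfl
        · obtain ⟨k, hk⟩ := hc
          rw [← Finset.mul_sum, hk]
          exact ⟨k, by ring⟩
      have e : dbl (fun i => a i % 2) = dbl a - (fun i => 4 * (a i / 2) : V) := by
        funext i
        simp only [dbl, Pi.sub_apply]
        omega
      rw [e]
      exact Λ.sub_mem ha hy
    · intro i
      refine ⟨fun ho => Or.inl (Int.odd_iff.mp ho), fun he => Int.even_iff.mp he⟩
  · -- `b = a mod 2 - 2 e_{i0}`
    obtain ⟨i0, hi0⟩ := hodd
    have hc' : Odd (∑ i, a i / 2) := Int.not_even_iff_odd.mp hc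
    refine ⟨fun i => a i % 2 - (if i = i0 then 2 else 0), ?_, ?_⟩
    · have hy : (fun i => 4 * (a i / 2) + (if i = i0 then 4 else 0) : V) ∈ Λ := by
        apply hD
        · intro i
          split_ifs
          · exact ⟨a i / 2 + 1, by ring⟩
          · exact ⟨a i / 2, by ring⟩
        · obtain ⟨k, hk⟩ := hc'
          rw [Finset.sum_add_distrib, ← Finset.mul_sum, hk, Finset.sum_ite_eq' Finset.univ i0]
          simp only [Finset.mem_univ, if_true]
          exact ⟨k + 1, by ring⟩
      have e : dbl (fun i => a i % 2 - (if i = i0 then 2 else 0)) =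
          dbl a - (fun i => 4 * (a i / 2) + (if i = i0 then 4 else 0) : V) := by
        funext i
        simp only [dbl, Pi.sub_apply]
        split_ifs <;> omega
      rw [e]
      exact Λ.sub_mem ha hy
    · intro i
      by_cases hi : i = i0
      · subst hi
        refine ⟨fun _ => Or.inr ?_, fun he => ?_⟩
        · have := Int.odd_iff.mp hi0
          simp only [if_true]
          omega
        · exact absurd hi0 (Int.not_odd_iff_even.mpr he)
      · simp only [if_neg hi, sub_zero]
        refine ⟨fun ho => Or.inl (Int.odd_iff.mp ho), fun he => Int.even_iff.mp he⟩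

end Cfsg.Agent.Helper86.CW
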