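import Mathlib
import Cfsg.Agent.Lib.Helper7.CWDefs

set_option autoImplicit false
open Matrix

/-!
# CW (W2): the code of a Conway lattice has minimum weight 8 and is doubly even
-/

namespace Cfsg.Agent.Helper86.CW
open Cfsg Cfsg.Agent.Helper7.CW

variable {Λ : AddSubgroup V}

/-- the class mod 2 of an integer is nonzero iff it is odd -/
theorem h86_cast_ne_zero_iff (n : ℤ) : ((n : ℤ) : ZMod 2) ≠ 0 ↔ Odd n := by
  rw [Ne, ZMod.intCast_zmod_eq_zero_iff_dvd, ← Int.not_even_iff_odd, even_iff_two_dvd]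
  rfl

/-- (W2) [medium] minimum weight 8 and doubly even.  `w = redV a`, `dbl a ∈ Λ`; `w ≠ 0` gives an odd
`a i`; `b` from `hW1`; `y = dbl b ≠ 0` has `∑ y² = 4 * #{i | Odd (a i)} = 4 * hammingNorm w`
(`hammingNorm w = #{i | w i ≠ 0}`, and `w i ≠ 0 ↔ Odd (a i)`).  `h.min` gives `32 ≤ 4 wt`,
`h.div` gives `16 ∣ 4 wt`. -/
theorem weight (h : CL Λ)
    (hW1 : ∀ a : V, dbl a ∈ Λ → (∃ i, Odd (a i)) →
      ∃ b : V, dbl b ∈ Λ ∧ ∀ i, (Odd (a i) → (b i = 1 ∨ b i = -1)) ∧ (Even (a i) → b i = 0))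
    (w : Fin 24 → ZMod 2) (hw : w ∈ code Λ) (hw0 : w ≠ 0) :
    8 ≤ hammingNorm w ∧ 4 ∣ hammingNorm w := by
  obtain ⟨a, ha, rfl⟩ := hw
  have hex : ∃ i, Odd (a i) := by
    by_contra hcon
    push Not at hcon
    apply hw0
    funext i
    have := hcon i
    rw [← h86_cast_ne_zero_iff, not_not] at this
    exact this
  obtain ⟨b, hb, hbi⟩ := hW1 a ha hex
  -- the squares of the coordinates of `b`
  have hsq : ∀ i, b i ^ 2 = if redV a i ≠ 0 then 1 else 0 := by
    intro i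
    by_cases ho : Odd (a i)
    · have h1 : redV a i ≠ 0 := (h86_cast_ne_zero_iff (a i)).mpr ho
      rw [if_pos h1]
      rcases (hbi i).1 ho with e | e <;> rw [e] <;> norm_num
    · have h1 : ¬ redV a i ≠ 0 := fun hne => ho ((h86_cast_ne_zero_iff (a i)).mp hne)
      rw [if_neg h1, (hbi i).2 (Int.not_odd_iff_even.mp ho)]
      norm_num
  have hsum : ∑ i, (dbl b) i ^ 2 = 4 * (hammingNorm (redV a) : ℤ) := by
    have e1 : ∀ i, (dbl b) i ^ 2 = 4 * (if redV a i ≠ 0 then 1 else 0) := by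
      intro i
      rw [← hsq i]
      simp only [dbl]
      ring
    rw [Finset.sum_congr rfl (fun i _ => e1 i), ← Finset.mul_sum, Finset.sum_boole]
    rfl
  have hne : dbl b ≠ 0 := by
    obtain ⟨i, hi⟩ := hex
    intro h0
    have h1 := congrFun h0 i
    simp only [dbl, Pi.zero_apply] at h1
    rcases (hbi i).1 hi with e | e <;> rw [e] at h1 <;> norm_num at h1
  have hmin := h.min _ hb hne
  have hdiv := h.div _ hb
  rw [hsum] at hmin hdiv
  constructor
  · have : (8 : ℤ) ≤ (hammingNorm (redV a) : ℤ) := by linarith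
    exact_mod_cast this
  · have : (4 : ℤ) ∣ (hammingNorm (redV a) : ℤ) := by
      obtain ⟨k, hk⟩ := hdiv
      exact ⟨k, by linarith⟩
    exact_mod_cast this

end Cfsg.Agent.Helper86.CW
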