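import Mathlib

/-!
# NSE piece (G5a) for helper7's S3592 server: a Sylow 11-subgroup normalising a Sylow subgroup of
a normal subgroup of order prime to 11 (Frattini + Cauchy)
-/

set_option autoImplicit false

namespace Cfsg.Agent.Helper86.NSE

open Subgroup
open scoped Pointwise

/-- (G5a) -/
theorem exists_sylow_normalizing {G : Type*} [Group G] [Finite G] (hc : Nat.card G = 7920)
    (N : Subgroup G) (hN : N.Normal) (h11 : ¬ 11 ∣ Nat.card N) (p : ℕ) (hp : p.Prime) (T : Sylow p N) :
    ∃ P : Sylow 11 G, (P : Subgroup G) ≤ normalizer ((((T : Subgroup N).map N.subtype : Subgroup G)) : Set G) := by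
  classical
  have : Fact p.Prime := ⟨hp⟩
  have : Fact (Nat.Prime 11) := ⟨by norm_num⟩
  obtain ⟨H, hH⟩ : ∃ H : Subgroup G,
      H = normalizer ((((T : Subgroup N).map N.subtype : Subgroup G)) : Set G) := ⟨_, rfl⟩
  rw [← hH]
  have hfrat : H ⊔ N = ⊤ := by rw [hH]; exact Sylow.normalizer_sup_eq_top T
  -- `11 ∣ |G ⧸ N|`
  have hquot : 11 ∣ Nat.card (G ⧸ N) := by
    have h1 := Subgroup.card_eq_card_quotient_mul_card_subgroup N
    rw [hc] at h1
    have h2 : (11 : ℕ) ∣ Nat.card (G ⧸ N) * Nat.card N := by rw [← h1]; norm_num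
    exact ((Nat.Prime.dvd_mul (by norm_num)).mp h2).resolve_right h11
  -- `H` maps onto `G ⧸ N`
  have hmap : H.map (QuotientGroup.mk' N) = ⊤ := by
    have h1 : (H ⊔ N).map (QuotientGroup.mk' N) = ⊤ := by
      rw [hfrat, ← MonoidHom.range_eq_map, MonoidHom.range_eq_top]
      exact QuotientGroup.mk'_surjective N
    rw [Subgroup.map_sup] at h1
    have h2 : N.map (QuotientGroup.mk' N) = ⊥ := by
      rw [Subgroup.map_eq_bot_iff, QuotientGroup.ker_mk']
    rwa [h2, sup_bot_eq] at h1
  have hH11 : 11 ∣ Nat.card H := by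
    have h1 := Subgroup.card_map_dvd (H := H) (QuotientGroup.mk' N)
    rw [hmap, Subgroup.card_top] at h1
    exact hquot.trans h1
  obtain ⟨x, hx⟩ := exists_prime_orderOf_dvd_card' (G := H) 11 hH11
  have hxo : orderOf (x : G) = 11 := by rw [Subgroup.orderOf_coe]; exact hx
  have hzp : IsPGroup 11 (Subgroup.zpowers (x : G)) :=
    IsPGroup.of_card (n := 1) (by rw [Nat.card_zpowers, hxo]; norm_num)
  obtain ⟨P, hP⟩ := hzp.exists_le_sylow
  have hPcard : Nat.card (P : Subgroup G) = 11 := by
    rw [P.card_eq_multiplicity, hc]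
    have : (7920 : ℕ) = 11 ^ 1 * 720 := by norm_num
    rw [this, Nat.factorization_mul (by norm_num) (by norm_num), Finsupp.add_apply,
      Nat.Prime.factorization_pow (by norm_num), Finsupp.single_eq_same,
      Nat.factorization_eq_zero_of_not_dvd (by norm_num), add_zero, pow_one]
  have heq : Subgroup.zpowers (x : G) = (P : Subgroup G) :=
    Subgroup.eq_of_le_of_card_ge hP (by rw [hPcard, Nat.card_zpowers, hxo])
  refine ⟨P, ?_⟩
  rw [← heq, Subgroup.zpowers_le]
  exact x.2

end Cfsg.Agent.Helper86.NSE
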