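import Mathlib
import Cfsg.Agent.Lib.Helper2.SR0

/-!
# helper86: SR (C6a) lvl_props, (C6b) uM_lower, (C6c) uM_subdiag (helper2 server, S2281)
-/

set_option autoImplicit false

namespace Cfsg.Agent.Helper86.SR

open Matrix Cfsg Cfsg.Agent.Helper13 Cfsg.Agent.Helper84.SpRoot Cfsg.Agent.Helper5.SpAut
open Cfsg.Agent.Helper2.SR

section C
variable {F : Type*} [Field F] {m : ℕ}

/-- (C6a) -/
theorem lvl_props :
    Function.Injective (lvl (m := m)) ∧ (∀ a, ∀ j < lvl (m := m) a, ∃ b, lvl (m := m) b = j) ∧
    (∀ a, lvl (m := m) a < 2 * (m + 2)) := by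
  refine ⟨?_, ?_, ?_⟩
  · intro a b hab
    rcases a with i | i <;> rcases b with j | j
    · have hi := i.isLt; have hj := j.isLt
      simp only [lvl] at hab
      have : i.val = j.val := by omega
      rw [Fin.ext this]
    · have hi := i.isLt; have hj := j.isLt
      simp only [lvl] at hab
      omega
    · have hi := i.isLt; have hj := j.isLt
      simp only [lvl] at hab
      omega
    · simp only [lvl] at hab
      rw [Fin.ext hab]
  · intro a j hj
    have ha : lvl (m := m) a < 2 * (m + 2) := by
      rcases a with i | i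
      · have hi := i.isLt; simp only [lvl]; omega
      · have hi := i.isLt; simp only [lvl]; omega
    by_cases hjn : j < m + 2
    · exact ⟨Sum.inr ⟨j, hjn⟩, by simp [lvl]⟩
    · refine ⟨Sum.inl ⟨2 * (m + 2) - 1 - j, by omega⟩, ?_⟩
      simp only [lvl]
      omega
  · intro a
    rcases a with i | i
    · have hi := i.isLt; simp only [lvl]; omega
    · have hi := i.isLt; simp only [lvl]; omega

theorem h86_PY (s : F) (i j : Fin (m + 2)) :
    (Pm m F * Ym (m := m) s : Matrix (Fin (m + 2)) (Fin (m + 2)) F) i j =
      if j = jB then Pm m F i jB * s else 0 := by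
  rw [Matrix.mul_apply]
  by_cases hj : j = jB
  · rw [if_pos hj]
    rw [Finset.sum_eq_single jB]
    · simp [Ym, hj]
    · intro k _ hk
      simp [Ym, hk]
    · intro h; exact absurd (Finset.mem_univ _) h
  · rw [if_neg hj]
    apply Finset.sum_eq_zero
    intro k _
    simp [Ym, hj]

/-- (C6b) -/
theorem uM_lower (s : F) :
    ∀ a b, lvl (m := m) a ≤ lvl b → (uM (m := m) s - 1) a b = 0 := by
  intro a b hab
  rcases a with i | i <;> rcases b with j | j
  · have hi := i.isLt; have hj := j.isLt
    simp only [lvl] at hab
    have hji : j.val ≤ i.val := by omega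
    simp only [uM, Matrix.sub_apply, Matrix.fromBlocks_apply₁₁, Matrix.one_apply, Sum.inl.injEq,
      Pm, Nm, Matrix.add_apply, Matrix.of_apply]
    have h1 : ¬ (i.val + 1 = j.val) := by omega
    rw [if_neg h1]
    ring
  · have hi := i.isLt; have hj := j.isLt
    simp only [lvl] at hab
    omega
  · simp [uM]
  · have hi := i.isLt; have hj := j.isLt
    simp only [lvl] at hab
    simp only [uM, Matrix.sub_apply, Matrix.fromBlocks_apply₂₂, Matrix.one_apply, Sum.inr.injEq,
      Pinv, Matrix.transpose_apply, Matrix.of_apply]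
    by_cases hij : i = j
    · subst hij
      simp
    · have hne : i.val ≠ j.val := fun h => hij (Fin.ext h)
      have h1 : ¬ (j.val ≤ i.val) := by omega
      rw [if_neg h1, if_neg hij]
      ring

/-- (C6c) -/
theorem uM_subdiag {s : F} (hs : s ≠ 0) :
    ∀ a b, lvl (m := m) a = lvl b + 1 → (uM (m := m) s - 1) a b ≠ 0 := by
  intro a b hab
  rcases a with i | i <;> rcases b with j | j
  · have hi := i.isLt; have hj := j.isLt
    simp only [lvl] at hab
    have hji : i.val + 1 = j.val := by omega
    have hne : i ≠ j := by intro h; rw [h] at hji; omega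
    simp only [uM, Matrix.sub_apply, Matrix.fromBlocks_apply₁₁, Matrix.one_apply, Sum.inl.injEq,
      Pm, Nm, Matrix.add_apply, Matrix.of_apply]
    rw [if_pos hji, if_neg hne]
    simp
  · have hi := i.isLt; have hj := j.isLt
    simp only [lvl] at hab
    have hiB : i = jB := by apply Fin.ext; simp only [jB]; omega
    have hjB : j = jB := by apply Fin.ext; simp only [jB]; omega
    simp only [uM, Matrix.sub_apply, Matrix.fromBlocks_apply₁₂, Matrix.one_apply, reduceCtorEq,
      if_false, sub_zero]
    rw [h86_PY, if_pos hjB, hiB]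
    have hP : Pm m F jB jB = 1 := by
      simp [Pm, Nm]
    rw [hP, one_mul]
    exact hs
  · have hi := i.isLt; have hj := j.isLt
    simp only [lvl] at hab
    omega
  · have hi := i.isLt; have hj := j.isLt
    simp only [lvl] at hab
    have hne : i ≠ j := by intro h; rw [h] at hab; omega
    have hle : j.val ≤ i.val := by omega
    simp only [uM, Matrix.sub_apply, Matrix.fromBlocks_apply₂₂, Matrix.one_apply, Sum.inr.injEq,
      Pinv, Matrix.transpose_apply, Matrix.of_apply]
    rw [if_pos hle, if_neg hne, hab]
    simp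

end C

end Cfsg.Agent.Helper86.SR
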