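import Mathlib

set_option autoImplicit false

/-!
# HEC (CNT): bounding a centraliser in a permutation group by counting conjugates in a point stabiliser
-/

namespace Cfsg.Agent.Helper86.HEC

/-- (CNT)  Upper bound for a centraliser in a permutation group by counting conjugates in a point stabiliser.
`R` is a finite group of permutations of `ℕ`, `K` its stabiliser of the point `0`, `ζ ∈ K`, all fixed points
`p < N` of `ζ` lie in the finite set `F`, and `conj` lists `c` different `K`-conjugates of `ζ`.  Then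
`|C_R(ζ)| * c ≤ |F| * |K|`. -/
theorem card_centralizer_mul_le (R K : Subgroup (Equiv.Perm ℕ)) [Finite ↥R]
    (hK : ∀ g : Equiv.Perm ℕ, g ∈ K ↔ g ∈ R ∧ g 0 = 0)
    (ζ : Equiv.Perm ℕ) (hζK : ζ ∈ K)
    (N : ℕ) (hlt : ∀ g ∈ R, g 0 < N)
    (F : Finset ℕ) (hF : ∀ p < N, ζ p = p → p ∈ F)
    (c : ℕ) (conj : Fin c → Equiv.Perm ℕ)
    (hconj : ∀ i, ∃ k ∈ K, conj i = k * ζ * k⁻¹) (hinj : Function.Injective conj) :
    Nat.card ↥(R ⊓ Subgroup.centralizer ({ζ} : Set (Equiv.Perm ℕ))) * c ≤ F.card * Nat.card ↥K := by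
  classical
  set Cz := R ⊓ Subgroup.centralizer ({ζ} : Set (Equiv.Perm ℕ)) with hCz
  set Cz0 := K ⊓ Subgroup.centralizer ({ζ} : Set (Equiv.Perm ℕ)) with hCz0
  have hKR : K ≤ R := fun g hg => ((hK g).mp hg).1
  have : Finite ↥K := Finite.of_injective _ (Subgroup.inclusion_injective hKR)
  have : Finite ↥Cz := Finite.of_injective _ (Subgroup.inclusion_injective (inf_le_left : Cz ≤ R))
  have : Finite ↥Cz0 := Finite.of_injective _ (Subgroup.inclusion_injective (inf_le_left : Cz0 ≤ K))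
  have hcomm : ∀ g ∈ Subgroup.centralizer ({ζ} : Set (Equiv.Perm ℕ)), g * ζ = ζ * g := by
    intro g hg
    exact Subgroup.mem_centralizer_singleton_iff.mp hg
  -- the orbit of `0` under `Cz` lies in `F`
  have horb : ∀ g ∈ Cz, g 0 ∈ F := by
    intro g hg
    apply hF _ (hlt g hg.1)
    have h1 := hcomm g hg.2
    have h2 : ζ 0 = 0 := ((hK ζ).mp hζK).2
    calc ζ (g 0) = (ζ * g) 0 := rfl
      _ = (g * ζ) 0 := by rw [h1]
      _ = g (ζ 0) := rfl
      _ = g 0 := by rw [h2]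
  -- representatives
  have hrep : ∀ p : ℕ, ∃ g : Equiv.Perm ℕ, (∃ g' ∈ Cz, g' 0 = p) → (g ∈ Cz ∧ g 0 = p) := by
    intro p
    by_cases h : ∃ g' ∈ Cz, g' 0 = p
    · obtain ⟨g', hg', hp⟩ := h
      exact ⟨g', fun _ => ⟨hg', hp⟩⟩
    · exact ⟨1, fun h' => absurd h' h⟩
  choose rep hrep' using hrep
  -- (1) `|Cz| ≤ |F| * |Cz0|`
  have h1 : Nat.card ↥Cz ≤ F.card * Nat.card ↥Cz0 := by
    have hmap : ∀ g : ↥Cz, (rep ((g : Equiv.Perm ℕ) 0))⁻¹ * (g : Equiv.Perm ℕ) ∈ Cz0 := by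
      intro g
      obtain ⟨hr1, hr2⟩ := hrep' ((g : Equiv.Perm ℕ) 0) ⟨g, g.2, rfl⟩
      have hmem : (rep ((g : Equiv.Perm ℕ) 0))⁻¹ * (g : Equiv.Perm ℕ) ∈ Cz := Cz.mul_mem (Cz.inv_mem hr1) g.2
      refine ⟨(hK _).mpr ⟨hmem.1, ?_⟩, hmem.2⟩
      show (rep ((g : Equiv.Perm ℕ) 0))⁻¹ ((g : Equiv.Perm ℕ) 0) = 0
      rw [Equiv.Perm.inv_eq_iff_eq]
      exact hr2.symm
    let φ : ↥Cz → ↥F × ↥Cz0 := fun g =>
      (⟨(g : Equiv.Perm ℕ) 0, horb g g.2⟩, ⟨_, hmap g⟩)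
    have hφ : Function.Injective φ := by
      intro g g' hgg'
      have e1 : (g : Equiv.Perm ℕ) 0 = (g' : Equiv.Perm ℕ) 0 := by
        have := congrArg (fun x => (x.1 : ℕ)) hgg'
        exact this
      have e2 : (rep ((g : Equiv.Perm ℕ) 0))⁻¹ * (g : Equiv.Perm ℕ) =
          (rep ((g' : Equiv.Perm ℕ) 0))⁻¹ * (g' : Equiv.Perm ℕ) := by
        have := congrArg (fun x => (x.2 : Equiv.Perm ℕ)) hgg'
        exact this
      rw [e1] at e2
      exact Subtype.ext (mul_left_cancel e2)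
    have := Nat.card_le_card_of_injective φ hφ
    rw [Nat.card_prod] at this
    simpa using this
  -- (2) `c * |Cz0| ≤ |K|`
  choose kk hkk using hconj
  have h2 : c * Nat.card ↥Cz0 ≤ Nat.card ↥K := by
    let ψ : Fin c × ↥Cz0 → ↥K := fun x => ⟨kk x.1 * (x.2 : Equiv.Perm ℕ), K.mul_mem (hkk x.1).1 x.2.2.1⟩
    have hψ : Function.Injective ψ := by
      rintro ⟨i, h⟩ ⟨j, h'⟩ hx
      have e : kk i * (h : Equiv.Perm ℕ) = kk j * (h' : Equiv.Perm ℕ) := congrArg Subtype.val hx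
      have hc : ∀ (k : Equiv.Perm ℕ) (h : ↥Cz0),
          (k * (h : Equiv.Perm ℕ)) * ζ * (k * (h : Equiv.Perm ℕ))⁻¹ = k * ζ * k⁻¹ := by
        intro k h
        have := hcomm h h.2.2
        calc (k * (h : Equiv.Perm ℕ)) * ζ * (k * (h : Equiv.Perm ℕ))⁻¹
            = k * ((h : Equiv.Perm ℕ) * ζ) * (h : Equiv.Perm ℕ)⁻¹ * k⁻¹ := by group
          _ = k * (ζ * (h : Equiv.Perm ℕ)) * (h : Equiv.Perm ℕ)⁻¹ * k⁻¹ := by rw [this]
          _ = k * ζ * k⁻¹ := by group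
      have hij : i = j := by
        apply hinj
        rw [(hkk i).2, (hkk j).2, ← hc (kk i) h, ← hc (kk j) h', e]
      subst hij
      have : (h : Equiv.Perm ℕ) = h' := mul_left_cancel e
      rw [Subtype.ext this]
    have := Nat.card_le_card_of_injective ψ hψ
    rw [Nat.card_prod] at this
    simpa using this
  calc Nat.card ↥Cz * c ≤ (F.card * Nat.card ↥Cz0) * c := Nat.mul_le_mul_right c h1
    _ = F.card * (c * Nat.card ↥Cz0) := by ring
    _ ≤ F.card * Nat.card ↥K := Nat.mul_le_mul_left _ h2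

end Cfsg.Agent.Helper86.HEC
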