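import Mathlib
import Cfsg.Agent.Lib.Helper2.Nilpotent

/-!
# O5040 (S0978) 2-group core, shared by pieces (F20) and (S10) of helper74's server

`S` of order `16`, `T ≤ S` of order `8`, an involution `u ∈ Z(T)` with `C_S(u) = T`, `s ∈ S \ T`.
Then `T` is abelian, `Z(S) ≤ T`, `Z(S) = C_T(s)`, and `φ t = t⁻¹ (s t s⁻¹)` is an endomorphism of
`T` with kernel `Z(S)` whose image `I0` is inverted by `s`.
-/

set_option autoImplicit false

namespace Cfsg.Agent.Helper86.O5040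

set_option linter.unusedSectionVars false

variable {G : Type*} [Group G] [Finite G]

/-- disjoint subgroups inside `T`: product bound -/
theorem card_mul_card_le_of_inf_eq_bot (A B T : Subgroup G) (hA : A ≤ T) (hB : B ≤ T)
    (h : A ⊓ B = ⊥) : Nat.card A * Nat.card B ≤ Nat.card T := by
  rw [← Nat.card_prod]
  refine Nat.card_le_card_of_injective
    (fun x : A × B => (⟨x.1 * x.2, T.mul_mem (hA x.1.2) (hB x.2.2)⟩ : T)) ?_
  rintro ⟨a, b⟩ ⟨a', b'⟩ hab
  have h1 : (a : G) * b = a' * b' := congrArg Subtype.val hab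
  have h2 : (a' : G)⁻¹ * a = b' * (b : G)⁻¹ := by
    calc (a' : G)⁻¹ * a = (a' : G)⁻¹ * (a * b) * (b : G)⁻¹ := by group
      _ = (a' : G)⁻¹ * (a' * b') * (b : G)⁻¹ := by rw [h1]
      _ = b' * (b : G)⁻¹ := by group
  have h3 : (a' : G)⁻¹ * a ∈ A ⊓ B :=
    ⟨A.mul_mem (A.inv_mem a'.2) a.2, h2 ▸ B.mul_mem b'.2 (B.inv_mem b.2)⟩
  rw [h, Subgroup.mem_bot] at h3
  have ha : (a : G) = a' := (inv_mul_eq_one.mp h3).symm
  have hb : (b : G) = b' := by
    rw [ha] at h1; exact mul_left_cancel h1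
  exact Prod.ext (Subtype.ext ha) (Subtype.ext hb)

/-- the centre of `S`, as a subgroup of `G` -/
def ZS (S : Subgroup G) : Subgroup G := S ⊓ Subgroup.centralizer (S : Set G)

theorem mem_ZS_iff (S : Subgroup G) (z : G) : z ∈ ZS S ↔ z ∈ S ∧ ∀ g ∈ S, g * z = z * g := by
  rw [ZS, Subgroup.mem_inf, Subgroup.mem_centralizer_iff]; rfl

/-- the hypotheses of the 2-group core -/
structure Core (S T : Subgroup G) (u s : G) : Prop where
  hTS : T ≤ S
  hS : Nat.card S = 16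
  hT : Nat.card T = 8
  hu : orderOf u = 2
  huT : u ∈ T
  huZ : ∀ t ∈ T, t * u = u * t
  hCu : ∀ g ∈ S, g * u = u * g → g ∈ T
  hsS : s ∈ S
  hsT : s ∉ T

namespace Core

variable {S T : Subgroup G} {u s : G}

theorem index (h : Core S T u s) : (T.subgroupOf S).index = 2 := by
  have h1 := Subgroup.card_mul_index (T.subgroupOf S)
  rw [Nat.card_congr (Subgroup.subgroupOfEquivOfLe h.hTS).toEquiv, h.hT, h.hS] at h1
  omega

theorem conj_mem (h : Core S T u s) {g t : G} (hg : g ∈ S) (ht : t ∈ T) : g * t * g⁻¹ ∈ T := by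
  have hn : (T.subgroupOf S).Normal := Subgroup.normal_of_index_eq_two h.index
  have := hn.conj_mem ⟨t, h.hTS ht⟩ (Subgroup.mem_subgroupOf.mpr ht) ⟨g, hg⟩
  simpa [Subgroup.mem_subgroupOf] using this

theorem mul_mem_iff (h : Core S T u s) {a b : G} (ha : a ∈ S) (hb : b ∈ S) :
    a * b ∈ T ↔ (a ∈ T ↔ b ∈ T) := by
  have := Subgroup.mul_mem_iff_of_index_two h.index (a := ⟨a, ha⟩) (b := ⟨b, hb⟩)
  simpa [Subgroup.mem_subgroupOf] using this

theorem sq_mem (h : Core S T u s) : s * s ∈ T := (h.mul_mem_iff h.hsS h.hsS).mpr Iff.rfl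

/-- `S = T ∪ s T` -/
theorem cases (h : Core S T u s) {g : G} (hg : g ∈ S) : g ∈ T ∨ s⁻¹ * g ∈ T := by
  by_cases hgT : g ∈ T
  · exact Or.inl hgT
  · right
    rw [h.mul_mem_iff (S.inv_mem h.hsS) hg]
    constructor
    · intro h1; exact absurd (by simpa using T.inv_mem h1) h.hsT
    · intro h1; exact absurd h1 hgT

theorem u_ne_one (h : Core S T u s) : u ≠ 1 := by
  intro h1
  have := h.hu
  rw [h1, orderOf_one] at this
  omega

theorem u_mul_u (h : Core S T u s) : u * u = 1 := by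
  rw [← pow_two, ← h.hu, pow_orderOf_eq_one]

theorem u_inv (h : Core S T u s) : u⁻¹ = u := inv_eq_of_mul_eq_one_left h.u_mul_u

theorem u'_mem (h : Core S T u s) : s * u * s⁻¹ ∈ T := h.conj_mem h.hsS h.huT

theorem u'_central (h : Core S T u s) : ∀ t ∈ T, t * (s * u * s⁻¹) = (s * u * s⁻¹) * t := by
  intro t ht
  have ht' : s⁻¹ * t * s ∈ T := by simpa using h.conj_mem (S.inv_mem h.hsS) ht
  have h1 := h.huZ _ ht'
  calc t * (s * u * s⁻¹) = s * ((s⁻¹ * t * s) * u) * s⁻¹ := by group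
    _ = s * (u * (s⁻¹ * t * s)) * s⁻¹ := by rw [h1]
    _ = (s * u * s⁻¹) * t := by group

theorem u'_ne (h : Core S T u s) : s * u * s⁻¹ ≠ u := by
  intro he
  apply h.hsT
  apply h.hCu s h.hsS
  calc s * u = (s * u * s⁻¹) * s := by group
    _ = u * s := by rw [he]

theorem u'_ne_one (h : Core S T u s) : s * u * s⁻¹ ≠ 1 := by
  intro he
  apply h.u_ne_one
  have : u = s⁻¹ * (s * u * s⁻¹) * s := by group
  rw [this, he]; group

/-- `T` is abelian -/
theorem comm (h : Core S T u s) : ∀ a ∈ T, ∀ b ∈ T, a * b = b * a := by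
  classical
  have h1Z : (⟨u, h.huT⟩ : T) ∈ Subgroup.center T := by
    rw [Subgroup.mem_center_iff]; intro g; exact Subtype.ext (h.huZ g g.2)
  have h2Z : (⟨s * u * s⁻¹, h.u'_mem⟩ : T) ∈ Subgroup.center T := by
    rw [Subgroup.mem_center_iff]; intro g; exact Subtype.ext (h.u'_central g g.2)
  have hdvd : Nat.card (Subgroup.center T) ∣ 8 := by
    rw [← h.hT]; exact Subgroup.card_subgroup_dvd_card _
  have hidx := Subgroup.card_mul_index (Subgroup.center T)
  rw [h.hT] at hidx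
  have hne1 : Nat.card (Subgroup.center T) ≠ 1 := by
    intro h1
    rw [Subgroup.card_eq_one] at h1
    rw [h1, Subgroup.mem_bot] at h1Z
    exact h.u_ne_one (congrArg Subtype.val h1Z)
  have hne2 : Nat.card (Subgroup.center T) ≠ 2 := by
    intro h2
    rw [Nat.card_eq_two_iff' (1 : Subgroup.center T)] at h2
    obtain ⟨y, -, hy⟩ := h2
    have e1 := hy ⟨⟨u, h.huT⟩, h1Z⟩ (by
      intro he; exact h.u_ne_one (congrArg (fun z : Subgroup.center T => ((z : T) : G)) he))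
    have e2 := hy ⟨⟨s * u * s⁻¹, h.u'_mem⟩, h2Z⟩ (by
      intro he; exact h.u'_ne_one (congrArg (fun z : Subgroup.center T => ((z : T) : G)) he))
    exact h.u'_ne (congrArg (fun z : Subgroup.center T => ((z : T) : G)) (e2.trans e1.symm))
  have hcases : Nat.card (Subgroup.center T) = 4 ∨ Nat.card (Subgroup.center T) = 8 := by
    have hmem : Nat.card (Subgroup.center T) ∈ Nat.divisors 8 := Nat.mem_divisors.mpr ⟨hdvd, by norm_num⟩
    have hdiv : Nat.divisors 8 = {1, 2, 4, 8} := by decide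
    rw [hdiv] at hmem
    simp only [Finset.mem_insert, Finset.mem_singleton] at hmem
    rcases hmem with h' | h' | h' | h'
    · exact absurd h' hne1
    · exact absurd h' hne2
    · exact Or.inl h'
    · exact Or.inr h'
  have hcommT : ∀ a b : T, a * b = b * a := by
    rcases hcases with h4 | h8
    · have hi2 : (Subgroup.center T).index = 2 := by rw [h4] at hidx; omega
      have : Fact (Nat.Prime 2) := ⟨Nat.prime_two⟩
      have : IsCyclic (T ⧸ Subgroup.center T) :=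
        isCyclic_of_prime_card (p := 2) (by rw [← Subgroup.index_eq_card]; exact hi2)
      have hc := (QuotientGroup.mk' (Subgroup.center T)).isMulCommutative_of_isCyclic_of_ker_le_center
        (by rw [QuotientGroup.ker_mk'])
      exact fun a b => hc.is_comm.comm a b
    · have htop : Subgroup.center T = ⊤ := by
        rw [← Subgroup.card_eq_iff_eq_top, h8, h.hT]
      intro a b
      have hb : b ∈ Subgroup.center T := by rw [htop]; exact Subgroup.mem_top b
      exact ((Subgroup.mem_center_iff.mp hb) a)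
  intro a ha b hb
  exact congrArg Subtype.val (hcommT ⟨a, ha⟩ ⟨b, hb⟩)

theorem zs_le (h : Core S T u s) : ZS S ≤ T := by
  intro z hz
  rw [mem_ZS_iff] at hz
  exact h.hCu z hz.1 (by rw [hz.2 u (h.hTS h.huT)])

theorem mem_zs_iff (h : Core S T u s) {t : G} (ht : t ∈ T) : t ∈ ZS S ↔ s * t = t * s := by
  rw [mem_ZS_iff]
  constructor
  · intro h1; exact h1.2 s h.hsS
  · intro h1
    refine ⟨h.hTS ht, ?_⟩
    intro g hg
    rcases h.cases hg with hgT | hgT
    · exact h.comm g hgT t ht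
    · have h2 := h.comm _ hgT t ht
      calc g * t = s * ((s⁻¹ * g) * t) := by group
        _ = s * (t * (s⁻¹ * g)) := by rw [h2]
        _ = (s * t) * (s⁻¹ * g) := by group
        _ = (t * s) * (s⁻¹ * g) := by rw [h1]
        _ = t * g := by group

theorem u_not_mem_zs (h : Core S T u s) : u ∉ ZS S := by
  intro hu
  exact h.hsT (h.hCu s h.hsS ((h.mem_zs_iff h.huT).mp hu))

/-- the endomorphism `t ↦ t⁻¹ (s t s⁻¹)` of `T` -/
def phiHom (h : Core S T u s) : T →* T where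
  toFun t := ⟨(t : G)⁻¹ * (s * t * s⁻¹), T.mul_mem (T.inv_mem t.2) (h.conj_mem h.hsS t.2)⟩
  map_one' := by ext; simp
  map_mul' a b := by
    ext
    have hb' : s * (b : G) * s⁻¹ ∈ T := h.conj_mem h.hsS b.2
    have ha' : s * (a : G) * s⁻¹ ∈ T := h.conj_mem h.hsS a.2
    have e1 : (b : G)⁻¹ * (s * a * s⁻¹) = (s * a * s⁻¹) * (b : G)⁻¹ :=
      h.comm _ (T.inv_mem b.2) _ ha'
    have e2 : (b : G)⁻¹ * (a : G)⁻¹ = (a : G)⁻¹ * (b : G)⁻¹ :=
      h.comm _ (T.inv_mem b.2) _ (T.inv_mem a.2)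
    show ((a : G) * b)⁻¹ * (s * ((a : G) * b) * s⁻¹) =
      ((a : G)⁻¹ * (s * a * s⁻¹)) * ((b : G)⁻¹ * (s * b * s⁻¹))
    calc ((a : G) * b)⁻¹ * (s * ((a : G) * b) * s⁻¹)
        = ((b : G)⁻¹ * (a : G)⁻¹) * (s * a * s⁻¹) * (s * b * s⁻¹) := by group
      _ = ((a : G)⁻¹ * (b : G)⁻¹) * (s * a * s⁻¹) * (s * b * s⁻¹) := by rw [e2]
      _ = (a : G)⁻¹ * ((b : G)⁻¹ * (s * a * s⁻¹)) * (s * b * s⁻¹) := by group
      _ = (a : G)⁻¹ * ((s * a * s⁻¹) * (b : G)⁻¹) * (s * b * s⁻¹) := by rw [e1]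
      _ = ((a : G)⁻¹ * (s * a * s⁻¹)) * ((b : G)⁻¹ * (s * b * s⁻¹)) := by group

theorem phiHom_apply (h : Core S T u s) (t : T) :
    ((h.phiHom t : T) : G) = (t : G)⁻¹ * (s * t * s⁻¹) := rfl

/-- the image of `φ`, as a subgroup of `G` -/
noncomputable def I0 (h : Core S T u s) : Subgroup G := h.phiHom.range.map T.subtype

theorem mem_I0_iff (h : Core S T u s) (x : G) :
    x ∈ h.I0 ↔ ∃ t ∈ T, t⁻¹ * (s * t * s⁻¹) = x := by
  rw [I0, Subgroup.mem_map]
  constructor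
  · rintro ⟨y, ⟨t, rfl⟩, rfl⟩
    exact ⟨t, t.2, rfl⟩
  · rintro ⟨t, ht, rfl⟩
    exact ⟨h.phiHom ⟨t, ht⟩, ⟨⟨t, ht⟩, rfl⟩, rfl⟩

theorem I0_le (h : Core S T u s) : h.I0 ≤ T := by
  intro x hx
  rw [I0, Subgroup.mem_map] at hx
  obtain ⟨y, -, rfl⟩ := hx
  exact y.2

theorem ker_map (h : Core S T u s) : h.phiHom.ker.map T.subtype = ZS S := by
  ext x
  rw [Subgroup.mem_map]
  constructor
  · rintro ⟨t, ht, rfl⟩
    rw [MonoidHom.mem_ker] at ht
    have h1 : (t : G)⁻¹ * (s * t * s⁻¹) = 1 := by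
      have := congrArg Subtype.val ht
      simpa [phiHom_apply] using this
    rw [Subgroup.coe_subtype, h.mem_zs_iff t.2]
    have h2 : s * (t : G) * s⁻¹ = t := by
      have := inv_mul_eq_one.mp h1
      exact this.symm
    calc s * (t : G) = (s * t * s⁻¹) * s := by group
      _ = t * s := by rw [h2]
  · intro hx
    have hxT := h.zs_le hx
    refine ⟨⟨x, hxT⟩, ?_, rfl⟩
    rw [MonoidHom.mem_ker]
    ext
    rw [phiHom_apply]
    have h1 := (h.mem_zs_iff hxT).mp hx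
    show x⁻¹ * (s * x * s⁻¹) = 1
    rw [h1]; group

theorem card_zs_mul_card_I0 (h : Core S T u s) : Nat.card (ZS S) * Nat.card h.I0 = 8 := by
  have h1 := Subgroup.card_mul_index h.phiHom.ker
  rw [Subgroup.index_ker, h.hT] at h1
  rw [← h1, ← h.ker_map, I0]
  congr 1
  · exact (Nat.card_congr (Subgroup.equivMapOfInjective _ _ T.subtype_injective).toEquiv).symm
  · exact (Nat.card_congr (Subgroup.equivMapOfInjective _ _ T.subtype_injective).toEquiv).symm

/-- `s` inverts `I0` -/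
theorem conj_I0 (h : Core S T u s) {x : G} (hx : x ∈ h.I0) : s * x * s⁻¹ = x⁻¹ := by
  rw [mem_I0_iff] at hx
  obtain ⟨t, ht, rfl⟩ := hx
  have hss : s * s ∈ T := h.sq_mem
  have e1 : (s * s) * t = t * (s * s) := h.comm _ hss _ ht
  calc s * (t⁻¹ * (s * t * s⁻¹)) * s⁻¹
      = (s * t * s⁻¹)⁻¹ * ((s * s) * t) * (s * s)⁻¹ := by group
    _ = (s * t * s⁻¹)⁻¹ * (t * (s * s)) * (s * s)⁻¹ := by rw [e1]
    _ = (t⁻¹ * (s * t * s⁻¹))⁻¹ := by group

/-- involutions (and `1`) of `I0` are central in `S` -/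
theorem invol_I0 (h : Core S T u s) {x : G} (hx : x ∈ h.I0) (hxx : x * x = 1) : x ∈ ZS S := by
  rw [h.mem_zs_iff (h.I0_le hx)]
  have h1 := h.conj_I0 hx
  have h2 : x⁻¹ = x := inv_eq_of_mul_eq_one_left hxx
  rw [h2] at h1
  calc s * x = (s * x * s⁻¹) * s := by group
    _ = x * s := by rw [h1]

/-- `ζ = u (s u s⁻¹) = φ u` -/
theorem zeta_mem_I0 (h : Core S T u s) : u * (s * u * s⁻¹) ∈ h.I0 := by
  rw [mem_I0_iff]
  exact ⟨u, h.huT, by rw [h.u_inv]⟩

theorem zeta_sq (h : Core S T u s) : (u * (s * u * s⁻¹)) * (u * (s * u * s⁻¹)) = 1 := by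
  have e := h.u'_central u h.huT
  calc (u * (s * u * s⁻¹)) * (u * (s * u * s⁻¹))
      = u * ((s * u * s⁻¹) * u) * (s * u * s⁻¹) := by group
    _ = u * (u * (s * u * s⁻¹)) * (s * u * s⁻¹) := by rw [← e]
    _ = (u * u) * (s * (u * u) * s⁻¹) := by group
    _ = 1 := by rw [h.u_mul_u]; group

theorem zeta_ne_one (h : Core S T u s) : u * (s * u * s⁻¹) ≠ 1 := by
  intro he
  apply h.u'_ne
  have : s * u * s⁻¹ = u⁻¹ := by
    rw [eq_inv_iff_mul_eq_one, ← he]
    exact (h.u'_central u h.huT).symm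
  rw [this, h.u_inv]

theorem zeta_mem_zs (h : Core S T u s) : u * (s * u * s⁻¹) ∈ ZS S :=
  h.invol_I0 h.zeta_mem_I0 h.zeta_sq

end Core

end Cfsg.Agent.Helper86.O5040
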