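import Mathlib
import Cfsg.Agent.Lib.Helper74.M11Defs
import Cfsg.Agent.S1017
import Cfsg.Agent.Lib.Helper86.O5040Core

/-!
# O5040 (S0978): Sylow bookkeeping around `N(R)`, `R` a Sylow 5-subgroup, `|N(R)| = 40`
shared by pieces (F20) and (S10) of helper74's server.
-/

set_option autoImplicit false
set_option linter.unusedSectionVars false

namespace Cfsg.Agent.Helper86.O5040

open Cfsg.Agent.Helper74.M11

variable {G : Type*} [Group G] [Finite G]

theorem card_sylow5 (hG : Nat.card G = 5040) (R : Sylow 5 G) :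
    Nat.card (R : Subgroup G) = 5 := by
  have : Fact (Nat.Prime 5) := ⟨by norm_num⟩
  have := Cfsg.Agent.S1017.sylow_card_eq R 1 1008 (by rw [hG]; norm_num) (by norm_num)
  simpa using this

theorem card_sylow2 (hG : Nat.card G = 5040) (S : Sylow 2 G) :
    Nat.card (S : Subgroup G) = 16 := by
  have := Cfsg.Agent.S1017.sylow_card_eq S 4 315 (by rw [hG]; norm_num) (by norm_num)
  simpa using this

/-- a Sylow 2-subgroup of `N` (order 40) containing a given 2-subgroup -/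
theorem exists_T (N U : Subgroup G) (hN : Nat.card N = 40) (hUN : U ≤ N) (hU : IsPGroup 2 U) :
    ∃ T : Subgroup G, U ≤ T ∧ T ≤ N ∧ Nat.card T = 8 := by
  have : Fact (Nat.Prime 2) := ⟨Nat.prime_two⟩
  have hU' : IsPGroup 2 (U.subgroupOf N) := hU.comap_subtype
  obtain ⟨Q, hQ⟩ := hU'.exists_le_sylow
  refine ⟨(Q : Subgroup N).map N.subtype, ?_, Subgroup.map_subtype_le _, ?_⟩
  · intro x hx
    exact ⟨⟨x, hUN hx⟩, hQ (Subgroup.mem_subgroupOf.mpr hx), rfl⟩
  · rw [Nat.card_congr (Subgroup.equivMapOfInjective _ _ N.subtype_injective).toEquiv.symm]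
    have := Cfsg.Agent.S1017.sylow_card_eq Q 3 5 (by rw [hN]; norm_num) (by norm_num)
    simpa using this

/-- a Sylow 2-subgroup of `G` containing `T` -/
theorem exists_S (hG : Nat.card G = 5040) (T : Subgroup G) (hT : Nat.card T = 8) :
    ∃ S : Sylow 2 G, T ≤ S ∧ Nat.card (S : Subgroup G) = 16 := by
  have : Fact (Nat.Prime 2) := ⟨Nat.prime_two⟩
  have hTp : IsPGroup 2 T := IsPGroup.of_card (n := 3) (by rw [hT]; norm_num)
  obtain ⟨S, hS⟩ := hTp.exists_le_sylow
  exact ⟨S, hS, card_sylow2 hG S⟩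

theorem sylow_le_nor (R : Sylow 5 G) : (R : Subgroup G) ≤ NorS (R : Subgroup G) :=
  Subgroup.le_normalizer

theorem cen_le_nor (R : Sylow 5 G) : CenS (R : Subgroup G) ≤ NorS (R : Subgroup G) :=
  Subgroup.centralizer_le_normalizer _

theorem mem_cen_iff (x g : G) : g ∈ Cen x ↔ g * x = x * g := by
  rw [Subgroup.mem_centralizer_iff]
  constructor
  · intro h; exact (h x rfl).symm
  · intro h y hy
    rw [Set.mem_singleton_iff] at hy
    rw [hy]; exact h.symm

/-- `N(R) = R T ≤ C(x)` if `x` commutes with `R` and with `T` -/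
theorem nor_le_cen (hG : Nat.card G = 5040) (R : Sylow 5 G)
    (hN : Nat.card (NorS (R : Subgroup G)) = 40) (T : Subgroup G)
    (hTN : T ≤ NorS (R : Subgroup G)) (hT : Nat.card T = 8) (x : G)
    (hxR : ∀ r ∈ (R : Subgroup G), r * x = x * r) (hxT : ∀ t ∈ T, t * x = x * t) :
    NorS (R : Subgroup G) ≤ Cen x := by
  have hRX : (R : Subgroup G) ≤ NorS (R : Subgroup G) ⊓ Cen x :=
    le_inf (sylow_le_nor R) (fun r hr => (mem_cen_iff x r).mpr (hxR r hr))
  have hTX : T ≤ NorS (R : Subgroup G) ⊓ Cen x :=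
    le_inf hTN (fun t ht => (mem_cen_iff x t).mpr (hxT t ht))
  have h5 : 5 ∣ Nat.card (NorS (R : Subgroup G) ⊓ Cen x : Subgroup G) := by
    have := Subgroup.card_dvd_of_le hRX
    rwa [card_sylow5 hG R] at this
  have h8 : 8 ∣ Nat.card (NorS (R : Subgroup G) ⊓ Cen x : Subgroup G) := by
    rw [← hT]; exact Subgroup.card_dvd_of_le hTX
  have h40 : 40 ∣ Nat.card (NorS (R : Subgroup G) ⊓ Cen x : Subgroup G) :=
    (by norm_num : Nat.Coprime 5 8).mul_dvd_of_dvd_of_dvd h5 h8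
  have hle : Nat.card (NorS (R : Subgroup G)) ≤
      Nat.card (NorS (R : Subgroup G) ⊓ Cen x : Subgroup G) := by
    rw [hN]; exact Nat.le_of_dvd Nat.card_pos h40
  have heq := Subgroup.eq_of_le_of_card_ge (inf_le_left : NorS (R : Subgroup G) ⊓ Cen x ≤ _) hle
  intro g hg
  rw [← heq] at hg
  exact hg.2

/-- `S ⊓ N = T` -/
theorem mem_T_of_mem (S N T : Subgroup G) (hS : Nat.card S = 16) (hN : Nat.card N = 40)
    (hT : Nat.card T = 8) (hTS : T ≤ S) (hTN : T ≤ N) : ∀ g ∈ S, g ∈ N → g ∈ T := by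
  have hTX : T ≤ S ⊓ N := le_inf hTS hTN
  have h1 : Nat.card (S ⊓ N : Subgroup G) ∣ 16 := by
    rw [← hS]; exact Subgroup.card_dvd_of_le inf_le_left
  have h2 : Nat.card (S ⊓ N : Subgroup G) ∣ 40 := by
    rw [← hN]; exact Subgroup.card_dvd_of_le inf_le_right
  have h3 : Nat.card (S ⊓ N : Subgroup G) ∣ 8 := by
    have := Nat.dvd_gcd h1 h2
    simpa using this
  have hle : Nat.card (S ⊓ N : Subgroup G) ≤ Nat.card T := by
    rw [hT]; exact Nat.le_of_dvd (by norm_num) h3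
  have heq := Subgroup.eq_of_le_of_card_ge hTX hle
  intro g hgS hgN
  rw [heq]
  exact ⟨hgS, hgN⟩

/-- `C(R)` is normalised by `N(R)` -/
theorem conj_mem_cen (R : Sylow 5 G) {n c : G} (hn : n ∈ NorS (R : Subgroup G))
    (hc : c ∈ CenS (R : Subgroup G)) : n * c * n⁻¹ ∈ CenS (R : Subgroup G) := by
  rw [Subgroup.mem_centralizer_iff] at hc ⊢
  intro r hr
  have hr' : n⁻¹ * r * n ∈ (R : Subgroup G) := by
    have := (Subgroup.mem_normalizer_iff.mp (Subgroup.inv_mem _ hn) r).mp hr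
    simpa using this
  have h1 := hc _ hr'
  calc r * (n * c * n⁻¹) = n * ((n⁻¹ * r * n) * c) * n⁻¹ := by group
    _ = n * (c * (n⁻¹ * r * n)) * n⁻¹ := by rw [h1]
    _ = n * c * n⁻¹ * r := by group

/-- a nontrivial element with `x ^ 4 = 1` has a power of order `2` -/
theorem exists_pow_orderOf_two {x : G} (hx : x ≠ 1) (h4 : x ^ 4 = 1) :
    ∃ k : ℕ, orderOf (x ^ k) = 2 := by
  have hd : orderOf x ∣ 4 := orderOf_dvd_of_pow_eq_one h4
  have hmem : orderOf x ∈ Nat.divisors 4 := Nat.mem_divisors.mpr ⟨hd, by norm_num⟩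
  have hdiv : Nat.divisors 4 = {1, 2, 4} := by decide
  rw [hdiv] at hmem
  simp only [Finset.mem_insert, Finset.mem_singleton] at hmem
  rcases hmem with h | h | h
  · exact absurd (orderOf_eq_one_iff.mp h) hx
  · exact ⟨1, by rw [pow_one]; exact h⟩
  · refine ⟨2, ?_⟩
    rw [orderOf_pow' x (by norm_num : (2 : ℕ) ≠ 0), h]
    norm_num

/-- elements of a subgroup of order `4` satisfy `x ^ 4 = 1` -/
theorem pow_four_of_mem (A : Subgroup G) (hA : Nat.card A = 4) {x : G} (hx : x ∈ A) :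
    x ^ 4 = 1 := by
  have := pow_card_eq_one' (G := A) (x := ⟨x, hx⟩)
  rw [hA] at this
  exact congrArg Subtype.val this

end Cfsg.Agent.Helper86.O5040
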