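import Mathlib
import Cfsg.Agent.Lib.Helper74.M11Defs
import Cfsg.Agent.S1017
import Cfsg.Agent.Lib.Helper86.O5040Setup

/-!
# O5040 piece (F20) for helper74's S0978 server: `|C(R)| = 20` is impossible
-/

set_option autoImplicit false

namespace Cfsg.Agent.Helper86.O5040

open Cfsg.Agent.Helper74.M11

variable {G : Type*} [Group G] [Finite G]

/-- (F20) -/
theorem false_of_20 (hG : Nat.card G = 5040) (R : Sylow 5 G)
    (hN : Nat.card (NorS (R : Subgroup G)) = 40) (hC : Nat.card (CenS (R : Subgroup G)) = 20)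
    (hall : ∀ u : G, orderOf u = 2 → NorS (R : Subgroup G) ≤ Cen u → Nat.card (Cen u) = 40) :
    False := by
  classical
  have : Fact (Nat.Prime 2) := ⟨Nat.prime_two⟩
  have hCN : CenS (R : Subgroup G) ≤ NorS (R : Subgroup G) := cen_le_nor R
  obtain ⟨T, -, hTN, hT⟩ := exists_T (NorS (R : Subgroup G)) ⊥ hN bot_le IsPGroup.of_bot
  -- `K = T ⊓ C(R)` has order 4
  obtain ⟨K, hKdef⟩ : ∃ K : Subgroup G, K = T ⊓ CenS (R : Subgroup G) := ⟨_, rfl⟩
  have hKT : K ≤ T := hKdef ▸ inf_le_left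
  have hKC : K ≤ CenS (R : Subgroup G) := hKdef ▸ inf_le_right
  have hK4 : Nat.card K = 4 := by
    have hd1 : Nat.card K ∣ 8 := by rw [← hT]; exact Subgroup.card_dvd_of_le hKT
    have hd2 : Nat.card K ∣ 20 := by rw [← hC]; exact Subgroup.card_dvd_of_le hKC
    have hd4 : Nat.card K ∣ 4 := by
      have := Nat.dvd_gcd hd1 hd2
      simpa using this
    -- lower bound via relative indices
    have hrN : (CenS (R : Subgroup G)).relIndex (NorS (R : Subgroup G)) = 2 := by
      have h1 := Subgroup.card_mul_index ((CenS (R : Subgroup G)).subgroupOf (NorS (R : Subgroup G)))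
      rw [Nat.card_congr (Subgroup.subgroupOfEquivOfLe hCN).toEquiv, hC, hN] at h1
      rw [Subgroup.relIndex]; omega
    have hrT : (CenS (R : Subgroup G)).relIndex T ≤ 2 := by
      rw [← hrN]
      exact Subgroup.relIndex_le_of_le_right hTN (by rw [hrN]; norm_num)
    have h2 := Subgroup.card_mul_index ((CenS (R : Subgroup G)).subgroupOf T)
    rw [← Subgroup.relIndex, hT] at h2
    have hcardK : Nat.card ((CenS (R : Subgroup G)).subgroupOf T) = Nat.card K := by
      rw [hKdef, inf_comm, ← Subgroup.inf_subgroupOf_right]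
      exact Nat.card_congr (Subgroup.subgroupOfEquivOfLe inf_le_right).toEquiv
    rw [hcardK] at h2
    have hKpos : 0 < Nat.card K := Nat.card_pos
    have hle4 : Nat.card K ≤ 4 := Nat.le_of_dvd (by norm_num) hd4
    have hrpos : 0 < (CenS (R : Subgroup G)).relIndex T := by
      rcases Nat.eq_zero_or_pos ((CenS (R : Subgroup G)).relIndex T) with h0 | h0
      · rw [h0] at h2; omega
      · exact h0
    interval_cases hr : (CenS (R : Subgroup G)).relIndex T
    · omega
    · omega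
  -- `K` is normal in `T`
  have hKnorm : ∀ t ∈ T, ∀ k ∈ K, t * k * t⁻¹ ∈ K := by
    intro t ht k hk
    rw [hKdef]
    exact ⟨T.mul_mem (T.mul_mem ht (hKT hk)) (T.inv_mem ht), conj_mem_cen R (hTN ht) (hKC hk)⟩
  -- an involution `u ∈ K ⊓ Z(T)`
  have hTp : IsPGroup 2 T := IsPGroup.of_card (n := 3) (by rw [hT]; norm_num)
  have : Group.IsNilpotent T := hTp.isNilpotent
  have hKn : (K.subgroupOf T).Normal := by
    constructor
    intro k hk t
    rw [Subgroup.mem_subgroupOf] at hk ⊢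
    exact hKnorm t t.2 k hk
  have hKne : K.subgroupOf T ≠ ⊥ := by
    intro hbot
    have h1 : Nat.card (K.subgroupOf T) = 4 := by
      rw [Nat.card_congr (Subgroup.subgroupOfEquivOfLe hKT).toEquiv, hK4]
    rw [hbot, Subgroup.card_bot] at h1
    omega
  have hmeet := Cfsg.Agent.Helper2.normal_inf_center_ne_bot (K.subgroupOf T) hKne
  obtain ⟨⟨⟨x, hxT⟩, hxmem'⟩, hx1⟩ := (Subgroup.ne_bot_iff_exists_ne_one.mp hmeet)
  have hxK : x ∈ K := Subgroup.mem_subgroupOf.mp hxmem'.1
  have hxZ : ∀ t ∈ T, t * x = x * t := by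
    intro t ht
    have := (Subgroup.mem_center_iff.mp hxmem'.2) ⟨t, ht⟩
    exact congrArg Subtype.val this
  have hx1' : x ≠ 1 := by
    intro h1
    apply hx1
    exact Subtype.ext (Subtype.ext h1)
  obtain ⟨j, hj⟩ := exists_pow_orderOf_two hx1' (pow_four_of_mem K hK4 hxK)
  obtain ⟨u, hudef⟩ : ∃ u : G, u = x ^ j := ⟨_, rfl⟩
  rw [← hudef] at hj
  have huK : u ∈ K := hudef ▸ K.pow_mem hxK j
  have huT : u ∈ T := hKT huK
  have huZ : ∀ t ∈ T, t * u = u * t := by
    intro t ht
    rw [hudef]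
    exact ((Commute.pow_right (hxZ t ht) j : Commute t (x ^ j))).eq
  have huR : ∀ r ∈ (R : Subgroup G), r * u = u * r := by
    intro r hr
    exact (Subgroup.mem_centralizer_iff.mp (hKC huK) r hr)
  have hNu : NorS (R : Subgroup G) ≤ Cen u := nor_le_cen hG R hN T hTN hT u huR huZ
  have hCu40 : Nat.card (Cen u) = 40 := hall u hj hNu
  have hCuN : Cen u = NorS (R : Subgroup G) :=
    (Subgroup.eq_of_le_of_card_ge hNu (by rw [hCu40, hN])).symm
  -- `S`
  obtain ⟨S, hTS, hS16⟩ := exists_S hG T hT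
  have hST := mem_T_of_mem (S : Subgroup G) (NorS (R : Subgroup G)) T hS16 hN hT hTS hTN
  obtain ⟨s, hsS, hsT⟩ : ∃ s ∈ (S : Subgroup G), s ∉ T := by
    by_contra hcon
    push Not at hcon
    have hle : (S : Subgroup G) ≤ T := hcon
    have := Subgroup.card_le_of_le hle
    omega
  have core : Core (S : Subgroup G) T u s :=
    ⟨hTS, hS16, hT, hj, huT, huZ, fun g hg hgu => hST g hg (hCuN ▸ (mem_cen_iff u g).mpr hgu),
      hsS, hsT⟩
  -- involutions of `K` are not central in `S`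
  have hinv : ∀ k ∈ K, orderOf k = 2 → k ∉ ZS (S : Subgroup G) := by
    intro k hk hk2 hkZ
    have hkR : ∀ r ∈ (R : Subgroup G), r * k = k * r := fun r hr =>
      Subgroup.mem_centralizer_iff.mp (hKC hk) r hr
    have hkT : ∀ t ∈ T, t * k = k * t := fun t ht => core.comm t ht k (hKT hk)
    have hNk := nor_le_cen hG R hN T hTN hT k hkR hkT
    have h40 := hall k hk2 hNk
    have hSk : (S : Subgroup G) ≤ Cen k := by
      intro g hg
      rw [mem_cen_iff]
      exact ((mem_ZS_iff _ k).mp hkZ).2 g hg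
    have := Subgroup.card_dvd_of_le hSk
    rw [hS16, h40] at this
    omega
  -- a nontrivial element of `A ⊓ K` gives an involution there
  have hinvol : ∀ A : Subgroup G, A ⊓ K ≠ ⊥ → ∃ y, y ∈ A ∧ y ∈ K ∧ orderOf y = 2 := by
    intro A hA
    obtain ⟨⟨y, hyA, hyK⟩, hy1⟩ := Subgroup.ne_bot_iff_exists_ne_one.mp hA
    have hy1' : y ≠ 1 := by
      intro h1
      apply hy1
      exact Subtype.ext h1
    obtain ⟨i, hi⟩ := exists_pow_orderOf_two hy1' (pow_four_of_mem K hK4 hyK)
    exact ⟨y ^ i, A.pow_mem hyA i, K.pow_mem hyK i, hi⟩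
  have hZK : ZS (S : Subgroup G) ⊓ K = ⊥ := by
    by_contra hne
    obtain ⟨y, hyZ, hyK, hy2⟩ := hinvol _ hne
    exact hinv y hyK hy2 hyZ
  have hZle : Nat.card (ZS (S : Subgroup G)) * 4 ≤ 8 := by
    have := card_mul_card_le_of_inf_eq_bot (ZS (S : Subgroup G)) K T core.zs_le hKT hZK
    rwa [hK4, hT] at this
  have hprod := core.card_zs_mul_card_I0
  have hI4 : 4 ≤ Nat.card core.I0 := by
    have hZ2 : Nat.card (ZS (S : Subgroup G)) ≤ 2 := by omega
    by_contra hlt
    push Not at hlt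
    have : Nat.card (ZS (S : Subgroup G)) * Nat.card core.I0 ≤ 2 * 3 :=
      Nat.mul_le_mul hZ2 (by omega)
    omega
  have hIK : core.I0 ⊓ K ≠ ⊥ := by
    intro hbot
    have := card_mul_card_le_of_inf_eq_bot core.I0 K T core.I0_le hKT hbot
    rw [hK4, hT] at this
    omega
  obtain ⟨y, hyI, hyK, hy2⟩ := hinvol _ hIK
  have hyy : y * y = 1 := by rw [← pow_two, ← hy2, pow_orderOf_eq_one]
  exact hinv y hyK hy2 (core.invol_I0 hyI hyy)

end Cfsg.Agent.Helper86.O5040
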