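import Mathlib
import Cfsg.Agent.Lib.Helper74.M11Defs
import Cfsg.Agent.S1017
import Cfsg.Agent.Lib.Helper86.O5040Setup

/-!
# O5040 piece (S10) for helper74's S0978 server: the 2-structure when `|C(R)| = 10`
-/

set_option autoImplicit false

namespace Cfsg.Agent.Helper86.O5040

open Cfsg.Agent.Helper74.M11

variable {G : Type*} [Group G] [Finite G]

/-- `N(R)/C(R)` is cyclic of order 4: some element of `T` has its square outside `C(R)` -/
theorem exists_sq_not_mem (hG : Nat.card G = 5040) (R : Sylow 5 G)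
    (hC : Nat.card (CenS (R : Subgroup G)) = 10)
    (T : Subgroup G) (hTN : T ≤ NorS (R : Subgroup G)) (hT : Nat.card T = 8) :
    ∃ t ∈ T, t * t ∉ CenS (R : Subgroup G) := by
  classical
  have : Fact (Nat.Prime 5) := ⟨by norm_num⟩
  have hR5 := card_sylow5 hG R
  have : IsCyclic (R : Subgroup G) := isCyclic_of_prime_card (p := 5) hR5
  have hA4 : Nat.card (MulAut (R : Subgroup G)) = 4 := by
    rw [IsCyclic.card_mulAut, hR5]; decide
  have : IsCyclic (MulAut (R : Subgroup G)) := by
    have hp : (Nat.card (R : Subgroup G)).Prime := by rw [hR5]; norm_num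
    have := ZMod.isCyclic_units_prime hp
    exact (IsCyclic.mulAutMulEquiv (R : Subgroup G)).isCyclic.mpr this
  let ψ : T →* MulAut (R : Subgroup G) :=
    (R : Subgroup G).normalizerMonoidHom.comp (Subgroup.inclusion hTN)
  have hker : ∀ t : T, ψ t = 1 ↔ (t : G) ∈ CenS (R : Subgroup G) := by
    intro t
    have h1 : ψ t = 1 ↔
        Subgroup.inclusion hTN t ∈ (R : Subgroup G).normalizerMonoidHom.ker := Iff.rfl
    rw [h1, Subgroup.normalizerMonoidHom_ker, Subgroup.mem_subgroupOf]
    rfl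
  have hkercard : Nat.card ψ.ker ≤ 2 := by
    have hle : ψ.ker.map T.subtype ≤ T ⊓ CenS (R : Subgroup G) := by
      rintro _ ⟨t, ht, rfl⟩
      exact ⟨t.2, (hker t).mp ht⟩
    have h1 : Nat.card (T ⊓ CenS (R : Subgroup G) : Subgroup G) ∣ 2 := by
      have d1 : Nat.card (T ⊓ CenS (R : Subgroup G) : Subgroup G) ∣ 8 :=
        hT ▸ Subgroup.card_dvd_of_le inf_le_left
      have d2 : Nat.card (T ⊓ CenS (R : Subgroup G) : Subgroup G) ∣ 10 :=
        hC ▸ Subgroup.card_dvd_of_le inf_le_right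
      simpa using Nat.dvd_gcd d1 d2
    have h2 := Subgroup.card_le_of_le hle
    rw [← Nat.card_congr (Subgroup.equivMapOfInjective _ _ T.subtype_injective).toEquiv] at h2
    exact h2.trans (Nat.le_of_dvd (by norm_num) h1)
  have hidx := Subgroup.card_mul_index ψ.ker
  rw [Subgroup.index_ker, hT] at hidx
  have hrange : 4 ≤ Nat.card ψ.range := by
    by_contra hlt
    push Not at hlt
    have : Nat.card ψ.ker * Nat.card ψ.range ≤ 2 * 3 := Nat.mul_le_mul hkercard (by omega)
    omega
  have htop : ψ.range = ⊤ := by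
    apply Subgroup.eq_top_of_le_card
    rw [hA4]; exact hrange
  obtain ⟨g, hg⟩ := IsCyclic.exists_generator (α := MulAut (R : Subgroup G))
  have hog : orderOf g = 4 := by rw [orderOf_eq_card_of_forall_mem_zpowers hg, hA4]
  obtain ⟨t, rfl⟩ : g ∈ ψ.range := htop ▸ Subgroup.mem_top g
  refine ⟨t, t.2, ?_⟩
  intro hmem
  have h1 : ψ (t * t) = 1 := (hker (t * t)).mpr hmem
  rw [map_mul, ← pow_two] at h1
  have := orderOf_dvd_of_pow_eq_one h1
  rw [hog] at this
  omega

/-- (S10) -/
theorem struct_of_10 (hG : Nat.card G = 5040) (R : Sylow 5 G)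
    (hN : Nat.card (NorS (R : Subgroup G)) = 40) (hC : Nat.card (CenS (R : Subgroup G)) = 10)
    (u : G) (hu : orderOf u = 2) (huR : u ∈ CenS (R : Subgroup G))
    (hNu : NorS (R : Subgroup G) ≤ Cen u) (hCu : Nat.card (Cen u) = 40) :
    ∃ (S : Sylow 2 G) (v s : G), orderOf v = 4 ∧ u ∈ S ∧ v ∈ S ∧ s ∈ S ∧
      (∀ g ∈ S, g * v = v * g) ∧ s * u * s⁻¹ = u * v ^ 2 ∧ s ^ 2 ∈ Subgroup.zpowers v := by
  classical
  have : Fact (Nat.Prime 2) := ⟨Nat.prime_two⟩
  have hCuN : Cen u = NorS (R : Subgroup G) :=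
    (Subgroup.eq_of_le_of_card_ge hNu (by rw [hCu, hN])).symm
  have huN : u ∈ NorS (R : Subgroup G) := cen_le_nor R huR
  have hUp : IsPGroup 2 (Subgroup.zpowers u) :=
    IsPGroup.of_card (n := 1) (by rw [Nat.card_zpowers, hu]; norm_num)
  obtain ⟨T, hUT, hTN, hT⟩ := exists_T (NorS (R : Subgroup G)) (Subgroup.zpowers u) hN
    (by rw [Subgroup.zpowers_le]; exact huN) hUp
  have huT : u ∈ T := hUT (Subgroup.mem_zpowers u)
  have huZ : ∀ t ∈ T, t * u = u * t := fun t ht => (mem_cen_iff u t).mp (hNu (hTN ht))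
  obtain ⟨S, hTS, hS16⟩ := exists_S hG T hT
  have hST := mem_T_of_mem (S : Subgroup G) (NorS (R : Subgroup G)) T hS16 hN hT hTS hTN
  obtain ⟨s, hsS, hsT⟩ : ∃ s ∈ (S : Subgroup G), s ∉ T := by
    by_contra hcon
    push Not at hcon
    have hle : (S : Subgroup G) ≤ T := hcon
    have := Subgroup.card_le_of_le hle
    omega
  have core : Core (S : Subgroup G) T u s :=
    ⟨hTS, hS16, hT, hu, huT, huZ, fun g hg hgu => hST g hg (hCuN ▸ (mem_cen_iff u g).mpr hgu),
      hsS, hsT⟩
  obtain ⟨ζ, hζdef⟩ : ∃ ζ : G, ζ = u * (s * u * s⁻¹) := ⟨_, rfl⟩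
  have hζI : ζ ∈ core.I0 := hζdef ▸ core.zeta_mem_I0
  have hζZ : ζ ∈ ZS (S : Subgroup G) := hζdef ▸ core.zeta_mem_zs
  have hζ1 : ζ ≠ 1 := hζdef ▸ core.zeta_ne_one
  have hζζ : ζ * ζ = 1 := hζdef ▸ core.zeta_sq
  have hsus : s * u * s⁻¹ = u * ζ := by
    rw [hζdef, ← mul_assoc, core.u_mul_u, one_mul]
  have hprod := core.card_zs_mul_card_I0
  have hZT : ZS (S : Subgroup G) ≤ T := core.zs_le
  -- `|Z(S)| ≠ 1, 8`
  have hZ1 : Nat.card (ZS (S : Subgroup G)) ≠ 1 := by
    intro h1
    rw [Subgroup.card_eq_one] at h1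
    rw [h1, Subgroup.mem_bot] at hζZ
    exact hζ1 hζZ
  have hZ8 : Nat.card (ZS (S : Subgroup G)) ≠ 8 := by
    intro h8
    have := Subgroup.eq_of_le_of_card_ge hZT (by rw [h8, hT])
    exact core.u_not_mem_zs (this ▸ huT)
  -- `|Z(S)| ≠ 2`
  have hZ2 : Nat.card (ZS (S : Subgroup G)) ≠ 2 := by
    intro h2
    have hI4 : Nat.card core.I0 = 4 := by rw [h2] at hprod; omega
    have hZel : ∀ z ∈ ZS (S : Subgroup G), z = 1 ∨ z = ζ := by
      intro z hz
      have h2' := h2
      rw [Nat.card_eq_two_iff' (1 : ZS (S : Subgroup G))] at h2'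
      obtain ⟨y, -, hy⟩ := h2'
      by_cases hz1 : z = 1
      · exact Or.inl hz1
      · right
        have e1 := hy ⟨z, hz⟩ (fun he => hz1 (congrArg Subtype.val he))
        have e2 := hy ⟨ζ, hζZ⟩ (fun he => hζ1 (congrArg Subtype.val he))
        exact congrArg Subtype.val (e1.trans e2.symm)
    -- an element `a ∈ I0` with `a * a = ζ`
    obtain ⟨a, haI, haa⟩ : ∃ a ∈ core.I0, a * a = ζ := by
      by_contra hcon
      push Not at hcon
      have hall1 : ∀ a ∈ core.I0, a * a = 1 := by
        intro a ha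
        have h4 : a ^ 4 = 1 := pow_four_of_mem core.I0 hI4 ha
        have haa : (a * a) * (a * a) = 1 := by
          have e : (a * a) * (a * a) = a ^ 4 := by simp [pow_succ, mul_assoc]
          rw [e, h4]
        have hmem := core.invol_I0 (core.I0.mul_mem ha ha) haa
        rcases hZel _ hmem with h1 | h1
        · exact h1
        · exact absurd h1 (hcon a ha)
      have hle : core.I0 ≤ ZS (S : Subgroup G) := fun a ha => core.invol_I0 ha (hall1 a ha)
      have := Subgroup.card_le_of_le hle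
      omega
    have haT : a ∈ T := core.I0_le haI
    have hconj : s * a * s⁻¹ = a⁻¹ := core.conj_I0 haI
    have hbT : a * u ∈ T := T.mul_mem haT huT
    have hb : s * (a * u) = (a * u) * s := by
      have e1 : s * (a * u) * s⁻¹ = a * u := by
        calc s * (a * u) * s⁻¹ = (s * a * s⁻¹) * (s * u * s⁻¹) := by group
          _ = a⁻¹ * (u * (a * a)) := by rw [hconj, hsus, haa]
          _ = a⁻¹ * ((a * a) * u) := by
              rw [core.comm u huT (a * a) (T.mul_mem haT haT)]
          _ = a * u := by group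
      calc s * (a * u) = (s * (a * u) * s⁻¹) * s := by group
        _ = (a * u) * s := by rw [e1]
    have hbZ : a * u ∈ ZS (S : Subgroup G) := (core.mem_zs_iff hbT).mpr hb
    have hbb : (a * u) * (a * u) = ζ := by
      calc (a * u) * (a * u) = a * (u * a) * u := by group
        _ = a * (a * u) * u := by rw [core.comm u huT a haT]
        _ = (a * a) * (u * u) := by group
        _ = ζ := by rw [haa, core.u_mul_u, mul_one]
    rcases hZel _ hbZ with h1 | h1
    · rw [h1, one_mul] at hbb; exact hζ1 hbb.symm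
    · rw [h1, hζζ] at hbb; exact hζ1 hbb.symm
  have hZ4 : Nat.card (ZS (S : Subgroup G)) = 4 := by
    have hdvd : Nat.card (ZS (S : Subgroup G)) ∣ 8 := Dvd.intro _ hprod
    have hmem : Nat.card (ZS (S : Subgroup G)) ∈ Nat.divisors 8 :=
      Nat.mem_divisors.mpr ⟨hdvd, by norm_num⟩
    have hdiv : Nat.divisors 8 = {1, 2, 4, 8} := by decide
    rw [hdiv] at hmem
    simp only [Finset.mem_insert, Finset.mem_singleton] at hmem
    rcases hmem with h' | h' | h' | h'
    · exact absurd h' hZ1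
    · exact absurd h' hZ2
    · exact h'
    · exact absurd h' hZ8
  -- an element `v ∈ Z(S)` of order 4
  obtain ⟨t, htT, htt⟩ := exists_sq_not_mem hG R hC T hTN hT
  have htt1 : t * t ≠ 1 := fun h1 => htt (h1 ▸ Subgroup.one_mem _)
  have hZidx : ((ZS (S : Subgroup G)).subgroupOf T).index = 2 := by
    have h1 := Subgroup.card_mul_index ((ZS (S : Subgroup G)).subgroupOf T)
    rw [Nat.card_congr (Subgroup.subgroupOfEquivOfLe hZT).toEquiv, hZ4, hT] at h1
    omega
  obtain ⟨v, hvZ, hvv⟩ : ∃ v ∈ ZS (S : Subgroup G), v * v ≠ 1 := by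
    by_cases htZ : t ∈ ZS (S : Subgroup G)
    · exact ⟨t, htZ, htt1⟩
    · refine ⟨u * t, ?_, ?_⟩
      · have := Subgroup.mul_mem_iff_of_index_two hZidx (a := ⟨u, huT⟩) (b := ⟨t, htT⟩)
        simp only [Subgroup.mem_subgroupOf, Subgroup.coe_mul] at this
        rw [this]
        constructor
        · intro h1; exact absurd h1 core.u_not_mem_zs
        · intro h1; exact absurd h1 htZ
      · have : (u * t) * (u * t) = t * t := by
          calc (u * t) * (u * t) = u * (t * u) * t := by group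
            _ = u * (u * t) * t := by rw [core.comm t htT u huT]
            _ = (u * u) * (t * t) := by group
            _ = t * t := by rw [core.u_mul_u, one_mul]
        rw [this]; exact htt1
  have hv4 : v ^ 4 = 1 := pow_four_of_mem _ hZ4 hvZ
  have hov : orderOf v = 4 := by
    have := orderOf_eq_prime_pow (x := v) (p := 2) (n := 1) (by rw [pow_one, pow_two]; exact hvv)
      (by norm_num; exact hv4)
    simpa using this
  have hzp : Subgroup.zpowers v = ZS (S : Subgroup G) := by
    apply Subgroup.eq_of_le_of_card_ge ((Subgroup.zpowers_le).mpr hvZ)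
    rw [Nat.card_zpowers, hov, hZ4]
  -- `ζ = v ^ 2`
  have hζv : ζ = v ^ 2 := by
    have hmem : ζ ∈ Subgroup.zpowers v := hzp ▸ hζZ
    rw [← mem_powers_iff_mem_zpowers, mem_powers_iff_mem_range_orderOf, hov] at hmem
    simp only [Finset.mem_image, Finset.mem_range] at hmem
    obtain ⟨k, hk, hkv⟩ := hmem
    interval_cases k
    · rw [pow_zero] at hkv; exact absurd hkv.symm hζ1
    · rw [pow_one] at hkv
      rw [← hkv] at hζζ; exact absurd hζζ hvv
    · exact hkv.symm
    · exfalso
      apply hvv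
      have h6 : v ^ 6 = 1 := by
        have : v ^ 6 = (v ^ 3) * (v ^ 3) := by rw [← pow_add]
        rw [this, hkv]; exact hζζ
      have h62 : v ^ 6 = v ^ 4 * v ^ 2 := by rw [← pow_add]
      rw [h6, hv4, one_mul, pow_two] at h62
      exact h62.symm
  have hvS : v ∈ (S : Subgroup G) := ((mem_ZS_iff _ v).mp hvZ).1
  refine ⟨S, v, s, hov, hTS huT, hvS, hsS, ((mem_ZS_iff _ v).mp hvZ).2, ?_, ?_⟩
  · rw [hsus, hζv]
  · rw [hzp, pow_two, core.mem_zs_iff core.sq_mem]
    exact (mul_assoc s s s).symm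

end Cfsg.Agent.Helper86.O5040
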