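import Mathlib
import Cfsg.Prelude.Def_LocalEven
import Cfsg.Agent.Lib.Helper87.FusionAlperin
import Cfsg.Agent.Lib.Helper30.AxB
import Cfsg.Agent.S5299

set_option autoImplicit false

/-! # Local subgroups of groups of characteristic `p`; transfer of involvement -/

namespace Cfsg.Agent.Helper86.CharPLocal

open Cfsg Cfsg.Agent.Helper87

/-- Involvement passes along injective homomorphisms. -/
theorem involves_of_injective {X : Type*} [Group X] {L : Type*} [Group L] {G : Type*} [Group G]
    (j : L →* G) (hj : Function.Injective j) (h : Involves X L) : Involves X G := by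
  obtain ⟨K, f, hf⟩ := Cfsg.Agent.S5299.span_of_involves h
  exact Cfsg.Agent.S5299.involves_of_span (j.comp K.subtype) f (hj.comp K.subtype_injective) hf

/-- A finite group all of whose elements of order prime to `p` are trivial is a `p`-group. -/
theorem isPGroup_of_no_pprime {C : Type*} [Group C] [Finite C] {p : ℕ} [hp : Fact p.Prime]
    (h : ∀ x : C, (orderOf x).Coprime p → x = 1) : IsPGroup p C := by
  have hcard : Nat.card C = p ^ (Nat.card C).primeFactorsList.length := by
    apply Nat.eq_prime_pow_of_unique_prime_dvd Nat.card_pos.ne'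
    intro q hq hqd
    by_contra hne
    have : Fact q.Prime := ⟨hq⟩
    obtain ⟨x, hx⟩ := exists_prime_orderOf_dvd_card' q hqd
    have hcop : (orderOf x).Coprime p := by
      rw [hx]
      exact (Nat.coprime_primes hq hp.out).2 hne
    have := h x hcop
    rw [this, orderOf_one] at hx
    exact hq.ne_one hx.symm
  exact IsPGroup.of_card hcard

/-- If a finite group has a normal `p`-subgroup `Y` whose centralizer contains no nontrivial element of order
prime to `p`, then the group has characteristic `p`. -/
theorem charp_of_normal {G : Type*} [Group G] [Finite G] {p : ℕ} [Fact p.Prime] (Y : Subgroup G) [hYn : Y.Normal]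
    (hY : IsPGroup p Y)
    (hC : ∀ x ∈ Subgroup.centralizer (Y : Set G), (orderOf x).Coprime p → x = 1) :
    Subgroup.centralizer ((pCore p G : Subgroup G) : Set G) ≤ pCore p G := by
  have hYle : Y ≤ pCore p G := le_pCore hYn hY
  have hCY : IsPGroup p (Subgroup.centralizer (Y : Set G)) := by
    apply isPGroup_of_no_pprime
    intro x hx
    have := hC (x : G) x.2 (by rwa [Subgroup.orderOf_coe])
    exact Subtype.ext this
  have : (Subgroup.centralizer (Y : Set G)).Normal := Subgroup.normal_centralizer
  exact le_trans (Subgroup.centralizer_le hYle) (le_pCore inferInstance hCY)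

/-- In a finite group `G` with a normal `p`-subgroup `P` containing its centralizer, and `P ≤ Q ⊔ R` with
`Q, R ≤ P`, `R` normalizing `Q`: the subgroup `N_G(Q) ∩ N_G(R)` has characteristic `p`. -/
theorem charp_local {G : Type*} [Group G] [Finite G] {p : ℕ} [Fact p.Prime]
    (P Q R : Subgroup G) [hPn : P.Normal] (hP : IsPGroup p P)
    (hCP : Subgroup.centralizer (P : Set G) ≤ P)
    (hQP : Q ≤ P) (hRP : R ≤ P) (hPle : P ≤ Q ⊔ R) (hRQ : R ≤ Subgroup.normalizer (Q : Set G))
    (H : Subgroup G) (hH : H = Subgroup.normalizer (Q : Set G) ⊓ Subgroup.normalizer (R : Set G)) :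
    Subgroup.centralizer ((pCore p H : Subgroup H) : Set H) ≤ pCore p H := by
  subst hH
  set H := Subgroup.normalizer (Q : Set G) ⊓ Subgroup.normalizer (R : Set G) with hHdef
  have hQp : IsPGroup p Q := hP.to_le hQP
  have hRp : IsPGroup p R := hP.to_le hRP
  have hYn : (P.subgroupOf H).Normal := Subgroup.Normal.subgroupOf hPn H
  have hYp : IsPGroup p (P.subgroupOf H) := hP.comap_subtype
  apply charp_of_normal (P.subgroupOf H) hYp
  intro x hx hxo
  -- `x` as an element of `G`
  have hxH : (x : G) ∈ H := x.2
  have hxNQ : (x : G) ∈ Subgroup.normalizer (Q : Set G) := hxH.1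
  have hcent : ∀ y ∈ P, y ∈ H → (x : G) * y = y * (x : G) := by
    intro y hyP hyH
    have h1 := (Subgroup.mem_centralizer_iff.1 hx) ⟨y, hyH⟩ (by
      show (⟨y, hyH⟩ : H) ∈ P.subgroupOf H
      rw [Subgroup.mem_subgroupOf]; exact hyP)
    have h2 := congrArg (Subtype.val) h1
    simpa using h2.symm
  have hRH : R ≤ H := le_inf hRQ Subgroup.le_normalizer
  -- `x` centralizes `R`
  have hxR : ∀ r ∈ R, (x : G) * r = r * (x : G) := fun r hr => hcent r (hRP hr) (hRH hr)
  -- `x` centralizes `Q ∩ C(R)`
  have hxQ0 : ∀ q ∈ Q, q ∈ Subgroup.centralizer (R : Set G) → (x : G) * q = q * (x : G) := by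
    intro q hq hqc
    apply hcent q (hQP hq)
    exact ⟨Subgroup.le_normalizer hq, Subgroup.centralizer_le_normalizer _ hqc⟩
  -- apply the A×B lemma
  have hB : (Nat.card (Subgroup.zpowers (x : G))).Coprime p := by
    rw [Nat.card_zpowers, Subgroup.orderOf_coe]; exact hxo
  have hAB : ⁅R, Subgroup.zpowers (x : G)⁆ = ⊥ := by
    rw [Subgroup.commutator_eq_bot_iff_le_centralizer]
    intro r hr
    rw [Subgroup.mem_centralizer_iff]
    intro z hz
    obtain ⟨k, rfl⟩ := Subgroup.mem_zpowers_iff.1 hz
    have : Commute (x : G) r := hxR r hr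
    exact (this.zpow_left k).eq
  have hBQ : Subgroup.zpowers (x : G) ≤ Subgroup.normalizer (Q : Set G) := by
    rw [Subgroup.zpowers_le]; exact hxNQ
  have hCC : Q ⊓ Subgroup.centralizer (R : Set G) ≤ Subgroup.centralizer (Subgroup.zpowers (x : G) : Set G) := by
    rintro q ⟨hq, hqc⟩
    rw [Subgroup.mem_centralizer_iff]
    intro z hz
    obtain ⟨k, rfl⟩ := Subgroup.mem_zpowers_iff.1 hz
    have : Commute (x : G) q := hxQ0 q hq hqc
    exact (this.zpow_left k).eq
  have hQB := Cfsg.Agent.Helper30.thompson_AxB R (Subgroup.zpowers (x : G)) hRp hB hAB Q hQp hRQ hBQ hCC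
  rw [Subgroup.commutator_eq_bot_iff_le_centralizer] at hQB
  have hxQ : ∀ q ∈ Q, (x : G) * q = q * (x : G) := by
    intro q hq
    have := Subgroup.mem_centralizer_iff.1 (hQB hq) (x : G) (Subgroup.mem_zpowers _)
    exact this
  -- so `x` centralizes `P`
  have hxP : (x : G) ∈ Subgroup.centralizer (P : Set G) := by
    have hle : Q ⊔ R ≤ Subgroup.centralizer ({(x : G)} : Set G) := by
      apply sup_le
      · intro q hq
        rw [Subgroup.mem_centralizer_iff]
        intro z hz
        rw [Set.mem_singleton_iff] at hz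
        rw [hz]; exact hxQ q hq
      · intro r hr
        rw [Subgroup.mem_centralizer_iff]
        intro z hz
        rw [Set.mem_singleton_iff] at hz
        rw [hz]; exact hxR r hr
    rw [Subgroup.mem_centralizer_iff]
    intro y hy
    have := Subgroup.mem_centralizer_iff.1 (hle (hPle hy)) (x : G) (Set.mem_singleton _)
    exact this.symm
  have hxPm : (x : G) ∈ P := hCP hxP
  -- a `p`-element of order prime to `p` is trivial
  obtain ⟨k, hk⟩ := hP ⟨(x : G), hxPm⟩
  have hk' : (x : G) ^ p ^ k = 1 := by
    have := congrArg Subtype.val hk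
    simpa using this
  have hdvd : orderOf (x : G) ∣ p ^ k := orderOf_dvd_of_pow_eq_one hk'
  have hcop : (orderOf (x : G)).Coprime (p ^ k) := by
    rw [Subgroup.orderOf_coe]; exact hxo.pow_right k
  have h1 : orderOf (x : G) = 1 := Nat.Coprime.eq_one_of_dvd hcop hdvd
  exact Subtype.ext (orderOf_eq_one_iff.1 h1)

/-- In a finite group of characteristic `p`, a normal `p`-subgroup `X` with `C_T(X) ≤ X` for a Sylow
`p`-subgroup `T` contains its centralizer. -/
theorem cent_le_of_centric {G : Type*} [Group G] [Finite G] {p : ℕ} [Fact p.Prime]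
    (hchar : Subgroup.centralizer ((pCore p G : Subgroup G) : Set G) ≤ pCore p G)
    (T : Sylow p G) (X : Subgroup G) [hXn : X.Normal] (hX : IsPGroup p X)
    (hcen : (T : Subgroup G) ⊓ Subgroup.centralizer (X : Set G) ≤ X) :
    Subgroup.centralizer (X : Set G) ≤ X := by
  have hOn : (pCore p G).Normal := pCore_normal p G
  have hXO : X ≤ pCore p G := le_pCore hXn hX
  have hOT : pCore p G ≤ T := pCore_le_sylow T
  have hOp : IsPGroup p (pCore p G) := pCore_isPGroup
  have hCn : (Subgroup.centralizer (X : Set G)).Normal := Subgroup.normal_centralizer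
  have hCp : IsPGroup p (Subgroup.centralizer (X : Set G)) := by
    apply isPGroup_of_no_pprime
    intro c hc
    have hcX : ∀ x ∈ X, (c : G) * x = x * (c : G) := fun x hx =>
      ((Subgroup.mem_centralizer_iff.1 c.2) x hx).symm
    have hB : (Nat.card (Subgroup.zpowers (c : G))).Coprime p := by
      rw [Nat.card_zpowers, Subgroup.orderOf_coe]; exact hc
    have hzc : ∀ x ∈ X, ∀ z ∈ Subgroup.zpowers (c : G), z * x = x * z := by
      intro x hx z hz
      obtain ⟨k, rfl⟩ := Subgroup.mem_zpowers_iff.1 hz
      have : Commute (c : G) x := hcX x hx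
      exact (this.zpow_left k).eq
    have hAB : ⁅X, Subgroup.zpowers (c : G)⁆ = ⊥ := by
      rw [Subgroup.commutator_eq_bot_iff_le_centralizer]
      intro x hx
      rw [Subgroup.mem_centralizer_iff]
      intro z hz
      exact hzc x hx z hz
    have hXN : X ≤ Subgroup.normalizer ((pCore p G : Subgroup G) : Set G) := by
      rw [Subgroup.normalizer_eq_top]; exact le_top
    have hBN : Subgroup.zpowers (c : G) ≤ Subgroup.normalizer ((pCore p G : Subgroup G) : Set G) := by
      rw [Subgroup.normalizer_eq_top]; exact le_top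
    have hCC : pCore p G ⊓ Subgroup.centralizer (X : Set G) ≤
        Subgroup.centralizer (Subgroup.zpowers (c : G) : Set G) := by
      rintro q ⟨hq, hqc⟩
      have hqX : q ∈ X := hcen ⟨hOT hq, hqc⟩
      rw [Subgroup.mem_centralizer_iff]
      intro z hz
      exact hzc q hqX z hz
    have hOB := Cfsg.Agent.Helper30.thompson_AxB X (Subgroup.zpowers (c : G)) hX hB hAB (pCore p G) hOp
      hXN hBN hCC
    rw [Subgroup.commutator_eq_bot_iff_le_centralizer] at hOB
    have hcO : (c : G) ∈ Subgroup.centralizer ((pCore p G : Subgroup G) : Set G) := by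
      rw [Subgroup.mem_centralizer_iff]
      intro q hq
      have := Subgroup.mem_centralizer_iff.1 (hOB hq) (c : G) (Subgroup.mem_zpowers _)
      exact this.symm
    have hcO' : (c : G) ∈ pCore p G := hchar hcO
    obtain ⟨k, hk⟩ := hOp ⟨(c : G), hcO'⟩
    have hk' : (c : G) ^ p ^ k = 1 := by
      have := congrArg Subtype.val hk
      simpa using this
    have hdvd : orderOf (c : G) ∣ p ^ k := orderOf_dvd_of_pow_eq_one hk'
    have hcop : (orderOf (c : G)).Coprime (p ^ k) := by
      rw [Subgroup.orderOf_coe]; exact hc.pow_right k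
    have h1 : orderOf (c : G) = 1 := Nat.Coprime.eq_one_of_dvd hcop hdvd
    exact Subtype.ext (orderOf_eq_one_iff.1 h1)
  have hCO : Subgroup.centralizer (X : Set G) ≤ pCore p G := le_pCore hCn hCp
  intro c hc
  exact hcen ⟨hOT (hCO hc), hc⟩

end Cfsg.Agent.Helper86.CharPLocal
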