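import Mathlib
import Cfsg.Prelude.Def_FusionSystem
import Cfsg.Agent.Lib.Helper87.FusionNormalizerSys
import Cfsg.Agent.Lib.Helper85.Realized

set_option autoImplicit false

/-! # Iterated normalizer systems and realization at function level -/

namespace Cfsg.Agent.Helper86.SecFreeNorm

open Cfsg Cfsg.FusionSystem Cfsg.Agent.Helper87 Cfsg.Agent.Helper85

variable {Ω : Type*} [Group Ω] {S : Subgroup Ω}

/-- values of a map of the system on a join of two subgroups -/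
theorem mor_sup_mem {F : FusionSystem S} {P A B K : Subgroup Ω} {g : Ω → Ω} (hg : Mor F P g)
    (hA : A ≤ P) (hB : B ≤ P) (hAK : ∀ x ∈ A, g x ∈ K) (hBK : ∀ x ∈ B, g x ∈ K) :
    ∀ x ∈ A ⊔ B, g x ∈ K := by
  let W : Subgroup Ω :=
    { carrier := {x | x ∈ P ∧ g x ∈ K}
      mul_mem' := by
        rintro x y ⟨hx, hxK⟩ ⟨hy, hyK⟩
        exact ⟨P.mul_mem hx hy, by rw [hg.map_mul hx hy]; exact K.mul_mem hxK hyK⟩
      one_mem' := ⟨P.one_mem, by rw [hg.map_one]; exact K.one_mem⟩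
      inv_mem' := by
        rintro x ⟨hx, hxK⟩
        exact ⟨P.inv_mem hx, by rw [hg.map_inv hx]; exact K.inv_mem hxK⟩ }
  have hle : A ⊔ B ≤ W := sup_le (fun x hx => ⟨hA hx, hAK x hx⟩) (fun x hx => ⟨hB hx, hBK x hx⟩)
  exact fun x hx => (hle hx).2

/-- a map of the system onto two subgroups is onto their join -/
theorem mor_sup_surj {F : FusionSystem S} {P A B A' B' : Subgroup Ω} {g : Ω → Ω} (hg : Mor F P g)
    (hA : A ≤ P) (hB : B ≤ P) (hA' : ∀ y ∈ A', ∃ x ∈ A, g x = y) (hB' : ∀ y ∈ B', ∃ x ∈ B, g x = y) :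
    ∀ y ∈ A' ⊔ B', ∃ x ∈ A ⊔ B, g x = y := by
  have hAB : A ⊔ B ≤ P := sup_le hA hB
  let W : Subgroup Ω :=
    { carrier := {y | ∃ x ∈ A ⊔ B, g x = y}
      mul_mem' := by
        rintro _ _ ⟨x, hx, rfl⟩ ⟨y, hy, rfl⟩
        exact ⟨x * y, (A ⊔ B).mul_mem hx hy, hg.map_mul (hAB hx) (hAB hy)⟩
      one_mem' := ⟨1, (A ⊔ B).one_mem, hg.map_one⟩
      inv_mem' := by
        rintro _ ⟨x, hx, rfl⟩
        exact ⟨x⁻¹, (A ⊔ B).inv_mem hx, hg.map_inv (hAB hx)⟩ }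
  have hle : A' ⊔ B' ≤ W := by
    apply sup_le
    · intro y hy
      obtain ⟨x, hx, e⟩ := hA' y hy
      exact ⟨x, (le_sup_left : A ≤ A ⊔ B) hx, e⟩
    · intro y hy
      obtain ⟨x, hx, e⟩ := hB' y hy
      exact ⟨x, (le_sup_right : B ≤ A ⊔ B) hx, e⟩
  exact fun y hy => hle hy

/-- the maps of the normalizer system of `R` in the normalizer system of `Q`, at function level -/
theorem mor_nn_iff {F : FusionSystem S} {Q : Subgroup Ω} {N : FusionSystem (normalizerIn S Q)}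
    (hN : F.IsNormalizerSystem Q N) {R : Subgroup Ω} (hRT : R ≤ normalizerIn S Q)
    {M : FusionSystem (normalizerIn (normalizerIn S Q) R)} (hM : N.IsNormalizerSystem R M)
    {A : Subgroup Ω} {f : Ω → Ω} :
    Mor M A f ↔ A ≤ normalizerIn (normalizerIn S Q) R ∧
      (∀ x ∈ A, f x ∈ normalizerIn (normalizerIn S Q) R) ∧
      ∃ g, Mor F ((A ⊔ R) ⊔ Q) g ∧ (∀ x ∈ A, g x = f x) ∧ (∀ y, y ∈ R ↔ ∃ x ∈ R, g x = y) ∧
        (∀ y, y ∈ Q ↔ ∃ x ∈ Q, g x = y) := by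
  have hUT : normalizerIn (normalizerIn S Q) R ≤ normalizerIn S Q := inf_le_left
  constructor
  · intro h
    obtain ⟨-, hAU, hfU, g₁, hg₁, e₁, hR⟩ := (mor_normalizerSystem_iff hM).1 h
    obtain ⟨-, -, -, g, hg, e, hQ⟩ := (mor_normalizerSystem_iff hN).1 hg₁
    refine ⟨hAU, hfU, g, hg, fun x hx => ?_, fun y => ?_, hQ⟩
    · rw [e x ((le_sup_left : A ≤ A ⊔ R) hx), e₁ x hx]
    · rw [hR y]
      constructor
      · rintro ⟨x, hx, rfl⟩
        exact ⟨x, hx, e x ((le_sup_right : R ≤ A ⊔ R) hx)⟩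
      · rintro ⟨x, hx, rfl⟩
        exact ⟨x, hx, (e x ((le_sup_right : R ≤ A ⊔ R) hx)).symm⟩
  · rintro ⟨hAU, hfU, g, hg, e, hR, hQ⟩
    have hAR : A ⊔ R ≤ (A ⊔ R) ⊔ Q := le_sup_left
    have hNg : Mor N (A ⊔ R) g := by
      rw [mor_normalizerSystem_iff hN]
      refine ⟨hg.restrict hAR, sup_le (hAU.trans hUT) hRT, ?_, g, hg, fun _ _ => rfl, hQ⟩
      apply mor_sup_mem hg (le_sup_left.trans hAR) (le_sup_right.trans hAR)
      · intro x hx
        rw [e x hx]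
        exact hUT (hfU x hx)
      · intro x hx
        exact hRT ((hR _).2 ⟨x, hx, rfl⟩)
    rw [mor_normalizerSystem_iff hM]
    exact ⟨(hNg.restrict le_sup_left).congr e, hAU, hfU, g, hNg, e, hR⟩

/-- a function-level criterion for a system to be realized by an injective homomorphism -/
theorem isRealizedBy_of_fun {G : Type*} [Group G] {F : FusionSystem S} (ι : S →* G)
    (hinj : Function.Injective ι)
    (h : ∀ (P : Subgroup Ω) (f : Ω → Ω), P ≤ S → (∀ x ∈ P, f x ∈ S) →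
      (Mor F P f ↔ ∃ g : G, ∀ x ∈ P, au ι (f x) = g * au ι x * g⁻¹)) : F.IsRealizedBy ι := by
  refine ⟨hinj, fun P hP φ hφ => ?_⟩
  have hfS : ∀ x ∈ P, extFun φ x ∈ S := fun x hx => by rw [extFun_mem φ hx]; exact hφ ⟨x, hx⟩
  rw [mem_hom_iff_mor, h P (extFun φ) hP hfS]
  constructor
  · rintro ⟨g, hg⟩
    refine ⟨g, fun x => ?_⟩
    have h1 := hg x x.2
    rw [au_mem ι (hfS x x.2), au_mem ι (hP x.2)] at h1
    have h2 : (⟨extFun φ x, hfS x x.2⟩ : S) = ⟨φ x, hφ x⟩ := Subtype.ext (extFun_apply φ x)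
    rw [h2] at h1
    exact h1
  · rintro ⟨g, hg⟩
    refine ⟨g, fun x hx => ?_⟩
    rw [au_mem ι (hfS x hx), au_mem ι (hP hx)]
    have h2 : (⟨extFun φ x, hfS x hx⟩ : S) = ⟨φ ⟨x, hx⟩, hφ ⟨x, hx⟩⟩ := Subtype.ext (extFun_mem φ hx)
    rw [h2]
    exact hg ⟨x, hx⟩

/-- a map of the system defined on `N_S(X)` and carrying `X` onto `Y` carries `N_S(X)` into `N_S(Y)` -/
theorem mor_normalizer_mem {F : FusionSystem S} {X Y : Subgroup Ω} {χ : Ω → Ω}
    (hχ : Mor F (normalizerIn S X) χ) (hXY : Iso F X Y χ) :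
    ∀ n ∈ normalizerIn S X, χ n ∈ normalizerIn S Y := by
  have hXN : X ≤ normalizerIn S X := fun x hx => ⟨hXY.le_left hx, Subgroup.le_normalizer hx⟩
  have key : ∀ n ∈ normalizerIn S X, ∀ y ∈ Y, χ n * y * (χ n)⁻¹ ∈ Y := by
    intro n hn y hy
    obtain ⟨x, hx, rfl⟩ := hXY.surj hy
    have hnx : n * x * n⁻¹ ∈ X := by
      have := (Subgroup.mem_normalizer_iff.1 hn.2 x).1 hx
      exact this
    have e : χ (n * x * n⁻¹) = χ n * χ x * (χ n)⁻¹ := by
      rw [hχ.map_mul ((normalizerIn S X).mul_mem hn (hXN hx)) ((normalizerIn S X).inv_mem hn),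
        hχ.map_mul hn (hXN hx), hχ.map_inv hn]
    rw [← e]
    exact hXY.map_mem hnx
  intro n hn
  refine ⟨hχ.mem hn, ?_⟩
  show χ n ∈ Subgroup.normalizer (Y : Set Ω)
  rw [Subgroup.mem_normalizer_iff]
  intro y
  constructor
  · exact key n hn y
  · intro hy
    have h1 := key n⁻¹ ((normalizerIn S X).inv_mem hn) _ hy
    rw [hχ.map_inv hn] at h1
    have e : (χ n)⁻¹ * (χ n * y * (χ n)⁻¹) * ((χ n)⁻¹)⁻¹ = y := by group
    rwa [e] at h1

end Cfsg.Agent.Helper86.SecFreeNorm
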