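import Mathlib
import Cfsg.Agent.Lib.Helper86.SecFreeNormA

set_option autoImplicit false

/-! # Transporting a realization along a map of the system defined on a normalizer -/

namespace Cfsg.Agent.Helper86.SecFreeNorm

open Cfsg Cfsg.FusionSystem Cfsg.Agent.Helper87 Cfsg.Agent.Helper85

universe u v

section Bridge

variable {Ω : Type u} [Group Ω] {S : Subgroup Ω} {F : FusionSystem S}
  {P₀ P' : Subgroup Ω} {α : Ω → Ω}
  {N' : FusionSystem (normalizerIn S P')}
  {G : Type v} [Group G]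

/-- the composite of `α` and `ι` as a homomorphism on `N_S(P₀)` -/
noncomputable def JHom (hα : Mor F (normalizerIn S P₀) α) (hαP : Iso F P₀ P' α)
    (ι : ↥(normalizerIn S P') →* G) : ↥(normalizerIn S P₀) →* G :=
  MonoidHom.mk' (fun x => ι ⟨α x, mor_normalizer_mem hα hαP x x.2⟩) (by
    intro a b
    rw [← map_mul]
    congr 1
    apply Subtype.ext
    exact hα.map_mul a.2 b.2)

theorem au_JHom (hα : Mor F (normalizerIn S P₀) α) (hαP : Iso F P₀ P' α)
    (ι : ↥(normalizerIn S P') →* G) {x : Ω} (hx : x ∈ normalizerIn S P₀) :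
    au (JHom hα hαP ι) x = au ι (α x) := by
  rw [au_mem _ hx, au_mem ι (mor_normalizer_mem hα hαP x hx)]
  rfl

theorem JHom_injective (hα : Mor F (normalizerIn S P₀) α) (hαP : Iso F P₀ P' α)
    {ι : ↥(normalizerIn S P') →* G} (hinj : Function.Injective ι) :
    Function.Injective (JHom hα hαP ι) := by
  intro a b hab
  have h1 : (⟨α a, mor_normalizer_mem hα hαP a a.2⟩ : ↥(normalizerIn S P')) =
      ⟨α b, mor_normalizer_mem hα hαP b b.2⟩ := hinj hab
  have h2 : α a = α b := congrArg Subtype.val h1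
  exact Subtype.ext (hα.inj a.2 b.2 h2)

/-- conjugation in the group, read through `J`, gives maps of the system -/
theorem bridge_mor (hN' : F.IsNormalizerSystem P' N') {ι : ↥(normalizerIn S P') →* G}
    (hreal : N'.IsRealizedBy ι)
    (hα : Mor F (normalizerIn S P₀) α) (hαP : Iso F P₀ P' α) {D : Subgroup Ω}
    (hD : D ≤ normalizerIn S P₀) {ψ : Ω → Ω} (hψ : ∀ x ∈ D, ψ x ∈ normalizerIn S P') (h : G)
    (hh : ∀ x ∈ D, au ι (ψ x) = h * au (JHom hα hαP ι) x * h⁻¹) : Mor F D ψ := by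
  have hαD : Mor F D α := hα.restrict hD
  obtain ⟨β, hβ, hβα, hαβ⟩ := (Iso.of_mor hαD).symm
  have hD'T : hαD.image ≤ normalizerIn S P' := by
    intro y hy
    obtain ⟨x, hx, rfl⟩ := hαD.mem_image.1 hy
    exact mor_normalizer_mem hα hαP x (hD hx)
  have hg' : Mor N' hαD.image (fun y => ψ (β y)) := by
    rw [realized_mor_iff hreal]
    refine ⟨hD'T, fun y hy => hψ _ (hβ.map_mem hy), h, fun y hy => ?_⟩
    have hx := hβ.map_mem hy
    rw [hh _ hx, au_JHom hα hαP ι (hD hx), hαβ y hy]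
  have hF' : Mor F hαD.image (fun y => ψ (β y)) := ((mor_normalizerSystem_iff hN').1 hg').1
  have h3 := hαD.comp hF' (fun x hx => hαD.mem_image.2 ⟨x, hx, rfl⟩)
  exact h3.congr (fun x hx => by show ψ (β (α x)) = ψ x; rw [hβα x hx])

/-- maps of the system normalizing `P₀` are conjugations in the group, read through `J` -/
theorem bridge_conj (hN' : F.IsNormalizerSystem P' N') {ι : ↥(normalizerIn S P') →* G}
    (hreal : N'.IsRealizedBy ι)
    (hα : Mor F (normalizerIn S P₀) α) (hαP : Iso F P₀ P' α) {D : Subgroup Ω}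
    (hD : D ≤ normalizerIn S P₀) (hP₀D : P₀ ≤ D) {g : Ω → Ω} (hg : Mor F D g)
    (hgN : ∀ x ∈ D, g x ∈ normalizerIn S P₀) (hgP : ∀ y, y ∈ P₀ ↔ ∃ x ∈ P₀, g x = y) :
    ∃ h : G, ∀ x ∈ D, au (JHom hα hαP ι) (g x) = h * au (JHom hα hαP ι) x * h⁻¹ := by
  have hαD : Mor F D α := hα.restrict hD
  obtain ⟨β, hβ, hβα, hαβ⟩ := (Iso.of_mor hαD).symm
  have hD'T : hαD.image ≤ normalizerIn S P' := by
    intro y hy
    obtain ⟨x, hx, rfl⟩ := hαD.mem_image.1 hy
    exact mor_normalizer_mem hα hαP x (hD hx)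
  have hP'D' : P' ≤ hαD.image := by
    intro z hz
    obtain ⟨x, hx, rfl⟩ := hαP.surj hz
    exact hαD.mem_image.2 ⟨x, hP₀D hx, rfl⟩
  have hF' : Mor F hαD.image (fun y => α (g (β y))) :=
    ((hβ.mor.comp hg (fun y hy => hβ.map_mem hy)).comp hα (fun y hy => hgN _ (hβ.map_mem hy)))
  have hg' : Mor N' hαD.image (fun y => α (g (β y))) := by
    rw [mor_normalizerSystem_iff hN']
    refine ⟨hF', hD'T, fun y hy => mor_normalizer_mem hα hαP _ (hgN _ (hβ.map_mem hy)),
      fun y => α (g (β y)), ?_, fun _ _ => rfl, fun z => ?_⟩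
    · rw [sup_eq_left.2 hP'D']
      exact hF'
    · constructor
      · intro hz
        obtain ⟨x₀, hx₀, rfl⟩ := hαP.surj hz
        obtain ⟨x₁, hx₁, rfl⟩ := (hgP x₀).1 hx₀
        refine ⟨α x₁, hαP.map_mem hx₁, ?_⟩
        show α (g (β (α x₁))) = α (g x₁)
        rw [hβα x₁ (hP₀D hx₁)]
      · rintro ⟨y, hy, rfl⟩
        obtain ⟨x₁, hx₁, rfl⟩ := hαP.surj hy
        show α (g (β (α x₁))) ∈ P'
        rw [hβα x₁ (hP₀D hx₁)]
        exact hαP.map_mem ((hgP _).2 ⟨x₁, hx₁, rfl⟩)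
  obtain ⟨-, -, h, hh⟩ := (realized_mor_iff hreal).1 hg'
  refine ⟨h, fun x hx => ?_⟩
  have h1 := hh (α x) (hαD.mem_image.2 ⟨x, hx, rfl⟩)
  rw [hβα x hx] at h1
  rw [au_JHom hα hαP ι (hgN x hx), au_JHom hα hαP ι (hD hx)]
  exact h1

end Bridge

end Cfsg.Agent.Helper86.SecFreeNorm
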