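import Mathlib
import Cfsg.Agent.Lib.Helper86.SecFreeNormB

set_option autoImplicit false

/-! # The local subgroup `N(Q̃) ∩ N(R̃)` of a realizing group realizes the iterated normalizer system -/

namespace Cfsg.Agent.Helper86.SecFreeNorm

open Cfsg Cfsg.FusionSystem Cfsg.Agent.Helper87 Cfsg.Agent.Helper85

universe u v

variable {Ω : Type u} [Group Ω] {S : Subgroup Ω}

/-- the data: `N = N_F(Q)`, `M = N_N(R)`, a map `α` of `F` on `N_S(RQ)` carrying `RQ` onto `P'`, and a group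
realizing `N' = N_F(P')` -/
structure Ctx (F : FusionSystem S) (Q R P' : Subgroup Ω) (α : Ω → Ω)
    (N : FusionSystem (normalizerIn S Q)) (M : FusionSystem (normalizerIn (normalizerIn S Q) R))
    (N' : FusionSystem (normalizerIn S P')) {G : Type v} [Group G]
    (ι : ↥(normalizerIn S P') →* G) : Prop where
  hN : F.IsNormalizerSystem Q N
  hM : N.IsNormalizerSystem R M
  hN' : F.IsNormalizerSystem P' N'
  hRT : R ≤ normalizerIn S Q
  hQS : Q ≤ S
  hα : Mor F (normalizerIn S (R ⊔ Q)) α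
  hαP : Iso F (R ⊔ Q) P' α
  hreal : N'.IsRealizedBy ι

namespace Ctx

variable {F : FusionSystem S} {Q R P' : Subgroup Ω} {α : Ω → Ω}
  {N : FusionSystem (normalizerIn S Q)} {M : FusionSystem (normalizerIn (normalizerIn S Q) R)}
  {N' : FusionSystem (normalizerIn S P')} {G : Type v} [Group G]
  {ι : ↥(normalizerIn S P') →* G}

theorem P₀_le (c : Ctx F Q R P' α N M N' ι) : R ⊔ Q ≤ normalizerIn S (R ⊔ Q) :=
  fun x hx => ⟨c.hαP.le_left hx, Subgroup.le_normalizer hx⟩

theorem R_le (c : Ctx F Q R P' α N M N' ι) : R ≤ normalizerIn S (R ⊔ Q) := le_sup_left.trans c.P₀_le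

theorem Q_le (c : Ctx F Q R P' α N M N' ι) : Q ≤ normalizerIn S (R ⊔ Q) := le_sup_right.trans c.P₀_le

theorem U_le (c : Ctx F Q R P' α N M N' ι) :
    normalizerIn (normalizerIn S Q) R ≤ normalizerIn S (R ⊔ Q) := by
  intro u hu
  refine ⟨hu.1.1, ?_⟩
  exact Subgroup.normalizer_inf_normalizer_le_normalizer_sup R Q ⟨hu.2, hu.1.2⟩

theorem U_le_T (_c : Ctx F Q R P' α N M N' ι) :
    normalizerIn (normalizerIn S Q) R ≤ normalizerIn S Q := inf_le_left

/-- the homomorphism `J = ι ∘ α` on `N_S(RQ)` -/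
noncomputable def J (c : Ctx F Q R P' α N M N' ι) : ↥(normalizerIn S (R ⊔ Q)) →* G :=
  JHom c.hα c.hαP ι

theorem J_injective (c : Ctx F Q R P' α N M N' ι) : Function.Injective c.J :=
  JHom_injective c.hα c.hαP c.hreal.1

/-- the local subgroup `N(J(Q)) ∩ N(J(R))` -/
noncomputable def H (c : Ctx F Q R P' α N M N' ι) : Subgroup G :=
  Subgroup.normalizer ((imageAlong c.J Q : Subgroup G) : Set G) ⊓
    Subgroup.normalizer ((imageAlong c.J R : Subgroup G) : Set G)

/-- `J(u)` normalizes `J(X)` when `u ∈ N_S(RQ)` normalizes `X` -/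
theorem J_mem_normalizer (c : Ctx F Q R P' α N M N' ι) {X : Subgroup Ω} {u : Ω}
    (hu : u ∈ normalizerIn S (R ⊔ Q)) (huX : u ∈ Subgroup.normalizer (X : Set Ω)) :
    au c.J u ∈ Subgroup.normalizer ((imageAlong c.J X : Subgroup G) : Set G) := by
  rw [au_mem c.J hu]
  apply Subgroup.le_normalizer_map c.J
  refine Subgroup.mem_map_of_mem c.J ?_
  rw [Subgroup.mem_normalizer_iff]
  intro x
  rw [Subgroup.mem_subgroupOf, Subgroup.mem_subgroupOf]
  exact (Subgroup.mem_normalizer_iff.1 huX (x : Ω))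

theorem J_mem_H (c : Ctx F Q R P' α N M N' ι) {u : Ω} (hu : u ∈ normalizerIn (normalizerIn S Q) R) :
    au c.J u ∈ c.H :=
  ⟨c.J_mem_normalizer (c.U_le hu) hu.1.2, c.J_mem_normalizer (c.U_le hu) hu.2⟩

/-- the embedding of `N_{N_S(Q)}(R)` in the local subgroup -/
noncomputable def iota2 (c : Ctx F Q R P' α N M N' ι) :
    ↥(normalizerIn (normalizerIn S Q) R) →* ↥c.H :=
  (c.J.comp (Subgroup.inclusion c.U_le)).codRestrict c.H (fun u => by
    have := c.J_mem_H u.2
    rw [au_mem c.J (c.U_le u.2)] at this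
    exact this)

theorem coe_au_iota2 (c : Ctx F Q R P' α N M N' ι) {x : Ω} (hx : x ∈ normalizerIn (normalizerIn S Q) R) :
    ((au c.iota2 x : ↥c.H) : G) = au c.J x := by
  rw [au_mem c.iota2 hx, au_mem c.J (c.U_le hx)]
  rfl

theorem iota2_injective (c : Ctx F Q R P' α N M N' ι) : Function.Injective c.iota2 := by
  intro a b hab
  have h1 : ((c.iota2 a : ↥c.H) : G) = ((c.iota2 b : ↥c.H) : G) := congrArg Subtype.val hab
  have h2 : c.J (Subgroup.inclusion c.U_le a) = c.J (Subgroup.inclusion c.U_le b) := h1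
  have h3 := c.J_injective h2
  exact Subgroup.inclusion_injective c.U_le h3

theorem au_J_mul (c : Ctx F Q R P' α N M N' ι) {x y : Ω} (hx : x ∈ normalizerIn S (R ⊔ Q))
    (hy : y ∈ normalizerIn S (R ⊔ Q)) : au c.J (x * y) = au c.J x * au c.J y := au_mul c.J hx hy

/-- an element conjugating `J ∘ g` from `J` normalizes `J(X)` for `X` carried onto itself by `g` -/
theorem mem_normalizer_of_conj (c : Ctx F Q R P' α N M N' ι) {D X : Subgroup Ω}
    (hD : D ≤ normalizerIn S (R ⊔ Q)) (hXD : X ≤ D) {g : Ω → Ω}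
    (hgX : ∀ y, y ∈ X ↔ ∃ x ∈ X, g x = y) (h : G)
    (hconj : ∀ x ∈ D, au c.J (g x) = h * au c.J x * h⁻¹) :
    h ∈ Subgroup.normalizer ((imageAlong c.J X : Subgroup G) : Set G) := by
  rw [Subgroup.mem_normalizer_iff]
  intro y
  constructor
  · intro hy
    obtain ⟨x, hxN, hxX, rfl⟩ := mem_img.1 hy
    rw [← hconj x (hXD hxX)]
    have hgx : g x ∈ X := (hgX _).2 ⟨x, hxX, rfl⟩
    exact mem_img.2 ⟨g x, hD (hXD hgx), hgx, rfl⟩
  · intro hy
    obtain ⟨x', hx'N, hx'X, e⟩ := mem_img.1 hy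
    obtain ⟨x, hxX, rfl⟩ := (hgX x').1 hx'X
    rw [hconj x (hXD hxX)] at e
    have : au c.J x = y := by
      have := congrArg (fun z => h⁻¹ * z * h) e
      simpa [mul_assoc] using this
    rw [← this]
    exact mem_img.2 ⟨x, hD (hXD hxX), hxX, rfl⟩

/-- an element normalizing `J(X)` and conjugating `J` to `J ∘ g` on `X`: then `g` carries `X` onto itself -/
theorem image_eq_of_normalizer (c : Ctx F Q R P' α N M N' ι) {X : Subgroup Ω}
    (hX : X ≤ normalizerIn S (R ⊔ Q)) {g : Ω → Ω} (hgN : ∀ x, g x ∈ normalizerIn S (R ⊔ Q)) (h : G)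
    (hh : h ∈ Subgroup.normalizer ((imageAlong c.J X : Subgroup G) : Set G))
    (hconj : ∀ x ∈ X, au c.J (g x) = h * au c.J x * h⁻¹) :
    ∀ y, y ∈ X ↔ ∃ x ∈ X, g x = y := by
  intro y
  constructor
  · intro hy
    have hyI : au c.J y ∈ imageAlong c.J X := mem_img.2 ⟨y, hX hy, hy, rfl⟩
    have hz : h⁻¹ * au c.J y * h ∈ imageAlong c.J X := by
      apply (Subgroup.mem_normalizer_iff.1 hh _).2
      have e : h * (h⁻¹ * au c.J y * h) * h⁻¹ = au c.J y := by group
      rw [e]; exact hyI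
    obtain ⟨x, hxN, hxX, e⟩ := mem_img.1 hz
    refine ⟨x, hxX, ?_⟩
    apply au_injOn c.J_injective (hgN x) (hX hy)
    rw [hconj x hxX, e]
    group
  · rintro ⟨x, hx, rfl⟩
    have hxI : au c.J x ∈ imageAlong c.J X := mem_img.2 ⟨x, hX hx, hx, rfl⟩
    have hz := (Subgroup.mem_normalizer_iff.1 hh _).1 hxI
    obtain ⟨x', hx'N, hx'X, e⟩ := mem_img.1 hz
    have : g x = x' := by
      apply au_injOn c.J_injective (hgN x) hx'N
      rw [hconj x hx, e]
    rw [this]; exact hx'X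

theorem imageAlong_le_range (c : Ctx F Q R P' α N M N' ι) (X : Subgroup Ω) :
    imageAlong c.J X ≤ c.J.range := by
  intro y hy
  obtain ⟨x, hxN, -, rfl⟩ := mem_img.1 hy
  exact au_mem_range' c.J hxN

/-- **The local subgroup realizes the iterated normalizer system.** -/
theorem realized (c : Ctx F Q R P' α N M N' ι) : M.IsRealizedBy c.iota2 := by
  apply isRealizedBy_of_fun c.iota2 c.iota2_injective
  intro A f hAU hfU
  have hD : (A ⊔ R) ⊔ Q ≤ normalizerIn S (R ⊔ Q) :=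
    sup_le (sup_le (hAU.trans c.U_le) c.R_le) c.Q_le
  have hRD : R ≤ (A ⊔ R) ⊔ Q := le_sup_right.trans le_sup_left
  have hQD : Q ≤ (A ⊔ R) ⊔ Q := le_sup_right
  have hAD : A ≤ (A ⊔ R) ⊔ Q := le_sup_left.trans le_sup_left
  have hP₀D : R ⊔ Q ≤ (A ⊔ R) ⊔ Q := sup_le hRD hQD
  constructor
  · intro hf
    obtain ⟨-, -, g, hg, e, hR, hQ⟩ := (mor_nn_iff c.hN c.hRT c.hM).1 hf
    have hgN : ∀ x ∈ (A ⊔ R) ⊔ Q, g x ∈ normalizerIn S (R ⊔ Q) := by
      apply mor_sup_mem hg le_sup_left le_sup_right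
      · apply mor_sup_mem hg hAD hRD
        · intro x hx; rw [e x hx]; exact c.U_le (hfU x hx)
        · intro x hx; exact c.R_le ((hR _).2 ⟨x, hx, rfl⟩)
      · intro x hx; exact c.Q_le ((hQ _).2 ⟨x, hx, rfl⟩)
    have hgP : ∀ y, y ∈ R ⊔ Q ↔ ∃ x ∈ R ⊔ Q, g x = y := by
      intro y
      constructor
      · exact mor_sup_surj hg hRD hQD (fun y hy => (hR y).1 hy) (fun y hy => (hQ y).1 hy) y
      · rintro ⟨x, hx, rfl⟩
        exact mor_sup_mem hg hRD hQD (fun x hx => (le_sup_left : R ≤ R ⊔ Q) ((hR _).2 ⟨x, hx, rfl⟩))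
          (fun x hx => (le_sup_right : Q ≤ R ⊔ Q) ((hQ _).2 ⟨x, hx, rfl⟩)) x hx
    obtain ⟨h, hh⟩ := bridge_conj c.hN' c.hreal c.hα c.hαP hD hP₀D hg hgN hgP
    have hhH : h ∈ c.H :=
      ⟨c.mem_normalizer_of_conj hD hQD hQ h hh, c.mem_normalizer_of_conj hD hRD hR h hh⟩
    refine ⟨⟨h, hhH⟩, fun x hx => ?_⟩
    apply Subtype.ext
    rw [c.coe_au_iota2 (hfU x hx)]
    show au c.J (f x) = h * ((au c.iota2 x : ↥c.H) : G) * h⁻¹
    rw [c.coe_au_iota2 (hAU hx), ← e x hx]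
    exact hh x (hAD hx)
  · rintro ⟨h, hh⟩
    have hh' : ∀ x ∈ A, au c.J (f x) = (h : G) * au c.J x * (h : G)⁻¹ := by
      intro x hx
      have h1 := congrArg Subtype.val (hh x hx)
      rw [c.coe_au_iota2 (hfU x hx)] at h1
      rw [h1]
      show ((h * au c.iota2 x * h⁻¹ : ↥c.H) : G) = _
      rw [Subgroup.coe_mul, Subgroup.coe_mul, Subgroup.coe_inv, c.coe_au_iota2 (hAU hx)]
    have hJinj := c.J_injective
    have hhQ : (h : G) ∈ Subgroup.normalizer ((imageAlong c.J Q : Subgroup G) : Set G) := h.2.1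
    have hhR : (h : G) ∈ Subgroup.normalizer ((imageAlong c.J R : Subgroup G) : Set G) := h.2.2
    have hrange : ∀ x ∈ (A ⊔ R) ⊔ Q, (h : G) * au c.J x * (h : G)⁻¹ ∈ c.J.range := by
      let W : Subgroup Ω :=
        { carrier := {x | x ∈ normalizerIn S (R ⊔ Q) ∧ (h : G) * au c.J x * (h : G)⁻¹ ∈ c.J.range}
          mul_mem' := by
            rintro x y ⟨hx, hxr⟩ ⟨hy, hyr⟩
            refine ⟨(normalizerIn S (R ⊔ Q)).mul_mem hx hy, ?_⟩
            rw [au_mul c.J hx hy]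
            have e : (h : G) * (au c.J x * au c.J y) * (h : G)⁻¹ =
                ((h : G) * au c.J x * (h : G)⁻¹) * ((h : G) * au c.J y * (h : G)⁻¹) := by group
            rw [e]; exact c.J.range.mul_mem hxr hyr
          one_mem' := by
            refine ⟨(normalizerIn S (R ⊔ Q)).one_mem, ?_⟩
            rw [au_one c.J]
            have e : (h : G) * 1 * (h : G)⁻¹ = 1 := by group
            rw [e]; exact c.J.range.one_mem
          inv_mem' := by
            rintro x ⟨hx, hxr⟩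
            refine ⟨(normalizerIn S (R ⊔ Q)).inv_mem hx, ?_⟩
            rw [au_inv c.J hx]
            have e : (h : G) * (au c.J x)⁻¹ * (h : G)⁻¹ = ((h : G) * au c.J x * (h : G)⁻¹)⁻¹ := by group
            rw [e]; exact c.J.range.inv_mem hxr }
      have hle : (A ⊔ R) ⊔ Q ≤ W := by
        refine sup_le (sup_le ?_ ?_) ?_
        · intro x hx
          refine ⟨c.U_le (hAU hx), ?_⟩
          rw [← hh' x hx]
          exact au_mem_range' c.J (c.U_le (hfU x hx))
        · intro x hx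
          refine ⟨c.R_le hx, c.imageAlong_le_range R ?_⟩
          exact (Subgroup.mem_normalizer_iff.1 hhR _).1 (mem_img.2 ⟨x, c.R_le hx, hx, rfl⟩)
        · intro x hx
          refine ⟨c.Q_le hx, c.imageAlong_le_range Q ?_⟩
          exact (Subgroup.mem_normalizer_iff.1 hhQ _).1 (mem_img.2 ⟨x, c.Q_le hx, hx, rfl⟩)
      exact fun x hx => (hle hx).2
    let g : Ω → Ω := fun x => au (backHom c.J hJinj) ((h : G) * au c.J x * (h : G)⁻¹)
    have hgN : ∀ x, g x ∈ normalizerIn S (R ⊔ Q) := fun x => au_backHom_mem c.J hJinj _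
    have hgJ : ∀ x ∈ (A ⊔ R) ⊔ Q, au c.J (g x) = (h : G) * au c.J x * (h : G)⁻¹ :=
      fun x hx => au_au_back c.J hJinj (hrange x hx)
    have hαg : Mor F ((A ⊔ R) ⊔ Q) (fun x => α (g x)) := by
      apply bridge_mor c.hN' c.hreal c.hα c.hαP hD
        (fun x _ => mor_normalizer_mem c.hα c.hαP _ (hgN x)) (h : G)
      intro x hx
      rw [← au_JHom c.hα c.hαP ι (hgN x)]
      exact hgJ x hx
    obtain ⟨β, hβ, hβα, -⟩ := (Iso.of_mor c.hα).symm
    have hg : Mor F ((A ⊔ R) ⊔ Q) g := by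
      have h1 := hαg.comp hβ.mor (fun x _ => c.hα.mem_image.2 ⟨g x, hgN x, rfl⟩)
      exact h1.congr (fun x _ => hβα (g x) (hgN x))
    have e : ∀ x ∈ A, g x = f x := by
      intro x hx
      apply au_injOn hJinj (hgN x) (c.U_le (hfU x hx))
      rw [hgJ x (hAD hx), hh' x hx]
    have hR : ∀ y, y ∈ R ↔ ∃ x ∈ R, g x = y :=
      c.image_eq_of_normalizer c.R_le hgN (h : G) hhR (fun x hx => hgJ x (hRD hx))
    have hQ : ∀ y, y ∈ Q ↔ ∃ x ∈ Q, g x = y :=
      c.image_eq_of_normalizer c.Q_le hgN (h : G) hhQ (fun x hx => hgJ x (hQD hx))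
    exact (mor_nn_iff c.hN c.hRT c.hM).2 ⟨hAU, hfU, g, hg, e, hR, hQ⟩

end Ctx

end Cfsg.Agent.Helper86.SecFreeNorm
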