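import Mathlib
import Cfsg.Agent.Lib.Helper86.SecFreeNormC
import Cfsg.Agent.Lib.Helper87.FusionSaturated

set_option autoImplicit false

/-! # The image of `N_{N_S(Q)}(R)` is a Sylow subgroup of the local subgroup -/

namespace Cfsg.Agent.Helper86.SecFreeNorm

open Cfsg Cfsg.FusionSystem Cfsg.Agent.Helper87 Cfsg.Agent.Helper85

universe u v

theorem le_normalizer_of_forall {G : Type*} [Group G] (K W : Subgroup G)
    (h : ∀ w ∈ W, ∀ y ∈ K, w * y * w⁻¹ ∈ K) : W ≤ Subgroup.normalizer (K : Set G) := by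
  intro w hw
  rw [Subgroup.mem_normalizer_iff]
  intro y
  constructor
  · exact h w hw y
  · intro hy
    have h1 := h w⁻¹ (W.inv_mem hw) _ hy
    have e : w⁻¹ * (w * y * w⁻¹) * w⁻¹⁻¹ = y := by group
    rwa [e] at h1

variable {Ω : Type u} [Group Ω] {S : Subgroup Ω}

namespace Ctx

variable {F : FusionSystem S} {Q R P' : Subgroup Ω} {α : Ω → Ω}
  {N : FusionSystem (normalizerIn S Q)} {M : FusionSystem (normalizerIn (normalizerIn S Q) R)}
  {N' : FusionSystem (normalizerIn S P')} {G : Type v} [Group G]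
  {ι : ↥(normalizerIn S P') →* G}

theorem conj_sup_mem (c : Ctx F Q R P' α N M N' ι) (h : G) (K : Subgroup G) {A B : Subgroup Ω}
    (hA : A ≤ normalizerIn S (R ⊔ Q)) (hB : B ≤ normalizerIn S (R ⊔ Q))
    (hAK : ∀ x ∈ A, h * au c.J x * h⁻¹ ∈ K) (hBK : ∀ x ∈ B, h * au c.J x * h⁻¹ ∈ K) :
    ∀ x ∈ A ⊔ B, h * au c.J x * h⁻¹ ∈ K := by
  let W : Subgroup Ω :=
    { carrier := {x | x ∈ normalizerIn S (R ⊔ Q) ∧ h * au c.J x * h⁻¹ ∈ K}
      mul_mem' := by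
        rintro x y ⟨hx, hxr⟩ ⟨hy, hyr⟩
        refine ⟨(normalizerIn S (R ⊔ Q)).mul_mem hx hy, ?_⟩
        rw [au_mul c.J hx hy]
        have e : h * (au c.J x * au c.J y) * h⁻¹ = (h * au c.J x * h⁻¹) * (h * au c.J y * h⁻¹) := by
          group
        rw [e]; exact K.mul_mem hxr hyr
      one_mem' := by
        refine ⟨(normalizerIn S (R ⊔ Q)).one_mem, ?_⟩
        rw [au_one c.J]
        have e : h * 1 * h⁻¹ = 1 := by group
        rw [e]; exact K.one_mem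
      inv_mem' := by
        rintro x ⟨hx, hxr⟩
        refine ⟨(normalizerIn S (R ⊔ Q)).inv_mem hx, ?_⟩
        rw [au_inv c.J hx]
        have e : h * (au c.J x)⁻¹ * h⁻¹ = (h * au c.J x * h⁻¹)⁻¹ := by group
        rw [e]; exact K.inv_mem hxr }
  have hle : A ⊔ B ≤ W := sup_le (fun x hx => ⟨hA hx, hAK x hx⟩) (fun x hx => ⟨hB hx, hBK x hx⟩)
  exact fun x hx => (hle hx).2

/-- **Sylow.** The image of `N_{N_S(Q)}(R)` is a Sylow `p`-subgroup of the local subgroup. -/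
theorem exists_sylow (c : Ctx F Q R P' α N M N' ι) [Finite S] [Finite G] {p : ℕ} [Fact p.Prime]
    (hS : IsPGroup p S) (hF : F.IsSaturated p) (hQfn : F.IsFullyNormalized Q)
    (hRfn : N.IsFullyNormalized R) (T₀ : Sylow p G) (hT₀ : (T₀ : Subgroup G) = ι.range)
    (hPn : (imageAlong ι P').Normal) :
    ∃ T : Sylow p ↥c.H, (T : Subgroup ↥c.H) = c.iota2.range := by
  classical
  have hinj := c.hreal.1
  have hTS : normalizerIn S P' ≤ S := inf_le_left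
  have hUS : normalizerIn (normalizerIn S Q) R ≤ S := c.U_le_T.trans inf_le_left
  have hUp : IsPGroup p ↥(normalizerIn (normalizerIn S Q) R) := hS.to_le hUS
  have hrp : IsPGroup p c.iota2.range :=
    hUp.of_surjective c.iota2.rangeRestrict c.iota2.rangeRestrict_surjective
  obtain ⟨V, hV⟩ := hrp.exists_le_sylow
  refine ⟨V, ?_⟩
  symm
  apply Subgroup.eq_of_le_of_card_ge hV
  have hcr : Nat.card c.iota2.range = Nat.card ↥(normalizerIn (normalizerIn S Q) R) :=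
    (Nat.card_congr (MonoidHom.ofInjective c.iota2_injective).toEquiv).symm
  rw [hcr]
  -- conjugate `V` into `ι.range`
  have hV'p : IsPGroup p ((V : Subgroup ↥c.H).map c.H.subtype) := V.2.map _
  obtain ⟨T₁, hT₁⟩ := hV'p.exists_le_sylow
  obtain ⟨g₀, hg₀⟩ := MulAction.exists_smul_eq G T₁ T₀
  have hgV : ∀ v : ↥c.H, v ∈ V → g₀ * (v : G) * g₀⁻¹ ∈ ι.range := by
    intro v hv
    rw [← hT₀, ← hg₀]
    exact ⟨(v : G), hT₁ ⟨v, hv, rfl⟩, rfl⟩
  -- the subgroup `D = U ⊔ (R ⊔ Q)`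
  have hD : normalizerIn (normalizerIn S Q) R ⊔ (R ⊔ Q) ≤ normalizerIn S (R ⊔ Q) :=
    sup_le c.U_le c.P₀_le
  have hRD : R ≤ normalizerIn (normalizerIn S Q) R ⊔ (R ⊔ Q) := le_sup_left.trans le_sup_right
  have hQD : Q ≤ normalizerIn (normalizerIn S Q) R ⊔ (R ⊔ Q) := le_sup_right.trans le_sup_right
  have hP₀D : R ⊔ Q ≤ normalizerIn (normalizerIn S Q) R ⊔ (R ⊔ Q) := le_sup_right
  have hrange : ∀ x ∈ normalizerIn (normalizerIn S Q) R ⊔ (R ⊔ Q), g₀ * au c.J x * g₀⁻¹ ∈ ι.range := by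
    apply c.conj_sup_mem g₀ ι.range c.U_le c.P₀_le
    · intro x hx
      have h1 : c.iota2 ⟨x, hx⟩ ∈ V := hV ⟨_, rfl⟩
      have h2 := hgV _ h1
      have h3 : ((c.iota2 ⟨x, hx⟩ : ↥c.H) : G) = au c.J x := by
        rw [← c.coe_au_iota2 hx, au_mem c.iota2 hx]
      rwa [h3] at h2
    · intro x hx
      have h1 : au c.J x ∈ imageAlong ι P' := by
        rw [show au c.J x = au ι (α x) from au_JHom c.hα c.hαP ι (c.P₀_le hx)]
        exact mem_img.2 ⟨α x, mor_normalizer_mem c.hα c.hαP x (c.P₀_le hx), c.hαP.map_mem hx, rfl⟩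
      have h2 := hPn.conj_mem _ h1 g₀
      obtain ⟨y, hy, -, e⟩ := mem_img.1 h2
      rw [← e]; exact au_mem_range' ι hy
  let ψ : Ω → Ω := fun x => au (backHom ι hinj) (g₀ * au c.J x * g₀⁻¹)
  have hψT : ∀ x, ψ x ∈ normalizerIn S P' := fun x => au_backHom_mem ι hinj _
  have hψJ : ∀ x ∈ normalizerIn (normalizerIn S Q) R ⊔ (R ⊔ Q), au ι (ψ x) = g₀ * au c.J x * g₀⁻¹ :=
    fun x hx => au_au_back ι hinj (hrange x hx)
  have hψ : Mor F (normalizerIn (normalizerIn S Q) R ⊔ (R ⊔ Q)) ψ :=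
    bridge_mor c.hN' c.hreal c.hα c.hαP hD (fun x _ => hψT x) g₀ hψJ
  have hψQ : Mor F Q ψ := hψ.restrict hQD
  have hψR : Mor F R ψ := hψ.restrict hRD
  -- the preimage `W` of the conjugate of `V`
  let V' : Subgroup G := ((V : Subgroup ↥c.H).map c.H.subtype).map (MulAut.conj g₀).toMonoidHom
  let W : Subgroup Ω := preimageAlong ι V'
  have hWT : W ≤ normalizerIn S P' := preimageAlong_le ι V'
  have hWv : ∀ w ∈ W, ∃ v : ↥c.H, v ∈ V ∧ au ι w = g₀ * (v : G) * g₀⁻¹ := by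
    intro w hw
    obtain ⟨_, ⟨v, hv, rfl⟩, e⟩ := (mem_pre.1 hw).2
    exact ⟨v, hv, e.symm⟩
  -- `W` normalizes `ψ(X)` for `X = Q, R`
  have key : ∀ (X : Subgroup Ω) (hXD : X ≤ normalizerIn (normalizerIn S Q) R ⊔ (R ⊔ Q)),
      (∀ v : ↥c.H, (v : G) ∈ Subgroup.normalizer ((imageAlong c.J X : Subgroup G) : Set G)) →
      W ≤ Subgroup.normalizer (((hψ.restrict hXD).image : Subgroup Ω) : Set Ω) := by
    intro X hXD hvX
    apply le_normalizer_of_forall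
    intro w hw y hy
    obtain ⟨q, hq, rfl⟩ := (hψ.restrict hXD).mem_image.1 hy
    obtain ⟨v, hv, ev⟩ := hWv w hw
    have hqN := hD (hXD hq)
    have h1 : (v : G) * au c.J q * (v : G)⁻¹ ∈ imageAlong c.J X :=
      (Subgroup.mem_normalizer_iff.1 (hvX v) _).1 (mem_img.2 ⟨q, hqN, hq, rfl⟩)
    obtain ⟨q', hq'N, hq'X, e'⟩ := mem_img.1 h1
    have h2 : w * ψ q * w⁻¹ = ψ q' := by
      apply au_injOn hinj ((normalizerIn S P').mul_mem ((normalizerIn S P').mul_mem (hWT hw) (hψT q))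
        ((normalizerIn S P').inv_mem (hWT hw))) (hψT q')
      rw [au_conj ι (hWT hw) (hψT q), ev, hψJ q (hXD hq), hψJ q' (hXD hq'X), e']
      group
    rw [h2]
    exact (hψ.restrict hXD).mem_image.2 ⟨q', hq'X, rfl⟩
  have hWQ : W ≤ normalizerIn S hψQ.image :=
    fun w hw => ⟨hTS (hWT hw), key Q hQD (fun v => v.2.1) hw⟩
  have hWR : W ≤ Subgroup.normalizer ((hψR.image : Subgroup Ω) : Set Ω) := key R hRD (fun v => v.2.2)
  -- `ψ(R)` normalizes `ψ(Q)`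
  have hR₁Q₁ : hψR.image ≤ normalizerIn S hψQ.image := by
    intro y hy
    refine ⟨hψR.image_le hy, ?_⟩
    revert y
    show hψR.image ≤ Subgroup.normalizer ((hψQ.image : Subgroup Ω) : Set Ω)
    apply le_normalizer_of_forall
    intro y hy z hz
    obtain ⟨r, hr, rfl⟩ := hψR.mem_image.1 hy
    obtain ⟨q, hq, rfl⟩ := hψQ.mem_image.1 hz
    have hrq : r * q * r⁻¹ ∈ Q := (Subgroup.mem_normalizer_iff.1 (c.hRT hr).2 q).1 hq
    have e : ψ (r * q * r⁻¹) = ψ r * ψ q * (ψ r)⁻¹ := by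
      rw [hψ.map_mul (Subgroup.mul_mem _ (hRD hr) (hQD hq)) (Subgroup.inv_mem _ (hRD hr)),
        hψ.map_mul (hRD hr) (hQD hq), hψ.map_inv (hRD hr)]
    rw [← e]
    exact hψQ.mem_image.2 ⟨_, hrq, rfl⟩
  have hQ₁Q₁ : hψQ.image ≤ normalizerIn S hψQ.image :=
    fun y hy => ⟨hψQ.image_le hy, Subgroup.le_normalizer hy⟩
  -- the map `χ`
  have hQa := fullyAutomized_of_fullyNormalized hS hF hQfn
  have hQr := receptive_of_fullyNormalized hS hF hQfn
  obtain ⟨ψi, hψi, -, -⟩ := (Iso.of_mor hψQ).symm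
  obtain ⟨χ, hχ, hχQ⟩ := exists_extension_to_normalizer hS hQa hQr hψi
  have hχT : ∀ n ∈ normalizerIn S hψQ.image, χ n ∈ normalizerIn S Q := mor_normalizer_mem hχ hχQ
  -- `χ ∘ ψ` is a map of `N` on `R`
  have hψP₀ : ∀ x ∈ R ⊔ Q, ψ x ∈ normalizerIn S hψQ.image :=
    mor_sup_mem hψ hRD hQD (fun x hx => hR₁Q₁ (hψR.mem_image.2 ⟨x, hx, rfl⟩))
      (fun x hx => hQ₁Q₁ (hψQ.mem_image.2 ⟨x, hx, rfl⟩))
  have hNR : Mor N R (fun x => χ (ψ x)) := by
    rw [mor_normalizerSystem_iff c.hN]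
    refine ⟨hψR.comp hχ (fun x hx => hψP₀ x ((le_sup_left : R ≤ R ⊔ Q) hx)), c.hRT,
      fun x hx => hχT _ (hψP₀ x ((le_sup_left : R ≤ R ⊔ Q) hx)), fun x => χ (ψ x),
      (hψ.restrict hP₀D).comp hχ hψP₀, fun _ _ => rfl, fun y => ?_⟩
    constructor
    · intro hy
      obtain ⟨z, hz, rfl⟩ := hχQ.surj hy
      obtain ⟨x, hx, rfl⟩ := hψQ.mem_image.1 hz
      exact ⟨x, hx, rfl⟩
    · rintro ⟨x, hx, rfl⟩
      exact hχQ.map_mem (hψQ.mem_image.2 ⟨x, hx, rfl⟩)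
  have hconj : N.IsConj R hNR.image := isConj_iff.2 ⟨_, Iso.of_mor hNR⟩
  have hcard := hRfn.2 _ hconj
  -- `χ(W)` lies in `N_T(R₂)`
  have hχWm : Mor F W χ := hχ.restrict hWQ
  have hNorm : hχWm.image ≤ Subgroup.normalizer ((hNR.image : Subgroup Ω) : Set Ω) := by
    apply le_normalizer_of_forall
    intro y hy z hz
    obtain ⟨w, hw, rfl⟩ := hχWm.mem_image.1 hy
    obtain ⟨r, hr, rfl⟩ := hNR.mem_image.1 hz
    have hψr : ψ r ∈ hψR.image := hψR.mem_image.2 ⟨r, hr, rfl⟩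
    have h1 : w * ψ r * w⁻¹ ∈ hψR.image := (Subgroup.mem_normalizer_iff.1 (hWR hw) _).1 hψr
    obtain ⟨r', hr', e'⟩ := hψR.mem_image.1 h1
    have e : χ (w * ψ r * w⁻¹) = χ w * χ (ψ r) * (χ w)⁻¹ := by
      rw [hχ.map_mul (Subgroup.mul_mem _ (hWQ hw) (hR₁Q₁ hψr)) (Subgroup.inv_mem _ (hWQ hw)),
        hχ.map_mul (hWQ hw) (hR₁Q₁ hψr), hχ.map_inv (hWQ hw)]
    show χ w * χ (ψ r) * (χ w)⁻¹ ∈ hNR.image
    rw [← e, ← e']
    exact hNR.mem_image.2 ⟨r', hr', rfl⟩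
  have hχW : ∀ w ∈ W, χ w ∈ normalizerIn (normalizerIn S Q) hNR.image :=
    fun w hw => ⟨hχT w (hWQ hw), hNorm (hχWm.mem_image.2 ⟨w, hw, rfl⟩)⟩
  -- counting
  haveI : Finite ↥W := finite_of_le (hWT.trans hTS)
  haveI : Finite ↥(normalizerIn (normalizerIn S Q) hNR.image) :=
    finite_of_le ((inf_le_left : normalizerIn (normalizerIn S Q) hNR.image ≤ normalizerIn S Q).trans inf_le_left)
  have hc1 : Nat.card ↥(V : Subgroup ↥c.H) ≤ Nat.card ↥W := by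
    let fV : ↥(V : Subgroup ↥c.H) → ↥W := fun v =>
      ⟨au (backHom ι hinj) (g₀ * ((v : ↥c.H) : G) * g₀⁻¹), mem_pre.2 ⟨au_backHom_mem ι hinj _, by
        rw [au_au_back ι hinj (hgV v v.2)]
        exact ⟨_, ⟨(v : ↥c.H), v.2, rfl⟩, rfl⟩⟩⟩
    apply Nat.card_le_card_of_injective fV
    intro v v' hvv
    have h1 : au (backHom ι hinj) (g₀ * ((v : ↥c.H) : G) * g₀⁻¹) =
        au (backHom ι hinj) (g₀ * ((v' : ↥c.H) : G) * g₀⁻¹) := congrArg Subtype.val hvv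
    have h2 := congrArg (au ι) h1
    rw [au_au_back ι hinj (hgV v v.2), au_au_back ι hinj (hgV v' v'.2)] at h2
    have h3 : ((v : ↥c.H) : G) = ((v' : ↥c.H) : G) := by
      have := congrArg (fun z => g₀⁻¹ * z * g₀) h2
      simpa [mul_assoc] using this
    exact Subtype.ext (Subtype.ext h3)
  have hc2 : Nat.card ↥W ≤ Nat.card ↥(normalizerIn (normalizerIn S Q) hNR.image) := by
    let fW : ↥W → ↥(normalizerIn (normalizerIn S Q) hNR.image) := fun w => ⟨χ w, hχW w w.2⟩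
    apply Nat.card_le_card_of_injective fW
    intro w w' hww
    have h1 : χ w = χ w' := congrArg Subtype.val hww
    exact Subtype.ext (hχ.inj (hWQ w.2) (hWQ w'.2) h1)
  exact hc1.trans (hc2.trans hcard)

end Ctx

end Cfsg.Agent.Helper86.SecFreeNorm
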