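import Mathlib
import Cfsg.Prelude.Def_FusionReduction
import Cfsg.Agent.Lib.Helper86.SecFreeNormD
import Cfsg.Agent.Lib.Helper86.CharPLocal
import Cfsg.Agent.Lib.Helper85.NormalizerModel
import Cfsg.Agent.Lib.Helper85.NormalizerSys
import Cfsg.Agent.Lib.Helper84.FusO7
import Cfsg.Agent.S5096
import Cfsg.Agent.S5098

set_option autoImplicit false

/-! # Normalizer systems of section-free systems are section-free (given the model theorem) -/

namespace Cfsg.Agent.Helper86.SecFreeNorm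

open Cfsg Cfsg.FusionSystem Cfsg.Agent.Helper87 Cfsg.Agent.Helper85

universe u v

variable {Ω : Type u} [Group Ω] {S : Subgroup Ω}

namespace Ctx

variable {F : FusionSystem S} {Q R P' : Subgroup Ω} {α : Ω → Ω}
  {N : FusionSystem (normalizerIn S Q)} {M : FusionSystem (normalizerIn (normalizerIn S Q) R)}
  {N' : FusionSystem (normalizerIn S P')} {G : Type v} [Group G]
  {ι : ↥(normalizerIn S P') →* G}

theorem au_J (c : Ctx F Q R P' α N M N' ι) {x : Ω} (hx : x ∈ normalizerIn S (R ⊔ Q)) :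
    au c.J x = au ι (α x) := au_JHom c.hα c.hαP ι hx

theorem imageAlong_J_le (c : Ctx F Q R P' α N M N' ι) {X : Subgroup Ω} (hX : X ≤ R ⊔ Q) :
    imageAlong c.J X ≤ imageAlong ι P' := by
  intro y hy
  obtain ⟨x, hxN, hxX, rfl⟩ := mem_img.1 hy
  rw [c.au_J hxN]
  exact mem_img.2 ⟨α x, mor_normalizer_mem c.hα c.hαP x hxN, c.hαP.map_mem (hX hxX), rfl⟩

/-- **The local subgroup is a model of the iterated normalizer system.** -/
theorem isModel (c : Ctx F Q R P' α N M N' ι) [Finite S] {p : ℕ} [Fact p.Prime]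
    (hS : IsPGroup p S) (hF : F.IsSaturated p) (hQfn : F.IsFullyNormalized Q)
    (hRfn : N.IsFullyNormalized R) (hP'n : N'.IsNormal P') (hP'c : N'.IsCentric P')
    (hmodel : N'.IsModel p G ι) : M.IsModel p ↥c.H c.iota2 := by
  haveI : Finite ↥(normalizerIn S P') := finite_of_le inf_le_left
  have hPn : (imageAlong ι P').Normal := model_image_normal hmodel hP'n
  obtain ⟨hfin, hreal, ⟨T₀, hT₀⟩, hchar⟩ := hmodel
  haveI := hfin
  have hinj := hreal.1
  have hTS : normalizerIn S P' ≤ S := inf_le_left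
  have hTp : IsPGroup p ↥(normalizerIn S P') := hS.to_le hTS
  have hPp : IsPGroup p (imageAlong ι P') := (hTp.to_subgroup _).map ι
  have hP'T : P' ≤ normalizerIn S P' := hP'c.1
  refine ⟨inferInstance, c.realized, c.exists_sylow hS hF hQfn hRfn T₀ hT₀ hPn, ?_⟩
  -- characteristic `p`
  have hcen : (T₀ : Subgroup G) ⊓ Subgroup.centralizer ((imageAlong ι P' : Subgroup G) : Set G) ≤
      imageAlong ι P' := by
    rintro y ⟨hyT, hyC⟩
    rw [hT₀] at hyT
    obtain ⟨t, rfl⟩ := hyT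
    have htc : (t : Ω) ∈ centralizerIn (normalizerIn S P') P' := by
      refine ⟨t.2, ?_⟩
      show (t : Ω) ∈ Subgroup.centralizer (P' : Set Ω)
      rw [Subgroup.mem_centralizer_iff]
      intro z hz
      have hzT := hP'T hz
      have h1 : au ι z ∈ imageAlong ι P' := mem_img.2 ⟨z, hzT, hz, rfl⟩
      have h2 := Subgroup.mem_centralizer_iff.1 hyC _ h1
      rw [au_mem ι hzT] at h2
      have h3 : ι (⟨z, hzT⟩ * t) = ι (t * ⟨z, hzT⟩) := by rw [map_mul, map_mul]; exact h2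
      exact congrArg Subtype.val (hinj h3)
    have htP : (t : Ω) ∈ P' := hP'c.2 P' (isConj_refl hP'T) htc
    exact mem_img.2 ⟨t, t.2, htP, au_mem ι t.2⟩
  have hCP : Subgroup.centralizer ((imageAlong ι P' : Subgroup G) : Set G) ≤ imageAlong ι P' :=
    CharPLocal.cent_le_of_centric hchar T₀ (imageAlong ι P') hPp hcen
  have hQP : imageAlong c.J Q ≤ imageAlong ι P' := c.imageAlong_J_le le_sup_right
  have hRP : imageAlong c.J R ≤ imageAlong ι P' := c.imageAlong_J_le le_sup_left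
  have hPle : imageAlong ι P' ≤ imageAlong c.J Q ⊔ imageAlong c.J R := by
    intro y hy
    obtain ⟨z, hzT, hzP, rfl⟩ := mem_img.1 hy
    obtain ⟨x, hx, rfl⟩ := c.hαP.surj hzP
    have h1 := c.conj_sup_mem 1 (imageAlong c.J Q ⊔ imageAlong c.J R) c.R_le c.Q_le
      (fun x hx => by
        rw [one_mul, inv_one, mul_one]
        exact (le_sup_right : imageAlong c.J R ≤ _) (mem_img.2 ⟨x, c.R_le hx, hx, rfl⟩))
      (fun x hx => by
        rw [one_mul, inv_one, mul_one]
        exact (le_sup_left : imageAlong c.J Q ≤ _) (mem_img.2 ⟨x, c.Q_le hx, hx, rfl⟩)) x hx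
    rw [one_mul, inv_one, mul_one, c.au_J (c.P₀_le hx)] at h1
    exact h1
  have hRQ : imageAlong c.J R ≤ Subgroup.normalizer ((imageAlong c.J Q : Subgroup G) : Set G) := by
    intro y hy
    obtain ⟨r, hrN, hr, rfl⟩ := mem_img.1 hy
    exact c.J_mem_normalizer hrN (c.hRT hr).2
  exact CharPLocal.charp_local (imageAlong ι P') (imageAlong c.J Q) (imageAlong c.J R) hPp hCP hQP hRP
    hPle hRQ c.H rfl

end Ctx

/-- `RQ` is centric in `F` when `R` is centric in `N_F(Q)` and `Q` is fully normalized. -/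
theorem sup_isCentric [Finite S] {p : ℕ} [Fact p.Prime] (hS : IsPGroup p S) {F : FusionSystem S}
    (hF : F.IsSaturated p) {Q : Subgroup Ω} (hQ : F.IsFullyNormalized Q)
    {N : FusionSystem (normalizerIn S Q)} (hN : F.IsNormalizerSystem Q N) {R : Subgroup Ω}
    (hRc : N.IsCentric R) : F.IsCentric (R ⊔ Q) := by
  have hRT : R ≤ normalizerIn S Q := hRc.1
  have hP₀S : R ⊔ Q ≤ S := sup_le (hRT.trans inf_le_left) hQ.1
  refine ⟨hP₀S, fun Y hY => ?_⟩
  obtain ⟨f, hf⟩ := isConj_iff.1 hY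
  have hfQ : Mor F Q f := hf.mor.restrict le_sup_right
  have hfR : Mor F R f := hf.mor.restrict le_sup_left
  obtain ⟨fi, hfi, -, -⟩ := (Iso.of_mor hfQ).symm
  obtain ⟨χ, hχ, hχQ⟩ := exists_extension_to_normalizer hS
    (fullyAutomized_of_fullyNormalized hS hF hQ) (receptive_of_fullyNormalized hS hF hQ) hfi
  have hχT := mor_normalizer_mem hχ hχQ
  -- `Y` normalizes `f(Q)`
  have hYS : Y ≤ S := hf.le_right
  have hQ₁Y : hfQ.image ≤ Y := by
    intro y hy
    obtain ⟨q, hq, rfl⟩ := hfQ.mem_image.1 hy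
    exact hf.map_mem (le_sup_right (a := R) hq)
  have hYN : Y ≤ normalizerIn S hfQ.image := by
    intro y hy
    refine ⟨hYS hy, ?_⟩
    revert y
    show Y ≤ Subgroup.normalizer ((hfQ.image : Subgroup Ω) : Set Ω)
    apply le_normalizer_of_forall
    intro y hy z hz
    obtain ⟨x, hx, rfl⟩ := hf.surj hy
    obtain ⟨q, hq, rfl⟩ := hfQ.mem_image.1 hz
    have hqP : q ∈ R ⊔ Q := le_sup_right (a := R) hq
    have hxq : x * q * x⁻¹ ∈ Q := by
      have hxN : x ∈ Subgroup.normalizer (Q : Set Ω) := by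
        have : R ⊔ Q ≤ Subgroup.normalizer (Q : Set Ω) :=
          sup_le (fun r hr => (hRT hr).2) Subgroup.le_normalizer
        exact this hx
      exact (Subgroup.mem_normalizer_iff.1 hxN q).1 hq
    have e : f (x * q * x⁻¹) = f x * f q * (f x)⁻¹ := by
      rw [hf.mor.map_mul (Subgroup.mul_mem _ hx hqP) (Subgroup.inv_mem _ hx),
        hf.mor.map_mul hx hqP, hf.mor.map_inv hx]
    rw [← e]
    exact hfQ.mem_image.2 ⟨_, hxq, rfl⟩
  -- `χ ∘ f` is a map of `N` on `R`
  have hNR : Mor N R (fun x => χ (f x)) := by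
    rw [mor_normalizerSystem_iff hN]
    have hfY : ∀ x ∈ R ⊔ Q, f x ∈ normalizerIn S hfQ.image := fun x hx => hYN (hf.map_mem hx)
    refine ⟨hfR.comp hχ (fun x hx => hfY x ((le_sup_left : R ≤ R ⊔ Q) hx)), hRT,
      fun x hx => hχT _ (hfY x ((le_sup_left : R ≤ R ⊔ Q) hx)), fun x => χ (f x), hf.mor.comp hχ hfY,
      fun _ _ => rfl, fun y => ?_⟩
    constructor
    · intro hy
      obtain ⟨z, hz, rfl⟩ := hχQ.surj hy
      obtain ⟨x, hx, rfl⟩ := hfQ.mem_image.1 hz
      exact ⟨x, hx, rfl⟩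
    · rintro ⟨x, hx, rfl⟩
      exact hχQ.map_mem (hfQ.mem_image.2 ⟨x, hx, rfl⟩)
  have hconj : N.IsConj R hNR.image := isConj_iff.2 ⟨_, Iso.of_mor hNR⟩
  have hcen := hRc.2 _ hconj
  -- now the centralizer
  rintro s ⟨hsS, hsC⟩
  have hsN : s ∈ normalizerIn S hfQ.image := by
    refine ⟨hsS, ?_⟩
    have h1 : s ∈ Subgroup.centralizer ((hfQ.image : Subgroup Ω) : Set Ω) :=
      Subgroup.centralizer_le hQ₁Y hsC
    exact Subgroup.centralizer_le_normalizer _ h1
  have hχs : χ s ∈ centralizerIn (normalizerIn S Q) hNR.image := by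
    refine ⟨hχT s hsN, ?_⟩
    show χ s ∈ Subgroup.centralizer ((hNR.image : Subgroup Ω) : Set Ω)
    rw [Subgroup.mem_centralizer_iff]
    intro z hz
    obtain ⟨r, hr, rfl⟩ := hNR.mem_image.1 hz
    have hfr : f r ∈ Y := hf.map_mem (le_sup_left (b := Q) hr)
    have h1 : f r * s = s * f r := (Subgroup.mem_centralizer_iff.1 hsC) _ hfr
    show χ (f r) * χ s = χ s * χ (f r)
    rw [← hχ.map_mul (hYN hfr) hsN, ← hχ.map_mul hsN (hYN hfr), h1]
  obtain ⟨r, hr, e⟩ := hNR.mem_image.1 (hcen hχs)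
  have hfr : f r ∈ Y := hf.map_mem (le_sup_left (b := Q) hr)
  have : f r = s := hχ.inj (hYN hfr) hsN e
  rw [← this]; exact hfr

end Cfsg.Agent.Helper86.SecFreeNorm
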