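import Mathlib
import Cfsg.Agent.Lib.Helper86.SecFreeNormE
import Cfsg.Agent.Lib.Helper85.Model

set_option autoImplicit false

/-! # Normalizer systems of section-free systems are section-free (given the model theorem) -/

namespace Cfsg.Agent.Helper86.SecFreeNorm

open Cfsg Cfsg.FusionSystem Cfsg.Agent.Helper87 Cfsg.Agent.Helper85

universe u

/-- **Normalizer systems of `X`-free systems are `X`-free**, given existence and uniqueness of models for constrained
systems over subgroups of the ambient group. -/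
theorem sectionFree_normalizer {Ω : Type u} [Group Ω] {S : Subgroup Ω} [Finite S] {p : ℕ} [Fact p.Prime]
    (hS : IsPGroup p S) {F : FusionSystem S} (hF : F.IsSaturated p) {X : Type*} [Group X]
    (hex : ∀ (S₁ : Subgroup Ω) [Finite S₁], IsPGroup p S₁ → ∀ E : FusionSystem S₁, E.IsConstrained p →
      ∃ (G : Type u) (_ : Group G) (ι : S₁ →* G), E.IsModel p G ι)
    (huniq : ∀ (S₁ : Subgroup Ω) [Finite S₁], IsPGroup p S₁ → ∀ E : FusionSystem S₁, E.IsConstrained p →
      ∀ (G₁ G₂ : Type u) [Group G₁] [Group G₂] (ι₁ : S₁ →* G₁) (ι₂ : S₁ →* G₂),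
        E.IsModel p G₁ ι₁ → E.IsModel p G₂ ι₂ → ∃ φ : G₁ ≃* G₂, ∀ x : S₁, φ (ι₁ x) = ι₂ x)
    (hfree : F.IsSectionFree p X) {Q : Subgroup Ω} (hQ : F.IsFullyNormalized Q)
    {N : FusionSystem (normalizerIn S Q)} (hN : F.IsNormalizerSystem Q N) : N.IsSectionFree p X := by
  intro R hRfn hRc M hM L _ ιL hL hinv
  have hRT : R ≤ normalizerIn S Q := hRc.1
  have hP₀c : F.IsCentric (R ⊔ Q) := sup_isCentric hS hF hQ hN hRc
  have hP₀S : R ⊔ Q ≤ S := hP₀c.1
  obtain ⟨P', hconj, hP'fn⟩ := Cfsg.Agent.Helper87.exists_fullyNormalized_conj F hP₀S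
  obtain ⟨f, hf⟩ := isConj_iff.1 hconj
  obtain ⟨α, hα, hαP⟩ := exists_extension_to_normalizer hS
    (fullyAutomized_of_fullyNormalized hS hF hP'fn) (receptive_of_fullyNormalized hS hF hP'fn) hf
  have hP'c : F.IsCentric P' := Cfsg.Agent.Helper84.isCentric_of_isConj hP₀c hconj
  obtain ⟨N', hN'⟩ := Cfsg.Agent.S5096.result F P' hP'fn.1
  have hN'sat : N'.IsSaturated p := Cfsg.Agent.S5098.result p hS F hF P' hP'fn N' hN'
  have hP'n : N'.IsNormal P' := normalizerSystem_isNormal hP'fn.1 hN'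
  have hP'cN : N'.IsCentric P' := normalizerSystem_isCentric hP'c hN'
  have hN'con : N'.IsConstrained p := ⟨hN'sat, P', hP'n, hP'cN⟩
  haveI : Finite ↥(normalizerIn S P') := finite_of_le inf_le_left
  obtain ⟨G, _, ι, hmodel⟩ := hex (normalizerIn S P') (hS.to_le inf_le_left) N' hN'con
  have hG : ¬ Involves X G := hfree P' hP'fn hP'c N' hN' G ι hmodel
  have c : Ctx F Q R P' α N M N' ι := ⟨hN, hM, hN', hRT, hQ.1, hα, hαP, hmodel.2.1⟩
  have hmod2 : M.IsModel p ↥c.H c.iota2 := c.isModel hS hF hQ hRfn hP'n hP'cN hmodel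
  have hUS : normalizerIn (normalizerIn S Q) R ≤ S := c.U_le_T.trans inf_le_left
  haveI : Finite ↥(normalizerIn (normalizerIn S Q) R) := finite_of_le hUS
  have hMcon : M.IsConstrained p := model_constrained hL
  obtain ⟨φ, -⟩ := huniq (normalizerIn (normalizerIn S Q) R) (hS.to_le hUS) M hMcon L ↥c.H ιL c.iota2 hL hmod2
  exact hG (CharPLocal.involves_of_injective (c.H.subtype.comp φ.toMonoidHom)
    (c.H.subtype_injective.comp φ.injective) hinv)

end Cfsg.Agent.Helper86.SecFreeNorm
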