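import Mathlib
import Cfsg.Agent.Lib.Helper87.FusionAut
import Cfsg.Agent.Lib.Helper87.FusionSaturated

set_option autoImplicit false

/-! # Thompson's `p`-complement theorem for fusion systems, part A: `p`-elements among automorphisms

`IsPEl p B β` : the self-map `β` of `B` has `p`-power order; `PInn F p Q` : "`N_F(Q)` is inner", in automorphism form. -/

namespace Cfsg.Agent.Helper86.ThFus

open Cfsg Cfsg.FusionSystem Cfsg.Agent.Helper87

variable {Ω : Type*} [Group Ω] {S : Subgroup Ω}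

/-- `β`, a self-map of `B`, has `p`-power order: some `p`-power iterate of `β` is the identity on `B` -/
def IsPEl (p : ℕ) (B : Subgroup Ω) (β : Ω → Ω) : Prop := ∃ k : ℕ, ∀ x ∈ B, β^[p ^ k] x = x

theorem iterate_mem {B : Subgroup Ω} {f : Ω → Ω} (hf : ∀ x ∈ B, f x ∈ B) :
    ∀ (n : ℕ) (x : Ω), x ∈ B → f^[n] x ∈ B := by
  intro n
  induction n with
  | zero => intro x hx; exact hx
  | succ n ih =>
    intro x hx
    rw [Function.iterate_succ_apply]
    exact ih _ (hf x hx)

theorem iterate_eq_on {B : Subgroup Ω} {f g : Ω → Ω} (hfg : ∀ x ∈ B, f x = g x) (hf : ∀ x ∈ B, f x ∈ B) :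
    ∀ (n : ℕ) (x : Ω), x ∈ B → f^[n] x = g^[n] x := by
  intro n
  induction n with
  | zero => intro x _; rfl
  | succ n ih =>
    intro x hx
    rw [Function.iterate_succ_apply, Function.iterate_succ_apply, ← hfg x hx]
    exact ih _ (hf x hx)

theorem IsPEl.congr {p : ℕ} {B : Subgroup Ω} {f g : Ω → Ω} (h : IsPEl p B f) (hfg : ∀ x ∈ B, f x = g x)
    (hf : ∀ x ∈ B, f x ∈ B) : IsPEl p B g := by
  obtain ⟨k, hk⟩ := h
  exact ⟨k, fun x hx => (iterate_eq_on hfg hf _ x hx).symm.trans (hk x hx)⟩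

theorem iterate_extAut {B : Subgroup Ω} (α : MulAut B) :
    ∀ (n : ℕ) (x : Ω), x ∈ B → (extAut α)^[n] x = extAut (α ^ n) x := by
  intro n
  induction n with
  | zero =>
    intro x hx
    rw [pow_zero, extAut_one hx]
    rfl
  | succ n ih =>
    intro x hx
    rw [Function.iterate_succ_apply, ih _ (extAut_mem_self α hx), pow_succ, extAut_mul _ _ hx]

theorem iso_iterate {F : FusionSystem S} {B : Subgroup Ω} {β : Ω → Ω} (h : Iso F B B β) :
    ∀ n : ℕ, Iso F B B β^[n] := by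
  intro n
  induction n with
  | zero => exact (Iso.refl h.le_left).congr (fun x _ => rfl)
  | succ n ih =>
    exact (h.comp ih).congr (fun x _ => (Function.iterate_succ_apply β n x).symm)

/-- if every `F`-automorphism of `B` has `p`-power order then `Aut_F(B)` is a `p`-group -/
theorem isPGroup_autGroup_of_forall {p : ℕ} {F : FusionSystem S} {B : Subgroup Ω} (hB : B ≤ S)
    (h : ∀ β, Iso F B B β → IsPEl p B β) : IsPGroup p (F.autGroup B) := by
  rintro ⟨α, hα⟩
  have hm : Mor F B (extAut α) := (mem_autGroup_iff hB).1 hα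
  obtain ⟨k, hk⟩ := h _ (iso_of_mor_extAut hm)
  refine ⟨k, Subtype.ext ?_⟩
  show α ^ p ^ k = 1
  ext x
  have h1 := hk x x.2
  rw [iterate_extAut α _ x x.2, extAut_apply] at h1
  rw [h1]
  rfl

/-- in a `p`-group `Aut_F(B)` every `F`-automorphism of `B` has `p`-power order -/
theorem isPEl_of_isPGroup {p : ℕ} {F : FusionSystem S} {B : Subgroup Ω} (h : IsPGroup p (F.autGroup B))
    {β : Ω → Ω} (hβ : Iso F B B β) : IsPEl p B β := by
  obtain ⟨k, hk⟩ := h ⟨hβ.equiv, hβ.equiv_mem_autGroup⟩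
  have hk' : (hβ.equiv : MulAut B) ^ p ^ k = 1 := congrArg Subtype.val hk
  refine ⟨k, fun x hx => ?_⟩
  rw [← iterate_eq_on (f := extAut (hβ.equiv : MulAut B)) (fun y hy => extAut_equiv hβ hy)
    (fun y hy => extAut_mem_self _ hy) _ x hx, iterate_extAut _ _ x hx, hk', extAut_one hx]

/-- "`N_F(Q)` is inner", in automorphism form: every `F`-automorphism of a subgroup `B` with `Q ≤ B ≤ N_S(Q)` that
stabilizes `Q` has `p`-power order -/
def PInn (F : FusionSystem S) (p : ℕ) (Q : Subgroup Ω) : Prop :=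
  ∀ (B : Subgroup Ω) (β : Ω → Ω), Q ≤ B → B ≤ normalizerIn S Q → Iso F B B β → (∀ x ∈ Q, β x ∈ Q) → IsPEl p B β

/-- transport of `PInn` back along a map defined on `N_S(Q)` -/
theorem PInn.of_conj {p : ℕ} {F : FusionSystem S} {Q Q' : Subgroup Ω} {α : Ω → Ω}
    (hα : Mor F (normalizerIn S Q) α) (hQ : Iso F Q Q' α) (h : PInn F p Q') : PInn F p Q := by
  intro B β hQB hBN hβ hβQ
  have hαB : Mor F B α := hα.restrict hBN
  have hiso : Iso F B hαB.image α := Iso.of_mor hαB
  obtain ⟨γ, hγ, hγ1, hγ2⟩ := hiso.symm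
  have hβ' : Iso F hαB.image hαB.image (fun y => α (β (γ y))) := (hγ.comp hβ).comp hiso
  have hQ'B : Q' ≤ hαB.image := by
    intro y hy
    obtain ⟨x, hx, rfl⟩ := hQ.surj hy
    exact hαB.mem_image.2 ⟨x, hQB hx, rfl⟩
  have hB'N : hαB.image ≤ normalizerIn S Q' := by
    intro y hy
    obtain ⟨x, hx, rfl⟩ := hαB.mem_image.1 hy
    exact map_normalizerIn hα hQ (hBN hx)
  have hβ'Q : ∀ y ∈ Q', α (β (γ y)) ∈ Q' := by
    intro y hy
    obtain ⟨x, hx, rfl⟩ := hQ.surj hy
    rw [hγ1 x (hQB hx)]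
    exact hQ.map_mem (hβQ x hx)
  obtain ⟨k, hk⟩ := h _ _ hQ'B hB'N hβ' hβ'Q
  have key : ∀ (n : ℕ) (x : Ω), x ∈ B → (fun y => α (β (γ y)))^[n] (α x) = α (β^[n] x) := by
    intro n
    induction n with
    | zero => intro x _; rfl
    | succ n ih =>
      intro x hx
      rw [Function.iterate_succ_apply, Function.iterate_succ_apply]
      show (fun y => α (β (γ y)))^[n] (α (β (γ (α x)))) = _
      rw [hγ1 x hx]
      exact ih _ (hβ.map_mem hx)
  refine ⟨k, fun x hx => ?_⟩
  have h1 := hk (α x) (hαB.mem_image.2 ⟨x, hx, rfl⟩)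
  rw [key _ x hx] at h1
  exact hαB.inj ((iso_iterate hβ _).map_mem hx) hx h1

end Cfsg.Agent.Helper86.ThFus
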