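import Mathlib
import Cfsg.Prelude.Def_PLocal

set_option autoImplicit false
set_option linter.style.haveILetI false

/-! # Thompson's `p`-complement theorem for fusion systems: facts on `J(T)` and `Z(T)` inside an arbitrary ambient group -/

namespace Cfsg.Agent.Helper86.ThFus

open Cfsg

section abstract

variable {P P' : Type*} [Group P] [Group P']

theorem maxAbelian_map_equiv (e : P ≃* P') {A : Subgroup P} (hA : A ∈ maxAbelianSubgroups P) :
    A.map e.toMonoidHom ∈ maxAbelianSubgroups P' := by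
  obtain ⟨hAc, hAmax⟩ := hA
  refine ⟨Subgroup.map_isMulCommutative A e.toMonoidHom, fun B hB => ?_⟩
  have h1 : Nat.card (A.map e.toMonoidHom) = Nat.card A := Subgroup.card_map_of_injective e.injective
  have h2 : Nat.card (B.map e.symm.toMonoidHom) = Nat.card B := Subgroup.card_map_of_injective e.symm.injective
  rw [h1, ← h2]
  exact hAmax _ (Subgroup.map_isMulCommutative B e.symm.toMonoidHom)

theorem thompsonA_map_le (e : P ≃* P') : (thompsonSubgroupA P).map e.toMonoidHom ≤ thompsonSubgroupA P' := by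
  unfold thompsonSubgroupA
  rw [Subgroup.map_le_iff_le_comap, sSup_le_iff]
  intro A hA
  rw [← Subgroup.map_le_iff_le_comap]
  exact le_sSup (maxAbelian_map_equiv e hA)

/-- `J` commutes with isomorphisms -/
theorem thompsonA_map_equiv (e : P ≃* P') : (thompsonSubgroupA P).map e.toMonoidHom = thompsonSubgroupA P' := by
  apply le_antisymm (thompsonA_map_le e)
  intro y hy
  have h1 := thompsonA_map_le e.symm (Subgroup.mem_map_of_mem _ hy)
  refine ⟨e.symm y, h1, ?_⟩
  simp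

theorem mem_thompsonA_equiv_iff (e : P ≃* P') (x : P) : e x ∈ thompsonSubgroupA P' ↔ x ∈ thompsonSubgroupA P := by
  rw [← thompsonA_map_equiv e]
  constructor
  · rintro ⟨y, hy, hyx⟩
    have : y = x := e.injective hyx
    rwa [← this]
  · intro hx
    exact ⟨x, hx, rfl⟩

theorem exists_maxAbelian [Finite P] : ∃ A : Subgroup P, A ∈ maxAbelianSubgroups P := by
  have hfin : {A : Subgroup P | IsMulCommutative A}.Finite := Set.toFinite _
  have hne : {A : Subgroup P | IsMulCommutative A}.Nonempty :=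
    ⟨⊥, (inferInstance : IsMulCommutative (⊥ : Subgroup P))⟩
  obtain ⟨A, hA, hmax⟩ := Set.exists_max_image _ (fun A : Subgroup P => Nat.card A) hfin hne
  exact ⟨A, hA, fun Y hY => hmax Y hY⟩

theorem thompsonA_ne_bot [Finite P] [Nontrivial P] : thompsonSubgroupA P ≠ ⊥ := by
  obtain ⟨A, hA⟩ := exists_maxAbelian (P := P)
  obtain ⟨x, hx1⟩ := exists_ne (1 : P)
  intro hbot
  have hAb : A = ⊥ := by
    rw [eq_bot_iff, ← hbot]
    exact le_sSup hA
  have h1 := hA.2 (Subgroup.zpowers x) inferInstance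
  rw [hAb, Subgroup.card_bot, Nat.card_zpowers] at h1
  have h2 : orderOf x ≠ 0 := (orderOf_pos x).ne'
  have h3 : orderOf x ≠ 1 := fun h => hx1 (orderOf_eq_one_iff.mp h)
  omega

end abstract

variable {Ω : Type*} [Group Ω]

theorem jOf_le (T : Subgroup Ω) : thompsonSubgroupAOf T ≤ T := by
  unfold thompsonSubgroupAOf
  exact Subgroup.map_subtype_le _

theorem mem_jOf_iff {T : Subgroup Ω} {x : Ω} :
    x ∈ thompsonSubgroupAOf T ↔ ∃ hx : x ∈ T, (⟨x, hx⟩ : T) ∈ thompsonSubgroupA T := by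
  unfold thompsonSubgroupAOf
  constructor
  · rintro ⟨y, hy, rfl⟩
    exact ⟨y.2, hy⟩
  · rintro ⟨hx, h⟩
    exact ⟨⟨x, hx⟩, h, rfl⟩

theorem jOf_ne_bot {T : Subgroup Ω} [Finite T] (hT : T ≠ ⊥) : thompsonSubgroupAOf T ≠ ⊥ := by
  haveI : Nontrivial T := (Subgroup.nontrivial_iff_ne_bot T).2 hT
  intro h
  apply thompsonA_ne_bot (P := T)
  rw [eq_bot_iff]
  intro y hy
  have h1 : (y : Ω) ∈ thompsonSubgroupAOf T := mem_jOf_iff.2 ⟨y.2, hy⟩
  rw [h, Subgroup.mem_bot] at h1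
  exact Subgroup.mem_bot.2 (Subtype.ext h1)

/-- transport of `J` along a map that restricts to an isomorphism `T ≃ T'` -/
theorem mem_jOf_of_equiv {Ω' : Type*} [Group Ω'] {T : Subgroup Ω} {T' : Subgroup Ω'} (e : T ≃* T') {x : Ω}
    (hx : x ∈ thompsonSubgroupAOf T) : ((e ⟨x, jOf_le T hx⟩ : T') : Ω') ∈ thompsonSubgroupAOf T' := by
  obtain ⟨hxT, h⟩ := mem_jOf_iff.1 hx
  exact mem_jOf_iff.2 ⟨(e ⟨x, hxT⟩).2, (mem_thompsonA_equiv_iff e _).2 h⟩

theorem mem_jOf_equiv_iff {Ω' : Type*} [Group Ω'] {T : Subgroup Ω} {T' : Subgroup Ω'} (e : T ≃* T') (x : T) :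
    ((e x : T') : Ω') ∈ thompsonSubgroupAOf T' ↔ (x : Ω) ∈ thompsonSubgroupAOf T := by
  rw [mem_jOf_iff, mem_jOf_iff]
  constructor
  · rintro ⟨_, h⟩
    exact ⟨x.2, (mem_thompsonA_equiv_iff e x).1 h⟩
  · rintro ⟨_, h⟩
    exact ⟨(e x).2, (mem_thompsonA_equiv_iff e x).2 h⟩

/-- conjugation by an element normalizing `T`, as an automorphism of `T` -/
def conjEquiv (T : Subgroup Ω) (g : Ω) (hg : g ∈ Subgroup.normalizer (T : Set Ω)) : T ≃* T where
  toFun x := ⟨g * x * g⁻¹, (Subgroup.mem_normalizer_iff.1 hg x).1 x.2⟩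
  invFun x := ⟨g⁻¹ * x * g, by
    have := (Subgroup.mem_normalizer_iff.1 (Subgroup.inv_mem _ hg) x).1 x.2
    simpa using this⟩
  left_inv x := by ext; simp [mul_assoc]
  right_inv x := by ext; simp [mul_assoc]
  map_mul' x y := by ext; simp [mul_assoc]

theorem conj_mem_jOf {T : Subgroup Ω} {g : Ω} (hg : g ∈ Subgroup.normalizer (T : Set Ω)) {x : Ω}
    (hx : x ∈ thompsonSubgroupAOf T) : g * x * g⁻¹ ∈ thompsonSubgroupAOf T :=
  mem_jOf_of_equiv (conjEquiv T g hg) hx

theorem normalizer_le_normalizer_jOf (T : Subgroup Ω) :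
    Subgroup.normalizer (T : Set Ω) ≤ Subgroup.normalizer (thompsonSubgroupAOf T : Set Ω) := by
  intro g hg
  rw [Subgroup.mem_normalizer_iff]
  intro x
  refine ⟨fun hx => conj_mem_jOf hg hx, fun hx => ?_⟩
  have := conj_mem_jOf (Subgroup.inv_mem _ hg) hx
  simpa [mul_assoc] using this

/-- the centre of `T`, inside the ambient group -/
def zOf (T : Subgroup Ω) : Subgroup Ω := T ⊓ Subgroup.centralizer (T : Set Ω)

theorem zOf_le (T : Subgroup Ω) : zOf T ≤ T := inf_le_left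

theorem conj_mem_zOf {T : Subgroup Ω} {g : Ω} (hg : g ∈ Subgroup.normalizer (T : Set Ω)) {x : Ω}
    (hx : x ∈ zOf T) : g * x * g⁻¹ ∈ zOf T := by
  have hx' := Subgroup.mem_inf.1 hx
  refine Subgroup.mem_inf.2 ⟨(Subgroup.mem_normalizer_iff.1 hg x).1 hx'.1, ?_⟩
  rw [Subgroup.mem_centralizer_iff]
  intro t ht
  have ht' : g⁻¹ * t * g ∈ T := by
    have := (Subgroup.mem_normalizer_iff.1 (Subgroup.inv_mem _ hg) t).1 ht
    simpa using this
  have h1 := Subgroup.mem_centralizer_iff.1 hx'.2 _ ht'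
  calc t * (g * x * g⁻¹) = g * ((g⁻¹ * t * g) * x) * g⁻¹ := by group
    _ = g * (x * (g⁻¹ * t * g)) * g⁻¹ := by rw [h1]
    _ = g * x * g⁻¹ * t := by group

theorem normalizer_le_normalizer_zOf (T : Subgroup Ω) :
    Subgroup.normalizer (T : Set Ω) ≤ Subgroup.normalizer (zOf T : Set Ω) := by
  intro g hg
  rw [Subgroup.mem_normalizer_iff]
  intro x
  refine ⟨fun hx => conj_mem_zOf hg hx, fun hx => ?_⟩
  have := conj_mem_zOf (Subgroup.inv_mem _ hg) hx
  simpa [mul_assoc] using this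

theorem zOf_ne_bot {p : ℕ} [Fact p.Prime] {T : Subgroup Ω} [Finite T] (hT : IsPGroup p T) (hTb : T ≠ ⊥) :
    zOf T ≠ ⊥ := by
  haveI : Nontrivial T := (Subgroup.nontrivial_iff_ne_bot T).2 hTb
  have hc : Subgroup.center T ≠ ⊥ := by
    haveI := hT.center_nontrivial
    exact (Subgroup.nontrivial_iff_ne_bot _).1 inferInstance
  obtain ⟨z, hz, hz1⟩ := (Subgroup.ne_bot_iff_exists_ne_one (H := Subgroup.center T)).1 hc |>.imp
    (fun z hz => hz) |> fun ⟨z, hz⟩ => (⟨(z : T), z.2, fun h => hz (Subtype.ext h)⟩ : ∃ z : T, z ∈ Subgroup.center T ∧ z ≠ 1)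
  intro hbot
  have hzmem : (z : Ω) ∈ zOf T := by
    refine Subgroup.mem_inf.2 ⟨z.2, ?_⟩
    rw [Subgroup.mem_centralizer_iff]
    intro t ht
    have := Subgroup.mem_center_iff.1 hz ⟨t, ht⟩
    exact congrArg Subtype.val this
  rw [hbot, Subgroup.mem_bot] at hzmem
  exact hz1 (Subtype.ext hzmem)

/-- transport of the centre along a map restricting to an isomorphism `T ≃ T'` -/
theorem mem_zOf_equiv_iff {Ω' : Type*} [Group Ω'] {T : Subgroup Ω} {T' : Subgroup Ω'} (e : T ≃* T') (x : T) :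
    ((e x : T') : Ω') ∈ zOf T' ↔ (x : Ω) ∈ zOf T := by
  constructor
  · intro h0
    have h := (Subgroup.mem_inf.1 h0).2
    refine Subgroup.mem_inf.2 ⟨x.2, ?_⟩
    rw [Subgroup.mem_centralizer_iff]
    intro t ht
    have h1 := Subgroup.mem_centralizer_iff.1 h _ (e ⟨t, ht⟩).2
    have h2 : e (⟨t, ht⟩ * x) = e (x * ⟨t, ht⟩) := by
      rw [map_mul, map_mul]
      exact Subtype.ext h1
    exact congrArg Subtype.val (e.injective h2)
  · intro h0
    have h := (Subgroup.mem_inf.1 h0).2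
    refine Subgroup.mem_inf.2 ⟨(e x).2, ?_⟩
    rw [Subgroup.mem_centralizer_iff]
    intro t ht
    obtain ⟨t', rfl⟩ : ∃ t' : T, ((e t' : T') : Ω') = t := ⟨e.symm ⟨t, ht⟩, by simp⟩
    have h1 := Subgroup.mem_centralizer_iff.1 h _ t'.2
    have h2 : t' * x = x * t' := Subtype.ext h1
    have h3 : e t' * e x = e x * e t' := by rw [← map_mul, ← map_mul, h2]
    exact congrArg Subtype.val h3

end Cfsg.Agent.Helper86.ThFus
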