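import Mathlib
import Cfsg.Agent.Lib.Helper86.ThFusA
import Cfsg.Agent.Lib.Helper86.ThFusJ
import Cfsg.Agent.Lib.Helper87.FusionAlperin

set_option autoImplicit false
set_option linter.style.haveILetI false

/-! # Thompson's `p`-complement theorem for fusion systems, part B: the maximal-normalizer choice -/

namespace Cfsg.Agent.Helper86.ThFus

open Cfsg Cfsg.FusionSystem Cfsg.Agent.Helper87

variable {Ω : Type*} [Group Ω] {S : Subgroup Ω}

/-- hypothesis "`C_F(Z(S))` is inner", in automorphism form -/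
def HypZ (p : ℕ) (F : FusionSystem S) : Prop :=
  ∀ (B : Subgroup Ω) (β : Ω → Ω), Iso F B B β → zOf S ≤ B → (∀ z ∈ zOf S, β z = z) → IsPEl p B β

/-- hypothesis "`N_F(J(S))` is inner", in automorphism form -/
def HypJ (p : ℕ) (F : FusionSystem S) : Prop :=
  ∀ (B : Subgroup Ω) (β : Ω → Ω), Iso F B B β → thompsonSubgroupAOf S ≤ B →
    (∀ x ∈ thompsonSubgroupAOf S, β x ∈ thompsonSubgroupAOf S) → IsPEl p B β

/-- lexicographic measure: first `|N_S(U)|`, then `|U|` -/
noncomputable def meas (S U : Subgroup Ω) : ℕ := Nat.card (normalizerIn S U) * (Nat.card S + 1) + Nat.card U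

theorem card_le_of_le' [Finite S] {U : Subgroup Ω} (hU : U ≤ S) : Nat.card U ≤ Nat.card S :=
  Subgroup.card_le_of_le hU

theorem meas_le_bound [Finite S] {U : Subgroup Ω} (hU : U ≤ S) :
    meas S U ≤ Nat.card S * (Nat.card S + 1) + Nat.card S := by
  unfold meas
  have h1 := card_normalizerIn_le (S := S) U
  have h2 := card_le_of_le' hU
  exact Nat.add_le_add (Nat.mul_le_mul_right _ h1) h2

theorem meas_lt_of_normalizer_lt [Finite S] {U P : Subgroup Ω} (hP : P ≤ S)
    (h : Nat.card (normalizerIn S P) < Nat.card (normalizerIn S U)) : meas S P < meas S U := by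
  unfold meas
  have h2 := card_le_of_le' hP
  have h3 : (Nat.card (normalizerIn S P) + 1) * (Nat.card S + 1) ≤ Nat.card (normalizerIn S U) * (Nat.card S + 1) :=
    Nat.mul_le_mul_right _ h
  nlinarith

theorem meas_lt_of_card_lt [Finite S] {U P : Subgroup Ω}
    (h1 : Nat.card (normalizerIn S P) ≤ Nat.card (normalizerIn S U)) (h2 : Nat.card P < Nat.card U) :
    meas S P < meas S U := by
  unfold meas
  have h3 : Nat.card (normalizerIn S P) * (Nat.card S + 1) ≤ Nat.card (normalizerIn S U) * (Nat.card S + 1) :=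
    Nat.mul_le_mul_right _ h1
  omega

/-- a maximal element for `meas` among the subgroups of `S` with a given property -/
theorem exists_max_meas [Finite S] (bad : Subgroup Ω → Prop) (h : ∃ U, U ≤ S ∧ bad U) :
    ∃ P, P ≤ S ∧ bad P ∧ ∀ U, U ≤ S → bad U → meas S U ≤ meas S P := by
  classical
  let A : Set ℕ := {n | ∃ U, U ≤ S ∧ bad U ∧ meas S U = n}
  have hne : A.Nonempty := by
    obtain ⟨U, hU, hb⟩ := h
    exact ⟨_, U, hU, hb, rfl⟩
  have hbdd : BddAbove A := by
    refine ⟨Nat.card S * (Nat.card S + 1) + Nat.card S, ?_⟩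
    rintro n ⟨U, hU, -, rfl⟩
    exact meas_le_bound hU
  obtain ⟨P, hP, hb, hPn⟩ := Nat.sSup_mem hne hbdd
  refine ⟨P, hP, hb, fun U hU hbU => ?_⟩
  rw [hPn]
  exact le_csSup hbdd ⟨U, hU, hbU, rfl⟩

theorem isPEl_bot {p : ℕ} {F : FusionSystem S} {β : Ω → Ω} (hβ : Iso F ⊥ ⊥ β) : IsPEl p ⊥ β := by
  refine ⟨0, fun x hx => ?_⟩
  rw [Subgroup.mem_bot] at hx
  subst hx
  simpa using hβ.mor.map_one

/-- the maximal-normalizer choice: if some `F`-automorphism is not a `p`-element, there is a nontrivial fully normalized `P`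
with `N_F(P)` not inner, maximal for `meas` among nontrivial subgroups with non-inner normalizer -/
theorem exists_max_not_pinn {p : ℕ} [Fact p.Prime] [Finite S] (hS : IsPGroup p S) {F : FusionSystem S}
    (hF : F.IsSaturated p) (hbad : ∃ B β, Iso F B B β ∧ ¬ IsPEl p B β) :
    ∃ P, P ≠ ⊥ ∧ F.IsFullyNormalized P ∧ ¬ PInn F p P ∧
      ∀ U, U ≤ S → U ≠ ⊥ → meas S P < meas S U → PInn F p U := by
  obtain ⟨B, β, hβ, hnp⟩ := hbad
  have hB1 : B ≠ ⊥ := by
    rintro rfl
    exact hnp (isPEl_bot hβ)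
  have hBbad : ¬ PInn F p B := fun h =>
    hnp (h B β le_rfl (le_normalizerIn hβ.le_left) hβ (fun x hx => hβ.map_mem hx))
  obtain ⟨P₀, hP₀S, ⟨hP₀1, hP₀bad⟩, hmax⟩ :=
    exists_max_meas (S := S) (fun U => U ≠ ⊥ ∧ ¬ PInn F p U) ⟨B, hβ.le_left, hB1, hBbad⟩
  obtain ⟨P, hconj, hPfn⟩ := exists_fullyNormalized_conj F hP₀S
  obtain ⟨g, hg, hgiso⟩ := exists_map_normalizer_to_fullyNormalized hS hF hPfn hconj
  have hcard : Nat.card P₀ = Nat.card P := hgiso.card_eq
  have hP1 : P ≠ ⊥ := by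
    rintro rfl
    rw [Subgroup.card_bot] at hcard
    exact hP₀1 (Subgroup.card_eq_one.1 hcard)
  have hPbad : ¬ PInn F p P := fun h => hP₀bad (h.of_conj hg hgiso)
  have hle : meas S P₀ ≤ meas S P := by
    unfold meas
    have h1 := hPfn.2 P₀ (isConj_symm hconj)
    rw [hcard]
    exact Nat.add_le_add_right (Nat.mul_le_mul_right _ h1) _
  refine ⟨P, hP1, hPfn, hPbad, fun U hU hU1 hlt => ?_⟩
  by_contra hUbad
  have := hmax U hU ⟨hU1, hUbad⟩
  omega

end Cfsg.Agent.Helper86.ThFus
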