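import Mathlib
import Cfsg.Agent.Lib.Helper86.ThFusB
import Cfsg.Agent.Lib.Helper86.SecFreeNormF
import Cfsg.Agent.Lib.Helper87.FusionNormalizerSys
import Cfsg.Agent.S5090
import Cfsg.Agent.S5091
import Cfsg.Agent.S5096
import Cfsg.Agent.S5098

set_option autoImplicit false
set_option linter.style.haveILetI false

/-! # Thompson's `p`-complement theorem for fusion systems, part C: the case `N_S(P) < S` -/

namespace Cfsg.Agent.Helper86.ThFus

open Cfsg Cfsg.FusionSystem Cfsg.Agent.Helper87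

universe u

/-- the statement proved by induction on `|S|` -/
def Main (p : ℕ) (n : ℕ) : Prop :=
  ∀ (Ω : Type u) [Group Ω] (S : Subgroup Ω) [Finite S], Nat.card S = n → IsPGroup p S →
    ∀ F : FusionSystem S, F.IsSaturated p → (p ≠ 2 ∨ F.IsSectionFree p (Equiv.Perm (Fin 4))) →
      HypZ p F → HypJ p F → ∀ (B : Subgroup Ω) (β : Ω → Ω), Iso F B B β → IsPEl p B β

section

variable {Ω : Type u} [Group Ω] {S : Subgroup Ω}

theorem mor_of_subsystem {T : Subgroup Ω} {M : FusionSystem T} {F : FusionSystem S} (h : M.IsSubsystemOf F)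
    {B : Subgroup Ω} {β : Ω → Ω} (hβ : Mor M B β) : Mor F B β := by
  obtain ⟨φ, hφ, h1⟩ := hβ
  exact ⟨φ, h B hφ, h1⟩

theorem iso_of_subsystem {T : Subgroup Ω} {M : FusionSystem T} {F : FusionSystem S} (h : M.IsSubsystemOf F)
    {B C : Subgroup Ω} {β : Ω → Ω} (hβ : Iso M B C β) : Iso F B C β :=
  ⟨mor_of_subsystem h hβ.1, hβ.2⟩

/-- an injective self-map of a finite subgroup is onto -/
theorem surj_on_of_inj [Finite S] {F : FusionSystem S} {B P : Subgroup Ω} {β : Ω → Ω} (hβ : Mor F B β)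
    (hPB : P ≤ B) (hP : ∀ x ∈ P, β x ∈ P) : ∀ y ∈ P, ∃ x ∈ P, β x = y := by
  haveI : Finite P := finite_of_le (hPB.trans hβ.le)
  let f : P → P := fun x => ⟨β x, hP x x.2⟩
  have hinj : Function.Injective f := by
    intro x y hxy
    exact Subtype.ext (hβ.inj (hPB x.2) (hPB y.2) (congrArg Subtype.val hxy))
  have hsurj := Finite.surjective_of_injective hinj
  intro y hy
  obtain ⟨x, hx⟩ := hsurj ⟨y, hy⟩
  exact ⟨x, x.2, congrArg Subtype.val hx⟩

/-- an `F`-automorphism of `B ≥ P` stabilizing `P` is an automorphism in `N_F(P)` -/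
theorem iso_normalizerSystem_of [Finite S] {F : FusionSystem S} {P : Subgroup Ω}
    {M : FusionSystem (normalizerIn S P)} (hM : F.IsNormalizerSystem P M) {B : Subgroup Ω} {β : Ω → Ω}
    (hPB : P ≤ B) (hBT : B ≤ normalizerIn S P) (hβ : Iso F B B β) (hβP : ∀ x ∈ P, β x ∈ P) : Iso M B B β := by
  refine ⟨(mor_normalizerSystem_iff hM).2 ⟨hβ.mor, hBT, fun x hx => hBT (hβ.map_mem hx), β, ?_, fun x _ => rfl,
    fun y => ⟨surj_on_of_inj hβ.mor hPB hβP y, ?_⟩⟩, hβ.2⟩
  · rw [sup_eq_left.2 hPB]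
    exact hβ.mor
  · rintro ⟨x, hx, rfl⟩
    exact hβP x hx

theorem card_lt_normalizerIn_of_ne {p : ℕ} [Fact p.Prime] [Finite S] (hS : IsPGroup p S) {T : Subgroup Ω}
    (hT : T ≤ S) (hne : T ≠ S) : Nat.card T < Nat.card (normalizerIn S T) := by
  obtain ⟨n, hn, hnT⟩ := exists_normalizer_not_mem hS hT hne
  exact card_lt_of_not_mem (le_normalizerIn hT) (inf_le_left : normalizerIn S T ≤ S) hn hnT

theorem normalizerIn_mono_of_normalizer_le {T U : Subgroup Ω}
    (h : Subgroup.normalizer (T : Set Ω) ≤ Subgroup.normalizer (U : Set Ω)) :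
    normalizerIn S T ≤ normalizerIn S U :=
  inf_le_inf_left S h

end

/-- **the case `N_S(P) < S`** is impossible for the maximal choice of `P` -/
theorem normalizerIn_eq_top_of_max {p : ℕ} [Fact p.Prime] {n : ℕ} (ih : ∀ m < n, Main.{u} p m)
    {Ω : Type u} [Group Ω] {S : Subgroup Ω} [Finite S] (hn : Nat.card S = n) (hS : IsPGroup p S)
    {F : FusionSystem S} (hF : F.IsSaturated p) (h4 : p ≠ 2 ∨ F.IsSectionFree p (Equiv.Perm (Fin 4)))
    {P : Subgroup Ω} (hP1 : P ≠ ⊥) (hPfn : F.IsFullyNormalized P) (hPbad : ¬ PInn F p P)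
    (hmax : ∀ U, U ≤ S → U ≠ ⊥ → meas S P < meas S U → PInn F p U) : normalizerIn S P = S := by
  by_contra hne
  have hTS : normalizerIn S P ≤ S := inf_le_left
  have hPT : P ≤ normalizerIn S P := le_normalizerIn hPfn.1
  have hlt : Nat.card (normalizerIn S P) < Nat.card (normalizerIn S (normalizerIn S P)) :=
    card_lt_normalizerIn_of_ne hS hTS hne
  have hltS : Nat.card (normalizerIn S P) < Nat.card S :=
    lt_of_lt_of_le hlt (card_normalizerIn_le _)
  haveI : Finite ↥(normalizerIn S P) := finite_of_le hTS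
  have hTp : IsPGroup p ↥(normalizerIn S P) := hS.to_le hTS
  have hT1 : normalizerIn S P ≠ ⊥ := fun h => hP1 (eq_bot_iff.2 (h ▸ hPT))
  obtain ⟨M, hM⟩ := Cfsg.Agent.S5096.result F P hPfn.1
  have hMsat : M.IsSaturated p := Cfsg.Agent.S5098.result p hS F hF P hPfn M hM
  have hsub : M.IsSubsystemOf F := normalizerSystem_isSubsystemOf hM
  have h4M : p ≠ 2 ∨ M.IsSectionFree p (Equiv.Perm (Fin 4)) :=
    h4.imp id (fun hfree => Cfsg.Agent.Helper86.SecFreeNorm.sectionFree_normalizer hS hF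
      (fun S₁ _ hS₁ E hE => Cfsg.Agent.S5090.result p hS₁ E hE)
      (fun S₁ _ hS₁ E hE G₁ G₂ _ _ ι₁ ι₂ h₁ h₂ => Cfsg.Agent.S5091.result p hS₁ E hE ι₁ ι₂ h₁ h₂) hfree hPfn hM)
  -- the characteristic subgroups `Z(T)`, `J(T)` of `T = N_S(P)` have inner normalizers
  have key : ∀ U : Subgroup Ω, U ≤ normalizerIn S P → U ≠ ⊥ →
      Subgroup.normalizer ((normalizerIn S P : Subgroup Ω) : Set Ω) ≤ Subgroup.normalizer (U : Set Ω) →
      PInn F p U ∧ normalizerIn S P ≤ normalizerIn S U := by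
    intro U hUT hU1 hchar
    have h1 : normalizerIn S (normalizerIn S P) ≤ normalizerIn S U := normalizerIn_mono_of_normalizer_le hchar
    haveI : Finite ↥(normalizerIn S U) := finite_of_le (inf_le_left : normalizerIn S U ≤ S)
    have h2 : Nat.card (normalizerIn S P) < Nat.card (normalizerIn S U) :=
      lt_of_lt_of_le hlt (Subgroup.card_le_of_le h1)
    exact ⟨hmax U (hUT.trans hTS) hU1 (meas_lt_of_normalizer_lt hPfn.1 h2),
      (le_normalizerIn hTS).trans h1⟩
  have hZ : HypZ p M := by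
    intro B β hβ hZB hfix
    obtain ⟨hU, hTU⟩ := key (zOf (normalizerIn S P)) (zOf_le _) (zOf_ne_bot hTp hT1)
      (normalizer_le_normalizer_zOf _)
    exact hU B β hZB (hβ.le_left.trans hTU) (iso_of_subsystem hsub hβ) (fun x hx => by rw [hfix x hx]; exact hx)
  have hJ : HypJ p M := by
    intro B β hβ hJB hstab
    obtain ⟨hU, hTU⟩ := key (thompsonSubgroupAOf (normalizerIn S P)) (jOf_le _) (jOf_ne_bot hT1)
      (normalizer_le_normalizer_jOf _)
    exact hU B β hJB (hβ.le_left.trans hTU) (iso_of_subsystem hsub hβ) hstab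
  have hall := ih _ (hn ▸ hltS) Ω (normalizerIn S P) rfl hTp M hMsat h4M hZ hJ
  apply hPbad
  intro B β hPB hBT hβ hβP
  exact hall B β (iso_normalizerSystem_of hM hPB hBT hβ hβP)

end Cfsg.Agent.Helper86.ThFus
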