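import Mathlib
import Cfsg.Agent.Lib.Helper86.ThFusC
import Cfsg.Agent.Lib.Helper85.Solvable5
import Cfsg.Agent.Lib.Helper87.FusionFactor

set_option autoImplicit false
set_option linter.style.haveILetI false

/-! # Thompson's `p`-complement theorem for fusion systems, part D: the case `N_S(P) = S`, core and quotient lemmas -/

namespace Cfsg.Agent.Helper86.ThFus

open Cfsg Cfsg.FusionSystem Cfsg.Agent.Helper87 Cfsg.Agent.Helper85

universe u

section core

variable {Ω : Type*} [Group Ω] {S : Subgroup Ω}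

/-- for the maximal choice of `P` with `N_S(P) = S`: `O_p(N_F(P)) = P` -/
theorem core_eq_of_max {p : ℕ} [Fact p.Prime] [Finite S] {F : FusionSystem S} {P : Subgroup Ω}
    (hP1 : P ≠ ⊥) (hPfn : F.IsFullyNormalized P) (hPbad : ¬ PInn F p P)
    (hmax : ∀ U, U ≤ S → U ≠ ⊥ → meas S P < meas S U → PInn F p U) (hTS : normalizerIn S P = S)
    {M : FusionSystem (normalizerIn S P)} (hM : F.IsNormalizerSystem P M) : M.core = P := by
  have hTS' : normalizerIn S P ≤ S := inf_le_left
  haveI : Finite ↥(normalizerIn S P) := finite_of_le hTS'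
  have hsub : M.IsSubsystemOf F := normalizerSystem_isSubsystemOf hM
  have hPn : M.IsNormal P := normalizerSystem_isNormal hPfn.1 hM
  have hle : P ≤ M.core := le_core hPn
  by_contra hne
  have hR : M.IsNormal M.core := isNormal_core M
  have hRsc : M.StronglyClosed M.core := stronglyClosed_of_isNormal hR
  have hRT : M.core ≤ normalizerIn S P := hR.1
  have hTnR : normalizerIn S P ≤ Subgroup.normalizer (M.core : Set Ω) :=
    Cfsg.Agent.Helper85.stronglyClosed_le_normalizer hRsc
  have hNR : normalizerIn S M.core = S := by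
    apply le_antisymm inf_le_left
    intro s hs
    exact ⟨hs, hTnR (by rw [hTS]; exact hs)⟩
  obtain ⟨r, hr, hrP⟩ := SetLike.exists_of_lt (lt_of_le_of_ne hle (Ne.symm hne))
  have hcard : Nat.card P < Nat.card M.core := card_lt_of_not_mem hle (hRT.trans hTS') hr hrP
  have hmeas : meas S P < meas S M.core :=
    meas_lt_of_card_lt (by rw [hNR]; exact card_normalizerIn_le P) hcard
  have hR1 : M.core ≠ ⊥ := fun h => hP1 (eq_bot_iff.2 (h ▸ hle))
  have hRinn : PInn F p M.core := hmax _ (hRT.trans hTS') hR1 hmeas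
  apply hPbad
  intro B β hPB hBT hβ hβP
  have hβM : Iso M B B β := iso_normalizerSystem_of hM hPB hBT hβ hβP
  obtain ⟨g, hg, hgβ, hgR⟩ := (isNormal_iff.1 hR).2 B β hβM.mor
  have hgmap : ∀ x ∈ B ⊔ M.core, g x ∈ B ⊔ M.core :=
    Mor.map_sup_mem hg le_sup_left le_sup_right
      (fun a ha => by rw [hgβ a ha]; exact (le_sup_left : B ≤ B ⊔ M.core) (hβ.map_mem ha))
      (fun b hb => (le_sup_right : M.core ≤ B ⊔ M.core) ((hgR _).2 ⟨b, hb, rfl⟩))
  have hgiso : Iso M (B ⊔ M.core) (B ⊔ M.core) g := iso_of_card_le hg (sup_le hBT hRT) hgmap le_rfl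
  have hpel := hRinn (B ⊔ M.core) g le_sup_right
    (by rw [hNR]; exact (sup_le hBT hRT).trans hTS') (iso_of_subsystem hsub hgiso)
    (fun x hx => (hgR _).2 ⟨x, hx, rfl⟩)
  obtain ⟨k, hk⟩ := hpel
  refine ⟨k, fun x hx => ?_⟩
  rw [← iterate_eq_on (f := g) (g := β) hgβ (fun y hy => by rw [hgβ y hy]; exact hβ.map_mem hy) _ x hx]
  exact hk x ((le_sup_left : B ≤ B ⊔ M.core) hx)

end core

section factor

variable {Ω : Type*} [Group Ω] {T : Subgroup Ω} {Ω' : Type*} [Group Ω'] {S' : Subgroup Ω'}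
variable {M : FusionSystem T} {E : FusionSystem S'} {θ : T →* Ω'} {P : Subgroup Ω}

/-- an automorphism of the factor system lifts to an automorphism of the full preimage -/
theorem lift_iso [Finite T] (hE : M.IsFactorSystem P θ E) {B' : Subgroup Ω'} {β' : Ω' → Ω'} (hβ' : Iso E B' B' β') :
    ∃ f, Iso M (preimageAlong θ B') (preimageAlong θ B') f ∧
      ∀ x ∈ preimageAlong θ B', β' (au θ x) = au θ (f x) := by
  obtain ⟨f, hf, hff⟩ := factor_mor_exists hE hβ'.mor
  have hle : preimageAlong θ B' ≤ T := fun x hx => (mem_pre.1 hx).1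
  refine ⟨f, iso_of_card_le hf hle (fun x hx => ?_) le_rfl, hff⟩
  refine mem_pre.2 ⟨hf.mem hx, ?_⟩
  have := hff x hx
  change β' (au θ x) = au θ (f x) at this
  rw [← this]
  exact hβ'.map_mem (mem_pre.1 hx).2

/-- `p`-elements descend to the factor system -/
theorem isPEl_of_lift (hE : M.IsFactorSystem P θ E) {p : ℕ} {B' : Subgroup Ω'} (hB' : B' ≤ S') {β' : Ω' → Ω'}
    {f : Ω → Ω} (hfB : ∀ x ∈ preimageAlong θ B', f x ∈ preimageAlong θ B')
    (hf : ∀ x ∈ preimageAlong θ B', β' (au θ x) = au θ (f x)) (hpel : IsPEl p (preimageAlong θ B') f) :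
    IsPEl p B' β' := by
  obtain ⟨k, hk⟩ := hpel
  have key : ∀ (n : ℕ) (x : Ω), x ∈ preimageAlong θ B' → β'^[n] (au θ x) = au θ (f^[n] x) := by
    intro n
    induction n with
    | zero => intro x _; rfl
    | succ n ih =>
      intro x hx
      rw [Function.iterate_succ_apply, Function.iterate_succ_apply, hf x hx]
      exact ih _ (hfB x hx)
  refine ⟨k, fun y hy => ?_⟩
  obtain ⟨x, hx, rfl⟩ := exists_preimage_of_mem hE hB' hy
  change β'^[p ^ k] (au θ x) = au θ x
  rw [key _ x hx, hk x hx]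

end factor

end Cfsg.Agent.Helper86.ThFus
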