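import Mathlib
import Cfsg.Agent.Lib.Helper86.ThFusB
import Cfsg.Agent.Lib.Helper85.Realized
import Cfsg.Agent.Lib.Helper2.Frobenius
import Cfsg.Agent.Lib.Helper31.GTControl
import Cfsg.Agent.Lib.Helper34.TNC12

set_option autoImplicit false
set_option linter.style.haveILetI false

/-! # Thompson's `p`-complement theorem for fusion systems, part E: the group side (a model is a `p`-group) -/

namespace Cfsg.Agent.Helper86.ThFus

open Cfsg Cfsg.FusionSystem Cfsg.Agent.Helper87 Cfsg.Agent.Helper85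

section

variable {Ω : Type*} [Group Ω] {T : Subgroup Ω} {L : Type*} [Group L]

/-- conjugation by `g`, read back through `ι` -/
noncomputable def conjBack (ι : T →* L) (hinj : Function.Injective ι) (g : L) : Ω → Ω :=
  fun x => au (backHom ι hinj) (g * au ι x * g⁻¹)

theorem au_iterate {ι : T →* L} {B : Subgroup Ω} {β : Ω → Ω} {g : L} (hβB : ∀ x ∈ B, β x ∈ B)
    (h : ∀ x ∈ B, au ι (β x) = g * au ι x * g⁻¹) :
    ∀ (n : ℕ) (x : Ω), x ∈ B → au ι (β^[n] x) = g ^ n * au ι x * (g ^ n)⁻¹ := by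
  intro n
  induction n with
  | zero => intro x _; simp
  | succ n ih =>
    intro x hx
    rw [Function.iterate_succ_apply, ih _ (hβB x hx), h x hx, pow_succ]
    group

theorem conjBack_spec [Finite T] {M : FusionSystem T} {ι : T →* L} (hr : M.IsRealizedBy ι) {Bh : Subgroup L}
    (hBh : Bh ≤ ι.range) {g : L} (hg : g ∈ Subgroup.normalizer (Bh : Set L)) :
    (∀ x ∈ preimageAlong ι Bh, au ι (conjBack ι hr.1 g x) = g * au ι x * g⁻¹) ∧
      Iso M (preimageAlong ι Bh) (preimageAlong ι Bh) (conjBack ι hr.1 g) := by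
  have h1 : ∀ x ∈ preimageAlong ι Bh, au ι (conjBack ι hr.1 g x) = g * au ι x * g⁻¹ := by
    intro x hx
    have hx' := (mem_pre.1 hx).2
    exact au_au_back ι hr.1 (hBh ((Subgroup.mem_normalizer_iff.1 hg _).1 hx'))
  have hle : preimageAlong ι Bh ≤ T := fun x hx => (mem_pre.1 hx).1
  have hmor : Mor M (preimageAlong ι Bh) (conjBack ι hr.1 g) :=
    (realized_mor_iff hr).2 ⟨hle, fun x _ => au_backHom_mem ι hr.1 _, g, h1⟩
  refine ⟨h1, iso_of_card_le hmor hle (fun x hx => ?_) le_rfl⟩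
  refine mem_pre.2 ⟨au_backHom_mem ι hr.1 _, ?_⟩
  rw [h1 x hx]
  exact (Subgroup.mem_normalizer_iff.1 hg _).1 (mem_pre.1 hx).2

theorem centralizes_of_isPEl [Finite T] {M : FusionSystem T} {ι : T →* L} (hr : M.IsRealizedBy ι) {Bh : Subgroup L}
    (hBh : Bh ≤ ι.range) {g : L} (hg : g ∈ Subgroup.normalizer (Bh : Set L)) {p : ℕ}
    (hpel : IsPEl p (preimageAlong ι Bh) (conjBack ι hr.1 g)) (hcop : (orderOf g).Coprime p) :
    ∀ y ∈ Bh, g * y = y * g := by
  obtain ⟨h1, hiso⟩ := conjBack_spec hr hBh hg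
  obtain ⟨k, hk⟩ := hpel
  have hit := au_iterate (ι := ι) (fun x hx => hiso.map_mem hx) h1
  have hcomm : ∀ y ∈ Bh, g ^ p ^ k * y = y * g ^ p ^ k := by
    intro y hy
    have hx : au (backHom ι hr.1) y ∈ preimageAlong ι Bh :=
      mem_pre.2 ⟨au_backHom_mem ι hr.1 _, by rw [au_au_back ι hr.1 (hBh hy)]; exact hy⟩
    have h2 := hit (p ^ k) _ hx
    rw [hk _ hx, au_au_back ι hr.1 (hBh hy)] at h2
    calc g ^ p ^ k * y = (g ^ p ^ k * y * (g ^ p ^ k)⁻¹) * g ^ p ^ k := by group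
      _ = y * g ^ p ^ k := by rw [← h2]
  obtain ⟨m, hm⟩ := exists_pow_eq_self_of_coprime (x := g) (n := p ^ k) (hcop.symm.pow_left k)
  intro y hy
  have hc : Commute (g ^ p ^ k) y := hcomm y hy
  have := hc.pow_left m
  rw [hm] at this
  exact this

end

section frob

variable {L : Type*} [Group L] {p : ℕ} [Fact p.Prime]

theorem mem_normalizer_sup {A B : Subgroup L} {g : L} (hA : g ∈ Subgroup.normalizer (A : Set L))
    (hB : g ∈ Subgroup.normalizer (B : Set L)) : g ∈ Subgroup.normalizer ((A ⊔ B : Subgroup L) : Set L) := by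
  apply Cfsg.Agent.Helper34.TNC.mem_normalizer_of_map_conj_eq
  rw [Subgroup.map_sup, Cfsg.Agent.Helper34.TNC.map_conj_eq_of_mem_normalizer hA,
    Cfsg.Agent.Helper34.TNC.map_conj_eq_of_mem_normalizer hB]

/-- Frobenius' criterion for a subgroup `X` containing the Sylow subgroup `T₀` -/
theorem hnpc_of_frob [Finite L] (T₀ : Sylow p L) (X : Subgroup L) (hTX : (T₀ : Subgroup L) ≤ X)
    (h : ∀ Q : Subgroup L, Q ≤ (T₀ : Subgroup L) → ∀ g ∈ X, g ∈ Subgroup.normalizer (Q : Set L) →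
      (orderOf g).Coprime p → ∀ q ∈ Q, g * q = q * g) : HasNormalPComplement p ↥X := by
  apply Cfsg.Agent.Helper2.frobenius p
  apply Cfsg.Agent.Helper2.frobCond_of_sylow (T₀.subtype hTX)
  intro Q' hQ' g hg hcop
  have hQ : Q'.map X.subtype ≤ (T₀ : Subgroup L) := by
    rintro _ ⟨q, hq, rfl⟩
    have := hQ' hq
    rw [Sylow.coe_subtype] at this
    exact Subgroup.mem_subgroupOf.1 this
  have hgn : (g : L) ∈ Subgroup.normalizer ((Q'.map X.subtype : Subgroup L) : Set L) :=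
    Subgroup.le_normalizer_map X.subtype ⟨g, hg, rfl⟩
  have hgo : (orderOf (g : L)).Coprime p := by rwa [Subgroup.orderOf_coe]
  have hc := h _ hQ g g.2 hgn hgo
  rw [Subgroup.mem_centralizer_iff]
  intro q hq
  apply Subtype.ext
  exact (hc q ⟨q, hq, rfl⟩).symm

end frob

universe u

/-- **the group side**: a model of a system satisfying the hypotheses of Thompson's theorem is a `p`-group, so all automorphisms
of the system are `p`-elements -/
theorem isPEl_of_model {Ω : Type*} [Group Ω] {T : Subgroup Ω} [Finite T] {p : ℕ} [Fact p.Prime]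
    {M : FusionSystem T} {L : Type u} [Group L] {ι : T →* L} (hL : M.IsModel p L ι)
    (h4 : p ≠ 2 ∨ ¬ Involves (Equiv.Perm (Fin 4)) L) (hZ : HypZ p M) (hJ : HypJ p M) :
    ∀ (B : Subgroup Ω) (β : Ω → Ω), Iso M B B β → IsPEl p B β := by
  obtain ⟨hfin, hr, ⟨T₀, hT₀⟩, hcent⟩ := hL
  haveI := hfin
  let e : T ≃* ↥(T₀ : Subgroup L) := (MonoidHom.ofInjective hr.1).trans (MulEquiv.subgroupCongr hT₀.symm)
  have he : ∀ x : T, ((e x : ↥(T₀ : Subgroup L)) : L) = ι x := fun x => rfl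
  have hau : ∀ {x : Ω} (hx : x ∈ T), au ι x = ((e ⟨x, hx⟩ : ↥(T₀ : Subgroup L)) : L) := by
    intro x hx
    rw [he, au_mem ι hx]
  have hJiff : ∀ {x : Ω}, x ∈ T → (au ι x ∈ thompsonSubgroupAOf (T₀ : Subgroup L) ↔ x ∈ thompsonSubgroupAOf T) := by
    intro x hx
    rw [hau hx]
    exact mem_jOf_equiv_iff e ⟨x, hx⟩
  have hZiff : ∀ {x : Ω}, x ∈ T → (au ι x ∈ zOf (T₀ : Subgroup L) ↔ x ∈ zOf T) := by
    intro x hx
    rw [hau hx]
    exact mem_zOf_equiv_iff e ⟨x, hx⟩
  have hT₀r : (T₀ : Subgroup L) ≤ ι.range := hT₀.le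
  -- `N_L(J(T₀))` has a normal `p`-complement
  have hN : HasNormalPComplement p
      ↥(Subgroup.normalizer ((thompsonSubgroupAOf (T₀ : Subgroup L) : Subgroup L) : Set L)) := by
    apply hnpc_of_frob T₀ _ (Subgroup.le_normalizer.trans (normalizer_le_normalizer_jOf _))
    intro Q hQ g hgX hgQ hcop q hq
    have hBh : Q ⊔ thompsonSubgroupAOf (T₀ : Subgroup L) ≤ ι.range :=
      (sup_le hQ (jOf_le _)).trans hT₀r
    have hgB := mem_normalizer_sup hgQ hgX
    obtain ⟨h1, hiso⟩ := conjBack_spec hr hBh hgB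
    have hpel : IsPEl p (preimageAlong ι (Q ⊔ thompsonSubgroupAOf (T₀ : Subgroup L))) (conjBack ι hr.1 g) := by
      refine hJ _ _ hiso ?_ ?_
      · intro x hx
        exact mem_pre.2 ⟨jOf_le _ hx, le_sup_right (a := Q) ((hJiff (jOf_le _ hx)).2 hx)⟩
      · intro x hx
        have hxT := jOf_le _ hx
        have hxB : x ∈ preimageAlong ι (Q ⊔ thompsonSubgroupAOf (T₀ : Subgroup L)) :=
          mem_pre.2 ⟨hxT, le_sup_right (a := Q) ((hJiff hxT).2 hx)⟩
        refine (hJiff (au_backHom_mem ι hr.1 _)).1 ?_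
        show au ι (conjBack ι hr.1 g x) ∈ _
        rw [h1 x hxB]
        exact (Subgroup.mem_normalizer_iff.1 hgX _).1 ((hJiff hxT).2 hx)
    exact centralizes_of_isPEl hr hBh hgB hpel hcop q (le_sup_left (b := thompsonSubgroupAOf (T₀ : Subgroup L)) hq)
  -- `C_L(Z(T₀))` has a normal `p`-complement
  have hC : HasNormalPComplement p
      ↥(Subgroup.centralizer ((zOf (T₀ : Subgroup L) : Subgroup L) : Set L)) := by
    have hTX : (T₀ : Subgroup L) ≤ Subgroup.centralizer ((zOf (T₀ : Subgroup L) : Subgroup L) : Set L) := by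
      intro t ht
      rw [Subgroup.mem_centralizer_iff]
      intro z hz
      exact (Subgroup.mem_centralizer_iff.1 (Subgroup.mem_inf.1 hz).2 t ht).symm
    apply hnpc_of_frob T₀ _ hTX
    intro Q hQ g hgX hgQ hcop q hq
    have hgZ : g ∈ Subgroup.normalizer ((zOf (T₀ : Subgroup L) : Subgroup L) : Set L) :=
      Cfsg.Agent.Helper2.centralizer_le_normalizer' _ hgX
    have hBh : Q ⊔ zOf (T₀ : Subgroup L) ≤ ι.range := (sup_le hQ (zOf_le _)).trans hT₀r
    have hgB := mem_normalizer_sup hgQ hgZ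
    obtain ⟨h1, hiso⟩ := conjBack_spec hr hBh hgB
    have hpel : IsPEl p (preimageAlong ι (Q ⊔ zOf (T₀ : Subgroup L))) (conjBack ι hr.1 g) := by
      refine hZ _ _ hiso ?_ ?_
      · intro x hx
        exact mem_pre.2 ⟨zOf_le _ hx, le_sup_right (a := Q) ((hZiff (zOf_le _ hx)).2 hx)⟩
      · intro x hx
        have hxT := zOf_le _ hx
        have hxz : au ι x ∈ zOf (T₀ : Subgroup L) := (hZiff hxT).2 hx
        have hxB : x ∈ preimageAlong ι (Q ⊔ zOf (T₀ : Subgroup L)) :=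
          mem_pre.2 ⟨hxT, le_sup_right (a := Q) hxz⟩
        apply au_injOn hr.1 (au_backHom_mem ι hr.1 _) hxT
        show au ι (conjBack ι hr.1 g x) = _
        rw [h1 x hxB]
        have := Subgroup.mem_centralizer_iff.1 hgX _ hxz
        rw [← this]
        group
    exact centralizes_of_isPEl hr hBh hgB hpel hcop q (le_sup_left (b := zOf (T₀ : Subgroup L)) hq)
  have hnpc : HasNormalPComplement p L :=
    Cfsg.Agent.Helper34.TNC.thompson_normal_pcomplement T₀ h4 hC hN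
  have hLp : IsPGroup p L := Cfsg.Agent.Helper31.GTG.isPGroup_of_hnpc_of_constrained hcent hnpc
  intro B β hβ
  obtain ⟨hBT, -, g, hg⟩ := (realized_mor_iff hr).1 hβ.mor
  obtain ⟨k, hk⟩ := hLp g
  refine ⟨k, fun x hx => ?_⟩
  have h2 := au_iterate (ι := ι) (fun x hx => hβ.map_mem hx) hg (p ^ k) x hx
  rw [hk] at h2
  apply au_injOn hr.1 (hBT ((iso_iterate hβ _).map_mem hx)) (hBT hx)
  rw [h2]
  group

end Cfsg.Agent.Helper86.ThFus
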