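import Mathlib
import Cfsg.Prelude.Def_FusionReduction
import Cfsg.Agent.S5096
import Cfsg.Agent.Lib.Helper84.FusNorm
import Cfsg.Agent.Lib.Helper87.QdFactor
import Cfsg.Agent.Lib.Helper87.ModelExists

set_option autoImplicit false
set_option linter.style.haveILetI false

/-! # Factor systems of `H`-free systems are `H`-free (generic `H`; same proof as helper87's S5241) -/

namespace Cfsg.Agent.Helper86.ThFus

open Cfsg

/-- Let `F` be saturated, `Q` normal in `F`, and `F` `H`-free; then every factor system `F/Q` is `H`-free. -/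
theorem sectionFree_factor {Ω : Type*} [Group Ω] {S : Subgroup Ω} [Finite S] {p : ℕ} [Fact p.Prime]
    (hS : IsPGroup p S) {F : Cfsg.FusionSystem S} (hF : F.IsSaturated p) {Q : Subgroup Ω} (hQ : F.IsNormal Q)
    {H : Type*} [Group H] (hfree : F.IsSectionFree p H) {Ω' : Type*} [Group Ω'] {S' : Subgroup Ω'}
    {θ : ↥S →* Ω'} {E : Cfsg.FusionSystem S'} (hE : F.IsFactorSystem Q θ E) : E.IsSectionFree p H := by
  intro R' hR'fn hR'c N' hN' L' _ ι' hL' hinv
  have hQs : F.StronglyClosed Q := Cfsg.Agent.Helper87.stronglyClosed_of_isNormal hQ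
  have hRfn := Cfsg.Agent.Helper87.FactorPre.fullyNormalized_pre hS hF hQs hE hR'fn
  have hRc := Cfsg.Agent.Helper87.FactorPre.centric_pre hS hF hQs hE hR'c
  obtain ⟨N, hN⟩ := Cfsg.Agent.S5096.result F (FusionSystem.preimageAlong θ R') hRfn.1
  have hNsat := Cfsg.Agent.Helper84.normalizerSystem_saturated F hS hF hRfn N hN
  haveI : Finite ↥(FusionSystem.normalizerIn S (FusionSystem.preimageAlong θ R')) :=
    Cfsg.Agent.Helper87.finite_of_le
      (inf_le_left : FusionSystem.normalizerIn S (FusionSystem.preimageAlong θ R') ≤ S)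
  have hTp : IsPGroup p ↥(FusionSystem.normalizerIn S (FusionSystem.preimageAlong θ R')) :=
    hS.to_le (inf_le_left : FusionSystem.normalizerIn S (FusionSystem.preimageAlong θ R') ≤ S)
  obtain ⟨L, _, ι, hL, -⟩ := Cfsg.Agent.Helper87.ModelExists.exists_model_centralizer hTp hNsat
    (Cfsg.Agent.Helper85.normalizerSystem_isNormal hRfn.1 hN)
    (Cfsg.Agent.Helper85.normalizerSystem_isCentric hRc hN)
  have d : Cfsg.Agent.Helper87.QdFactor.Data F p Q θ E R' N N' ι :=
    ⟨hS, hF, hQs, hE, hR'c, hN, hN', hL⟩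
  haveI := d.imgQ_normal
  exact hfree _ hRfn hRc N hN L ι hL (d.involves hL' hinv)

end Cfsg.Agent.Helper86.ThFus
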