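import Mathlib
import Cfsg.Agent.Lib.Helper86.ThFusD
import Cfsg.Agent.Lib.Helper86.ThFusE
import Cfsg.Agent.Lib.Helper86.ThFusF
import Cfsg.Agent.Lib.Helper85.FactorSystem
import Cfsg.Agent.Lib.Helper85.Solvable8
import Cfsg.Agent.Lib.Helper87.FusionPAut
import Cfsg.Agent.Lib.Helper87.FusionInner
import Cfsg.Agent.Lib.Helper87.FusionEssential
import Cfsg.Agent.Lib.Helper2.Nilpotent

set_option autoImplicit false
set_option linter.style.haveILetI false

/-! # Thompson's `p`-complement theorem for fusion systems, part G: the case `N_S(P) = S` and the main induction -/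

namespace Cfsg.Agent.Helper86.ThFus

open Cfsg Cfsg.FusionSystem Cfsg.Agent.Helper87 Cfsg.Agent.Helper85
open scoped commutatorElement

universe u

section factor

variable {Ω : Type*} [Group Ω] {T : Subgroup Ω} {Ω' : Type*} [Group Ω'] {S' : Subgroup Ω'}
variable {M : FusionSystem T} {E : FusionSystem S'} {θ : T →* Ω'} {P : Subgroup Ω}

/-- all `M`-automorphisms of overgroups of `U` stabilizing `U` are `p`-elements -/
def PInnM (M : FusionSystem T) (p : ℕ) (U : Subgroup Ω) : Prop :=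
  ∀ (B : Subgroup Ω) (f : Ω → Ω), U ≤ B → Iso M B B f → (∀ x ∈ U, f x ∈ U) → IsPEl p B f

/-- the hypotheses of Thompson's theorem for the factor system -/
theorem hyp_factor {p : ℕ} [Fact p.Prime] [Finite T] (hE : M.IsFactorSystem P θ E) [Finite S']
    (hS'p : IsPGroup p S')
    (hU : ∀ U' : Subgroup Ω', U' ≤ S' → U' ≠ ⊥ → (∀ s ∈ S', ∀ u ∈ U', s * u * s⁻¹ ∈ U') →
      PInnM M p (preimageAlong θ U')) : HypZ p E ∧ HypJ p E := by
  by_cases hS'1 : S' = ⊥
  · constructor
    · intro B' β' hβ' _ _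
      have hB' : B' = ⊥ := eq_bot_iff.2 (hS'1 ▸ hβ'.le_left)
      subst hB'
      exact isPEl_bot hβ'
    · intro B' β' hβ' _ _
      have hB' : B' = ⊥ := eq_bot_iff.2 (hS'1 ▸ hβ'.le_left)
      subst hB'
      exact isPEl_bot hβ'
  constructor
  · intro B' β' hβ' hZB hfix
    obtain ⟨f, hfiso, hff⟩ := lift_iso hE hβ'
    have h1 := hU (zOf S') (zOf_le S') (zOf_ne_bot hS'p hS'1)
      (fun s hs u hu => conj_mem_zOf (Subgroup.le_normalizer hs) hu)
      (preimageAlong θ B') f (Cfsg.Agent.Helper85.preimageAlong_mono θ hZB) hfiso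
      (fun x hx => by
        have hx' := mem_pre.1 hx
        refine mem_pre.2 ⟨hfiso.mor.mem (Cfsg.Agent.Helper85.preimageAlong_mono θ hZB hx), ?_⟩
        rw [← hff x (Cfsg.Agent.Helper85.preimageAlong_mono θ hZB hx), hfix _ hx'.2]
        exact hx'.2)
    exact isPEl_of_lift hE hβ'.le_left (fun x hx => hfiso.map_mem hx) hff h1
  · intro B' β' hβ' hJB hstab
    obtain ⟨f, hfiso, hff⟩ := lift_iso hE hβ'
    have h1 := hU (thompsonSubgroupAOf S') (jOf_le S') (jOf_ne_bot hS'1)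
      (fun s hs u hu => conj_mem_jOf (Subgroup.le_normalizer hs) hu)
      (preimageAlong θ B') f (Cfsg.Agent.Helper85.preimageAlong_mono θ hJB) hfiso
      (fun x hx => by
        have hx' := mem_pre.1 hx
        refine mem_pre.2 ⟨hfiso.mor.mem (Cfsg.Agent.Helper85.preimageAlong_mono θ hJB hx), ?_⟩
        rw [← hff x (Cfsg.Agent.Helper85.preimageAlong_mono θ hJB hx)]
        exact hstab _ hx'.2)
    exact isPEl_of_lift hE hβ'.le_left (fun x hx => hfiso.map_mem hx) hff h1

/-- in an inner system the centre of `S'` is strongly closed -/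
theorem stronglyClosed_zOf_of_inner (hinn : ∀ R : Subgroup Ω', E.Hom R = (innerFusionSystem S').Hom R) :
    E.StronglyClosed (zOf S') := by
  refine ⟨zOf_le S', fun R hR φ hφ x => ?_⟩
  rw [hinn R] at hφ
  obtain ⟨-, g, hg, hgφ⟩ := mem_inner_hom_iff.1 hφ
  have hx := hR x.2
  have hc := Subgroup.mem_centralizer_iff.1 (Subgroup.mem_inf.1 hx).2 g hg
  rw [hgφ x, hc, mul_inv_cancel_right]
  exact hx

/-- if `O_p(M) = P` and `M/P` is inner then `C_T(P) ≤ P` -/
theorem centralizerIn_le_of_factor_inner {p : ℕ} [Fact p.Prime] [Finite T] (hTp : IsPGroup p T)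
    (hMsat : M.IsSaturated p) (hPn : M.IsNormal P) (hcore : M.core = P) (hE : M.IsFactorSystem P θ E)
    (hinn : ∀ R : Subgroup Ω', E.Hom R = (innerFusionSystem S').Hom R) : centralizerIn T P ≤ P := by
  have hPsc : M.StronglyClosed P := stronglyClosed_of_isNormal hPn
  have hθ : M.IsMorphism E θ := (factor_surjectiveMorphism hTp hMsat hPsc hE).1
  have hpre : M.StronglyClosed (preimageAlong θ (zOf S')) :=
    stronglyClosed_preimage hθ (stronglyClosed_zOf_of_inner hinn)
  have hD : M.StronglyClosed (centralizerIn T P) := centralizerIn_stronglyClosed_of_isNormal hPn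
  have hY : M.StronglyClosed (centralizerIn T P ⊓ preimageAlong θ (zOf S')) := stronglyClosed_inf hD hpre
  have hker : ∀ {x : Ω}, x ∈ T → au θ x = 1 → x ∈ P := by
    intro x hx h1
    rw [au_mem θ hx] at h1
    exact (hE.2.1 ⟨x, hx⟩).1 h1
  have hab : ⁅centralizerIn T P ⊓ preimageAlong θ (zOf S'), centralizerIn T P ⊓ preimageAlong θ (zOf S')⁆ ≤ P := by
    rw [Subgroup.commutator_le]
    intro a ha b hb
    have haT : a ∈ T := ha.1.1
    have hbT : b ∈ T := hb.1.1
    apply hker (commutator_mem_of_mem haT hbT)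
    rw [au_commutator θ haT hbT]
    have hza := (mem_pre.1 ha.2).2
    have hbS' : au θ b ∈ S' := by
      rw [← hE.2.2.1, au_mem θ hbT]
      exact ⟨_, rfl⟩
    have hc := Subgroup.mem_centralizer_iff.1 (Subgroup.mem_inf.1 hza).2 _ hbS'
    rw [commutatorElement_def, ← hc]
    group
  have hYC : centralizerIn T P ⊓ preimageAlong θ (zOf S') ≤ Subgroup.centralizer (P : Set Ω) :=
    inf_le_left.trans inf_le_right
  have hYn : M.IsNormal (centralizerIn T P ⊓ preimageAlong θ (zOf S')) := by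
    apply isNormal_of_stronglyClosed_of_le hTp hMsat hY
    intro R _ hcen hrad
    exact le_of_centric_radical_of_centralizes hTp hMsat hY hPsc
      (Cfsg.Agent.Helper84.le_of_normal_centric_radical M hTp hPn hcen hrad) hab hYC hcen hrad
  have hYP : centralizerIn T P ⊓ preimageAlong θ (zOf S') ≤ P := (le_core hYn).trans hcore.le
  -- a normal subgroup of a `p`-group meets the centre
  haveI hPnorm : (P.subgroupOf T).Normal := normal_subgroupOf_of_stronglyClosed hPsc
  haveI hCnorm : ((centralizerIn T P).subgroupOf T).Normal := normal_subgroupOf_of_stronglyClosed hD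
  by_contra hne
  obtain ⟨c, hc, hcP⟩ := SetLike.not_le_iff_exists.1 hne
  have hcT : c ∈ T := hc.1
  haveI : Group.IsNilpotent (↥T ⧸ P.subgroupOf T) :=
    (hTp.to_quotient (P.subgroupOf T)).isNilpotent
  let K : Subgroup (↥T ⧸ P.subgroupOf T) :=
    ((centralizerIn T P).subgroupOf T).map (QuotientGroup.mk' (P.subgroupOf T))
  haveI : K.Normal := Subgroup.Normal.map hCnorm _ (QuotientGroup.mk'_surjective _)
  have hK1 : K ≠ ⊥ := by
    intro h
    have h1 : QuotientGroup.mk' (P.subgroupOf T) ⟨c, hcT⟩ ∈ K :=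
      Subgroup.mem_map_of_mem _ (Subgroup.mem_subgroupOf.2 hc)
    rw [h, Subgroup.mem_bot, QuotientGroup.mk'_apply, QuotientGroup.eq_one_iff] at h1
    exact hcP (Subgroup.mem_subgroupOf.1 h1)
  obtain ⟨z, hz, hz1⟩ := (Subgroup.ne_bot_iff_exists_ne_one).1
    (Cfsg.Agent.Helper2.normal_inf_center_ne_bot K hK1) |> fun ⟨z, hz⟩ =>
      (⟨(z : ↥T ⧸ P.subgroupOf T), z.2, fun h => hz (Subtype.ext h)⟩ :
        ∃ z : ↥T ⧸ P.subgroupOf T, z ∈ K ⊓ Subgroup.center _ ∧ z ≠ 1)
  obtain ⟨⟨d, hdT⟩, hdC, rfl⟩ := (Subgroup.mem_inf.1 hz).1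
  have hdC' : d ∈ centralizerIn T P := Subgroup.mem_subgroupOf.1 hdC
  have hdP : d ∉ P := by
    intro h
    apply hz1
    rw [QuotientGroup.mk'_apply, QuotientGroup.eq_one_iff]
    exact Subgroup.mem_subgroupOf.2 h
  apply hdP
  apply hYP
  refine ⟨hdC', mem_pre.2 ⟨hdT, Subgroup.mem_inf.2 ⟨?_, ?_⟩⟩⟩
  · rw [← hE.2.2.1, au_mem θ hdT]
    exact ⟨_, rfl⟩
  · rw [Subgroup.mem_centralizer_iff]
    intro s hs
    rw [← hE.2.2.1] at hs
    obtain ⟨t, rfl⟩ := hs
    have hcen := Subgroup.mem_center_iff.1 (Subgroup.mem_inf.1 hz).2 (QuotientGroup.mk' (P.subgroupOf T) t)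
    rw [← map_mul, ← map_mul, QuotientGroup.mk'_apply, QuotientGroup.mk'_apply, QuotientGroup.eq] at hcen
    -- `(t * d)⁻¹ * (d * t) ∈ P`
    have h1 : ((t * ⟨d, hdT⟩)⁻¹ * (⟨d, hdT⟩ * t) : ↥T) ∈ P.subgroupOf T := hcen
    have h2 : θ ((t * ⟨d, hdT⟩)⁻¹ * (⟨d, hdT⟩ * t)) = 1 := (hE.2.1 _).2 (Subgroup.mem_subgroupOf.1 h1)
    rw [map_mul, map_inv, inv_mul_eq_one, map_mul, map_mul] at h2
    rw [au_mem θ hdT]
    exact h2

end factor

end Cfsg.Agent.Helper86.ThFus
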