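import Mathlib
import Cfsg.Agent.Lib.Helper86.ThFusG

set_option autoImplicit false
set_option linter.style.haveILetI false

/-! # Thompson's `p`-complement theorem for fusion systems, part H: the main induction -/

namespace Cfsg.Agent.Helper86.ThFus

open Cfsg Cfsg.FusionSystem Cfsg.Agent.Helper87 Cfsg.Agent.Helper85

universe u

/-- the maximal choice of `P` leads to a contradiction -/
theorem false_of_max {p : ℕ} [Fact p.Prime] {n : ℕ} (ih : ∀ m < n, Main.{u} p m)
    {Ω : Type u} [Group Ω] {S : Subgroup Ω} [Finite S] (hn : Nat.card S = n) (hS : IsPGroup p S)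
    {F : FusionSystem S} (hF : F.IsSaturated p) (h4 : p ≠ 2 ∨ F.IsSectionFree p (Equiv.Perm (Fin 4)))
    (hZ : HypZ p F) (hJ : HypJ p F)
    {P : Subgroup Ω} (hP1 : P ≠ ⊥) (hPfn : F.IsFullyNormalized P) (hPbad : ¬ PInn F p P)
    (hmax : ∀ U, U ≤ S → U ≠ ⊥ → meas S P < meas S U → PInn F p U) : False := by
  have hTS : normalizerIn S P = S := normalizerIn_eq_top_of_max ih hn hS hF h4 hP1 hPfn hPbad hmax
  have hTS' : normalizerIn S P ≤ S := inf_le_left
  have hPT : P ≤ normalizerIn S P := le_normalizerIn hPfn.1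
  haveI : Finite ↥(normalizerIn S P) := finite_of_le hTS'
  have hTp : IsPGroup p ↥(normalizerIn S P) := hS.to_le hTS'
  obtain ⟨M, hM⟩ := Cfsg.Agent.S5096.result F P hPfn.1
  have hMsat : M.IsSaturated p := Cfsg.Agent.S5098.result p hS F hF P hPfn M hM
  have hsub : M.IsSubsystemOf F := normalizerSystem_isSubsystemOf hM
  have h4M : p ≠ 2 ∨ M.IsSectionFree p (Equiv.Perm (Fin 4)) :=
    h4.imp id (fun hfree => Cfsg.Agent.Helper86.SecFreeNorm.sectionFree_normalizer hS hF
      (fun S₁ _ hS₁ E hE => Cfsg.Agent.S5090.result p hS₁ E hE)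
      (fun S₁ _ hS₁ E hE G₁ G₂ _ _ ι₁ ι₂ h₁ h₂ => Cfsg.Agent.S5091.result p hS₁ E hE ι₁ ι₂ h₁ h₂) hfree hPfn hM)
  have hPn : M.IsNormal P := normalizerSystem_isNormal hPfn.1 hM
  have hPsc : M.StronglyClosed P := stronglyClosed_of_isNormal hPn
  have hcore : M.core = P := core_eq_of_max hP1 hPfn hPbad hmax hTS hM
  -- the factor system `M / P`
  haveI hPnorm : (P.subgroupOf (normalizerIn S P)).Normal := normal_subgroupOf_of_stronglyClosed hPsc
  have hker : ∀ s : ↥(normalizerIn S P),
      QuotientGroup.mk' (P.subgroupOf (normalizerIn S P)) s = 1 ↔ (s : Ω) ∈ P :=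
    fun s => (QuotientGroup.eq_one_iff s).trans Subgroup.mem_subgroupOf
  have hrange : (QuotientGroup.mk' (P.subgroupOf (normalizerIn S P))).range = ⊤ :=
    MonoidHom.range_eq_top.2 (QuotientGroup.mk'_surjective _)
  have hE := factorSystem_isFactorSystem M P (QuotientGroup.mk' (P.subgroupOf (normalizerIn S P))) ⊤
    hker hrange hPsc
  generalize factorSystem M P (QuotientGroup.mk' (P.subgroupOf (normalizerIn S P))) ⊤ hker hrange hPsc = E at hE
  haveI hfinS' : Finite ↥(⊤ : Subgroup (↥(normalizerIn S P) ⧸ P.subgroupOf (normalizerIn S P))) :=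
    Cfsg.Agent.Helper85.factor_finite hE
  have hS'p : IsPGroup p ↥(⊤ : Subgroup (↥(normalizerIn S P) ⧸ P.subgroupOf (normalizerIn S P))) :=
    factor_isPGroup hTp hE
  have hEsat : E.IsSaturated p := factor_saturated hTp hMsat hPsc hE
  have h4E : p ≠ 2 ∨ E.IsSectionFree p (Equiv.Perm (Fin 4)) :=
    h4M.imp id (fun h => sectionFree_factor hTp hMsat hPn h hE)
  -- the order of the quotient is smaller
  have hcardlt : Nat.card ↥(⊤ : Subgroup (↥(normalizerIn S P) ⧸ P.subgroupOf (normalizerIn S P))) < n := by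
    have hcT : Nat.card ↥(normalizerIn S P) = Nat.card ↥S := congrArg (fun X : Subgroup Ω => Nat.card ↥X) hTS
    rw [Subgroup.card_top, ← hn, ← hcT]
    have h1 := Subgroup.card_eq_card_quotient_mul_card_subgroup (P.subgroupOf (normalizerIn S P))
    have h2 : 1 < Nat.card (P.subgroupOf (normalizerIn S P)) := by
      rw [Subgroup.one_lt_card_iff_ne_bot]
      intro h
      apply hP1
      rw [eq_bot_iff]
      intro x hx
      have : (⟨x, hPT hx⟩ : ↥(normalizerIn S P)) ∈ P.subgroupOf (normalizerIn S P) := Subgroup.mem_subgroupOf.2 hx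
      rw [h, Subgroup.mem_bot] at this
      exact Subgroup.mem_bot.2 (congrArg Subtype.val this)
    have h3 : 0 < Nat.card (↥(normalizerIn S P) ⧸ P.subgroupOf (normalizerIn S P)) := Nat.card_pos
    rw [h1]
    nlinarith
  -- the hypotheses for the factor system
  have hU : ∀ U' : Subgroup (↥(normalizerIn S P) ⧸ P.subgroupOf (normalizerIn S P)), U' ≤ ⊤ → U' ≠ ⊥ →
      (∀ s ∈ (⊤ : Subgroup (↥(normalizerIn S P) ⧸ P.subgroupOf (normalizerIn S P))), ∀ u ∈ U', s * u * s⁻¹ ∈ U') →
      PInnM M p (preimageAlong (QuotientGroup.mk' (P.subgroupOf (normalizerIn S P))) U') := by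
    intro U' hU'le hU'1 hU'inv
    have hUT : preimageAlong (QuotientGroup.mk' (P.subgroupOf (normalizerIn S P))) U' ≤ normalizerIn S P :=
      fun x hx => (mem_pre.1 hx).1
    have hPU : P ≤ preimageAlong (QuotientGroup.mk' (P.subgroupOf (normalizerIn S P))) U' := by
      have := kerOf_le_pre (QuotientGroup.mk' (P.subgroupOf (normalizerIn S P))) U'
      rwa [kerOf_eq_of_factor hE] at this
    obtain ⟨u, hu, hu1⟩ := (Subgroup.ne_bot_iff_exists_ne_one).1 hU'1 |> fun ⟨u, hu⟩ =>
      (⟨(u : ↥(normalizerIn S P) ⧸ P.subgroupOf (normalizerIn S P)), u.2, fun h => hu (Subtype.ext h)⟩ :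
        ∃ u : ↥(normalizerIn S P) ⧸ P.subgroupOf (normalizerIn S P), u ∈ U' ∧ u ≠ 1)
    obtain ⟨x, hx, hxu⟩ := exists_preimage_of_mem hE hU'le hu
    have hxP : x ∉ P := by
      intro h
      apply hu1
      rw [← hxu]
      change au _ x = 1
      rw [au_mem _ (hUT hx)]
      exact (hker _).2 h
    have hcard : Nat.card P <
        Nat.card (preimageAlong (QuotientGroup.mk' (P.subgroupOf (normalizerIn S P))) U') :=
      card_lt_of_not_mem hPU (hUT.trans hTS') hx hxP
    have hnorm : S ≤ Subgroup.normalizer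
        ((preimageAlong (QuotientGroup.mk' (P.subgroupOf (normalizerIn S P))) U' : Subgroup Ω) : Set Ω) := by
      apply Cfsg.Agent.Helper34.TNC.le_normalizer_of_conj_mem
      intro t ht x hx
      have htT : t ∈ normalizerIn S P := by rw [hTS]; exact ht
      have hx' := mem_pre.1 hx
      refine mem_pre.2 ⟨Subgroup.mul_mem _ (Subgroup.mul_mem _ htT hx'.1) (Subgroup.inv_mem _ htT), ?_⟩
      rw [au_conj _ htT hx'.1]
      exact hU'inv _ (Subgroup.mem_top _) _ hx'.2
    have hNU : normalizerIn S (preimageAlong (QuotientGroup.mk' (P.subgroupOf (normalizerIn S P))) U') = S :=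
      le_antisymm inf_le_left (le_inf le_rfl hnorm)
    have hmeas : meas S P < meas S (preimageAlong (QuotientGroup.mk' (P.subgroupOf (normalizerIn S P))) U') :=
      meas_lt_of_card_lt (by rw [hNU]; exact card_normalizerIn_le P) hcard
    have hU1 : preimageAlong (QuotientGroup.mk' (P.subgroupOf (normalizerIn S P))) U' ≠ ⊥ :=
      fun h => hP1 (eq_bot_iff.2 (h ▸ hPU))
    have hinn := hmax _ (hUT.trans hTS') hU1 hmeas
    intro B f hUB hiso hfU
    exact hinn B f hUB (by rw [hNU]; exact hiso.le_left.trans hTS') (iso_of_subsystem hsub hiso) hfU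
  obtain ⟨hZE, hJE⟩ := hyp_factor hE hS'p hU
  have hall := ih _ hcardlt _ ⊤ rfl hS'p E hEsat h4E hZE hJE
  have hinn : ∀ R : Subgroup (↥(normalizerIn S P) ⧸ P.subgroupOf (normalizerIn S P)),
      E.Hom R = (innerFusionSystem ⊤).Hom R :=
    eq_inner_of_isPGroup_autGroup hS'p hEsat
      (fun R hR => isPGroup_autGroup_of_forall hR.1 (fun β hβ => hall R β hβ))
  -- `M` is constrained
  have hCP : centralizerIn (normalizerIn S P) P ≤ P :=
    centralizerIn_le_of_factor_inner hTp hMsat hPn hcore hE hinn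
  have hCS : centralizerIn S P ≤ P := by
    intro x hx
    exact hCP ⟨by rw [hTS]; exact hx.1, hx.2⟩
  have hPc : F.IsCentric P :=
    isCentric_of_fullyCentralized (fullyCentralized_of_fullyNormalized hS hF hPfn) hCS
  obtain ⟨L, _, ι, hL, -⟩ := Cfsg.Agent.Helper87.ModelExists.exists_model_centralizer hTp hMsat hPn
    (normalizerSystem_isCentric hPc hM)
  have h4L : p ≠ 2 ∨ ¬ Involves (Equiv.Perm (Fin 4)) L :=
    h4.imp id (fun hfree => hfree P hPfn hPc M hM L ι hL)
  have hZM : HypZ p M := by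
    intro B β hβ hZB hfix
    rw [hTS] at hZB hfix
    exact hZ B β (iso_of_subsystem hsub hβ) hZB hfix
  have hJM : HypJ p M := by
    intro B β hβ hJB hstab
    rw [hTS] at hJB hstab
    exact hJ B β (iso_of_subsystem hsub hβ) hJB hstab
  have hall' := isPEl_of_model hL h4L hZM hJM
  exact hPbad (fun B β hPB hBT hβ hβP => hall' B β (iso_normalizerSystem_of hM hPB hBT hβ hβP))

/-- **Thompson's normal `p`-complement theorem for fusion systems**, automorphism form -/
theorem main_all (p : ℕ) [Fact p.Prime] : ∀ n : ℕ, Main.{u} p n := by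
  intro n
  induction n using Nat.strong_induction_on with
  | _ n ih =>
    intro Ω _ S _ hn hS F hF h4 hZ hJ B β hβ
    by_contra hnp
    obtain ⟨P, hP1, hPfn, hPbad, hmax⟩ := exists_max_not_pinn hS hF ⟨B, β, hβ, hnp⟩
    exact false_of_max ih hn hS hF h4 hZ hJ hP1 hPfn hPbad hmax

end Cfsg.Agent.Helper86.ThFus
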