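import Mathlib
import Cfsg.Agent.Lib.Helper86.ThFusH
import Cfsg.Agent.S5097

set_option autoImplicit false
set_option linter.style.haveILetI false

/-! # Thompson's `p`-complement theorem for fusion systems, part I: from the "inner" hypotheses to the automorphism form -/

namespace Cfsg.Agent.Helper86.ThFus

open Cfsg Cfsg.FusionSystem Cfsg.Agent.Helper87 Cfsg.Agent.Helper85

universe u

variable {Ω : Type u} [Group Ω] {S : Subgroup Ω}

theorem isPEl_of_conj {p : ℕ} {B : Subgroup Ω} {β : Ω → Ω} {g : Ω} (hβB : ∀ x ∈ B, β x ∈ B)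
    (h : ∀ x ∈ B, β x = g * x * g⁻¹) {k : ℕ} (hg : g ^ p ^ k = 1) : IsPEl p B β := by
  have key : ∀ (n : ℕ) (x : Ω), x ∈ B → β^[n] x = g ^ n * x * (g ^ n)⁻¹ := by
    intro n
    induction n with
    | zero => intro x _; simp
    | succ n ih =>
      intro x hx
      rw [Function.iterate_succ_apply, ih _ (hβB x hx), h x hx, pow_succ]
      group
  refine ⟨k, fun x hx => ?_⟩
  rw [key _ x hx, hg]
  group

theorem isPEl_of_mem_inner {p : ℕ} [Finite S] (hS : IsPGroup p S) {K B : Subgroup Ω} (hK : K ≤ S)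
    {β : Ω → Ω} (hβB : ∀ x ∈ B, β x ∈ B) {φ : B →* Ω} (hφ : φ ∈ (innerFusionSystem K).Hom B)
    (hφβ : ∀ x : B, φ x = β x) : IsPEl p B β := by
  obtain ⟨-, g, hg, hgφ⟩ := mem_inner_hom_iff.1 hφ
  obtain ⟨k, hk⟩ := hS ⟨g, hK hg⟩
  have hk' : g ^ p ^ k = 1 := congrArg Subtype.val hk
  exact isPEl_of_conj hβB (fun x hx => by rw [← hφβ ⟨x, hx⟩, hgφ ⟨x, hx⟩]) hk'

/-- "`N_F(J(S))` is inner" gives `HypJ` -/
theorem hypJ_of_inner {p : ℕ} [Finite S] (hS : IsPGroup p S) {F : FusionSystem S}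
    (hN : ∀ N : FusionSystem (normalizerIn S (thompsonSubgroupAOf S)),
      F.IsNormalizerSystem (thompsonSubgroupAOf S) N →
      ∀ P : Subgroup Ω, N.Hom P = (innerFusionSystem (normalizerIn S (thompsonSubgroupAOf S))).Hom P) :
    HypJ p F := by
  intro B β hβ hJB hstab
  obtain ⟨N, hN'⟩ := Cfsg.Agent.S5096.result F (thompsonSubgroupAOf S) (jOf_le S)
  have hBN : B ≤ normalizerIn S (thompsonSubgroupAOf S) :=
    le_inf hβ.le_left (hβ.le_left.trans (Subgroup.le_normalizer.trans (normalizer_le_normalizer_jOf S)))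
  obtain ⟨φ, hφ, hφβ⟩ := (iso_normalizerSystem_of hN' hJB hBN hβ hstab).mor
  rw [hN N hN' B] at hφ
  exact isPEl_of_mem_inner hS inf_le_left (fun x hx => hβ.map_mem hx) hφ hφβ

/-- "`C_F(Z(S))` is inner" gives `HypZ` -/
theorem hypZ_of_inner {p : ℕ} [Finite S] (hS : IsPGroup p S) {F : FusionSystem S}
    (hC : ∀ C : FusionSystem (centralizerIn S (S ⊓ Subgroup.centralizer (S : Set Ω))),
      F.IsCentralizerSystem (S ⊓ Subgroup.centralizer (S : Set Ω)) C →
      ∀ P : Subgroup Ω, C.Hom P = (innerFusionSystem (centralizerIn S (S ⊓ Subgroup.centralizer (S : Set Ω)))).Hom P) :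
    HypZ p F := by
  intro B β hβ hZB hfix
  obtain ⟨C, hC'⟩ := Cfsg.Agent.S5097.result F (S ⊓ Subgroup.centralizer (S : Set Ω)) inf_le_left
  have hSC : S ≤ centralizerIn S (S ⊓ Subgroup.centralizer (S : Set Ω)) := by
    intro s hs
    refine Subgroup.mem_inf.2 ⟨hs, ?_⟩
    rw [Subgroup.mem_centralizer_iff]
    intro z hz
    exact (Subgroup.mem_centralizer_iff.1 (Subgroup.mem_inf.1 hz).2 s hs).symm
  obtain ⟨φ, hφ, hφβ⟩ := hβ.mor
  have hφC : φ ∈ C.Hom B := by
    rw [hC' B]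
    refine ⟨hφ, hβ.le_left.trans hSC, fun x => hSC ((F.le_of_mem hφ).2 x),
      φ.comp (Subgroup.inclusion (sup_le le_rfl hZB)), restrict_mem F hφ _, fun x => ?_, fun z => ?_⟩
    · rfl
    · show φ ⟨(z : Ω), _⟩ = (z : Ω)
      rw [hφβ]
      exact hfix _ z.2
  rw [hC C hC' B] at hφC
  exact isPEl_of_mem_inner hS inf_le_left (fun x hx => hβ.map_mem hx) hφC hφβ

/-- **Thompson's normal `p`-complement theorem for fusion systems** -/
theorem thompson_fusion {p : ℕ} [Fact p.Prime] [Finite S] (hS : IsPGroup p S) (F : FusionSystem S)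
    (hF : F.IsSaturated p) (hp : p ≠ 2 ∨ F.IsSectionFree p (Equiv.Perm (Fin 4)))
    (hC : ∀ C : FusionSystem (centralizerIn S (S ⊓ Subgroup.centralizer (S : Set Ω))),
      F.IsCentralizerSystem (S ⊓ Subgroup.centralizer (S : Set Ω)) C →
      ∀ P : Subgroup Ω, C.Hom P = (innerFusionSystem (centralizerIn S (S ⊓ Subgroup.centralizer (S : Set Ω)))).Hom P)
    (hN : ∀ N : FusionSystem (normalizerIn S (thompsonSubgroupAOf S)),
      F.IsNormalizerSystem (thompsonSubgroupAOf S) N →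
      ∀ P : Subgroup Ω, N.Hom P = (innerFusionSystem (normalizerIn S (thompsonSubgroupAOf S))).Hom P) :
    ∀ P : Subgroup Ω, F.Hom P = (innerFusionSystem S).Hom P := by
  have hall := main_all.{u} p _ Ω S rfl hS F hF hp (hypZ_of_inner hS hC) (hypJ_of_inner hS hN)
  exact eq_inner_of_isPGroup_autGroup hS hF
    (fun R hR => isPGroup_autGroup_of_forall hR.1 (fun β hβ => hall R β hβ))

end Cfsg.Agent.Helper86.ThFus
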