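import Mathlib
import Cfsg.Agent.Lib.Helper86.ThFusI

set_option autoImplicit false
set_option linter.style.haveILetI false

/-! # The strengthened Frobenius criterion for fusion systems (DGMP), part A: group-theoretic and iterate lemmas -/

namespace Cfsg.Agent.Helper86.FrobFus

open Cfsg Cfsg.FusionSystem Cfsg.Agent.Helper87 Cfsg.Agent.Helper85 Cfsg.Agent.Helper86.ThFus

section grp

variable {G : Type*} [Group G]

/-- the full preimage of a characteristic subgroup of `G/N`, `N` characteristic, is characteristic -/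
theorem characteristic_comap_mk (N : Subgroup G) [hN : N.Normal] (hNc : N.Characteristic)
    (K : Subgroup (G ⧸ N)) (hK : K.Characteristic) : (K.comap (QuotientGroup.mk' N)).Characteristic := by
  rw [Subgroup.characteristic_iff_comap_eq]
  intro φ
  have hmap : N.map φ.toMonoidHom = N := Subgroup.characteristic_iff_map_eq.1 hNc φ
  have hK' := Subgroup.characteristic_iff_comap_eq.1 hK (QuotientGroup.congr N N φ hmap)
  ext g
  rw [Subgroup.mem_comap, Subgroup.mem_comap, Subgroup.mem_comap]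
  have h1 : QuotientGroup.mk' N (φ.toMonoidHom g) = (QuotientGroup.congr N N φ hmap) (QuotientGroup.mk' N g) :=
    (QuotientGroup.congr_mk N N φ hmap g).symm
  rw [h1]
  have h2 : (QuotientGroup.congr N N φ hmap) (QuotientGroup.mk' N g) ∈ K ↔
      QuotientGroup.mk' N g ∈ K.comap (QuotientGroup.congr N N φ hmap).toMonoidHom := Iff.rfl
  rw [h2, hK']

/-- a subgroup of `⊤` characteristic in `⊤` is characteristic -/
theorem characteristic_of_subgroupOf_top (K : Subgroup G) (hK : (K.subgroupOf (⊤ : Subgroup G)).Characteristic) :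
    K.Characteristic := by
  rw [Subgroup.characteristic_iff_comap_eq]
  intro φ
  let ψ : (⊤ : Subgroup G) ≃* (⊤ : Subgroup G) :=
    Subgroup.topEquiv.trans (φ.trans Subgroup.topEquiv.symm)
  have h1 := Subgroup.characteristic_iff_comap_eq.1 hK ψ
  ext g
  have h2 : (⟨g, Subgroup.mem_top g⟩ : (⊤ : Subgroup G)) ∈ (K.subgroupOf ⊤).comap ψ.toMonoidHom ↔
      (⟨g, Subgroup.mem_top g⟩ : (⊤ : Subgroup G)) ∈ K.subgroupOf ⊤ := by rw [h1]
  rw [Subgroup.mem_comap, Subgroup.mem_subgroupOf, Subgroup.mem_subgroupOf] at h2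
  exact h2

end grp

section J

variable {Ω : Type*} [Group Ω]

theorem jOf_subgroupOf (S : Subgroup Ω) : (thompsonSubgroupAOf S).subgroupOf S = thompsonSubgroupA S := by
  unfold thompsonSubgroupAOf Subgroup.subgroupOf
  exact Subgroup.comap_map_eq_self_of_injective Subtype.coe_injective _

theorem jOf_characteristic (S : Subgroup Ω) : ((thompsonSubgroupAOf S).subgroupOf S).Characteristic := by
  rw [jOf_subgroupOf, Subgroup.characteristic_iff_map_eq]
  intro φ
  exact thompsonA_map_equiv φ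

theorem zOf_subgroupOf (S : Subgroup Ω) : (zOf S).subgroupOf S = Subgroup.center S := by
  ext x
  rw [Subgroup.mem_subgroupOf, Subgroup.mem_center_iff]
  constructor
  · intro hx s
    have := Subgroup.mem_centralizer_iff.1 (Subgroup.mem_inf.1 hx).2 s s.2
    exact Subtype.ext this
  · intro hx
    refine Subgroup.mem_inf.2 ⟨x.2, ?_⟩
    rw [Subgroup.mem_centralizer_iff]
    intro s hs
    exact congrArg Subtype.val (hx ⟨s, hs⟩)

theorem zOf_characteristic (S : Subgroup Ω) : ((zOf S).subgroupOf S).Characteristic := by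
  rw [zOf_subgroupOf]
  infer_instance

/-- a subgroup `Q ≤ S` characteristic in `S` is normalized by `S` -/
theorem le_normalizer_of_characteristic {S Q : Subgroup Ω} (hQS : Q ≤ S) (hQ : (Q.subgroupOf S).Characteristic) :
    S ≤ Subgroup.normalizer (Q : Set Ω) := by
  apply Cfsg.Agent.Helper34.TNC.le_normalizer_of_conj_mem
  intro s hs x hx
  have h1 := Subgroup.characteristic_iff_map_le.1 hQ (conjEquiv S s (Subgroup.le_normalizer hs))
  have h2 : (conjEquiv S s (Subgroup.le_normalizer hs)) ⟨x, hQS hx⟩ ∈ Q.subgroupOf S :=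
    h1 ⟨⟨x, hQS hx⟩, Subgroup.mem_subgroupOf.2 hx, rfl⟩
  exact Subgroup.mem_subgroupOf.1 h2

end J

section iter

variable {Ω : Type*} [Group Ω] {S : Subgroup Ω}

/-- an automorphism stabilizing the chain `1 ≤ Q ≤ B` (`Q` a finite `p`-group) is a `p`-element -/
theorem isPEl_of_stabilizes {p : ℕ} [Fact p.Prime] {F : FusionSystem S} {B Q : Subgroup Ω} {γ : Ω → Ω}
    (hγ : Iso F B B γ) (hQB : Q ≤ B) [Finite Q] (hQp : IsPGroup p Q) (h1 : ∀ x ∈ Q, γ x = x)
    (h2 : ∀ x ∈ B, x⁻¹ * γ x ∈ Q) : IsPEl p B γ := by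
  obtain ⟨k, hk⟩ := IsPGroup.iff_card.1 hQp
  have key : ∀ (n : ℕ) (x : Ω), x ∈ B → γ^[n] x = x * (x⁻¹ * γ x) ^ n := by
    intro n
    induction n with
    | zero => intro x _; simp
    | succ n ih =>
      intro x hx
      have hc : (x⁻¹ * γ x) ^ n ∈ Q := Subgroup.pow_mem _ (h2 x hx) n
      rw [Function.iterate_succ_apply', ih x hx, hγ.mor.map_mul hx (hQB hc), h1 _ hc, pow_succ', ← mul_assoc,
        mul_inv_cancel_left]
  refine ⟨k, fun x hx => ?_⟩
  rw [key _ x hx, ← hk]
  have : (⟨x⁻¹ * γ x, h2 x hx⟩ : Q) ^ Nat.card Q = 1 := pow_card_eq_one'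
  have h3 : (x⁻¹ * γ x) ^ Nat.card Q = 1 := congrArg Subtype.val this
  rw [h3, mul_one]

theorem isPEl_of_iterate {p : ℕ} {B : Subgroup Ω} {β : Ω → Ω} {m : ℕ} (h : IsPEl p B (β^[p ^ m])) :
    IsPEl p B β := by
  obtain ⟨k, hk⟩ := h
  refine ⟨m + k, fun x hx => ?_⟩
  rw [pow_add, Function.iterate_mul]
  exact hk x hx

/-- if `g` fixes a property-preserving quantity, so do its iterates -/
theorem iterate_fix {α : Type*} {B : Subgroup Ω} {g : Ω → Ω} (hgB : ∀ x ∈ B, g x ∈ B) (v : Ω → α)
    (h : ∀ x ∈ B, v (g x) = v x) : ∀ (n : ℕ) (x : Ω), x ∈ B → v (g^[n] x) = v x := by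
  intro n
  induction n with
  | zero => intro x _; rfl
  | succ n ih =>
    intro x hx
    rw [Function.iterate_succ_apply, ih _ (hgB x hx), h x hx]

end iter

end Cfsg.Agent.Helper86.FrobFus
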