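import Mathlib
import Cfsg.Agent.Lib.Helper86.FrobFusA

set_option autoImplicit false
set_option linter.style.haveILetI false

/-! # The strengthened Frobenius criterion for fusion systems (DGMP), part B: the induction -/

namespace Cfsg.Agent.Helper86.FrobFus

open Cfsg Cfsg.FusionSystem Cfsg.Agent.Helper87 Cfsg.Agent.Helper85 Cfsg.Agent.Helper86.ThFus

universe u

/-- the hypothesis: `Aut_F(Q)` is a `p`-group for every nontrivial characteristic subgroup `Q` of `S` -/
def HypChar (p : ℕ) {Ω : Type*} [Group Ω] {S : Subgroup Ω} (F : FusionSystem S) : Prop :=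
  ∀ Q : Subgroup Ω, Q ≤ S → Q ≠ ⊥ → (Q.subgroupOf S).Characteristic → IsPGroup p (F.autGroup Q)

/-- the statement proved by induction on `|S|` -/
def MainF (p : ℕ) (n : ℕ) : Prop :=
  ∀ (Ω : Type u) [Group Ω] (S : Subgroup Ω) [Finite S], Nat.card S = n → IsPGroup p S →
    ∀ F : FusionSystem S, F.IsSaturated p → (p ≠ 2 ∨ F.IsSectionFree p (Equiv.Perm (Fin 4))) →
      HypChar p F → ∀ (B : Subgroup Ω) (β : Ω → Ω), Iso F B B β → IsPEl p B β

theorem characteristic_transport {Ω : Type*} [Group Ω] {R S : Subgroup Ω} :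
    ∀ X : Subgroup Ω, X = S → (R.subgroupOf X).Characteristic → (R.subgroupOf S).Characteristic := by
  rintro _ rfl h
  exact h

/-- for a nontrivial characteristic subgroup `Q` of `S`, the normalizer system `N_F(Q)` is inner (automorphism form) -/
theorem pinn_of_char {p : ℕ} [Fact p.Prime] {n : ℕ} (ih : ∀ m < n, MainF.{u} p m)
    {Ω : Type u} [Group Ω] {S : Subgroup Ω} [Finite S] (hn : Nat.card S = n) (hS : IsPGroup p S)
    {F : FusionSystem S} (hF : F.IsSaturated p) (h4 : p ≠ 2 ∨ F.IsSectionFree p (Equiv.Perm (Fin 4)))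
    (hch : HypChar p F) {Q : Subgroup Ω} (hQS : Q ≤ S) (hQ1 : Q ≠ ⊥)
    (hQc : (Q.subgroupOf S).Characteristic) : PInn F p Q := by
  have hSn : S ≤ Subgroup.normalizer (Q : Set Ω) := le_normalizer_of_characteristic hQS hQc
  have hTS : normalizerIn S Q = S := le_antisymm inf_le_left (le_inf le_rfl hSn)
  have hTS' : normalizerIn S Q ≤ S := inf_le_left
  have hQT : Q ≤ normalizerIn S Q := le_normalizerIn hQS
  have hQfn : F.IsFullyNormalized Q := ⟨hQS, fun Q' _ => by rw [hTS]; exact card_normalizerIn_le Q'⟩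
  haveI : Finite ↥(normalizerIn S Q) := finite_of_le hTS'
  haveI : Finite ↥Q := finite_of_le hQS
  have hTp : IsPGroup p ↥(normalizerIn S Q) := hS.to_le hTS'
  obtain ⟨N, hN⟩ := Cfsg.Agent.S5096.result F Q hQS
  have hNsat : N.IsSaturated p := Cfsg.Agent.S5098.result p hS F hF Q hQfn N hN
  have hsub : N.IsSubsystemOf F := normalizerSystem_isSubsystemOf hN
  have h4N : p ≠ 2 ∨ N.IsSectionFree p (Equiv.Perm (Fin 4)) :=
    h4.imp id (fun hfree => Cfsg.Agent.Helper86.SecFreeNorm.sectionFree_normalizer hS hF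
      (fun S₁ _ hS₁ E hE => Cfsg.Agent.S5090.result p hS₁ E hE)
      (fun S₁ _ hS₁ E hE G₁ G₂ _ _ ι₁ ι₂ h₁ h₂ => Cfsg.Agent.S5091.result p hS₁ E hE ι₁ ι₂ h₁ h₂) hfree hQfn hN)
  have hQn : N.IsNormal Q := normalizerSystem_isNormal hQS hN
  have hQsc : N.StronglyClosed Q := stronglyClosed_of_isNormal hQn
  -- the factor system `N / Q`
  haveI hQnorm : (Q.subgroupOf (normalizerIn S Q)).Normal := normal_subgroupOf_of_stronglyClosed hQsc
  have hker : ∀ s : ↥(normalizerIn S Q),
      QuotientGroup.mk' (Q.subgroupOf (normalizerIn S Q)) s = 1 ↔ (s : Ω) ∈ Q :=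
    fun s => (QuotientGroup.eq_one_iff s).trans Subgroup.mem_subgroupOf
  have hrange : (QuotientGroup.mk' (Q.subgroupOf (normalizerIn S Q))).range = ⊤ :=
    MonoidHom.range_eq_top.2 (QuotientGroup.mk'_surjective _)
  have hE := factorSystem_isFactorSystem N Q (QuotientGroup.mk' (Q.subgroupOf (normalizerIn S Q))) ⊤
    hker hrange hQsc
  generalize factorSystem N Q (QuotientGroup.mk' (Q.subgroupOf (normalizerIn S Q))) ⊤ hker hrange hQsc = E at hE
  haveI hfinS' : Finite ↥(⊤ : Subgroup (↥(normalizerIn S Q) ⧸ Q.subgroupOf (normalizerIn S Q))) :=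
    Cfsg.Agent.Helper85.factor_finite hE
  have hS'p : IsPGroup p ↥(⊤ : Subgroup (↥(normalizerIn S Q) ⧸ Q.subgroupOf (normalizerIn S Q))) :=
    factor_isPGroup hTp hE
  have hEsat : E.IsSaturated p := factor_saturated hTp hNsat hQsc hE
  have h4E : p ≠ 2 ∨ E.IsSectionFree p (Equiv.Perm (Fin 4)) :=
    h4N.imp id (fun h => sectionFree_factor hTp hNsat hQn h hE)
  have hcardlt : Nat.card ↥(⊤ : Subgroup (↥(normalizerIn S Q) ⧸ Q.subgroupOf (normalizerIn S Q))) < n := by
    have hcT : Nat.card ↥(normalizerIn S Q) = Nat.card ↥S := congrArg (fun X : Subgroup Ω => Nat.card ↥X) hTS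
    rw [Subgroup.card_top, ← hn, ← hcT]
    have h1 := Subgroup.card_eq_card_quotient_mul_card_subgroup (Q.subgroupOf (normalizerIn S Q))
    have h2 : 1 < Nat.card (Q.subgroupOf (normalizerIn S Q)) := by
      rw [Subgroup.one_lt_card_iff_ne_bot]
      intro h
      apply hQ1
      rw [eq_bot_iff]
      intro x hx
      have : (⟨x, hQT hx⟩ : ↥(normalizerIn S Q)) ∈ Q.subgroupOf (normalizerIn S Q) := Subgroup.mem_subgroupOf.2 hx
      rw [h, Subgroup.mem_bot] at this
      exact Subgroup.mem_bot.2 (congrArg Subtype.val this)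
    have h3 : 0 < Nat.card (↥(normalizerIn S Q) ⧸ Q.subgroupOf (normalizerIn S Q)) := Nat.card_pos
    rw [h1]
    nlinarith
  have hkerQ : kerOf (QuotientGroup.mk' (Q.subgroupOf (normalizerIn S Q))) = Q := kerOf_eq_of_factor hE
  -- the hypothesis passes to the factor system
  have hchE : HypChar p E := by
    intro R' hR' hR'1 hR'c
    have hRT : preimageAlong (QuotientGroup.mk' (Q.subgroupOf (normalizerIn S Q))) R' ≤ normalizerIn S Q :=
      fun x hx => (mem_pre.1 hx).1
    have hQR : Q ≤ preimageAlong (QuotientGroup.mk' (Q.subgroupOf (normalizerIn S Q))) R' := by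
      have := kerOf_le_pre (QuotientGroup.mk' (Q.subgroupOf (normalizerIn S Q))) R'
      rwa [hkerQ] at this
    have hR1 : preimageAlong (QuotientGroup.mk' (Q.subgroupOf (normalizerIn S Q))) R' ≠ ⊥ :=
      fun h => hQ1 (eq_bot_iff.2 (h ▸ hQR))
    have hQcT : (Q.subgroupOf (normalizerIn S Q)).Characteristic := by
      rw [hTS]
      exact hQc
    have h1 := characteristic_comap_mk (Q.subgroupOf (normalizerIn S Q)) hQcT R'
      (characteristic_of_subgroupOf_top R' hR'c)
    have h2 : (preimageAlong (QuotientGroup.mk' (Q.subgroupOf (normalizerIn S Q))) R').subgroupOf (normalizerIn S Q) =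
        R'.comap (QuotientGroup.mk' (Q.subgroupOf (normalizerIn S Q))) := by
      unfold preimageAlong Subgroup.subgroupOf
      exact Subgroup.comap_map_eq_self_of_injective Subtype.coe_injective _
    have hRc : ((preimageAlong (QuotientGroup.mk' (Q.subgroupOf (normalizerIn S Q))) R').subgroupOf S).Characteristic :=
      characteristic_transport _ hTS (h2 ▸ h1)
    have hAutR := hch _ (hRT.trans hTS') hR1 hRc
    refine isPGroup_autGroup_of_forall hR' (fun β' hβ' => ?_)
    obtain ⟨f, hfiso, hff⟩ := lift_iso hE hβ'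
    exact isPEl_of_lift hE hR' (fun x hx => hfiso.map_mem hx) hff
      (isPEl_of_isPGroup hAutR (iso_of_subsystem hsub hfiso))
  have hall := ih _ hcardlt _ ⊤ rfl hS'p E hEsat h4E hchE
  -- now the claim
  intro B β hQB hBT hβ hβQ
  have hβN : Iso N B B β := iso_normalizerSystem_of hN hQB hBT hβ hβQ
  obtain ⟨f', hf', hff'⟩ := exists_factor_mor hE hQsc hQB hβN.mor
  have hmap : ∀ y ∈ imageAlong (QuotientGroup.mk' (Q.subgroupOf (normalizerIn S Q))) B,
      f' y ∈ imageAlong (QuotientGroup.mk' (Q.subgroupOf (normalizerIn S Q))) B := by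
    intro y hy
    obtain ⟨x, hxT, hxB, rfl⟩ := mem_img.1 hy
    have := hff' x hxB
    change f' (au _ x) = au _ (β x) at this
    rw [this]
    exact mem_img.2 ⟨β x, hBT (hβ.map_mem hxB), hβ.map_mem hxB, rfl⟩
  have hf'iso : Iso E (imageAlong (QuotientGroup.mk' (Q.subgroupOf (normalizerIn S Q))) B)
      (imageAlong (QuotientGroup.mk' (Q.subgroupOf (normalizerIn S Q))) B) f' :=
    iso_of_card_le hf' le_top hmap le_rfl
  obtain ⟨a, ha⟩ := hall _ f' hf'iso
  have hθβ : ∀ (m : ℕ) (x : Ω), x ∈ B →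
      au (QuotientGroup.mk' (Q.subgroupOf (normalizerIn S Q))) (β^[m] x) =
        f'^[m] (au (QuotientGroup.mk' (Q.subgroupOf (normalizerIn S Q))) x) := by
    intro m
    induction m with
    | zero => intro x _; rfl
    | succ m ihm =>
      intro x hx
      rw [Function.iterate_succ_apply, Function.iterate_succ_apply, ihm _ (hβ.map_mem hx)]
      have := hff' x hx
      change f' (au _ x) = au _ (β x) at this
      rw [this]
  have hθa : ∀ x ∈ B, au (QuotientGroup.mk' (Q.subgroupOf (normalizerIn S Q))) (β^[p ^ a] x) =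
      au (QuotientGroup.mk' (Q.subgroupOf (normalizerIn S Q))) x := by
    intro x hx
    rw [hθβ _ x hx]
    exact ha _ (mem_img.2 ⟨x, hBT hx, hx, rfl⟩)
  have hβQiso : Iso F Q Q β := iso_of_card_le (hβ.mor.restrict hQB) hQS hβQ le_rfl
  obtain ⟨b, hb⟩ := isPEl_of_isPGroup (hch Q hQS hQ1 hQc) hβQiso
  apply isPEl_of_iterate (m := a + b)
  have hγ : Iso F B B (β^[p ^ (a + b)]) := iso_iterate hβ _
  refine isPEl_of_stabilizes hγ hQB (hS.to_le hQS) ?_ ?_
  · intro x hx
    rw [pow_add, mul_comm, Function.iterate_mul]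
    exact iterate_fix (B := Q) (g := β^[p ^ b]) (fun y hy => by rw [hb y hy]; exact hy) (fun y => y)
      (fun y hy => hb y hy) _ x hx
  · intro x hx
    have h1 : au (QuotientGroup.mk' (Q.subgroupOf (normalizerIn S Q))) (β^[p ^ (a + b)] x) =
        au (QuotientGroup.mk' (Q.subgroupOf (normalizerIn S Q))) x := by
      rw [pow_add, Function.iterate_mul]
      exact iterate_fix (B := B) (g := β^[p ^ a]) (fun y hy => (iso_iterate hβ _).map_mem hy)
        (au (QuotientGroup.mk' (Q.subgroupOf (normalizerIn S Q)))) hθa _ x hx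
    have h2 := (au_eq_iff (QuotientGroup.mk' (Q.subgroupOf (normalizerIn S Q))) (hBT hx)
      (hBT (hγ.map_mem hx))).1 h1.symm
    rwa [hkerQ] at h2

/-- **the strengthened Frobenius criterion for fusion systems**, automorphism form -/
theorem mainF_all (p : ℕ) [Fact p.Prime] : ∀ n : ℕ, MainF.{u} p n := by
  intro n
  induction n using Nat.strong_induction_on with
  | _ n ih =>
    intro Ω _ S _ hn hS F hF h4 hch B β hβ
    by_cases hS1 : S = ⊥
    · have hB : B = ⊥ := eq_bot_iff.2 (hS1 ▸ hβ.le_left)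
      subst hB
      exact isPEl_bot hβ
    have hZ : HypZ p F := by
      intro B β hβ hZB hfix
      exact pinn_of_char ih hn hS hF h4 hch (zOf_le S) (zOf_ne_bot hS hS1) (zOf_characteristic S) B β hZB
        (le_inf hβ.le_left (hβ.le_left.trans (Subgroup.le_normalizer.trans (normalizer_le_normalizer_zOf S))))
        hβ (fun x hx => by rw [hfix x hx]; exact hx)
    have hJ : HypJ p F := by
      intro B β hβ hJB hstab
      exact pinn_of_char ih hn hS hF h4 hch (jOf_le S) (jOf_ne_bot hS1) (jOf_characteristic S) B β hJB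
        (le_inf hβ.le_left (hβ.le_left.trans (Subgroup.le_normalizer.trans (normalizer_le_normalizer_jOf S))))
        hβ hstab
    exact main_all.{u} p _ Ω S rfl hS F hF h4 hZ hJ B β hβ

/-- **the strengthened Frobenius criterion for fusion systems** -/
theorem frobenius_fusion {Ω : Type u} [Group Ω] {S : Subgroup Ω} [Finite S] {p : ℕ} [Fact p.Prime]
    (hS : IsPGroup p S) (F : FusionSystem S) (hF : F.IsSaturated p)
    (hp : p ≠ 2 ∨ F.IsSectionFree p (Equiv.Perm (Fin 4)))
    (h : ∀ Q : Subgroup Ω, Q ≤ S → Q ≠ ⊥ → (Q.subgroupOf S).Characteristic → IsPGroup p (F.autGroup Q)) :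
    ∀ P : Subgroup Ω, F.Hom P = (innerFusionSystem S).Hom P := by
  have hall := mainF_all.{u} p _ Ω S rfl hS F hF hp h
  exact eq_inner_of_isPGroup_autGroup hS hF
    (fun R hR => isPGroup_autGroup_of_forall hR.1 (fun β hβ => hall R β hβ))

end Cfsg.Agent.Helper86.FrobFus
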