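import Mathlib

set_option autoImplicit false

namespace Cfsg.Agent.Helper86

/-- binomial expansion of `(1+π)^p` for a prime `p`, keeping track of the linear term -/
theorem one_add_pow_prime_expand {R : Type*} [CommRing R] (p : ℕ) [hp : Fact p.Prime] (π : R) :
    ∃ w : R, (1 + π) ^ p = 1 + π ^ p + p * π * (1 + π * w) := by
  have hp2 := hp.out.two_le
  have h0 : (0 : ℕ) ∈ Finset.range (p + 1) := Finset.mem_range.2 (by omega)
  have h1 : (1 : ℕ) ∈ (Finset.range (p + 1)).erase 0 :=
    Finset.mem_erase.2 ⟨by omega, Finset.mem_range.2 (by omega)⟩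
  have h2 : p ∈ ((Finset.range (p + 1)).erase 0).erase 1 :=
    Finset.mem_erase.2 ⟨by omega, Finset.mem_erase.2 ⟨by omega, Finset.mem_range.2 (by omega)⟩⟩
  have hdvd : (p : R) * π ^ 2 ∣ ∑ m ∈ (((Finset.range (p + 1)).erase 0).erase 1).erase p,
      π ^ m * 1 ^ (p - m) * (p.choose m : R) := by
    apply Finset.dvd_sum
    intro m hm
    simp only [Finset.mem_erase, Finset.mem_range] at hm
    obtain ⟨hmp, hm1, hm0, hlt⟩ := hm
    have hmlt : m < p := by omega
    obtain ⟨c, hc⟩ := hp.out.dvd_choose_self hm0 hmlt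
    refine ⟨π ^ (m - 2) * c, ?_⟩
    have hm2 : m = (m - 2) + 2 := by omega
    rw [hc, one_pow, mul_one]
    conv_lhs => rw [hm2, pow_add]
    push_cast
    ring
  obtain ⟨w, hw⟩ := hdvd
  refine ⟨w, ?_⟩
  rw [add_comm 1 π, add_pow, ← Finset.add_sum_erase _ _ h0, ← Finset.add_sum_erase _ _ h1,
    ← Finset.add_sum_erase _ _ h2, hw]
  simp
  ring

theorem ring_key {R : Type*} [CommRing R] (p : ℕ) [hp : Fact p.Prime] (n : ℕ) (π : R)
    (h1 : (1 + π) ^ p = 1) (h2 : π ^ (n * (p - 1) + 1) = 0) : (p : R) ^ n * π = 0 := by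
  obtain ⟨w, hw⟩ := one_add_pow_prime_expand p π
  have hp1 := hp.out.one_le
  have hnil : IsNilpotent π := ⟨_, h2⟩
  have hv : IsUnit (1 + π * w) := by
    apply IsNilpotent.isUnit_one_add
    exact (Commute.all π w).isNilpotent_mul_right hnil
  obtain ⟨v', hv'⟩ := hv.exists_right_inv
  have hpπ : (p : R) * π = - π ^ p * v' := by
    have e1 : π ^ p + p * π * (1 + π * w) = 0 := by
      have := hw.symm.trans h1
      linear_combination this
    have e2 : (p : R) * π * (1 + π * w) = - π ^ p := by linear_combination e1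
    calc (p : R) * π = (p : R) * π * ((1 + π * w) * v') := by rw [hv', mul_one]
      _ = ((p : R) * π * (1 + π * w)) * v' := by ring
      _ = - π ^ p * v' := by rw [e2]
  have key : ∀ k : ℕ, ∃ c : R, (p : R) ^ k * π = c * π ^ (k * (p - 1) + 1) := by
    intro k
    induction k with
    | zero => exact ⟨1, by simp⟩
    | succ k ih =>
      obtain ⟨c, hc⟩ := ih
      refine ⟨c * (-v'), ?_⟩
      have e3 : (k + 1) * (p - 1) + 1 = k * (p - 1) + p := by
        obtain ⟨q, rfl⟩ : ∃ q, p = q + 1 := ⟨p - 1, by omega⟩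
        simp only [Nat.add_sub_cancel]
        ring
      rw [e3]
      calc (p : R) ^ (k + 1) * π = (p : R) * ((p : R) ^ k * π) := by ring
        _ = (p : R) * (c * π ^ (k * (p - 1) + 1)) := by rw [hc]
        _ = c * π ^ (k * (p - 1)) * ((p : R) * π) := by ring
        _ = c * π ^ (k * (p - 1)) * (- π ^ p * v') := by rw [hpπ]
        _ = c * -v' * π ^ (k * (p - 1) + p) := by rw [pow_add]; ring
  obtain ⟨c, hc⟩ := key n
  rw [hc, h2, mul_zero]


open scoped IsMulCommutative in
theorem end_key {A : Type*} [AddCommGroup A] (p : ℕ) [Fact p.Prime] (n : ℕ) (s : AddMonoid.End A)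
    (h1 : s ^ p = 1) (h2 : (s - 1) ^ (n * (p - 1) + 1) = 0) : (p : AddMonoid.End A) ^ n * (s - 1) = 0 := by
  let K := Subring.closure ({s} : Set (AddMonoid.End A))
  have hK : IsMulCommutative K := Subring.isMulCommutative_closure (by
    intro x hx y hy
    rw [Set.mem_singleton_iff] at hx hy
    rw [hx, hy])
  let s' : K := ⟨s, Subring.subset_closure (Set.mem_singleton s)⟩
  have e1 : (1 + (s' - 1)) ^ p = 1 := by
    rw [add_sub_cancel]
    apply Subtype.ext
    show (s' ^ p : K).1 = 1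
    rw [SubmonoidClass.coe_pow]
    exact h1
  have e2 : (s' - 1) ^ (n * (p - 1) + 1) = 0 := by
    apply Subtype.ext
    rw [SubmonoidClass.coe_pow]
    exact h2
  have := ring_key p n (s' - 1) e1 e2
  have h3 := congrArg Subtype.val this
  simpa using h3


/-- the multiplicative form: an endomorphism `σ` of a commutative group with `σ^p = 1` and
`(σ-1)^(n(p-1)+1) = 0` fixes all `p^n`-th powers -/
theorem comm_key {A : Type*} [CommGroup A] (p : ℕ) [Fact p.Prime] (n : ℕ) (σ : A →* A)
    (h1 : ∀ a, σ^[p] a = a) (h2 : ∀ a, (fun b => σ b / b)^[n * (p - 1) + 1] a = 1) (a : A) :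
    σ (a ^ (p ^ n)) = a ^ (p ^ n) := by
  let s : AddMonoid.End (Additive A) := MonoidHom.toAdditive σ
  have e1 : s ^ p = 1 := by
    apply DFunLike.ext
    intro x
    rw [AddMonoid.End.coe_pow]
    exact h1 x
  have e2 : (s - 1) ^ (n * (p - 1) + 1) = 0 := by
    apply DFunLike.ext
    intro x
    rw [AddMonoid.End.coe_pow]
    exact h2 x
  have h3 := end_key p n s e1 e2
  have h4 := DFunLike.congr_fun h3 (Additive.ofMul a)
  have h5 : ((p : AddMonoid.End (Additive A)) ^ n * (s - 1)) (Additive.ofMul a) =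
      Additive.ofMul (σ (a ^ (p ^ n)) / a ^ (p ^ n)) := by
    rw [← Nat.cast_pow]
    show (p ^ n) • (Additive.ofMul (σ a / a)) = _
    rw [← ofMul_pow, div_pow, map_pow]
  rw [h5] at h4
  exact div_eq_one.1 h4

end Cfsg.Agent.Helper86
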