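import Mathlib
import Cfsg.Agent.Lib.Helper86.AgemoRing

set_option autoImplicit false

namespace Cfsg.Agent.Helper86

open scoped commutatorElement

variable {Ω : Type*} [Group Ω]

/-- If `S` has class at most `n(p-1)+1`, `t ∈ N_S(R)` with `t^p ∈ R`, and `u ∈ Z(R)`, then `t` centralizes
`u^(p^n)`. -/
theorem conj_pow_eq_of_class_le (p : ℕ) [Fact p.Prime] (n : ℕ) {S R : Subgroup Ω} (hRS : R ≤ S)
    (hcl : Subgroup.lowerCentralSeries S (n * (p - 1) + 1) = ⊥) {t : Ω} (htS : t ∈ S)
    (htN : t ∈ Subgroup.normalizer (R : Set Ω)) (htp : t ^ p ∈ R) {u : Ω} (huR : u ∈ R)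
    (huC : u ∈ Subgroup.centralizer (R : Set Ω)) :
    t * u ^ (p ^ n) * t⁻¹ = u ^ (p ^ n) := by
  let ZR : Subgroup Ω := R ⊓ Subgroup.centralizer (R : Set Ω)
  let _ : CommGroup ZR :=
    { (inferInstance : Group ZR) with
      mul_comm := fun a b => Subtype.ext ((Subgroup.mem_centralizer_iff.1 b.2.2 a a.2.1)) }
  have hconj : ∀ a : ZR, t * (a : Ω) * t⁻¹ ∈ ZR := by
    intro a
    refine ⟨(Subgroup.mem_normalizer_iff.1 htN a).1 a.2.1, ?_⟩
    show t * (a : Ω) * t⁻¹ ∈ Subgroup.centralizer (R : Set Ω)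
    rw [Subgroup.mem_centralizer_iff]
    intro r hr
    have hr' : t⁻¹ * r * t ∈ R := by
      have := (Subgroup.mem_normalizer_iff.1 (Subgroup.inv_mem _ htN) r).1 hr
      simpa using this
    have h1 := Subgroup.mem_centralizer_iff.1 a.2.2 _ hr'
    calc r * (t * (a : Ω) * t⁻¹) = t * ((t⁻¹ * r * t) * a) * t⁻¹ := by group
      _ = t * (a * (t⁻¹ * r * t)) * t⁻¹ := by rw [h1]
      _ = t * (a : Ω) * t⁻¹ * r := by group
  let σ : ZR →* ZR :=
    { toFun := fun a => ⟨t * (a : Ω) * t⁻¹, hconj a⟩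
      map_one' := Subtype.ext (by simp)
      map_mul' := fun a b => Subtype.ext (by
        show t * ((a : Ω) * b) * t⁻¹ = (t * a * t⁻¹) * (t * b * t⁻¹)
        group) }
  have hσ : ∀ a : ZR, ((σ a : ZR) : Ω) = t * a * t⁻¹ := fun _ => rfl
  have hiter : ∀ (k : ℕ) (a : ZR), ((σ^[k] a : ZR) : Ω) = t ^ k * a * (t ^ k)⁻¹ := by
    intro k
    induction k with
    | zero => intro a; simp
    | succ k ih =>
      intro a
      rw [Function.iterate_succ_apply', hσ, ih, pow_succ']
      group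
  have h1 : ∀ a : ZR, σ^[p] a = a := by
    intro a
    apply Subtype.ext
    rw [hiter]
    have := Subgroup.mem_centralizer_iff.1 a.2.2 _ htp
    rw [this]
    group
  have hmem : ∀ (k : ℕ) (a : ZR), (((fun b : ZR => σ b / b)^[k] a : ZR) : Ω) ∈
      Subgroup.lowerCentralSeries S k := by
    intro k
    induction k with
    | zero => intro a; exact hRS a.2.1
    | succ k ih =>
      intro a
      rw [Function.iterate_succ_apply', Subgroup.lowerCentralSeries_succ, Subgroup.commutator_comm]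
      have hb := ih a
      set b := (fun b : ZR => σ b / b)^[k] a with hbdef
      have : ((σ b / b : ZR) : Ω) = ⁅t, (b : Ω)⁆ := by
        rw [commutatorElement_def]
        show ((σ b : ZR) : Ω) / (b : Ω) = _
        rw [div_eq_mul_inv, hσ]
      rw [this]
      exact Subgroup.commutator_mem_commutator htS hb
  have h2 : ∀ a : ZR, (fun b : ZR => σ b / b)^[n * (p - 1) + 1] a = 1 := by
    intro a
    apply Subtype.ext
    have := hmem (n * (p - 1) + 1) a
    rw [hcl, Subgroup.mem_bot] at this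
    exact this
  have h3 := comm_key p n σ h1 h2 ⟨u, huR, huC⟩
  have h4 := congrArg Subtype.val h3
  exact h4

end Cfsg.Agent.Helper86
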