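import Mathlib
import Cfsg.Prelude.Def_PLocal
import Cfsg.Agent.Lib.Helper86.AgemoCent
import Cfsg.Agent.Lib.Helper87.FusionNormalCrit
import Cfsg.Agent.Lib.Helper87.FusionMore

set_option autoImplicit false

namespace Cfsg.Agent.Helper86

open Cfsg Cfsg.FusionSystem Cfsg.Agent.Helper87

variable {Ω : Type*} [Group Ω] {S : Subgroup Ω}

/-- for a commutative subgroup the `p^n`-th powers already form a subgroup -/
theorem mem_powerClosure_of_comm (p n : ℕ) {H : Subgroup Ω} (hH : ∀ a ∈ H, ∀ b ∈ H, a * b = b * a)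
    {x : Ω} : x ∈ Cfsg.powerClosure p n H ↔ ∃ a ∈ H, x = a ^ (p ^ n) := by
  constructor
  · intro hx
    unfold Cfsg.powerClosure at hx
    induction hx using Subgroup.closure_induction with
    | mem y hy => exact hy
    | one => exact ⟨1, H.one_mem, by simp⟩
    | mul y z _ _ hy hz =>
      obtain ⟨a, ha, rfl⟩ := hy
      obtain ⟨b, hb, rfl⟩ := hz
      exact ⟨a * b, H.mul_mem ha hb, ((show Commute a b from hH a ha b hb).mul_pow _).symm⟩
    | inv y _ hy =>
      obtain ⟨a, ha, rfl⟩ := hy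
      exact ⟨a⁻¹, H.inv_mem ha, (inv_pow a _).symm⟩
  · rintro ⟨a, ha, rfl⟩
    exact Subgroup.subset_closure ⟨a, ha, rfl⟩

theorem powerClosure_le (p n : ℕ) (H : Subgroup Ω) : Cfsg.powerClosure p n H ≤ H := by
  unfold Cfsg.powerClosure
  rw [Subgroup.closure_le]
  rintro _ ⟨a, ha, rfl⟩
  exact H.pow_mem ha _

theorem mor_map_pow {F : FusionSystem S} {P : Subgroup Ω} {f : Ω → Ω} (h : Mor F P f) {x : Ω}
    (hx : x ∈ P) (k : ℕ) : f (x ^ k) = f x ^ k := by
  induction k with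
  | zero => simpa using h.map_one
  | succ k ih => rw [pow_succ, h.map_mul (P.pow_mem hx k) hx, ih, pow_succ]

theorem mor_map_zpow {F : FusionSystem S} {P : Subgroup Ω} {f : Ω → Ω} (h : Mor F P f) {x : Ω}
    (hx : x ∈ P) (k : ℤ) : f (x ^ k) = f x ^ k := by
  cases k with
  | ofNat k => simpa using mor_map_pow h hx k
  | negSucc k =>
    rw [zpow_negSucc, zpow_negSucc, h.map_inv (P.pow_mem hx _), mor_map_pow h hx]

/-- descend along `p`-th powers to an element outside `H` whose `p`-th power is in `H` -/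
theorem exists_pow_not_mem_pow_mem (p : ℕ) (H : Subgroup Ω) {g : Ω} (hg : ∃ k : ℕ, g ^ (p ^ k) ∈ H)
    (hgH : g ∉ H) : ∃ j : ℕ, g ^ (p ^ j) ∉ H ∧ (g ^ (p ^ j)) ^ p ∈ H := by
  classical
  have h0 : Nat.find hg ≠ 0 := by
    intro h
    have := Nat.find_spec hg
    rw [h] at this
    simp at this
    exact hgH this
  obtain ⟨j, hj⟩ := Nat.exists_eq_succ_of_ne_zero h0
  refine ⟨j, Nat.find_min hg (by omega), ?_⟩
  have := Nat.find_spec hg
  rw [hj, Nat.succ_eq_add_one, pow_succ, pow_mul] at this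
  exact this


/-- `C_S(⟨w⟩) = S` for `w` central in `S` -/
theorem centralizerIn_zpowers_of_central {w : Ω}
    (hw : w ∈ Subgroup.centralizer (S : Set Ω)) : centralizerIn S (Subgroup.zpowers w) = S := by
  apply le_antisymm inf_le_left
  intro s hs
  refine ⟨hs, ?_⟩
  show s ∈ Subgroup.centralizer ((Subgroup.zpowers w : Subgroup Ω) : Set Ω)
  rw [Subgroup.mem_centralizer_iff]
  intro h hh
  obtain ⟨k, rfl⟩ := Subgroup.mem_zpowers_iff.1 hh
  have h1 : Commute s w := Subgroup.mem_centralizer_iff.1 hw s hs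
  exact ((h1.zpow_right k).eq).symm

/-- the `p^n`-th powers of the centre of `S` are strongly closed when `S` has class at most `n(p-1)+1` -/
theorem agemo_center_stronglyClosed {p : ℕ} [Fact p.Prime] [Finite S] (hS : IsPGroup p S)
    {F : FusionSystem S} (hF : F.IsSaturated p) (n : ℕ)
    (hcl : Subgroup.lowerCentralSeries S (n * (p - 1) + 1) = ⊥) :
    F.StronglyClosed (Cfsg.powerClosure p n (S ⊓ Subgroup.centralizer (S : Set Ω))) := by
  classical
  set Z : Subgroup Ω := S ⊓ Subgroup.centralizer (S : Set Ω) with hZdef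
  set W : Subgroup Ω := Cfsg.powerClosure p n Z with hWdef
  have hZcomm : ∀ a ∈ Z, ∀ b ∈ Z, a * b = b * a := fun a ha b hb =>
    (Subgroup.mem_centralizer_iff.1 hb.2 a ha.1)
  have hWmem : ∀ {x : Ω}, x ∈ W ↔ ∃ a ∈ Z, x = a ^ (p ^ n) := fun {x} =>
    mem_powerClosure_of_comm p n hZcomm
  have hWZ : W ≤ Z := powerClosure_le p n Z
  have hWS : W ≤ S := hWZ.trans inf_le_left
  rw [stronglyClosed_iff]
  refine ⟨hWS, fun R₀ f₀ hR₀ hf₀ x₀ hx₀ => ?_⟩
  let C : Subgroup Ω → (Ω → Ω) → Prop := fun P f => ∀ w ∈ P, w ∈ W → f w ∈ W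
  have hC : AlperinClosed F C :=
    { congr := fun {P f f'} h hff w hw hwW => by rw [← hff w hw]; exact h w hw hwW
      restrict := fun {P Q f} _ h hQP w hw hwW => h w (hQP hw) hwW
      comp := fun {P Q f g} _ _ hPQ h1 h2 w hw hwW => h2 _ (hPQ w hw) (h1 w hw hwW) }
  refine alperin_strong hS hF C hC ?_ R₀ f₀ hf₀ x₀ hx₀ (hR₀ hx₀)
  intro R hfn hcen hrad IH α hα w hwR hwW
  obtain ⟨x, hxZ, rfl⟩ := hWmem.1 hwW
  have hRS : R ≤ S := hcen.1
  have hZR : Z ≤ R := by
    intro z hz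
    apply hcen.2 R (isConj_refl hRS)
    exact ⟨hz.1, Subgroup.centralizer_le (by exact_mod_cast hRS) hz.2⟩
  have hxR : x ∈ R := hZR hxZ
  have hαm : Mor F R (extAut α) := (mem_autGroup_iff hRS).1 hα
  have hαi : Iso F R R (extAut α) := iso_of_mor_extAut hαm
  set u := extAut α x with hu
  have huR : u ∈ R := hαi.map_mem hxR
  have huC : u ∈ Subgroup.centralizer (R : Set Ω) := by
    rw [Subgroup.mem_centralizer_iff]
    intro r hr
    obtain ⟨r', hr', rfl⟩ := hαi.surj hr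
    rw [hu, ← hαm.map_mul hr' hxR, ← hαm.map_mul hxR hr']
    congr 1
    exact Subgroup.mem_centralizer_iff.1 hxZ.2 r' (hRS hr')
  have hy : extAut α (x ^ (p ^ n)) = u ^ (p ^ n) := mor_map_pow hαm hxR _
  rw [hy]
  by_cases hRne : R = S
  · apply hWmem.2
    refine ⟨u, ⟨hRS huR, ?_⟩, rfl⟩
    rw [← hRne]; exact huC
  -- `R < S`: pick `t ∈ N_S(R) \ R` with `t^p ∈ R`
  obtain ⟨t₀, ht₀N, ht₀R⟩ := exists_normalizer_not_mem hS hRS hRne
  have hex : ∃ k : ℕ, t₀ ^ (p ^ k) ∈ R := by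
    obtain ⟨k, hk⟩ := hS ⟨t₀, ht₀N.1⟩
    refine ⟨k, ?_⟩
    have : t₀ ^ (p ^ k) = 1 := by
      have := congrArg Subtype.val hk
      simpa using this
    rw [this]; exact R.one_mem
  obtain ⟨j, hj1, hj2⟩ := exists_pow_not_mem_pow_mem p R hex ht₀R
  set t := t₀ ^ (p ^ j) with ht
  have htN : t ∈ normalizerIn S R := (normalizerIn S R).pow_mem ht₀N _
  have hcomm : t * u ^ (p ^ n) * t⁻¹ = u ^ (p ^ n) :=
    conj_pow_eq_of_class_le p n hRS hcl htN.1 htN.2 hj2 huR huC
  set y := u ^ (p ^ n) with hydef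
  set w := x ^ (p ^ n) with hwdef
  have hyR : y ∈ R := R.pow_mem huR _
  have hwZ : w ∈ Z := Z.pow_mem hxZ _
  -- `⟨w⟩` is fully centralized, hence receptive
  have hfc : F.IsFullyCentralized (Subgroup.zpowers w) := by
    refine ⟨by rw [Subgroup.zpowers_le]; exact hwZ.1, fun Q _ => ?_⟩
    rw [centralizerIn_zpowers_of_central hwZ.2]
    exact card_centralizerIn_le Q
  have hrec := receptive_of_fullyCentralized hS hF hfc
  obtain ⟨g, hg, e1, e2⟩ := hαi.symm
  have hgy : g y = w := by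
    rw [← hy]; exact e1 w hwR
  have hYR : Subgroup.zpowers y ≤ R := by rw [Subgroup.zpowers_le]; exact hyR
  have hgY : Mor F (Subgroup.zpowers y) g := hg.1.restrict hYR
  have hiso : Iso F (Subgroup.zpowers y) (Subgroup.zpowers w) g := by
    refine ⟨hgY, fun z => ⟨fun hz => ?_, ?_⟩⟩
    · obtain ⟨k, rfl⟩ := Subgroup.mem_zpowers_iff.1 hz
      refine ⟨y ^ k, Subgroup.zpow_mem_zpowers y k, ?_⟩
      rw [mor_map_zpow hg.1 hyR, hgy]
    · rintro ⟨v, hv, rfl⟩
      obtain ⟨k, rfl⟩ := Subgroup.mem_zpowers_iff.1 hv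
      rw [mor_map_zpow hg.1 hyR, hgy]
      exact Subgroup.zpow_mem_zpowers w k
  obtain ⟨ψ, hψ, eψ⟩ := (isReceptive_iff.1 hrec).2 _ g hiso
  -- `T = C_S(y)` contains `R` and `t`
  set T := centralizerIn S (Subgroup.zpowers y) with hT
  have hcentY : ∀ s : Ω, s * y = y * s → s ∈ Subgroup.centralizer ((Subgroup.zpowers y : Subgroup Ω) : Set Ω) := by
    intro s hs
    rw [Subgroup.mem_centralizer_iff]
    intro h hh
    obtain ⟨k, rfl⟩ := Subgroup.mem_zpowers_iff.1 hh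
    have h1 : Commute s y := hs
    exact ((h1.zpow_right k).eq).symm
  have hyC : y ∈ Subgroup.centralizer (R : Set Ω) := Subgroup.pow_mem _ huC _
  have hRT : R ≤ T := by
    intro r hr
    exact ⟨hRS hr, hcentY r (Subgroup.mem_centralizer_iff.1 hyC r hr)⟩
  have htT : t ∈ T := by
    refine ⟨htN.1, hcentY t ?_⟩
    have : t * y = (t * y * t⁻¹) * t := by group
    rw [this, hcomm]
  have hTS : T ≤ S := inf_le_left
  have hlt : Nat.card R < Nat.card T := card_lt_of_not_mem hRT hTS htT hj1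
  have hψT : Mor F T ψ := hψ.restrict hiso.centralizerIn_le_ext
  obtain ⟨ψ', hψ', e3, e4⟩ := (Iso.of_mor hψT).symm
  have hcard : Nat.card T = Nat.card hψT.image := (Iso.of_mor hψT).card_eq
  have hyT : y ∈ T := hRT hyR
  have hψy : ψ y = w := by
    rw [eψ y (Subgroup.mem_zpowers y), hgy]
  have hwI : w ∈ hψT.image := ⟨y, hyT, hψy⟩
  have := IH hψT.image ψ' hψ'.1 (by rw [← hcard]; exact hlt) w hwI (hWmem.2 ⟨x, hxZ, rfl⟩)
  rw [← hψy, e3 y hyT] at this
  exact this

end Cfsg.Agent.Helper86
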