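import Mathlib
import Cfsg.Agent.Lib.Helper9.BG147g

/-!
# Bender–Glauberman 14.7(f) for a not necessarily cyclic `K`: the clique of partners

`(M, K)` a `P`-pair.  For every subgroup `X ≤ K` of prime order and every maximal subgroup `H`
containing `N_G(X)`, helper9's `partner_main` gives a `P`-pair `(H, J)` with `J J* = K K*`.
If `M` and all these `H` are of type `P₁`, they form a clique to which helper9's `no_clique` applies.
If some `H` is not of type `P₁`, then `K ≤ H_σ` is nilpotent, hence cyclic.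
No rows are imported: they enter through helper9's `Rows G` and explicit hypotheses.
-/

set_option autoImplicit false
set_option linter.style.haveILetI false

namespace Cfsg.Agent.Helper86.BGClique

open Subgroup Cfsg
open scoped Pointwise
open Cfsg.Agent.Helper9.BG147
open Cfsg.Agent.Helper33
open Cfsg.Agent.Helper34.BG
open Cfsg.Agent.Helper55.BGB

variable {G : Type*} [Group G]

/-- A maximal subgroup over `N_G(X)`, for `X ≤ K` of prime order. -/
theorem exists_coatom_normalizer [Finite G] (hG : IsMinSimpleOddOrder G) {M K X : Subgroup G}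
    (pp : PPair M K) (hXK : X ≤ K) (hXp : (Nat.card X).Prime) :
    ∃ H : Subgroup G, IsCoatom H ∧ normalizer (X : Set G) ≤ H := by
  haveI := isSimple hG
  have hX1 : X ≠ ⊥ := by
    intro h; rw [h, Subgroup.card_bot] at hXp; exact Nat.not_prime_one hXp
  have hXt : X ≠ ⊤ := by
    intro h
    apply pp.coatom.1
    rw [eq_top_iff, ← h]
    exact hXK.trans pp.K_le
  exact exists_coatom_ge (Cfsg.Agent.Helper54.normalizer_ne_top_of_isSimpleGroup X hX1 hXt)

/-- A Hall `κ(M)`-subgroup is a Z-group. -/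
theorem isZGroup_of_hall_kappa [Finite G] {M K : Subgroup G}
    (hK : IsPiHallOf (kappa M) K M) : IsZGroup ↥K := by
  refine ⟨fun p hp P => ?_⟩
  have hA : IsCyclic ↥((P : Subgroup K).map K.subtype) := by
    apply isCyclic_of_hall_kappa hK p _ hp
    · rintro x ⟨y, -, rfl⟩
      exact y.2
    · exact P.2.map K.subtype
  exact ((P : Subgroup K).equivMapOfInjective K.subtype K.subtype_injective).isCyclic.mpr hA

/-- A nilpotent Hall `κ(M)`-subgroup is cyclic. -/
theorem isCyclic_of_nilpotent_hall_kappa [Finite G] {M K : Subgroup G}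
    (hK : IsPiHallOf (kappa M) K M) (hn : Group.IsNilpotent ↥K) : IsCyclic ↥K := by
  haveI := isZGroup_of_hall_kappa hK
  haveI := hn
  infer_instance

/-- **B1.** If some maximal subgroup `H` over `N_G(X)`, `X ≤ K` of prime order, is not of type
`P₁`, then `K` is cyclic. -/
theorem isCyclic_of_partner_not_P1 [Finite G] (hG : IsMinSimpleOddOrder G) (rows : Rows G)
    {M K : Subgroup G} (pp : PPair M K) {X H J : Subgroup G} (hXK : X ≤ K)
    (hXp : (Nat.card X).Prime) (hH : IsCoatom H) (hNX : normalizer (X : Set G) ≤ H)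
    (hJ : IsPiHallOf (kappa H) J H) (hKsJ : Ks M K ≤ J)
    (hnP1 : ¬ ∀ r : ℕ, r.Prime → r ∣ Nat.card H → r ∉ sigma H → r ∈ kappa H) :
    IsCyclic ↥K := by
  have hpm := partner_main rows hG pp hXK hXp hH hNX hJ hKsJ
  have ppH : PPair H J := hpm.1
  have hJsK : Ks H J ≤ K := hpm.2.2.1
  have hZeq : J ⊔ Ks H J = K ⊔ Ks M K := by
    first
      | exact hpm.2.2.2.2
      | exact hpm.2.2.2.2.1
  have hprime : (Nat.card J).Prime := ppH.card_prime_of_not_P1 hG (rows.h1429 H hH) hnP1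
  -- `J = K*`
  have hKs1 : Nat.card ↥(Ks M K) ≠ 1 := fun h => pp.Ks_ne_bot (Subgroup.card_eq_one.mp h)
  have hdvd : Nat.card ↥(Ks M K) ∣ Nat.card J := Subgroup.card_dvd_of_le hKsJ
  have hceq : Nat.card ↥(Ks M K) = Nat.card J :=
    ((Nat.dvd_prime hprime).mp hdvd).resolve_left hKs1
  -- orders: `#K = #J*`
  have hc1 := pp.card_Z
  have hc2 := ppH.card_Z
  rw [hZeq, hc1, ← hceq] at hc2
  have hpos : 0 < Nat.card ↥(Ks M K) := Nat.card_pos
  have hc3 : Nat.card K = Nat.card ↥(Ks H J) := by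
    have : Nat.card ↥(Ks M K) * Nat.card K = Nat.card ↥(Ks M K) * Nat.card ↥(Ks H J) := by
      rw [mul_comm, hc2]
    exact Nat.eq_of_mul_eq_mul_left hpos this
  have hJsEq : Ks H J = K := Subgroup.eq_of_le_of_card_ge hJsK (le_of_eq hc3)
  have hKσ : K ≤ sigmaCore H := by
    rw [← hJsEq]; exact ppH.Ks_le_sigmaCore
  -- `H_σ` is nilpotent
  have hnP1' := hnP1
  push Not at hnP1'
  obtain ⟨s, hs, hsH, hsσ, hsκ⟩ := hnP1'
  haveI : Fact s.Prime := ⟨hs⟩
  obtain ⟨S⟩ : Nonempty (Sylow s H) := inferInstance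
  have hnil : Group.IsNilpotent ↥(sigmaCore H) :=
    (rows.h1429 H hH hnP1 s hsH (fun h => h.elim hsσ hsκ) S).2
  have hKn : Group.IsNilpotent ↥K := by
    haveI := hnil
    exact Group.nilpotent_of_mulEquiv (Subgroup.subgroupOfEquivOfLe hKσ)
  exact isCyclic_of_nilpotent_hall_kappa pp.hall hKn

/-- The data attached to one maximal subgroup `H` over some `N_G(X)`. -/
theorem partner_data [Finite G] (hG : IsMinSimpleOddOrder G) (rows : Rows G)
    {M K : Subgroup G} (pp : PPair M K) {H : Subgroup G} (hH : IsCoatom H)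
    (hex : ∃ X : Subgroup G, X ≤ K ∧ (Nat.card X).Prime ∧ normalizer (X : Set G) ≤ H) :
    ∃ J : Subgroup G, IsPiHallOf (kappa H) J H ∧ Ks M K ≤ J ∧ PPair H J ∧
      J ⊔ Ks H J = K ⊔ Ks M K ∧
      ∀ X : Subgroup G, X ≤ K → (Nat.card X).Prime → normalizer (X : Set G) ≤ H →
        X ≤ Ks H J := by
  obtain ⟨X0, hX0K, hX0p, hNX0⟩ := hex
  obtain ⟨-, hZH, -, hκ⟩ := partner_basic rows pp hX0K hX0p hH hNX0
  have hsolH : Group.IsSolvable H := solvable_of_ne_top hG hH.1
  obtain ⟨J, hJ, hKsJ⟩ := exists_hall_ge (π := kappa H) hsolH (le_sup_right.trans hZH) hκ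
  have hpm := partner_main rows hG pp hX0K hX0p hH hNX0 hJ hKsJ
  have ppH : PPair H J := hpm.1
  have hZeq : J ⊔ Ks H J = K ⊔ Ks M K := by
    first
      | exact hpm.2.2.2.2
      | exact hpm.2.2.2.2.1
  refine ⟨J, hJ, hKsJ, ppH, hZeq, ?_⟩
  intro X hXK hXp hNX
  exact (partner_main rows hG pp hXK hXp hH hNX hJ hKsJ).2.1

/-- **B2.** If `M` and all maximal subgroups over the `N_G(X)`, `X ≤ K` of prime order, are of
type `P₁`, we have a clique, which is impossible. -/
theorem false_of_all_P1 [Finite G] (hG : IsMinSimpleOddOrder G) (rows : Rows G)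
    {M K : Subgroup G} (pp : PPair M K)
    (hP1M : Nat.card M = Nat.card ↥(sigmaCore M) * Nat.card K)
    (hP1 : ∀ X : Subgroup G, X ≤ K → (Nat.card X).Prime → ∀ H : Subgroup G, IsCoatom H →
      normalizer (X : Set G) ≤ H → ∀ J : Subgroup G, IsPiHallOf (kappa H) J H → Ks M K ≤ J →
      Nat.card H = Nat.card ↥(sigmaCore H) * Nat.card J)
    (h1377 : ∀ L : Subgroup G, IsCoatom L →
      Set.ncard (tildeOf L ((sigmaCore L : Set G) \ {1}))
        = (Nat.card ↥(sigmaCore L) - 1) * L.index)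
    (hdisj : ∀ M N : Subgroup G, IsCoatom M → IsCoatom N →
      (∀ g : G, N ≠ M.map (MulAut.conj g).toMonoidHom) →
      tildeOf M ((sigmaCore M : Set G) \ {1}) ∩ tildeOf N ((sigmaCore N : Set G) \ {1}) = ∅)
    (hT : ∀ (M K : Subgroup G), IsCoatom M → IsPiHallOf (kappa M) K M → K ≠ ⊥ →
      ∀ (k y : G), k ∈ K → k ≠ 1 → y ∈ sigmaCore M ⊓ centralizer (K : Set G) → y ≠ 1 →
      ∀ N : Subgroup G, IsCoatom N → ∀ g : G,
        g * (k * y) * g⁻¹ ∉ tildeOf N ((sigmaCore N : Set G) \ {1})) : False := by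
  classical
  -- the index type
  let P : Subgroup G → Prop := fun L =>
    L = M ∨ (IsCoatom L ∧ ∃ X : Subgroup G, X ≤ K ∧ (Nat.card X).Prime ∧
      normalizer (X : Set G) ≤ L)
  let ι := {L : Subgroup G // P L}
  letI : Fintype ι := Fintype.ofFinite ι
  -- partners are different from `M`
  have hneM : ∀ H : Subgroup G, IsCoatom H → (∃ X : Subgroup G, X ≤ K ∧ (Nat.card X).Prime ∧
      normalizer (X : Set G) ≤ H) → H ≠ M := by
    rintro H hH ⟨X, hXK, hXp, hNX⟩ h
    obtain ⟨-, -, hnc, -⟩ := partner_basic rows pp hXK hXp hH hNX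
    apply hnc 1
    rw [map_one, one_smul, h]
  -- the choice of `J`
  have hJex : ∀ i : ι, ∃ J : Subgroup G, PPair i.1 J ∧ J ⊔ Ks i.1 J = K ⊔ Ks M K ∧
      Nat.card i.1 = Nat.card ↥(sigmaCore i.1) * Nat.card J ∧ (i.1 = M → J = K) ∧
      (i.1 ≠ M → ∀ X : Subgroup G, X ≤ K → (Nat.card X).Prime →
        normalizer (X : Set G) ≤ i.1 → X ≤ Ks i.1 J) := by
    rintro ⟨L, hL⟩
    by_cases hLM : L = M
    · subst hLM
      exact ⟨K, pp, rfl, hP1M, fun _ => rfl, fun h => absurd rfl h⟩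
    · obtain ⟨hLc, hex⟩ := hL.resolve_left hLM
      obtain ⟨J, hJ, hKsJ, ppL, hZeq, hXs⟩ := partner_data hG rows pp hLc hex
      obtain ⟨X0, hX0K, hX0p, hNX0⟩ := hex
      exact ⟨J, ppL, hZeq, hP1 X0 hX0K hX0p L hLc hNX0 J hJ hKsJ, fun h => absurd h hLM,
        fun _ => hXs⟩
  choose J hJ using hJex
  let L : ι → Subgroup G := fun i => i.1
  have hKsZ : ∀ i : ι, K ⊔ Ks M K ≤ i.1 := by
    rintro ⟨L', hL'⟩
    by_cases hLM : L' = M
    · subst hLM; exact pp.Z_le
    · obtain ⟨hLc, X, hXK, hXp, hNX⟩ := hL'.resolve_left hLM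
      exact (partner_basic rows pp hXK hXp hLc hNX).2.1
  have i0 : ι := ⟨M, Or.inl rfl⟩
  -- a second index
  obtain ⟨X1, hX1K, hX1p⟩ := exists_prime_card_le pp.ne
  obtain ⟨H1, hH1, hNX1⟩ := exists_coatom_normalizer hG pp hX1K hX1p
  have hι : 2 ≤ Fintype.card ι := by
    have : 1 < Fintype.card ι := by
      rw [Fintype.one_lt_card_iff]
      refine ⟨⟨M, Or.inl rfl⟩, ⟨H1, Or.inr ⟨hH1, X1, hX1K, hX1p, hNX1⟩⟩, ?_⟩
      intro h
      exact hneM H1 hH1 ⟨X1, hX1K, hX1p, hNX1⟩ (congrArg Subtype.val h).symm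
    omega
  refine no_clique hG hι L J (K ⊔ Ks M K) (fun i => (hJ i).1) (fun i => (hJ i).2.1) ?_
    (fun i => (hJ i).2.2.1) ?_ (fun i => h1377 (L i) (hJ i).1.coatom) hdisj ?_
  · -- `hinf`
    intro z _ hzall
    by_contra hz1
    have hzK : z ∈ K := by
      have := hzall ⟨M, Or.inl rfl⟩
      rwa [(hJ ⟨M, Or.inl rfl⟩).2.2.2.1 rfl] at this
    have hzp1 : zpowers z ≠ ⊥ := by
      rw [Ne, Subgroup.zpowers_eq_bot]; exact hz1
    obtain ⟨X, hXz, hXp⟩ := exists_prime_card_le hzp1
    have hXK : X ≤ K := hXz.trans ((Subgroup.zpowers_le).mpr hzK)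
    obtain ⟨H, hH, hNX⟩ := exists_coatom_normalizer hG pp hXK hXp
    have hHM : H ≠ M := hneM H hH ⟨X, hXK, hXp, hNX⟩
    let i1 : ι := ⟨H, Or.inr ⟨hH, X, hXK, hXp, hNX⟩⟩
    have h1 : X ≤ J i1 := hXz.trans ((Subgroup.zpowers_le).mpr (hzall i1))
    have h2 : X ≤ Ks H (J i1) := (hJ i1).2.2.2.2 hHM X hXK hXp hNX
    have h3 : X ≤ J i1 ⊓ sigmaCore H := le_inf h1 (h2.trans (hJ i1).1.Ks_le_sigmaCore)
    rw [(hJ i1).1.K_inf_sigmaCore, le_bot_iff] at h3
    rw [h3, Subgroup.card_bot] at hXp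
    exact Nat.not_prime_one hXp
  · -- `hnc`
    intro i j hij g hg
    by_cases hi : i.1 = M
    · by_cases hj : j.1 = M
      · exact hij (Subtype.ext (hi.trans hj.symm))
      · obtain ⟨hjc, X, hXK, hXp, hNX⟩ := j.2.resolve_left hj
        obtain ⟨-, -, hnc, -⟩ := partner_basic rows pp hXK hXp hjc hNX
        apply hnc g⁻¹
        have h1 : (L j) = MulAut.conj g • M := by
          have : L i = M := hi
          rw [hg, this]; rfl
        show MulAut.conj g⁻¹ • j.1 = M
        have : j.1 = MulAut.conj g • M := h1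
        rw [this, map_inv, inv_smul_smul]
    · obtain ⟨hic, X, hXK, hXp, hNX⟩ := i.2.resolve_left hi
      by_cases hj : j.1 = M
      · obtain ⟨-, -, hnc, -⟩ := partner_basic rows pp hXK hXp hic hNX
        apply hnc g
        have : L j = M := hj
        rw [← this, hg]; rfl
      · -- both are partners
        have hXs : X ≤ Ks i.1 (J i) := (hJ i).2.2.2.2 hi X hXK hXp hNX
        have hXj : X ≤ j.1 := (hXK.trans le_sup_left).trans (hKsZ j)
        have hX1 : X ≠ ⊥ := by
          intro h; rw [h, Subgroup.card_bot] at hXp; exact Nat.not_prime_one hXp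
        have hgi : g ∈ i.1 := by
          by_contra hgn
          have hti := (hJ i).1.ti g hgn
          have hle : X ≤ Ks i.1 (J i) ⊓ (i.1).map (MulAut.conj g).toMonoidHom := by
            refine le_inf hXs ?_
            have : L j = (L i).map (MulAut.conj g).toMonoidHom := hg
            exact hXj.trans (le_of_eq this)
          rw [hti, le_bot_iff] at hle
          exact hX1 hle
        apply hij
        apply Subtype.ext
        have h2 : (i.1).map (MulAut.conj g).toMonoidHom = i.1 := by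
          rw [map_conj_eq_smul]
          exact Subgroup.conj_smul_eq_self_of_mem hgi
        have : L j = (L i).map (MulAut.conj g).toMonoidHom := hg
        exact (this.trans h2).symm
  · -- `hT`
    intro i k hk hk1 y hy hy1 j g
    exact hT (L i) (J i) (hJ i).1.coatom (hJ i).1.hall (hJ i).1.ne k y hk hk1 hy hy1 (L j)
      (hJ j).1.coatom g

end Cfsg.Agent.Helper86.BGClique
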