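import Mathlib
import Cfsg.Agent.Lib.Helper32.C3Defs
import Cfsg.Agent.Lib.Helper63.HeisES

/-!
# C3 (TR): transfer between `S`/`E` and the abstract configuration `Cfg`
(helper32 server #6214, S4415)
-/

set_option autoImplicit false

namespace Cfsg.Agent.Helper86.C3

open Cfsg.Agent.Helper32.C3

universe u v

section TRdefs

variable {S : Type u} [Group S] {E : Type v} [AddCommGroup E] [Module (ZMod 3) E]

/-- the restricted representation of `↥K` on `↥F₀` -/
noncomputable def h86_resRep (ρ : Representation (ZMod 3) S E) (K : Subgroup S)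
    (F₀ : Submodule (ZMod 3) E) (hinv : Inv ρ K F₀) : Representation (ZMod 3) ↥K ↥F₀ where
  toFun g := (ρ (g : S)).restrict (fun v hv => hinv g g.2 v hv)
  map_one' := by
    ext v
    simp
  map_mul' := by
    intro g h
    ext v
    simp

theorem h86_resRep_coe (ρ : Representation (ZMod 3) S E) (K : Subgroup S)
    (F₀ : Submodule (ZMod 3) E) (hinv : Inv ρ K F₀) (g : ↥K) (w : ↥F₀) :
    ((h86_resRep ρ K F₀ hinv g w : ↥F₀) : E) = ρ (g : S) (w : E) := rfl

theorem h86_dl_coe (ρ : Representation (ZMod 3) S E) (K : Subgroup S)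
    (F₀ : Submodule (ZMod 3) E) (hinv : Inv ρ K F₀) (g : ↥K) (w : ↥F₀) :
    ((dl (h86_resRep ρ K F₀ hinv) g w : ↥F₀) : E) = dl ρ (g : S) (w : E) := by
  rw [dl_apply, dl_apply, Submodule.coe_sub, h86_resRep_coe]

theorem h86_map_range_dl (ρ : Representation (ZMod 3) S E) (K : Subgroup S)
    (F₀ : Submodule (ZMod 3) E) (hinv : Inv ρ K F₀) (g : ↥K) :
    (LinearMap.range (dl (h86_resRep ρ K F₀ hinv) g)).map F₀.subtype = F₀.map (dl ρ (g : S)) := by
  ext x
  constructor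
  · rintro ⟨y, ⟨w, rfl⟩, rfl⟩
    exact ⟨(w : E), w.2, (h86_dl_coe ρ K F₀ hinv g w).symm⟩
  · rintro ⟨v, hv, rfl⟩
    exact ⟨dl (h86_resRep ρ K F₀ hinv) g ⟨v, hv⟩, ⟨⟨v, hv⟩, rfl⟩,
      h86_dl_coe ρ K F₀ hinv g ⟨v, hv⟩⟩

theorem h86_map_range_dl_sq (ρ : Representation (ZMod 3) S E) (K : Subgroup S)
    (F₀ : Submodule (ZMod 3) E) (hinv : Inv ρ K F₀) (g : ↥K) :
    (LinearMap.range (dl (h86_resRep ρ K F₀ hinv) g * dl (h86_resRep ρ K F₀ hinv) g)).map
      F₀.subtype = F₀.map (dl ρ (g : S) * dl ρ (g : S)) := by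
  ext x
  constructor
  · rintro ⟨y, ⟨w, rfl⟩, rfl⟩
    refine ⟨(w : E), w.2, ?_⟩
    rw [Module.End.mul_apply, Module.End.mul_apply]
    change _ = ((dl (h86_resRep ρ K F₀ hinv) g (dl (h86_resRep ρ K F₀ hinv) g w) : ↥F₀) : E)
    rw [h86_dl_coe, h86_dl_coe]
  · rintro ⟨v, hv, rfl⟩
    refine ⟨(dl (h86_resRep ρ K F₀ hinv) g * dl (h86_resRep ρ K F₀ hinv) g) ⟨v, hv⟩,
      ⟨⟨v, hv⟩, rfl⟩, ?_⟩
    rw [Module.End.mul_apply, Module.End.mul_apply]
    change ((dl (h86_resRep ρ K F₀ hinv) g (dl (h86_resRep ρ K F₀ hinv) g ⟨v, hv⟩) : ↥F₀) : E) = _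
    rw [h86_dl_coe, h86_dl_coe]

end TRdefs

section TRmain

variable {S : Type u} [Group S] [Finite S] {E : Type v} [AddCommGroup E] [Module (ZMod 3) E]
  [Finite E]

/-- the `Cfg` of the restricted configuration -/
theorem h86_cfg (ρ : Representation (ZMod 3) S E) (R Q : Subgroup S) (b : S)
    (F₀ : Submodule (ZMod 3) E) (hsolv : Group.IsSolvable S)
    (hfaith : ∀ g ∈ R ⊔ Subgroup.zpowers b, (∀ v ∈ F₀, ρ g v = v) → g = 1)
    (hinv : Inv ρ (R ⊔ Subgroup.zpowers b) F₀)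
    (hirr : ∀ N : Submodule (ZMod 3) E, N ≤ F₀ → Inv ρ (R ⊔ Subgroup.zpowers b) N →
      N = ⊥ ∨ N = F₀)
    (hbR : b ∈ Subgroup.normalizer (R : Set S)) (hRc : (Nat.card ↥R).Coprime 3)
    (hb3 : b ^ 3 = 1) (hcomm : ⁅R, Subgroup.zpowers b⁆ = R)
    (hcub : Module.finrank (ZMod 3) ↥(F₀.map (dl ρ b)) = 2 ∧
      Module.finrank (ZMod 3) ↥(F₀.map (dl ρ b * dl ρ b)) = 1)
    (hQR : Q ≤ R) (hQ : Four Q b) :
    Cfg (h86_resRep ρ (R ⊔ Subgroup.zpowers b) F₀ hinv)
      (R.subgroupOf (R ⊔ Subgroup.zpowers b)) (Q.subgroupOf (R ⊔ Subgroup.zpowers b))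
      (⟨b, le_sup_right (a := R) (Subgroup.mem_zpowers b)⟩ : ↥(R ⊔ Subgroup.zpowers b)) := by
  have hRK : R ≤ R ⊔ Subgroup.zpowers b := le_sup_left
  have hbK : b ∈ R ⊔ Subgroup.zpowers b := le_sup_right (a := R) (Subgroup.mem_zpowers b)
  have hzN : Subgroup.zpowers b ≤ Subgroup.normalizer (R : Set S) := by
    rw [Subgroup.zpowers_le]; exact hbR
  refine ⟨?_, ?_, ?_, ?_, ?_, ?_, ?_, ?_, ?_, ?_, ?_⟩
  · -- faith
    rw [injective_iff_map_eq_one]
    intro g hg
    have : (g : S) = 1 := by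
      apply hfaith g g.2
      intro v hv
      have := congrArg (fun f : Module.End (ZMod 3) ↥F₀ => ((f ⟨v, hv⟩ : ↥F₀) : E)) hg
      simpa [h86_resRep_coe] using this
    exact Subtype.ext this
  · -- irred
    intro N hN
    have hN' : Inv ρ (R ⊔ Subgroup.zpowers b) (N.map F₀.subtype) := by
      rintro h hh _ ⟨w, hw, rfl⟩
      exact ⟨h86_resRep ρ _ F₀ hinv ⟨h, hh⟩ w, hN ⟨h, hh⟩ (Subgroup.mem_top _) w hw, rfl⟩
    rcases hirr _ (Submodule.map_subtype_le F₀ N) hN' with h0 | h1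
    · left
      rw [eq_bot_iff]
      intro w hw
      have : (w : E) ∈ N.map F₀.subtype := ⟨w, hw, rfl⟩
      rw [h0, Submodule.mem_bot] at this
      rw [Submodule.mem_bot]
      exact Subtype.ext this
    · right
      rw [eq_top_iff]
      intro w _
      have : (w : E) ∈ N.map F₀.subtype := by rw [h1]; exact w.2
      obtain ⟨w', hw', hww⟩ := this
      have : w' = w := Subtype.ext hww
      exact this ▸ hw'
  · -- solv
    have := hsolv
    infer_instance
  · -- Rn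
    rw [Subgroup.normal_subgroupOf_iff_le_normalizer hRK]
    exact sup_le Subgroup.le_normalizer hzN
  · -- Rcop
    rw [Nat.card_congr (Subgroup.subgroupOfEquivOfLe hRK).toEquiv]
    exact hRc
  · -- b3
    exact Subtype.ext (by simpa using hb3)
  · -- RB
    intro g
    have hg : (g : S) ∈ ((R ⊔ Subgroup.zpowers b : Subgroup S) : Set S) := g.2
    rw [Subgroup.coe_mul_of_right_le_normalizer_left R (Subgroup.zpowers b) hzN] at hg
    obtain ⟨r, hr, c, hc, hrc⟩ := hg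
    have hc' : c ∈ Submonoid.powers b :=
      mem_powers_iff_mem_zpowers.mpr hc
    obtain ⟨i, rfl⟩ := hc'
    refine ⟨⟨r, hRK hr⟩, ?_, i, ?_⟩
    · exact Subgroup.mem_subgroupOf.mpr hr
    · exact Subtype.ext (by simpa using hrc.symm)
  · -- comm
    apply Subgroup.map_injective (Subgroup.subtype_injective (R ⊔ Subgroup.zpowers b))
    rw [Subgroup.map_commutator, MonoidHom.map_zpowers, Subgroup.map_subgroupOf_eq_of_le hRK]
    exact hcomm
  · -- cubic
    constructor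
    · rw [← Submodule.finrank_map_subtype_eq F₀, h86_map_range_dl]
      exact hcub.1
    · rw [← Submodule.finrank_map_subtype_eq F₀, h86_map_range_dl_sq]
      exact hcub.2
  · -- QR
    intro x hx
    exact Subgroup.mem_subgroupOf.mpr (hQR (Subgroup.mem_subgroupOf.mp hx))
  · -- four
    obtain ⟨h4, hsq, hcj, q, hq, hqne⟩ := hQ
    refine ⟨?_, ?_, ?_, ?_⟩
    · rw [Nat.card_congr (Subgroup.subgroupOfEquivOfLe (hQR.trans hRK)).toEquiv]
      exact h4
    · intro x hx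
      exact Subtype.ext (by simpa using hsq _ (Subgroup.mem_subgroupOf.mp hx))
    · intro x hx
      exact Subgroup.mem_subgroupOf.mpr (by simpa using hcj _ (Subgroup.mem_subgroupOf.mp hx))
    · refine ⟨⟨q, hRK (hQR hq)⟩, Subgroup.mem_subgroupOf.mpr hq, ?_⟩
      intro h
      exact hqne (by simpa using congrArg Subtype.val h)

/-- transfer of `Concl` from `R.subgroupOf K` back to `R` -/
theorem h86_concl_back (K R : Subgroup S) (hRK : R ≤ K) (h : Concl (R.subgroupOf K)) :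
    Concl R := by
  let e : ↥(R.subgroupOf K) ≃* ↥R := Subgroup.subgroupOfEquivOfLe hRK
  have hcard : Nat.card ↥(R.subgroupOf K) = Nat.card ↥R := Nat.card_congr e.toEquiv
  rcases h with ⟨⟨hcomm, hexp⟩, h4⟩ | ⟨hes, h32, A', hA'R, ⟨hA'comm, hA'exp⟩, hA'8⟩
  · left
    refine ⟨⟨⟨⟨fun x y => ?_⟩⟩, ?_⟩, hcard ▸ h4⟩
    · have := hcomm.is_comm.comm (e.symm x) (e.symm y)
      have h2 := congrArg e this
      simpa using h2
    · intro a ha
      have := hexp ⟨a, hRK ha⟩ (Subgroup.mem_subgroupOf.mpr ha)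
      simpa using congrArg Subtype.val this
  · right
    refine ⟨Cfsg.Agent.Helper63.isExtraspecial_of_mulEquiv e hes, hcard ▸ h32,
      A'.map K.subtype, ?_, ⟨?_, ?_⟩, ?_⟩
    · rintro _ ⟨y, hy, rfl⟩
      exact Subgroup.mem_subgroupOf.mp (hA'R hy)
    · let f : ↥A' ≃* ↥(A'.map K.subtype) :=
        A'.equivMapOfInjective K.subtype K.subtype_injective
      refine ⟨⟨fun x y => ?_⟩⟩
      have := hA'comm.is_comm.comm (f.symm x) (f.symm y)
      have h2 := congrArg f this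
      simpa using h2
    · rintro _ ⟨y, hy, rfl⟩
      have := hA'exp y hy
      simpa using congrArg Subtype.val this
    · rw [← hA'8]
      exact (Nat.card_congr (A'.equivMapOfInjective K.subtype K.subtype_injective).toEquiv).symm

/-- **TR.** Transfer. -/
theorem transfer (ρ : Representation (ZMod 3) S E) (R Q : Subgroup S) (b : S)
    (F₀ : Submodule (ZMod 3) E) (hsolv : Group.IsSolvable S)
    (hfaith : ∀ g ∈ R ⊔ Subgroup.zpowers b, (∀ v ∈ F₀, ρ g v = v) → g = 1)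
    (hinv : Inv ρ (R ⊔ Subgroup.zpowers b) F₀)
    (hirr : ∀ N : Submodule (ZMod 3) E, N ≤ F₀ → Inv ρ (R ⊔ Subgroup.zpowers b) N →
      N = ⊥ ∨ N = F₀)
    (hbR : b ∈ Subgroup.normalizer (R : Set S)) (hRc : (Nat.card ↥R).Coprime 3)
    (hb3 : b ^ 3 = 1) (hcomm : ⁅R, Subgroup.zpowers b⁆ = R)
    (hcub : Module.finrank (ZMod 3) ↥(F₀.map (dl ρ b)) = 2 ∧
      Module.finrank (ZMod 3) ↥(F₀.map (dl ρ b * dl ρ b)) = 1)
    (hQR : Q ≤ R) (hQ : Four Q b)
    (hII : ∀ {G : Type u} [Group G] [Finite G] {V : Type v} [AddCommGroup V] [Module (ZMod 3) V]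
      [Finite V] (ρ' : Representation (ZMod 3) G V) (R' Q' : Subgroup G) (b' : G),
      Cfg ρ' R' Q' b' → Concl R') :
    Concl R := by
  have hcfg := h86_cfg ρ R Q b F₀ hsolv hfaith hinv hirr hbR hRc hb3 hcomm hcub hQR hQ
  exact h86_concl_back (R ⊔ Subgroup.zpowers b) R le_sup_left (hII _ _ _ _ hcfg)

end TRmain

end Cfsg.Agent.Helper86.C3
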