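import Cfsg.Agent.Lib.Helper55.CD3Defs
import Cfsg.Agent.Lib.Helper80.FrobSchur

set_option autoImplicit false
set_option linter.unusedVariables false
set_option linter.unusedSectionVars false
set_option linter.style.haveILetI false

/-!
# CD3 (T0): exactly three character degrees are `1 < m < n`
-/

namespace Cfsg.Agent.Helper86.CD3

open Cfsg Cfsg.Agent.Helper79 Cfsg.Agent.Helper81 Cfsg.Agent.Helper55.CD3
open scoped ComplexConjugate

universe u

section general
variable {G : Type u} [Group G] [Finite G]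

/-- (T0) [easy] three degrees: they are `1 < m < n` (the trivial character has degree 1, degrees are positive). -/
theorem extract
    (hcd : Nat.card {n : ℕ // ∃ χ : IrrCharacter G, charDegree (χ : G → ℂ) = n} = 3) :
    ∃ m n : ℕ, 1 < m ∧ m < n ∧ CD3 G m n ∧ HasDeg G m ∧ HasDeg G n := by
  classical
  set D : Set ℕ := {n : ℕ | ∃ χ : IrrCharacter G, charDegree (χ : G → ℂ) = n} with hD
  have hcd' : Nat.card ↥D = 3 := hcd
  have hfin : Finite ↥D := Nat.finite_of_card_ne_zero (by rw [hcd']; norm_num)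
  have hDfin : D.Finite := Set.toFinite D
  have hncard : D.ncard = 3 := by
    rw [← hcd]
    rfl
  -- `1 ∈ D`
  have h1D : 1 ∈ D := by
    refine ⟨Cfsg.Agent.Helper80.trivialIrr G, ?_⟩
    have h := (irr_one_eq (Cfsg.Agent.Helper80.trivialIrr G)).1
    rw [Cfsg.Agent.Helper80.trivialIrr_apply] at h
    exact_mod_cast h.symm
  have hpos : ∀ d ∈ D, 0 < d := by
    rintro d ⟨χ, rfl⟩
    exact (irr_one_eq χ).2
  -- remove `1`
  have hD1 : (D \ {1}).ncard = 2 := by
    rw [Set.ncard_sdiff_singleton_of_mem h1D, hncard]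
  obtain ⟨a, b, hab, hset⟩ := Set.ncard_eq_two.mp hD1
  have haD : a ∈ D \ {1} := by rw [hset]; simp
  have hbD : b ∈ D \ {1} := by rw [hset]; simp
  have ha1 : 1 < a := by
    have := hpos a haD.1
    have h2 : a ≠ 1 := fun h => haD.2 (by rw [h]; rfl)
    omega
  have hb1 : 1 < b := by
    have := hpos b hbD.1
    have h2 : b ≠ 1 := fun h => hbD.2 (by rw [h]; rfl)
    omega
  have hall : ∀ χ : IrrCharacter G, charDegree (χ : G → ℂ) = 1 ∨ charDegree (χ : G → ℂ) = a ∨
      charDegree (χ : G → ℂ) = b := by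
    intro χ
    by_cases h1 : charDegree (χ : G → ℂ) = 1
    · exact Or.inl h1
    · right
      have hmem : charDegree (χ : G → ℂ) ∈ D \ {1} := ⟨⟨χ, rfl⟩, h1⟩
      rw [hset] at hmem
      rcases hmem with h | h
      · exact Or.inl h
      · exact Or.inr h
  rcases lt_or_gt_of_ne hab with hlt | hlt
  · exact ⟨a, b, ha1, hlt, hall, haD.1, hbD.1⟩
  · refine ⟨b, a, hb1, hlt, ?_, hbD.1, haD.1⟩
    intro χ
    rcases hall χ with h | h | h
    · exact Or.inl h
    · exact Or.inr (Or.inr h)
    · exact Or.inr (Or.inl h)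

end general

end Cfsg.Agent.Helper86.CD3
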