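import Cfsg.Agent.Lib.Helper55.CD3Defs

set_option autoImplicit false
set_option linter.unusedVariables false
set_option linter.unusedSectionVars false
set_option linter.style.haveILetI false

/-!
# CD3 (T2), (T2s): at most two character degrees `{1, x}` give an abelian commutator subgroup
-/

namespace Cfsg.Agent.Helper86.CD3

open Cfsg Cfsg.Agent.Helper79 Cfsg.Agent.Helper81 Cfsg.Agent.Helper55.CD3
open scoped ComplexConjugate

universe u

section general
variable {G : Type u} [Group G] [Finite G]

/-- (T2) [easy] at most two degrees `{1,x}` ⇒ `G'' = 1` (S4458.result if `x ≠ 1` occurs, else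
`CD2.comm_of_all_linear`). -/
theorem two_deg (x : ℕ)
    (h : ∀ χ : IrrCharacter G, charDegree (χ : G → ℂ) = 1 ∨ charDegree (χ : G → ℂ) = x) :
    derivedSeries G 2 = ⊥ := by
  have hcomm : ∀ a ∈ commutator G, ∀ b ∈ commutator G, a * b = b * a := by
    by_cases hx : x ≠ 1 ∧ ∃ χ : IrrCharacter G, charDegree (χ : G → ℂ) = x
    · exact Cfsg.Agent.S4458.result x h hx.2 hx.1
    · have hlin : ∀ χ : IrrCharacter G, charDegree (χ : G → ℂ) = 1 := by
        intro χ
        rcases h χ with h1 | h1
        · exact h1
        · by_cases hx1 : x = 1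
          · rw [h1, hx1]
          · exact absurd ⟨hx1, χ, h1⟩ hx
      intro a _ b _
      exact Cfsg.Agent.Helper76.CD2.comm_of_all_linear hlin a b
  rw [derivedSeries_succ, derivedSeries_one, Subgroup.commutator_eq_bot_iff_le_centralizer]
  intro a ha
  rw [Subgroup.mem_centralizer_iff]
  intro b hb
  exact hcomm b hb a ha

/-- (T2s) [easy] subgroup form of (T2). -/
theorem two_deg_sub (F : Subgroup G) (x : ℕ)
    (h : ∀ θ : IrrCharacter F, charDegree (θ : F → ℂ) = 1 ∨ charDegree (θ : F → ℂ) = x) :
    ⁅⁅F, F⁆, ⁅F, F⁆⁆ = ⊥ := by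
  have h2 : derivedSeries ↥F 2 = ⊥ := two_deg x h
  have h3 := congrArg (Subgroup.map F.subtype) h2
  rw [derivedSeries_succ, derivedSeries_one, Subgroup.map_commutator, commutator_def,
    Subgroup.map_commutator, ← MonoidHom.range_eq_map, Subgroup.range_subtype, Subgroup.map_bot] at h3
  exact h3

end general

end Cfsg.Agent.Helper86.CD3
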