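import Mathlib

/-!
# ES pieces (AR5) + (AR3) for helper97's S5877 server: pure `ℕ` arithmetic
-/

set_option autoImplicit false

namespace Cfsg.Agent.Helper86.ES

/-- **(AR5) arithmetic, ϖ ≥ 5.** -/
theorem arith_five (ϖ r n w N f i j : ℕ) (hϖ : ϖ.Prime) (h5 : 5 ≤ ϖ) (hr : r.Prime) (hne : ϖ ≠ r)
    (hodd : Odd r) (hi : 2 ≤ i) (hn : n * n = r ^ i * r ^ j) (hf : f = r ^ j)
    (hdiv : ϖ ∣ n * n - f) (hw : w * w ≤ N) (hN : ϖ * N + f ≤ ϖ * f + n * n) : 2 * w ≤ n := by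
  by_contra hcon
  push Not at hcon
  have hr3 : 3 ≤ r := by
    rcases hodd with ⟨k, hk⟩
    have := hr.two_le
    omega
  have hfpos : 0 < f := by rw [hf]; exact pow_pos hr.pos j
  have hI9 : 9 ≤ r ^ i := by
    calc 9 = 3 ^ 2 := by norm_num
      _ ≤ r ^ 2 := Nat.pow_le_pow_left hr3 2
      _ ≤ r ^ i := Nat.pow_le_pow_right hr.pos hi
  have hn' : n * n = r ^ i * f := by rw [hn, hf]
  obtain ⟨I, hI⟩ : ∃ I, I = r ^ i := ⟨_, rfl⟩
  rw [← hI] at hI9 hn'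
  have h4 : n * n < 4 * (w * w) := by nlinarith
  have h4N : n * n < 4 * N := by omega
  have h1 : ϖ * (n * n) < 4 * (ϖ * N) := by nlinarith
  have h2 : ϖ * (n * n) + 4 * f < 4 * (ϖ * f) + 4 * (n * n) := by omega
  rw [hn'] at h2
  have h3 : ϖ * I + 4 < 4 * ϖ + 4 * I := by
    by_contra hc
    push Not at hc
    have : (4 * ϖ + 4 * I) * f ≤ (ϖ * I + 4) * f := Nat.mul_le_mul_right f hc
    nlinarith
  have hϖ6 : ϖ ≤ 6 := by
    by_contra hc
    push Not at hc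
    nlinarith
  have hϖ5 : ϖ = 5 := by
    interval_cases ϖ
    · rfl
    · exact absurd hϖ (by norm_num)
  subst hϖ5
  have hI16 : I < 16 := by omega
  have hr4 : r < 4 := by
    by_contra hc
    push Not at hc
    have : 4 ^ 2 ≤ r ^ i :=
      le_trans (Nat.pow_le_pow_left hc 2) (Nat.pow_le_pow_right hr.pos hi)
    omega
  have hr3' : r = 3 := by omega
  subst hr3'
  have hi2 : i = 2 := by
    by_contra hc
    have h3i : 3 ≤ i := by omega
    have : 3 ^ 3 ≤ 3 ^ i := Nat.pow_le_pow_right (by norm_num) h3i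
    omega
  subst hi2
  have hI9' : I = 9 := by rw [hI]; norm_num
  subst hI9'
  have h8 : 9 * f - f = 8 * f := by omega
  rw [hn', h8, hf] at hdiv
  have h58 : Nat.Coprime 5 8 := by norm_num
  have h53 : 5 ∣ 3 ^ j := h58.dvd_of_dvd_mul_left hdiv
  have := (Nat.Prime.dvd_of_dvd_pow (by norm_num : Nat.Prime 5) h53)
  omega

/-- **(AR3) arithmetic, ϖ = 3, r ≥ 5.** -/
theorem arith_three (r n w N f i j : ℕ) (hr : r.Prime) (hr5 : 5 ≤ r) (hi : 2 ≤ i)
    (hn : n * n = r ^ i * r ^ j) (hf : f = r ^ j) (hwn : w ≤ n)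
    (hw : 2 * (w * w) + (n - w) * (n - w) ≤ 2 * N) (hN : 3 * N + f ≤ 3 * f + n * n) :
    2 * w ≤ n := by
  by_contra hcon
  push Not at hcon
  have hfpos : 0 < f := by rw [hf]; exact pow_pos hr.pos j
  have hI25 : 25 ≤ r ^ i := by
    calc 25 = 5 ^ 2 := by norm_num
      _ ≤ r ^ 2 := Nat.pow_le_pow_left hr5 2
      _ ≤ r ^ i := Nat.pow_le_pow_right hr.pos hi
  have hn' : n * n = r ^ i * f := by rw [hn, hf]
  obtain ⟨I, hI⟩ : ∃ I, I = r ^ i := ⟨_, rfl⟩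
  rw [← hI] at hI25 hn'
  obtain ⟨d, rfl⟩ : ∃ d, n = w + d := ⟨n - w, by omega⟩
  have hd : w + d - w = d := by omega
  rw [hd] at hw
  have hwd : d + 1 ≤ w := by omega
  -- (2w - d)^2 ≤ 4 f, written additively
  have h6 : 3 * (2 * (w * w) + d * d) + 2 * f ≤ 6 * f + 2 * ((w + d) * (w + d)) := by omega
  have h25 : 25 * f ≤ (w + d) * (w + d) := by
    rw [hn']; exact Nat.mul_le_mul_right f hI25
  nlinarith

end Cfsg.Agent.Helper86.ES
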