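import Mathlib
import Cfsg.Agent.Lib.Helper86.ESREC

/-!
# ES piece (QUAD) for helper97's S5877 server (second seat)
An operator killed by a quadratic polynomial has a commutant of dimension `≥ (dim V)² / 2`.
-/

set_option autoImplicit false

namespace Cfsg.Agent.Helper86.ES

section lin

variable {F V : Type*} [Field F] [AddCommGroup V] [Module F V] [FiniteDimensional F V]

theorem quad_noroot (T : Module.End F V) (α β : F) (h : T * T + α • T + β • 1 = 0)
    (hno : ∀ c : F, c * c + α * c + β ≠ 0) :
    Module.finrank F V * Module.finrank F V ≤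
      2 * Module.finrank F (Subalgebra.centralizer F ({T} : Set (Module.End F V))) := by
  classical
  obtain ⟨q, hq⟩ : ∃ q : Polynomial F,
      q = Polynomial.X ^ 2 + Polynomial.C α * Polynomial.X + Polynomial.C β := ⟨_, rfl⟩
  have hqmonic : q.Monic := by rw [hq]; monicity!
  have hqdeg : q.natDegree = 2 := by rw [hq]; compute_degree!
  have hqirr : Irreducible q := by
    apply Polynomial.irreducible_of_degree_le_three_of_not_isRoot
    · rw [hqdeg]; decide
    · intro x hx
      apply hno x
      rw [Polynomial.IsRoot.def, hq] at hx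
      simpa [pow_two] using hx
  have : Fact (Irreducible q) := ⟨hqirr⟩
  have haeval : Polynomial.aeval T q = 0 := by
    rw [hq]
    simp only [map_add, map_mul, map_pow, Polynomial.aeval_X, Polynomial.aeval_C]
    rw [← h, pow_two, Algebra.algebraMap_eq_smul_one, Algebra.algebraMap_eq_smul_one,
      smul_mul_assoc, one_mul]
  let φ : AdjoinRoot q →+* Module.End F V :=
    Ideal.Quotient.lift (Ideal.span {q}) (Polynomial.aeval T).toRingHom (by
      intro a ha
      obtain ⟨b, rfl⟩ := Ideal.mem_span_singleton.1 ha
      simp [haeval])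
  have hφ_mk : ∀ f : Polynomial F, φ (AdjoinRoot.mk q f) = Polynomial.aeval T f := fun f => rfl
  have hφ_of : ∀ a : F, φ (AdjoinRoot.of q a) = a • 1 := fun a => by
    rw [← AdjoinRoot.mk_C, hφ_mk, Polynomial.aeval_C, Algebra.algebraMap_eq_smul_one]
  have hφ_root : φ (AdjoinRoot.root q) = T := by
    rw [AdjoinRoot.root, hφ_mk, Polynomial.aeval_X]
  let _ : Module (AdjoinRoot q) V := Module.compHom V φ
  have hsmul : ∀ (k : AdjoinRoot q) (v : V), k • v = φ k v := fun _ _ => rfl
  have : IsScalarTower F (AdjoinRoot q) V := ⟨fun a k v => by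
    rw [hsmul, hsmul, Algebra.smul_def, map_mul, AdjoinRoot.algebraMap_eq, hφ_of]; simp⟩
  have : SMulCommClass (AdjoinRoot q) F V := ⟨fun k a v => by rw [hsmul, hsmul, map_smul]⟩
  have : Module.Finite (AdjoinRoot q) V := Module.Finite.of_restrictScalars_finite F (AdjoinRoot q) V
  have hK2 : Module.finrank F (AdjoinRoot q) = 2 := by
    rw [(AdjoinRoot.powerBasis hqmonic.ne_zero).finrank, AdjoinRoot.powerBasis_dim, hqdeg]
  have hu : Module.finrank F V = 2 * Module.finrank (AdjoinRoot q) V := by
    rw [← Module.finrank_mul_finrank F (AdjoinRoot q) V, hK2]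
  -- the F-linear map End_K V → End_F V
  let Ξ : (V →ₗ[AdjoinRoot q] V) →ₗ[F] Module.End F V :=
    { toFun := fun f => f.restrictScalars F
      map_add' := fun _ _ => rfl
      map_smul' := fun _ _ => rfl }
  let CT : Submodule F (Module.End F V) :=
    Subalgebra.toSubmodule (Subalgebra.centralizer F ({T} : Set (Module.End F V)))
  have hΞmem : ∀ f, Ξ f ∈ CT := by
    intro f
    change Ξ f ∈ Subalgebra.centralizer F _
    rw [Subalgebra.mem_centralizer_iff]
    intro g hg
    rw [Set.mem_singleton_iff] at hg
    rw [hg]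
    ext v
    change T (f v) = f (T v)
    rw [← hφ_root, ← hsmul, ← hsmul, map_smul]
  let J : (V →ₗ[AdjoinRoot q] V) →ₗ[F] CT := Ξ.codRestrict CT hΞmem
  have hJinj : Function.Injective J := by
    intro f g hfg
    have h1 : Ξ f = Ξ g := congrArg Subtype.val hfg
    ext v
    exact LinearMap.congr_fun h1 v
  have hle := LinearMap.finrank_le_finrank_of_injective hJinj
  have hdim : Module.finrank F (V →ₗ[AdjoinRoot q] V) =
      2 * (Module.finrank (AdjoinRoot q) V * Module.finrank (AdjoinRoot q) V) := by
    rw [← Module.finrank_mul_finrank F (AdjoinRoot q) (V →ₗ[AdjoinRoot q] V), hK2,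
      Module.finrank_linearMap]
  rw [hdim] at hle
  rw [hu]
  have : Module.finrank F CT = Module.finrank F (Subalgebra.centralizer F ({T} : Set (Module.End F V))) := rfl
  rw [this] at hle
  nlinarith

/-- split case: `(T - c₁)(T - c₂) = 0`. -/
theorem quad_root (T : Module.End F V) (c₁ c₂ : F)
    (h : ∀ v, T (T v - c₂ • v) = c₁ • (T v - c₂ • v)) :
    Module.finrank F V * Module.finrank F V ≤
      2 * Module.finrank F (Subalgebra.centralizer F ({T} : Set (Module.End F V))) := by
  classical
  have hinv : Module.End.eigenspace T c₁ ≤ (Module.End.eigenspace T c₁).comap T := by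
    intro w hw
    rw [Submodule.mem_comap, Module.End.mem_eigenspace_iff]
    rw [Module.End.mem_eigenspace_iff] at hw
    rw [hw, map_smul, hw]
  let T' : Module.End F (V ⧸ Module.End.eigenspace T c₁) :=
    (Module.End.eigenspace T c₁).mapQ (Module.End.eigenspace T c₁) T hinv
  have hT' : T' ∘ₗ (Module.End.eigenspace T c₁).mkQ = (Module.End.eigenspace T c₁).mkQ ∘ₗ T := by
    ext v; rfl
  have hrec := rec_bound T c₁ T' hT'
  have hscal : T' = c₂ • 1 := by
    refine LinearMap.ext fun u => ?_
    obtain ⟨v, rfl⟩ := Submodule.mkQ_surjective _ u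
    have h1 : T' ((Module.End.eigenspace T c₁).mkQ v) = (Module.End.eigenspace T c₁).mkQ (T v) := rfl
    rw [h1, LinearMap.smul_apply, Module.End.one_apply, ← map_smul, ← sub_eq_zero, ← map_sub,
      Submodule.mkQ_apply, Submodule.Quotient.mk_eq_zero, Module.End.mem_eigenspace_iff]
    exact h v
  have htop : Subalgebra.centralizer F ({T'} : Set (Module.End F (V ⧸ Module.End.eigenspace T c₁))) = ⊤ := by
    rw [Subalgebra.centralizer_eq_top_iff_subset, Set.singleton_subset_iff, hscal,
      ← Algebra.algebraMap_eq_smul_one]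
    exact Subalgebra.algebraMap_mem _ _
  have hfull : Module.finrank F (Subalgebra.centralizer F ({T'} : Set (Module.End F (V ⧸ Module.End.eigenspace T c₁)))) =
      Module.finrank F (V ⧸ Module.End.eigenspace T c₁) * Module.finrank F (V ⧸ Module.End.eigenspace T c₁) := by
    rw [htop, Subalgebra.topEquiv.toLinearEquiv.finrank_eq, Module.finrank_linearMap]
  rw [hfull] at hrec
  have hq := Submodule.finrank_quotient_add_finrank (Module.End.eigenspace T c₁)
  rw [← hq]
  nlinarith [sq_nonneg ((Module.finrank F (V ⧸ Module.End.eigenspace T c₁) : ℤ) - Module.finrank F (Module.End.eigenspace T c₁))]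

/-- **(QUAD)** -/
theorem quad_bound (T : Module.End F V) (α β : F) (h : T * T + α • T + β • 1 = 0) :
    Module.finrank F V * Module.finrank F V ≤
      2 * Module.finrank F (Subalgebra.centralizer F ({T} : Set (Module.End F V))) := by
  by_cases hroot : ∃ c : F, c * c + α * c + β = 0
  · obtain ⟨c, hc⟩ := hroot
    apply quad_root T c (-α - c)
    intro v
    have hv : T (T v) + α • T v + β • v = 0 := by
      have := LinearMap.congr_fun h v
      simpa using this
    have hβ : β = -(c * c) - α * c := by linear_combination hc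
    have hTT : T (T v) = -(α • T v) - β • v := by
      rw [eq_sub_iff_add_eq, eq_neg_iff_add_eq_zero, ← hv]; abel
    rw [map_sub, map_smul, hTT, hβ]
    module
  · push Not at hroot
    exact quad_noroot T α β h hroot

end lin

end Cfsg.Agent.Helper86.ES
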