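import Mathlib

set_option autoImplicit false

namespace Cfsg.Agent.Helper86

open scoped commutatorElement

/-- for `x` in the second centre, `g ↦ [x,g]` is multiplicative in `x`: `[x^k,g] = [x,g]^k` -/
theorem commutator_pow_of_mem_center {G : Type*} [Group G] {x g : G}
    (hx : ⁅x, g⁆ ∈ Subgroup.center G) (k : ℕ) : ⁅x ^ k, g⁆ = ⁅x, g⁆ ^ k := by
  induction k with
  | zero => simp [commutatorElement_def]
  | succ k ih =>
    have hc : ⁅x ^ k, g⁆ ∈ Subgroup.center G := by rw [ih]; exact Subgroup.pow_mem _ hx _
    have h1 : ⁅x ^ (k + 1), g⁆ = x * ⁅x ^ k, g⁆ * x⁻¹ * ⁅x, g⁆ := by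
      simp only [commutatorElement_def, pow_succ']
      group
    have h2 : x * ⁅x ^ k, g⁆ = ⁅x ^ k, g⁆ * x := (Subgroup.mem_center_iff.1 hc x)
    rw [h1, h2, mul_inv_cancel_right, ih, pow_succ]

/-- the second centre modulo the centre has exponent dividing that of the centre -/
theorem pow_mem_center_of_second {G : Type*} [Group G] (e : ℕ)
    (hZ : ∀ z ∈ Subgroup.center G, z ^ e = 1) {x : G}
    (hx : x ∈ Subgroup.upperCentralSeries G 2) : x ^ e ∈ Subgroup.center G := by
  rw [Subgroup.mem_center_iff]
  intro g
  have h1 : ∀ y : G, ⁅x, y⁆ ∈ Subgroup.center G := by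
    intro y
    have := (Subgroup.mem_upperCentralSeries_succ_iff (n := 1)).1 hx y
    rwa [Subgroup.upperCentralSeries_one] at this
  have h2 : ⁅x ^ e, g⁆ = 1 := by
    rw [commutator_pow_of_mem_center (h1 g), hZ _ (h1 g)]
  rw [commutatorElement_def] at h2
  have h3 : x ^ e * g = g * x ^ e := by
    have : x ^ e * g * (x ^ e)⁻¹ * g⁻¹ * g * x ^ e = g * x ^ e := by rw [h2]; group
    rw [← this]; group
  exact h3.symm

/-- a group of class at most `c` whose centre has exponent dividing `e` has exponent dividing `e^c` -/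
theorem pow_eq_one_of_upperCentralSeries_eq_top (e : ℕ) :
    ∀ (c : ℕ) (G : Type*) [Group G], Subgroup.upperCentralSeries G c = ⊤ →
      (∀ z ∈ Subgroup.center G, z ^ e = 1) → ∀ g : G, g ^ (e ^ c) = 1 := by
  intro c
  induction c with
  | zero =>
    intro G _ h _ g
    have : g ∈ Subgroup.upperCentralSeries G 0 := by rw [h]; trivial
    rw [Subgroup.upperCentralSeries_zero, Subgroup.mem_bot] at this
    rw [this, one_pow]
  | succ c ih =>
    intro G _ h hZ g
    have hq : Subgroup.upperCentralSeries (G ⧸ Subgroup.center G) c = ⊤ := by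
      rw [eq_top_iff]
      intro y _
      obtain ⟨x, rfl⟩ := QuotientGroup.mk'_surjective (Subgroup.center G) y
      have hx : x ∈ Subgroup.comap (QuotientGroup.mk' (Subgroup.center G))
          (Subgroup.upperCentralSeries (G ⧸ Subgroup.center G) c) := by
        rw [Subgroup.comap_upperCentralSeries_quotient_center, Nat.succ_eq_add_one, h]; trivial
      exact hx
    have hZq : ∀ z ∈ Subgroup.center (G ⧸ Subgroup.center G), z ^ e = 1 := by
      intro z hz
      obtain ⟨x, rfl⟩ := QuotientGroup.mk'_surjective (Subgroup.center G) z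
      have hx : x ∈ Subgroup.upperCentralSeries G 2 := by
        have := Subgroup.comap_upperCentralSeries_quotient_center (G := G) 1
        rw [Subgroup.upperCentralSeries_one] at this
        rw [← this]
        exact hz
      have := pow_mem_center_of_second e hZ hx
      rw [← map_pow]
      exact (QuotientGroup.eq_one_iff _).2 this
    have h1 := ih (G ⧸ Subgroup.center G) hq hZq (QuotientGroup.mk' _ g)
    rw [← map_pow] at h1
    have h2 : g ^ (e ^ c) ∈ Subgroup.center G := (QuotientGroup.eq_one_iff _).1 h1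
    rw [pow_succ, pow_mul]
    exact hZ _ h2

end Cfsg.Agent.Helper86
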