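import Mathlib
import Cfsg.Agent.Lib.Helper52.FCDefs
import Cfsg.Agent.Lib.Helper52.Coprime

/-!
# FC (M3): `mc_quot`, the quotient step (helper52 server #6768, S3816)
-/

set_option autoImplicit false

namespace Cfsg.Agent.Helper86.FC

open Subgroup Cfsg.Agent.Helper52.FC
open scoped commutatorElement

universe u

section maps

variable {G₁ G₂ : Type*} [Group G₁] [Group G₂]

/-- `Lh` commutes with group homomorphisms -/
theorem h86_map_Lh (f : G₁ →* G₂) (a h : G₁) : (Lh a h).map f = Lh (f a) (f h) := by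
  unfold Lh
  rw [MonoidHom.map_closure]
  congr 1
  ext c
  constructor
  · rintro ⟨_, ⟨i, rfl⟩, rfl⟩
    exact ⟨i, by simp⟩
  · rintro ⟨i, rfl⟩
    exact ⟨_, ⟨i, rfl⟩, by simp⟩

end maps

section inv

variable {G : Type u} [Group G]

theorem h86_inv_pow (a : G) (N : Subgroup G) (hN : Inv a N) (j : ℕ) :
    ∀ n ∈ N, a ^ j * n * (a ^ j)⁻¹ ∈ N := by
  induction j with
  | zero => intro n hn; simpa using hn
  | succ j ih =>
    intro n hn
    have h1 := hN _ (ih n hn)
    have h2 : a ^ (j + 1) * n * (a ^ (j + 1))⁻¹ = a * (a ^ j * n * (a ^ j)⁻¹) * a⁻¹ := by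
      rw [pow_succ']; group
    rw [h2]; exact h1

theorem h86_inv_inv {p : ℕ} (hp : p.Prime) (a : G) (hap : a ^ p = 1) (N : Subgroup G)
    (hN : Inv a N) : ∀ n ∈ N, a⁻¹ * n * a ∈ N := by
  intro n hn
  have h1 : a⁻¹ = a ^ (p - 1) := by
    have : a ^ (p - 1) * a = 1 := by
      rw [← pow_succ, Nat.sub_add_cancel hp.one_lt.le, hap]
    exact (eq_inv_of_mul_eq_one_left this).symm
  have h2 := h86_inv_pow a N hN (p - 1) n hn
  rw [← h1, inv_inv] at h2
  exact h2

theorem h86_mem_normalizer_of_inv {p : ℕ} (hp : p.Prime) (a : G) (hap : a ^ p = 1)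
    (N : Subgroup G) (hN : Inv a N) : a ∈ normalizer (N : Set G) := by
  rw [mem_normalizer_iff]
  intro n
  constructor
  · exact hN n
  · intro h
    have := h86_inv_inv hp a hap N hN _ h
    simpa [mul_assoc] using this

theorem h86_le_normalizer_of_normBy (H N : Subgroup G) (hNn : NormBy H N) :
    H ≤ normalizer (N : Set G) := by
  intro h hh
  rw [mem_normalizer_iff]
  intro n
  constructor
  · exact hNn h hh n
  · intro hx
    have := hNn h⁻¹ (H.inv_mem hh) _ hx
    simpa [mul_assoc] using this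

/-- coprime lifting of fixed points -/
theorem h86_lift [Finite G] {p : ℕ} (hp : p.Prime) (a : G) (hap : a ^ p = 1) (X N : Subgroup G)
    (hXa : Inv a X) (hNa : Inv a N) (hcop : (Nat.card X).Coprime p)
    (x : G) (hx : x ∈ X) (hxa : a * x * a⁻¹ * x⁻¹ ∈ N) :
    ∃ n ∈ N ⊓ X, ∃ c ∈ X ⊓ Fix a, x = n * c := by
  have hMa : Inv a (N ⊓ X) := fun y hy => ⟨hNa y hy.1, hXa y hy.2⟩
  have hAX : zpowers a ≤ normalizer (X : Set G) :=
    (zpowers_le).mpr (h86_mem_normalizer_of_inv hp a hap X hXa)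
  have hAN : zpowers a ≤ normalizer ((N ⊓ X : Subgroup G) : Set G) :=
    (zpowers_le).mpr (h86_mem_normalizer_of_inv hp a hap _ hMa)
  have hcop' : (Nat.card (zpowers a)).Coprime (Nat.card X) := by
    rw [Nat.card_zpowers]
    exact Nat.Coprime.coprime_dvd_left (orderOf_dvd_of_pow_eq_one hap) hcop.symm
  have hsolv : Group.IsSolvable (zpowers a) := by
    apply Group.isSolvable_of_comm
    rintro ⟨y, hy⟩ ⟨z, hz⟩
    obtain ⟨i, rfl⟩ := mem_zpowers_iff.mp hy
    obtain ⟨j, rfl⟩ := mem_zpowers_iff.mp hz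
    exact Subtype.ext ((Commute.refl a).zpow_zpow i j).eq
  have hbase : x * a * x⁻¹ * a⁻¹ ∈ N ⊓ X := by
    refine ⟨?_, ?_⟩
    · have := N.inv_mem hxa
      simpa [mul_assoc] using this
    · have h1 : a * x⁻¹ * a⁻¹ ∈ X := hXa _ (X.inv_mem hx)
      have h2 : x * a * x⁻¹ * a⁻¹ = x * (a * x⁻¹ * a⁻¹) := by group
      rw [h2]; exact X.mul_mem hx h1
  have hpow : ∀ i : ℕ, x * a ^ i * x⁻¹ * (a ^ i)⁻¹ ∈ N ⊓ X := by
    intro i
    induction i with
    | zero => simp
    | succ i ih =>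
      have h1 := hMa _ ih
      have h2 : x * a ^ (i + 1) * x⁻¹ * (a ^ (i + 1))⁻¹ =
          (x * a * x⁻¹ * a⁻¹) * (a * (x * a ^ i * x⁻¹ * (a ^ i)⁻¹) * a⁻¹) := by
        rw [pow_succ']; group
      rw [h2]
      exact (N ⊓ X).mul_mem hbase h1
  have hcomm : ∀ b ∈ zpowers a, x * b * x⁻¹ * b⁻¹ ∈ N ⊓ X := by
    intro b hb
    have hb' : b ∈ Submonoid.powers a := mem_powers_iff_mem_zpowers.mpr hb
    obtain ⟨i, rfl⟩ := hb'
    exact hpow i
  obtain ⟨n, hn, c, hc, hxnc⟩ := Cfsg.Agent.Helper52.exists_mul_centralizer_of_comm_mem X (N ⊓ X)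
    (zpowers a) inf_le_right hAX hAN hcop' (Or.inr hsolv) x hx hcomm
  refine ⟨n, hn, c, ⟨hc.1, ?_⟩, hxnc⟩
  have : centralizer ((zpowers a : Subgroup G) : Set G) ≤ centralizer ({a} : Set G) :=
    centralizer_le (by intro y hy; rw [Set.mem_singleton_iff] at hy; rw [hy]; exact mem_zpowers a)
  exact this hc.2

end inv

section main

variable {G : Type u} [Group G]

/-- (M3) the quotient step -/
theorem mc_quot [Finite G] {p : ℕ} {a : G} {H : Subgroup G} (mc : MC p G a H) (hcomm : comm a H = H) (N : Subgroup G) (hNH : N ≤ H)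
    (hNn : NormBy H N) (hNa : Inv a N) (hN : N ≠ ⊥) (c : G) (hc : c ∈ H ⊓ Fix a) :
    ∃ s ∈ star a H, ∃ n ∈ N ⊓ Fix a, c = s * n := by
  classical
  have hp := mc.hp
  have hap := mc.hyp.pow
  have hHa := mc.hyp.inv
  have hHK : H ≤ normalizer (N : Set G) := h86_le_normalizer_of_normBy H N hNn
  have haK : a ∈ normalizer (N : Set G) := h86_mem_normalizer_of_inv hp a hap N hNa
  have hNK : N ≤ normalizer (N : Set G) := le_normalizer
  have hnorm : (N.subgroupOf (normalizer (N : Set G))).Normal :=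
    normal_subgroupOf_of_le_normalizer le_rfl
  let π : ↥(normalizer (N : Set G)) →* ↥(normalizer (N : Set G)) ⧸ N.subgroupOf (normalizer (N : Set G)) :=
    QuotientGroup.mk' (N.subgroupOf (normalizer (N : Set G)))
  let ã : ↥(normalizer (N : Set G)) := ⟨a, haK⟩
  let HK : Subgroup ↥(normalizer (N : Set G)) := H.subgroupOf (normalizer (N : Set G))
  have hπ_eq : ∀ y z : ↥(normalizer (N : Set G)), π y = π z ↔ (y : G)⁻¹ * (z : G) ∈ N := by
    intro y z
    show (QuotientGroup.mk y : ↥(normalizer (N : Set G)) ⧸ N.subgroupOf (normalizer (N : Set G))) =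
      QuotientGroup.mk z ↔ _
    rw [QuotientGroup.eq]
    rfl
  have hHKcard : Nat.card ↥HK = Nat.card ↥H := Nat.card_congr (subgroupOfEquivOfLe hHK).toEquiv
  -- hypotheses for the quotient
  have hyp' : Hyp p (π ã) (HK.map π) := by
    refine ⟨?_, ?_, ?_, ?_⟩
    · rw [← map_pow]
      have : ã ^ p = 1 := Subtype.ext (by simpa using hap)
      rw [this, map_one]
    · rintro _ ⟨y, hy, rfl⟩
      refine ⟨ã * y * ã⁻¹, ?_, by simp⟩
      exact mem_subgroupOf.mpr (by simpa using hHa _ (mem_subgroupOf.mp hy))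
    · have : Group.IsSolvable ↥H := mc.hyp.sol
      have : Group.IsSolvable ↥HK :=
        Group.isSolvable_of_isSolvable_injective (f := (subgroupOfEquivOfLe hHK).toMonoidHom)
          (subgroupOfEquivOfLe hHK).injective
      exact Group.isSolvable_of_surjective (f := π.subgroupMap HK) (π.subgroupMap_surjective HK)
    · have h1 : Nat.card ↥(HK.map π) ∣ Nat.card ↥HK :=
        Subgroup.card_dvd_of_surjective (π.subgroupMap HK) (π.subgroupMap_surjective HK)
      rw [hHKcard] at h1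
      exact Nat.Coprime.coprime_dvd_left h1 mc.hyp.cop
  have hcard : Nat.card ↥(HK.map π) < Nat.card ↥H := by
    rw [← hHKcard]
    obtain ⟨n, hn, hn1⟩ : ∃ n ∈ N, n ≠ 1 := by
      by_contra hcon
      push Not at hcon
      exact hN (eq_bot_iff.mpr fun x hx => mem_bot.mpr (hcon x hx))
    have hnotinj : ¬ Function.Injective (π.subgroupMap HK) := by
      intro hinj
      have h1 : (⟨⟨n, hNK hn⟩, mem_subgroupOf.mpr (hNH hn)⟩ : ↥HK) = 1 := by
        apply hinj
        apply Subtype.ext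
        show π ⟨n, hNK hn⟩ = π 1
        rw [hπ_eq]
        simpa using hn
      exact hn1 (by simpa using congrArg (fun z : ↥HK => ((z : ↥(normalizer (N : Set G))) : G)) h1)
    have := Fintype.ofFinite ↥HK
    have := Fintype.ofFinite ↥(HK.map π)
    rw [Nat.card_eq_fintype_card, Nat.card_eq_fintype_card]
    exact Fintype.card_lt_of_surjective_not_injective _ (π.subgroupMap_surjective HK) hnotinj
  -- the induction hypothesis
  have hthm : Thm (π ã) (HK.map π) := mc.ih _ (π ã) (HK.map π) hyp' hcard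
  -- `c` in the quotient
  have hcK : c ∈ normalizer (N : Set G) := hHK hc.1
  have hc_comm : π ⟨c, hcK⟩ ∈ comm (π ã) (HK.map π) := by
    have hle : comm a H ≤ ((comm (π ã) (HK.map π)).comap π).map (normalizer (N : Set G)).subtype := by
      unfold Cfsg.Agent.Helper52.FC.comm
      rw [closure_le]
      rintro _ ⟨h, hh, i, rfl⟩
      refine ⟨(⟨h, hHK hh⟩ : ↥(normalizer (N : Set G)))⁻¹ * (ã ^ i * ⟨h, hHK hh⟩ * (ã ^ i)⁻¹), ?_, ?_⟩
      · show π _ ∈ Subgroup.closure _
        apply Subgroup.subset_closure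
        refine ⟨π ⟨h, hHK hh⟩, ⟨⟨h, hHK hh⟩, mem_subgroupOf.mpr hh, rfl⟩, i, ?_⟩
        simp
      · simp [ã]
    have h1 : c ∈ comm a H := by rw [hcomm]; exact hc.1
    obtain ⟨c', hc', hcc'⟩ := hle h1
    have : c' = ⟨c, hcK⟩ := Subtype.ext hcc'
    rw [← this]
    exact hc'
  have hc_fix : π ⟨c, hcK⟩ ∈ Fix (π ã) := by
    unfold Cfsg.Agent.Helper52.FC.Fix
    rw [mem_centralizer_iff]
    intro x hx
    rw [Set.mem_singleton_iff] at hx
    subst hx
    rw [← map_mul, ← map_mul]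
    congr 1
    apply Subtype.ext
    have h2 : c ∈ centralizer ({a} : Set G) := hc.2
    rw [mem_centralizer_iff] at h2
    exact h2 a rfl
  have hc_star : π ⟨c, hcK⟩ ∈ star (π ã) (HK.map π) := hthm ⟨hc_comm, hc_fix⟩
  -- the star of the quotient is the image of the star
  have hstar_le : star (π ã) (HK.map π) ≤
      ((star a H).subgroupOf (normalizer (N : Set G))).map π := by
    unfold Cfsg.Agent.Helper52.FC.star
    apply iSup_le
    rintro ⟨h', y, hy, rfl⟩
    intro x' hx'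
    have hx1 : x' ∈ Lh (π ã) (π y) := hx'.1
    have hx2 : x' ∈ Fix (π ã) := hx'.2
    rw [← h86_map_Lh π ã y] at hx1
    obtain ⟨x, hx, rfl⟩ := hx1
    -- back in `G`
    have hyH : (y : G) ∈ H := mem_subgroupOf.mp hy
    have hxG : (x : G) ∈ Lh a (y : G) := by
      have h1 : (x : G) ∈ (Lh ã y).map (normalizer (N : Set G)).subtype := ⟨x, hx, rfl⟩
      rw [h86_map_Lh] at h1
      exact h1
    have hX_inv : Inv a (Lh a (y : G)) := by
      -- `Lh a y` is `a`-invariant
      intro z hz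
      have hgen : ∀ i : ℕ, a * ((y : G)⁻¹ * (a ^ i * (y : G) * (a ^ i)⁻¹)) * a⁻¹ ∈ Lh a (y : G) := by
        intro i
        have e : a * ((y : G)⁻¹ * (a ^ i * (y : G) * (a ^ i)⁻¹)) * a⁻¹ =
            ((y : G)⁻¹ * (a ^ 1 * (y : G) * (a ^ 1)⁻¹))⁻¹ *
              ((y : G)⁻¹ * (a ^ (i + 1) * (y : G) * (a ^ (i + 1))⁻¹)) := by
          rw [pow_succ' a i, pow_one]; group
        rw [e]
        exact (Lh a (y : G)).mul_mem ((Lh a (y : G)).inv_mem (Subgroup.subset_closure ⟨1, rfl⟩))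
          (Subgroup.subset_closure ⟨i + 1, rfl⟩)
      unfold Lh at hz
      induction hz using closure_induction with
      | mem z hz => obtain ⟨i, rfl⟩ := hz; exact hgen i
      | one => simp
      | mul z w _ _ hz hw =>
        have e : a * (z * w) * a⁻¹ = (a * z * a⁻¹) * (a * w * a⁻¹) := by group
        rw [e]; exact (Lh a (y : G)).mul_mem hz hw
      | inv z _ hz =>
        have e : a * z⁻¹ * a⁻¹ = (a * z * a⁻¹)⁻¹ := by group
        rw [e]; exact (Lh a (y : G)).inv_mem hz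
    have hX_le : Lh a (y : G) ≤ H := by
      unfold Lh
      rw [closure_le]
      rintro _ ⟨i, rfl⟩
      exact H.mul_mem (H.inv_mem hyH) (h86_inv_pow a H hHa i _ hyH)
    have hX_cop : (Nat.card ↥(Lh a (y : G))).Coprime p :=
      Nat.Coprime.coprime_dvd_left (card_dvd_of_le hX_le) mc.hyp.cop
    have hxa : a * (x : G) * a⁻¹ * (x : G)⁻¹ ∈ N := by
      unfold Cfsg.Agent.Helper52.FC.Fix at hx2
      rw [mem_centralizer_iff] at hx2
      have h1 := hx2 (π ã) rfl
      have h2 : π (x * ã) = π (ã * x) := by rw [map_mul, map_mul]; exact h1.symm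
      rw [hπ_eq] at h2
      have e : a * (x : G) * a⁻¹ * (x : G)⁻¹ =
          ((x : G) * a) * (((x : G) * a)⁻¹ * (a * (x : G))) * ((x : G) * a)⁻¹ := by group
      rw [e]
      have hxaK : (x : G) * a ∈ normalizer (N : Set G) :=
        (normalizer (N : Set G)).mul_mem x.2 haK
      exact (mem_normalizer_iff.mp hxaK _).mp h2
    obtain ⟨n, hn, c₀, hc₀, hxnc⟩ :=
      h86_lift hp a hap (Lh a (y : G)) N hX_inv hNa hX_cop (x : G) hxG hxa
    have hc₀star : c₀ ∈ star a H := by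
      unfold Cfsg.Agent.Helper52.FC.star
      exact (le_iSup (fun h : H => Lh a (h : G) ⊓ Fix a) ⟨(y : G), hyH⟩) hc₀
    have hc₀K : c₀ ∈ normalizer (N : Set G) := hHK (hX_le hc₀.1)
    refine ⟨⟨c₀, hc₀K⟩, mem_subgroupOf.mpr hc₀star, ?_⟩
    rw [hπ_eq]
    show c₀⁻¹ * (x : G) ∈ N
    rw [hxnc]
    have hc₀n : c₀⁻¹ * n * c₀ ∈ N := by
      have hc₀inv : c₀⁻¹ ∈ normalizer (N : Set G) := (normalizer (N : Set G)).inv_mem hc₀K
      have := (mem_normalizer_iff.mp hc₀inv n).mp hn.1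
      simpa using this
    have e : c₀⁻¹ * (n * c₀) = c₀⁻¹ * n * c₀ := by group
    rw [e]; exact hc₀n
  obtain ⟨s', hs', hsc⟩ := hstar_le hc_star
  have hs'star : (s' : G) ∈ star a H := mem_subgroupOf.mp hs'
  have hstar_fix : star a H ≤ Fix a := by
    unfold Cfsg.Agent.Helper52.FC.star
    exact iSup_le fun h => inf_le_right
  rw [hπ_eq] at hsc
  refine ⟨(s' : G), hs'star, (s' : G)⁻¹ * c, ⟨hsc, ?_⟩, by group⟩
  exact (Fix a).mul_mem ((Fix a).inv_mem (hstar_fix hs'star)) hc.2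

end main

end Cfsg.Agent.Helper86.FC
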