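import Mathlib
import Cfsg.Prelude.Def_FusionSystem
import Cfsg.Agent.Lib.Helper87.FusionNormal
import Cfsg.Agent.Lib.Helper86.ChainStabilizer
import Cfsg.Agent.Lib.Helper86.FusionNormalCrit

set_option autoImplicit false

namespace Cfsg.Agent.Helper86

open Cfsg Cfsg.FusionSystem Cfsg.Agent.Helper87
open scoped Pointwise commutatorElement

variable {Ω : Type*} [Group Ω] {S : Subgroup Ω}

theorem conj_mem_of_mor_invariant {F : FusionSystem S} {K : Subgroup Ω} (hKS : K ≤ S)
    (hK : ∀ f, Mor F K f → ∀ x ∈ K, f x ∈ K) {s : Ω} (hs : s ∈ S) {x : Ω} (hx : x ∈ K) :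
    s * x * s⁻¹ ∈ K :=
  hK _ (Mor.conj hKS hs) x hx

theorem le_normalizer_of_mor_invariant {F : FusionSystem S} {K R : Subgroup Ω} (hKS : K ≤ S) (hRS : R ≤ S)
    (hK : ∀ f, Mor F K f → ∀ x ∈ K, f x ∈ K) : R ≤ Subgroup.normalizer (K : Set Ω) := by
  intro r hr
  rw [Subgroup.mem_normalizer_iff]
  intro x
  constructor
  · intro hx
    exact conj_mem_of_mor_invariant hKS hK (hRS hr) hx
  · intro hx
    have := conj_mem_of_mor_invariant hKS hK (S.inv_mem (hRS hr)) hx
    simpa [mul_assoc] using this

/-- The chain argument (AKO I.4.6 / Craven): if `Q` is strongly closed and has a central series whose terms are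
invariant under the maps of the system, then `Q` lies in every centric radical subgroup. -/
theorem le_of_central_series {p : ℕ} [Fact p.Prime] [Finite S] (hS : IsPGroup p S) {F : FusionSystem S}
    {Q : Subgroup Ω} (hQ : F.StronglyClosed Q) (n : ℕ) (C : ℕ → Subgroup Ω)
    (hC0 : C 0 = ⊥) (hCle : ∀ j ≤ n, C j ≤ Q)
    (hcomm : ∀ j < n, ⁅C (j + 1), Q⁆ ≤ C j)
    (hinv : ∀ j ≤ n, ∀ f, Mor F (C j) f → ∀ x ∈ C j, f x ∈ C j)
    {R : Subgroup Ω} (hcen : F.IsCentric R) (hrad : F.IsRadical p R) : ∀ j ≤ n, C j ≤ R := by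
  have hRS : R ≤ S := hcen.1
  have hfinR : Finite R := Helper87.finite_of_le hRS
  have hRp : IsPGroup p R := hS.to_le hRS
  have hQinv : ∀ f, Mor F Q f → ∀ x ∈ Q, f x ∈ Q := fun f hf => stronglyClosed_mor hQ le_rfl hf
  have key : ∀ j, j ≤ n → ∀ i ≤ j, C i ≤ R := by
    intro j
    induction j with
    | zero =>
      intro _ i hi
      have : i = 0 := by omega
      rw [this, hC0]
      exact bot_le
    | succ j ih =>
      intro hj i hi
      have ih' := ih (by omega)
      rcases Nat.lt_or_ge i (j + 1) with hlt | hge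
      · exact ih' i (by omega)
      have hij : i = j + 1 := by omega
      subst hij
      have hjn : j < n := by omega
      set K := C (j + 1) with hKdef
      have hKQ : K ≤ Q := hCle _ hj
      have hKS : K ≤ S := hKQ.trans hQ.1
      have hKinv := hinv (j + 1) hj
      by_contra hKR
      have hTS : R ⊔ K ≤ S := sup_le hRS hKS
      have hfinT : Finite (R ⊔ K : Subgroup Ω) := Helper87.finite_of_le hTS
      have hTp : IsPGroup p (R ⊔ K : Subgroup Ω) := hS.to_le hTS
      have hne : R ≠ R ⊔ K := by
        intro h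
        apply hKR
        rw [h]
        exact le_sup_right
      obtain ⟨n', hn', hn'R⟩ := Helper87.exists_normalizer_not_mem (S := R ⊔ K) hTp le_sup_left hne
      have hRK : R ≤ Subgroup.normalizer (K : Set Ω) := le_normalizer_of_mor_invariant hKS hRS hKinv
      have hmem : n' ∈ ((R ⊔ K : Subgroup Ω) : Set Ω) := hn'.1
      rw [Subgroup.coe_mul_of_left_le_normalizer_right R K hRK] at hmem
      obtain ⟨r, hr, c, hc, hrc⟩ := Set.mem_mul.mp hmem
      have hcN : c ∈ Subgroup.normalizer (R : Set Ω) := by
        have h1 : c = r⁻¹ * n' := by rw [← hrc]; group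
        rw [h1]
        exact Subgroup.mul_mem _ (Subgroup.inv_mem _ (Subgroup.le_normalizer hr)) hn'.2
      have hcR : c ∉ R := by
        intro h
        apply hn'R
        rw [← hrc]
        exact R.mul_mem hr h
      have hcS : c ∈ S := hKS hc
      have hcQ : c ∈ Q := hKQ hc
      -- the chain in R
      let D : ℕ → Subgroup R := fun k =>
        match k with
        | 0 => ⊤
        | 1 => Q.subgroupOf R
        | (k + 2) => (C (j - k)).subgroupOf R
      have hD0 : D 0 = ⊤ := rfl
      have hDm : D (j + 2) = ⊥ := by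
        show (C (j - j)).subgroupOf R = ⊥
        rw [Nat.sub_self, hC0]
        simp
      have hκA : Helper87.conjAut R c hcN ∈ F.autGroup R :=
        Helper87.autInducedBy_le_autGroup F hRS (Helper87.conjAut_mem_autInducedBy hcS hcN)
      have hDinv : ∀ k, ∀ α ∈ F.autGroup R, ∀ x ∈ D k, α x ∈ D k := by
        intro k α hα x hx
        have hmor : Mor F R (extAut α) := (Helper87.mem_autGroup_iff hRS).1 hα
        match k, hx with
        | 0, _ => trivial
        | 1, hx =>
          have hx' : (x : Ω) ∈ Q := hx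
          show ((α x : R) : Ω) ∈ Q
          have h1 := stronglyClosed_mor hQ (inf_le_right : R ⊓ Q ≤ Q) (hmor.restrict inf_le_left) x ⟨x.2, hx'⟩
          rwa [extAut_apply] at h1
        | (k + 2), hx =>
          have hx' : (x : Ω) ∈ C (j - k) := hx
          show ((α x : R) : Ω) ∈ C (j - k)
          have hle : C (j - k) ≤ R := ih' (j - k) (by omega)
          have h1 := hinv (j - k) (by omega) _ (hmor.restrict hle) x hx'
          rwa [extAut_apply] at h1
      have hstep : ∀ k < j + 2, ∀ x ∈ D k, x⁻¹ * (Helper87.conjAut R c hcN) x ∈ D (k + 1) := by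
        intro k hk x hx
        have hval : ((x⁻¹ * (Helper87.conjAut R c hcN) x : R) : Ω) = ⁅(x : Ω)⁻¹, c⁆ := by
          rw [commutatorElement_def]
          simp [Helper87.conjAut_apply, mul_assoc]
        match k, hk, hx with
        | 0, _, _ =>
          show ((x⁻¹ * (Helper87.conjAut R c hcN) x : R) : Ω) ∈ Q
          rw [hval, commutatorElement_def]
          have h1 : (x : Ω)⁻¹ * c * ((x : Ω)⁻¹)⁻¹ ∈ Q :=
            conj_mem_of_mor_invariant hQ.1 hQinv (S.inv_mem (hRS x.2)) hcQ
          exact Q.mul_mem h1 (Q.inv_mem hcQ)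
        | 1, _, hx =>
          have hx' : (x : Ω) ∈ Q := hx
          show ((x⁻¹ * (Helper87.conjAut R c hcN) x : R) : Ω) ∈ C (j - 0)
          rw [hval, Nat.sub_zero]
          apply hcomm j hjn
          rw [Subgroup.commutator_comm]
          exact Subgroup.commutator_mem_commutator (Q.inv_mem hx') hc
        | (k + 2), hk, hx =>
          have hx' : (x : Ω) ∈ C (j - k) := hx
          show ((x⁻¹ * (Helper87.conjAut R c hcN) x : R) : Ω) ∈ C (j - (k + 1))
          rw [hval]
          have hk' : k < j := by omega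
          have h1 : j - k = (j - (k + 1)) + 1 := by omega
          rw [h1] at hx'
          apply hcomm (j - (k + 1)) (by omega)
          exact Subgroup.commutator_mem_commutator (Subgroup.inv_mem _ hx') hcQ
      have hcore := chain_stabilizer_mem_pCore hRp (F.autGroup R) D (j + 2) hD0 hDm hDinv
        (Helper87.conjAut R c hcN) hκA hstep
      have hinn : Helper87.conjAut R c hcN ∈ Inn R := by
        rw [← hrad.2]
        exact ⟨⟨_, hκA⟩, hcore, rfl⟩
      exact hcR (mem_of_conjAut_mem_inn hcen ⟨hcS, hcN⟩ hinn)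
  intro j hj
  exact key j hj j le_rfl

end Cfsg.Agent.Helper86
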