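import Mathlib
import Cfsg.Agent.Lib.Helper92.G24Defs
import Cfsg.Agent.Lib.Helper23.G24Pack

/-! G24 piece (REL) A_rel (helper92 server, S1679): the six matrices satisfy the 18 relators of the Suzuki
presentation on `a..f`; certificate through helper23's code-level mat-vec kit (`RelOK`, `rel_of_ok`). -/

set_option autoImplicit false
set_option maxRecDepth 1000000

namespace Cfsg.Agent.Helper86.G24

open Cfsg.Agent.Helper92.G24

theorem h86_relok : ∀ r ∈ rel4, Cfsg.Agent.Helper23.G24.RelOK r := by
  decide +kernel

theorem A_rel : ∀ r ∈ rel4, (r.map A).prod = 1 := by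
  intro r hr
  exact Cfsg.Agent.Helper23.G24.rel_of_ok (h86_relok r hr)

end Cfsg.Agent.Helper86.G24
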