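import Mathlib
import Cfsg.Agent.Lib.Helper92.G24Defs

/-! G24 piece (XE) xMat_eq_table (helper92 server, S1679): the frozen root matrices of `chevG2` over `F4`
are the tables `XT`. -/

set_option autoImplicit false
set_option maxRecDepth 100000

namespace Cfsg.Agent.Helper86.G24

open Cfsg.Agent.Helper92.G24

theorem h86_xe_aux : ∀ q : Fin D.nroots × Fin 3 × D.Idx × D.Idx,
    D.xMat F q.1 (fc (q.2.1.val + 1)) q.2.2.1 q.2.2.2 = XT q.1.val (q.2.1.val + 1) q.2.2.1 q.2.2.2 := by
  decide +kernel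

theorem xMat_eq_table (r : Fin D.nroots) (t : ℕ) (h1 : 1 ≤ t) (h3 : t ≤ 3) :
    D.xMat F r (fc t) = XT r.val t := by
  ext i j
  have h := h86_xe_aux (r, ⟨t - 1, by omega⟩, i, j)
  have e : t - 1 + 1 = t := by omega
  simp only [e] at h
  exact h

end Cfsg.Agent.Helper86.G24
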