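import Mathlib
import Cfsg.Agent.Lib.Helper87.CenLocal

set_option autoImplicit false
set_option linter.style.haveILetI false
set_option linter.unusedSectionVars false
set_option linter.unusedVariables false

/-! # Local control implies global control for weak closure of elements, for a fixed subgroup `Z₀`

(helper87's `CenLocal.chain_cen` and `CenLocal.local_to_global`, with the local hypothesis only asked for the given `Z₀`) -/

namespace Cfsg.Agent.Helper86.GlCen

open Cfsg Cfsg.FusionSystem Cfsg.Agent.Helper87 Cfsg.Agent.Helper87.GlaubFunctor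
  Cfsg.Agent.Helper87.CenFunctor Cfsg.Agent.Helper87.CenLocal

universe u

variable {Ω : Type u} [Group Ω] {S : Subgroup Ω} {W : ∀ (Q : Type u) [Group Q], Subgroup Q}

/-- the chain argument -/
theorem chain_cen' {p : ℕ} [Fact p.Prime] (hW : IsPos p W) [Finite S] (hS : IsPGroup p S)
    {F : FusionSystem S} (hF : F.IsSaturated p) {Z₀ : Subgroup Ω} (hNC : NC W F Z₀)
    (hloc : ∀ X : Subgroup Ω, F.IsFullyNormalized X → X ≠ ⊥ →
      ∀ NX : FusionSystem (normalizerIn S X), F.IsNormalizerSystem X NX →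
        NC W NX Z₀ → NX.IsCentral Z₀)
    (k : ℕ) (hk : 1 ≤ k)
    (IHA : ∀ (P' : Subgroup Ω) (f' : Ω → Ω), Mor F P' f' → k < Nat.card P' →
      Cen F Z₀ P' f') :
    ∀ n : ℕ, ∀ (N A : Subgroup Ω) (γ : Ω → Ω), Nat.card S - Nat.card N = n → N ≤ S →
      k < Nat.card N → A ≤ N → Mor F A γ → (∀ x ∈ A, γ x ∈ N) → WW W N ≤ A →
      (∀ x ∈ WW W N, γ x ∈ WW W N) → Cen F Z₀ A γ := by
  intro n
  induction n using Nat.strong_induction_on with
  | _ n ih =>
    intro N A γ hn hN hkN hA hγ hγN hWA hγW
    by_cases hNS : N = S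
    · subst hNS
      exact hNC.2 A γ hγ hWA hγW
    · haveI : Finite N := finite_of_le hN
      have hNp : IsPGroup p N := hS.to_le hN
      have hNne : N ≠ ⊥ := by
        intro h
        rw [h] at hkN
        simp at hkN
        omega
      have hXN : WW W N ≤ N := WW_le W N
      have hXS : WW W N ≤ S := hXN.trans hN
      have hXne : WW W N ≠ ⊥ := pos_ne_bot hW hNp hNne
      have hNX : N ≤ normalizerIn S (WW W N) :=
        (le_normalizerIn hN).trans (pos_normalizerIn_le hW hS hN)
      obtain ⟨n₀, hn₀, hn₀N⟩ := exists_normalizer_not_mem hS hN hNS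
      have hcard1 : Nat.card N < Nat.card (normalizerIn S (WW W N)) :=
        card_lt_of_not_mem hNX inf_le_left (pos_normalizerIn_le hW hS hN hn₀) hn₀N
      obtain ⟨X', hXX', hX'fn⟩ := exists_fullyNormalized_conj F hXS
      obtain ⟨φ, hφ, hφX⟩ := exists_map_normalizer_to_fullyNormalized hS hF hX'fn hXX'
      have hφN' : ∀ x ∈ normalizerIn S (WW W N), φ x ∈ normalizerIn S X' :=
        fun x hx => map_normalizerIn hφ hφX hx
      have hcard2 : Nat.card (normalizerIn S (WW W N)) ≤ Nat.card (normalizerIn S X') :=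
        card_le_of_mor hφ inf_le_left hφN'
      have hcard3 : Nat.card (normalizerIn S X') ≤ Nat.card S := card_normalizerIn_le X'
      have hX'ne : X' ≠ ⊥ := by
        intro h
        apply hXne
        rw [eq_bot_iff]
        intro x hx
        have h1 : φ x ∈ X' := hφX.map_mem hx
        rw [h, Subgroup.mem_bot] at h1
        rw [Subgroup.mem_bot]
        have h2 : φ x = φ 1 := by rw [h1, hφ.map_one]
        exact hφ.inj (hNX (hXN hx)) (Subgroup.one_mem _) h2
      obtain ⟨NX', hNX'⟩ := Cfsg.Agent.S5096.result F X' hX'fn.1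
      have hZc : Z₀ ≤ normalizerIn S X' :=
        (hNC.le_center hW hS).trans (center_le_normalizerIn' hX'fn.1)
      have hncX' : NC W NX' Z₀ := by
        apply nc_of_chain hNX' hX'fn.1 hZc
        intro A' γ' hA' hγ' hγ'T hWA' hγ'W
        exact ih (Nat.card S - Nat.card (normalizerIn S X')) (by omega) (normalizerIn S X')
          A' γ' rfl inf_le_left (by omega) hA' hγ' hγ'T hWA' hγ'W
      have hcen := hloc X' hX'fn hX'ne NX' hNX' hncX'
      have hAX : A ≤ normalizerIn S (WW W N) := hA.trans hNX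
      have hφA : Mor F A φ := hφ.restrict hAX
      have hφNm : Mor F N φ := hφ.restrict hNX
      have hIA : Iso F A hφA.image φ := Iso.of_mor hφA
      obtain ⟨ψ, hψ, hψ1, hψ2⟩ := hIA.symm
      have hγ'm : Mor F hφA.image (fun y => φ (γ (ψ y))) :=
        (hψ.1.comp hγ (fun y hy => hψ.map_mem hy)).comp hφNm
          (fun y hy => hγN _ (hψ.map_mem hy))
      have hcomm : ∀ a ∈ A, (fun y => φ (γ (ψ y))) (φ a) = φ (γ a) := by
        intro a ha
        show φ (γ (ψ (φ a))) = φ (γ a)
        rw [hψ1 a ha]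
      have hX'A' : X' ≤ hφA.image := by
        intro y hy
        obtain ⟨x, hx, rfl⟩ := hφX.surj hy
        exact ⟨x, hWA hx, rfl⟩
      have hγ'X' : ∀ y ∈ X', (fun y => φ (γ (ψ y))) y ∈ X' := by
        intro y hy
        obtain ⟨x, hx, rfl⟩ := hφX.surj hy
        rw [hcomm x (hWA hx)]
        exact hφX.map_mem (hγW x hx)
      have hisoX' : Iso F X' X' (fun y => φ (γ (ψ y))) :=
        iso_of_card_le (hγ'm.restrict hX'A') hX'fn.1 hγ'X' le_rfl
      have hA'N' : hφA.image ≤ normalizerIn S X' := by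
        rintro y ⟨a, ha, rfl⟩
        exact hφN' a (hAX ha)
      have hmorN' : Mor NX' hφA.image (fun y => φ (γ (ψ y))) := by
        rw [mor_normalizerSystem_iff hNX']
        refine ⟨hγ'm, hA'N', ?_, fun y => φ (γ (ψ y)), ?_, fun _ _ => rfl, hisoX'.2⟩
        · intro y hy
          exact hφN' _ (hNX (hγN _ (hψ.map_mem hy)))
        · rw [sup_eq_left.2 hX'A']
          exact hγ'm
      obtain ⟨g, hg, e, hgZ⟩ := (isCentral_iff_cen.1 hcen).2 _ _ hmorN'
      have hgF : Mor F (hφA.image ⊔ Z₀) g := ((mor_normalizerSystem_iff hNX').1 hg).1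
      have hgood' : Cen F Z₀ hφA.image (fun y => φ (γ (ψ y))) := ⟨g, hgF, e, hgZ⟩
      have hφgood : Cen F Z₀ N φ :=
        (IHA _ φ hφ (by omega)).restrict hNX
      exact Cen.conj hφNm hφgood hA hγ hγN hγ'm hcomm hgood'

/-- **Local control implies global control** (weak closure of elements). -/
theorem local_to_global' {p : ℕ} [Fact p.Prime] (hW : IsPos p W) [Finite S]
    (hS : IsPGroup p S) {F : FusionSystem S} (hF : F.IsSaturated p) {Z₀ : Subgroup Ω}
    (hNC : NC W F Z₀)
    (hloc : ∀ X : Subgroup Ω, F.IsFullyNormalized X → X ≠ ⊥ →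
      ∀ NX : FusionSystem (normalizerIn S X), F.IsNormalizerSystem X NX →
        NC W NX Z₀ → NX.IsCentral Z₀) :
    F.IsCentral Z₀ := by
  rw [isCentral_iff_cen]
  refine ⟨hNC.1, ?_⟩
  apply alperin_strong hS hF (Cen F Z₀) (alperinClosed_cen F Z₀)
  intro R hRfn hRc hRr IHA α hα
  have hR : R ≤ S := hRfn.1
  have hm : Mor F R (extAut α) := (mem_autGroup_iff hR).1 hα
  have hiso : Iso F R R (extAut α) := iso_of_mor_extAut hm
  by_cases hRS : R = S
  · subst hRS
    exact hNC.2 R _ hm (WW_le W R) (fun x hx => pos_iso_mem hW hS hiso hx)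
  · haveI : Finite R := finite_of_le hR
    obtain ⟨n₀, hn₀, hn₀R⟩ := exists_normalizer_not_mem hS hR hRS
    have hcard : Nat.card R < Nat.card (normalizerIn S R) :=
      card_lt_of_not_mem (le_normalizerIn hR) inf_le_left hn₀ hn₀R
    have hRne : R ≠ ⊥ := by
      intro h
      apply hRS
      apply le_antisymm hR
      intro s hs
      have : s ∈ centralizerIn S R := by
        refine ⟨hs, ?_⟩
        rw [h]
        show s ∈ Subgroup.centralizer ((⊥ : Subgroup Ω) : Set Ω)
        rw [Subgroup.mem_centralizer_iff]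
        intro x hx
        have hx' : x = 1 := Subgroup.mem_bot.1 hx
        rw [hx']; simp
      exact hRc.2 R (isConj_refl hR) this
    obtain ⟨NR, hNR⟩ := Cfsg.Agent.S5096.result F R hR
    have hZc : Z₀ ≤ normalizerIn S R :=
      (hNC.le_center hW hS).trans (center_le_normalizerIn' hR)
    have hk : 1 ≤ Nat.card R := Nat.card_pos
    have hncR : NC W NR Z₀ := by
      apply nc_of_chain hNR hR hZc
      intro A' γ' hA' hγ' hγ'T hWA' hγ'W
      exact chain_cen' hW hS hF hNC hloc (Nat.card R) hk IHA _ (normalizerIn S R) A' γ' rfl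
        inf_le_left hcard hA' hγ' hγ'T hWA' hγ'W
    have hcen := hloc R hRfn hRne NR hNR hncR
    have hmorN : Mor NR R (extAut α) := by
      rw [mor_normalizerSystem_iff hNR]
      refine ⟨hm, le_normalizerIn hR, fun x hx => le_normalizerIn hR (hiso.map_mem hx),
        extAut α, ?_, fun _ _ => rfl, hiso.2⟩
      rw [sup_idem]
      exact hm
    obtain ⟨g, hg, e, hgZ⟩ := (isCentral_iff_cen.1 hcen).2 _ _ hmorN
    exact ⟨g, ((mor_normalizerSystem_iff hNR).1 hg).1, e, hgZ⟩

end Cfsg.Agent.Helper86.GlCen
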