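import Mathlib
import Cfsg.Agent.Lib.Helper87.CenConstrained

set_option autoImplicit false
set_option linter.style.haveILetI false
set_option linter.unusedSectionVars false
set_option linter.unusedVariables false

/-! # Control of weak closure of elements for constrained systems, with a condition on the models only

(helper87's `CenConstrained.isCentral_of_constrained`, with the local centre condition only asked for the models of the system
and the elements of the given `Z₀`) -/

namespace Cfsg.Agent.Helper86.GlCen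

open Cfsg Cfsg.FusionSystem Cfsg.Agent.Helper87 Cfsg.Agent.Helper85
  Cfsg.Agent.Helper87.GlaubFunctor Cfsg.Agent.Helper87.CenFunctor Cfsg.Agent.Helper87.CenConstrained

universe u

variable {Ω : Type u} [Group Ω] {W : ∀ (Q : Type u) [Group Q], Subgroup Q}

/-- in a saturated system with a normal centric subgroup, a subgroup fixed by all maps normalizing
`W` of the underlying group is central, provided `W` satisfies the local centre condition -/
theorem isCentral_of_constrained' {p : ℕ} [Fact p.Prime] (hW : IsPos p W)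
    {T : Subgroup Ω} [Finite T] (hT : IsPGroup p T) {E : FusionSystem T} (hE : E.IsSaturated p)
    {R : Subgroup Ω} (hRn : E.IsNormal R) (hRc : E.IsCentric R) {Z₀ : Subgroup Ω}
    (hNC : NC W E Z₀)
    (hC : ∀ (L : Type u) [Group L] (ι : T →* L), E.IsModel p L ι → ∀ z ∈ Z₀, au ι z ∈ pCore p L →
      (∀ m ∈ Subgroup.normalizer (((W ↥T).map ι : Subgroup L) : Set L), m * au ι z * m⁻¹ = au ι z) →
      au ι z ∈ Subgroup.center L) : E.IsCentral Z₀ := by
  obtain ⟨L, _, ι, hL, -⟩ :=
    Cfsg.Agent.Helper87.ModelExists.exists_model_centralizer hT hE hRn hRc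
  haveI : Finite L := hL.1
  have hreal := hL.2.1
  have hinj : Function.Injective ι := hreal.1
  have hRS : R ≤ T := (isNormal_iff.1 hRn).1
  have hXT : WW W T ≤ T := WW_le W T
  have hYn : (imageAlong ι R).Normal := model_image_normal hL hRn
  have hYp : IsPGroup p (imageAlong ι R) := (hT.to_subgroup (R.subgroupOf T)).map ι
  have hYle : imageAlong ι R ≤ pCore p L := le_pCore hYn hYp
  have hZc : Z₀ ≤ T ⊓ Subgroup.centralizer (T : Set Ω) := hNC.le_center hW hT
  have hZT : Z₀ ≤ T := hNC.1
  have hZR : Z₀ ≤ R := fun z hz =>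
    hRc.2 R (isConj_refl hRS) ⟨(hZc hz).1, Subgroup.centralizer_le hRS (hZc hz).2⟩
  -- membership in the image of `W(T)`
  have hmemX : ∀ x ∈ WW W T, au ι x ∈ (W ↥T).map ι := by
    intro x hx
    obtain ⟨hxT, hxW⟩ := mem_WW.1 hx
    rw [au_mem ι hxT]
    exact ⟨⟨x, hxT⟩, hxW, rfl⟩
  have hmemX' : ∀ x ∈ T, au ι x ∈ (W ↥T).map ι → x ∈ WW W T := by
    intro x hxT hx
    rw [au_mem ι hxT] at hx
    obtain ⟨w, hw, hwx⟩ := hx
    have := hinj hwx
    exact mem_WW.2 ⟨hxT, this ▸ hw⟩
  have hXrange : (W ↥T).map ι ≤ ι.range := by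
    rintro _ ⟨x, -, rfl⟩
    exact ⟨x, rfl⟩
  have hYrange : imageAlong ι R ≤ ι.range := by
    intro y hy
    obtain ⟨x, hxT, -, rfl⟩ := mem_img.1 hy
    exact au_mem_range' ι hxT
  -- elements of the normalizer of the image of `W(T)` centralize the image of `Z₀`
  have key : ∀ m ∈ Subgroup.normalizer (((W ↥T).map ι : Subgroup L) : Set L), ∀ z ∈ Z₀,
      m * au ι z * m⁻¹ = au ι z := by
    intro m hm z hz
    have hrange : ∀ x ∈ R ⊔ WW W T, m * au ι x * m⁻¹ ∈ ι.range := by
      apply conj_mem_range_sup hRS hXT m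
      · intro x hx
        exact hYrange (hYn.conj_mem _ (mem_img.2 ⟨x, hRS hx, hx, rfl⟩) m)
      · intro x hx
        exact hXrange ((Subgroup.mem_normalizer_iff.1 hm _).1 (hmemX x hx))
    have hf : Mor E (R ⊔ WW W T) (fun x => au (backHom ι hinj) (m * au ι x * m⁻¹)) := by
      rw [realized_mor_iff hreal]
      refine ⟨sup_le hRS hXT, fun x _ => au_backHom_mem ι hinj _, m, fun x hx => ?_⟩
      exact au_au_back ι hinj (hrange x hx)
    have hfX : ∀ x ∈ WW W T, (fun x => au (backHom ι hinj) (m * au ι x * m⁻¹)) x ∈ WW W T := by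
      intro x hx
      apply hmemX' _ (au_backHom_mem ι hinj _)
      show au ι (au (backHom ι hinj) (m * au ι x * m⁻¹)) ∈ (W ↥T).map ι
      rw [au_au_back ι hinj (hrange x (le_sup_right (a := R) hx))]
      exact (Subgroup.mem_normalizer_iff.1 hm _).1 (hmemX x hx)
    have hc := hNC.2 _ _ hf le_sup_right hfX
    have hfix := hc.fix (hZR.trans le_sup_left) hz
    have h3 : au ι (au (backHom ι hinj) (m * au ι z * m⁻¹)) = au ι z := congrArg (au ι) hfix
    rw [au_au_back ι hinj (hrange z (le_sup_left (b := WW W T) (hZR hz)))] at h3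
    exact h3
  -- the image of `Z₀` is central in the model
  have hcenter : ∀ z ∈ Z₀, au ι z ∈ Subgroup.center L := by
    intro z hz
    have h1 : au ι z ∈ pCore p L := hYle (mem_img.2 ⟨z, hZT hz, hZR hz, rfl⟩)
    exact hC L ι hL z hz h1 (fun m hm => key m hm z hz)
  rw [isCentral_iff_cen]
  refine ⟨hZT, fun P f hf => ?_⟩
  obtain ⟨hP, hfT, g, hg⟩ := (realized_mor_iff hreal).1 hf
  have hgz : ∀ z ∈ Z₀, g * au ι z * g⁻¹ = au ι z := by
    intro z hz
    have := Subgroup.mem_center_iff.1 (hcenter z hz) g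
    rw [this]; group
  have hrange : ∀ x ∈ P ⊔ Z₀, g * au ι x * g⁻¹ ∈ ι.range := by
    apply conj_mem_range_sup hP hZT g
    · intro x hx
      rw [← hg x hx]
      exact au_mem_range' ι (hfT x hx)
    · intro z hz
      rw [hgz z hz]
      exact au_mem_range' ι (hZT hz)
  refine ⟨fun x => au (backHom ι hinj) (g * au ι x * g⁻¹), ?_, fun x hx => ?_, fun z hz => ?_⟩
  · rw [realized_mor_iff hreal]
    refine ⟨sup_le hP hZT, fun x _ => au_backHom_mem ι hinj _, g, fun x hx => ?_⟩
    exact au_au_back ι hinj (hrange x hx)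
  · apply au_injOn hinj (au_backHom_mem ι hinj _) (hfT x hx)
    rw [au_au_back ι hinj (hrange x (le_sup_left (b := Z₀) hx)), hg x hx]
  · apply au_injOn hinj (au_backHom_mem ι hinj _) (hZT hz)
    rw [au_au_back ι hinj (hrange z (le_sup_right (a := P) hz)), hgz z hz]

end Cfsg.Agent.Helper86.GlCen
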