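import Mathlib
import Cfsg.Agent.Lib.Helper86.GlCenA
import Cfsg.Agent.Lib.Helper86.GlCenB
import Cfsg.Agent.Lib.Helper86.ThFusJ
import Cfsg.Agent.Lib.Helper86.ThFusF
import Cfsg.Agent.Lib.Helper86.SecFreeNormF
import Cfsg.Agent.Lib.Helper87.CenMain
import Cfsg.Agent.S2799
import Cfsg.Agent.S5090
import Cfsg.Agent.S5091
import Cfsg.Agent.S5098

set_option autoImplicit false
set_option linter.style.haveILetI false
set_option linter.unusedSectionVars false
set_option linter.unusedVariables false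

/-! # Glauberman's theorem on the centre of `N_F(J(S))`: the Thompson functor, the hypothesis and its inheritance -/

namespace Cfsg.Agent.Helper86.GlCen

open Cfsg Cfsg.FusionSystem Cfsg.Agent.Helper87 Cfsg.Agent.Helper85
  Cfsg.Agent.Helper87.GlaubFunctor Cfsg.Agent.Helper87.CenFunctor Cfsg.Agent.Helper86.ThFus

universe u

/-- the Thompson functor -/
def WJ : ∀ (Q : Type u) [Group Q], Subgroup Q := fun Q _ => thompsonSubgroupA Q

theorem isPos_WJ (p : ℕ) : IsPos p WJ.{u} :=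
  ⟨fun Q _ _ _ hnt => thompsonA_ne_bot, fun Q R _ _ _ _ φ => thompsonA_map_equiv φ⟩

theorem WW_WJ {Ω : Type u} [Group Ω] (P : Subgroup Ω) : WW WJ P = thompsonSubgroupAOf P := rfl

/-- the hypothesis under which Glauberman's theorem holds for the subgroup `Z₀` -/
def Good (p : ℕ) {Ω : Type u} [Group Ω] {S : Subgroup Ω} (F : FusionSystem S) (Z₀ : Subgroup Ω) : Prop :=
  p ≠ 2 ∨ (∀ z ∈ Z₀, ∃ w ∈ S ⊓ Subgroup.centralizer (S : Set Ω), w ^ p = z) ∨
    F.IsSectionFree p (Equiv.Perm (Fin 4))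

variable {Ω : Type u} [Group Ω] {S : Subgroup Ω} [Finite S] {p : ℕ} [Fact p.Prime]

theorem good_normalizer (hS : IsPGroup p S) {F : FusionSystem S} (hF : F.IsSaturated p) {Z₀ : Subgroup Ω}
    (hG : Good p F Z₀) {X : Subgroup Ω} (hXfn : F.IsFullyNormalized X) {NX : FusionSystem (normalizerIn S X)}
    (hNX : F.IsNormalizerSystem X NX) : Good p NX Z₀ := by
  rcases hG with hp | hpow | hfree
  · exact Or.inl hp
  · refine Or.inr (Or.inl ?_)
    intro z hz
    obtain ⟨w, hw, hwz⟩ := hpow z hz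
    refine ⟨w, ⟨Cfsg.Agent.Helper87.CenLocal.center_le_normalizerIn' hXfn.1 hw, ?_⟩, hwz⟩
    exact Subgroup.centralizer_le (inf_le_left : normalizerIn S X ≤ S) hw.2
  · exact Or.inr (Or.inr (Cfsg.Agent.Helper86.SecFreeNorm.sectionFree_normalizer hS hF
      (fun S₁ _ hS₁ E hE => Cfsg.Agent.S5090.result p hS₁ E hE)
      (fun S₁ _ hS₁ E hE G₁ G₂ _ _ ι₁ ι₂ h₁ h₂ => Cfsg.Agent.S5091.result p hS₁ E hE ι₁ ι₂ h₁ h₂) hfree hXfn hNX))

theorem au_pow_eq {Ω' : Type*} [Group Ω'] (θ : S →* Ω') {w : Ω} (hw : w ∈ S) (n : ℕ) : au θ (w ^ n) = au θ w ^ n := by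
  rw [au_mem θ hw, au_mem θ (S.pow_mem hw n), ← map_pow]
  rfl

theorem good_factor (hS : IsPGroup p S) {F : FusionSystem S} (hF : F.IsSaturated p) {Z₀ : Subgroup Ω}
    (hG : Good p F Z₀) {Q : Subgroup Ω} (hQ : F.IsNormal Q) {Ω' : Type u} [Group Ω'] {S' : Subgroup Ω'}
    {θ : S →* Ω'} {E : FusionSystem S'} (hE : F.IsFactorSystem Q θ E) : Good p E (imageAlong θ Z₀) := by
  rcases hG with hp | hpow | hfree
  · exact Or.inl hp
  · refine Or.inr (Or.inl ?_)
    have hrange : θ.range = S' := hE.2.2.1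
    intro y hy
    obtain ⟨z, hzS, hzZ, rfl⟩ := mem_img.1 hy
    obtain ⟨w, hw, hwz⟩ := hpow z hzZ
    refine ⟨au θ w, ⟨Cfsg.Agent.Helper87.FactorPre.au_mem_of_range hrange hw.1, ?_⟩, ?_⟩
    · show au θ w ∈ Subgroup.centralizer (S' : Set Ω')
      rw [Subgroup.mem_centralizer_iff]
      intro s' hs'
      obtain ⟨s, hs, rfl⟩ := exists_au_eq hrange hs'
      rw [← au_mul θ hs hw.1, ← au_mul θ hw.1 hs, Subgroup.mem_centralizer_iff.1 hw.2 s hs]
    · rw [← au_pow_eq θ hw.1, hwz]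
  · exact Or.inr (Or.inr (sectionFree_factor hS hF hQ hfree hE))

/-- the group-theoretic input: Glauberman's theorem in a model -/
theorem center_of_model {T : Subgroup Ω} [Finite T] (hT : IsPGroup p T) {E : FusionSystem T} {L : Type u} [Group L]
    {ι : T →* L} (hL : E.IsModel p L ι) {z : Ω} (hzT : z ∈ T)
    (h : p ≠ 2 ∨ (∃ w ∈ T ⊓ Subgroup.centralizer (T : Set Ω), w ^ p = z) ∨ ¬ Involves (Equiv.Perm (Fin 4)) L)
    (h1 : au ι z ∈ pCore p L)
    (h2 : ∀ m ∈ Subgroup.normalizer (((WJ ↥T).map ι : Subgroup L) : Set L), m * au ι z * m⁻¹ = au ι z) :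
    au ι z ∈ Subgroup.center L := by
  obtain ⟨hfin, hr, ⟨T₀, hT₀⟩, hcent⟩ := hL
  haveI := hfin
  have hinj : Function.Injective ι := hr.1
  let e : ↥T ≃* ↥(T₀ : Subgroup L) :=
    (MonoidHom.ofInjective hinj).trans (MulEquiv.subgroupCongr hT₀.symm)
  have hmap : thompsonSubgroupAOf (T₀ : Subgroup L) = (WJ ↥T).map ι := by
    have h3 : (thompsonSubgroupA ↥T).map e.toMonoidHom = thompsonSubgroupA ↥(T₀ : Subgroup L) :=
      thompsonA_map_equiv e
    unfold thompsonSubgroupAOf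
    rw [← h3, Subgroup.map_map]
    congr 1
  have hxT₀ : au ι z ∈ (T₀ : Subgroup L) := by
    rw [hT₀]; exact au_mem_range' ι hzT
  have hxN : au ι z ∈ Subgroup.normalizer ((thompsonSubgroupAOf (T₀ : Subgroup L) : Subgroup L) : Set L) :=
    normalizer_le_normalizer_jOf _ (Subgroup.le_normalizer hxT₀)
  have hxZ : au ι z ∈ (Subgroup.center ↥(Subgroup.normalizer
      ((thompsonSubgroupAOf (T₀ : Subgroup L)) : Set L))).map
      (Subgroup.normalizer ((thompsonSubgroupAOf (T₀ : Subgroup L)) : Set L)).subtype := by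
    refine ⟨⟨au ι z, hxN⟩, ?_, rfl⟩
    apply Subgroup.mem_center_iff.2
    intro m
    apply Subtype.ext
    show (m : L) * au ι z = au ι z * (m : L)
    have hm : (m : L) ∈ Subgroup.normalizer (((WJ ↥T).map ι : Subgroup L) : Set L) := by
      rw [← hmap]; exact m.2
    have := h2 m hm
    calc (m : L) * au ι z = ((m : L) * au ι z * (m : L)⁻¹) * (m : L) := by group
      _ = au ι z * (m : L) := by rw [this]
  have h' : p ≠ 2 ∨ (∃ z' ∈ (T₀ : Subgroup L) ⊓ Subgroup.centralizer (((T₀ : Subgroup L)) : Set L),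
      z' ^ p = au ι z) ∨ ¬ Involves (Equiv.Perm (Fin 4)) L := by
    rcases h with hp | ⟨w, hw, hwz⟩ | hfree
    · exact Or.inl hp
    · refine Or.inr (Or.inl ⟨au ι w, ⟨?_, ?_⟩, ?_⟩)
      · rw [hT₀]; exact au_mem_range' ι hw.1
      · show au ι w ∈ Subgroup.centralizer (((T₀ : Subgroup L)) : Set L)
        rw [Subgroup.mem_centralizer_iff]
        intro t ht
        have ht' : t ∈ ι.range := hT₀ ▸ ht
        obtain ⟨s, rfl⟩ := ht'
        have hs : ι s = au ι (s : Ω) := (au_mem ι s.2).symm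
        rw [hs, ← au_mul ι s.2 hw.1, ← au_mul ι hw.1 s.2, Subgroup.mem_centralizer_iff.1 hw.2 s s.2]
      · rw [← au_pow_eq ι hw.1, hwz]
    · exact Or.inr (Or.inr hfree)
  have hwc := Cfsg.Agent.S2799.result T₀ (au ι z) hxT₀ hxZ h'
  haveI : (pCore p L).Normal := pCore_normal p L
  apply Subgroup.mem_center_iff.2
  intro g
  have hc : g * au ι z * g⁻¹ ∈ pCore p L := ‹(pCore p L).Normal›.conj_mem _ h1 g
  have := hwc g (pCore_le_sylow T₀ hc)
  calc g * au ι z = (g * au ι z * g⁻¹) * g := by group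
    _ = au ι z * g := by rw [this]

/-- the constrained case -/
theorem isCentral_of_constrained_good (hS : IsPGroup p S) {F : FusionSystem S} (hF : F.IsSaturated p)
    {R : Subgroup Ω} (hRn : F.IsNormal R) (hRc : F.IsCentric R) {Z₀ : Subgroup Ω} (hG : Good p F Z₀)
    (hNC : NC WJ F Z₀) : F.IsCentral Z₀ := by
  have hW := isPos_WJ.{u} p
  have hZS : Z₀ ≤ S := hNC.1
  rcases hG with hp | hpow | hfree
  · exact isCentral_of_constrained' hW hS hF hRn hRc hNC
      (fun L _ ι hL z hz h1 h2 => center_of_model hS hL (hZS hz) (Or.inl hp) h1 h2)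
  · exact isCentral_of_constrained' hW hS hF hRn hRc hNC
      (fun L _ ι hL z hz h1 h2 => center_of_model hS hL (hZS hz) (Or.inr (Or.inl (hpow z hz))) h1 h2)
  · -- pass to the normalizer system of `R`
    have hRS : R ≤ S := (isNormal_iff.1 hRn).1
    have hwc : ∀ X₂, F.IsConj R X₂ → X₂ = R := fun X₂ hc => eq_of_isConj_of_isNormal hRn hc
    obtain ⟨hRfn, hNS⟩ := Cfsg.Agent.Helper87.GlaubNormal.fn_of_weaklyClosed hRS hwc
    obtain ⟨N, hN⟩ := Cfsg.Agent.S5096.result F R hRS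
    have hNsat : N.IsSaturated p := Cfsg.Agent.S5098.result p hS F hF R hRfn N hN
    haveI : Finite ↥(normalizerIn S R) := finite_of_le (inf_le_left : normalizerIn S R ≤ S)
    have hTp : IsPGroup p ↥(normalizerIn S R) := hS.to_le (inf_le_left : normalizerIn S R ≤ S)
    have hRnN : N.IsNormal R := normalizerSystem_isNormal hRS hN
    have hRcN : N.IsCentric R := normalizerSystem_isCentric hRc hN
    have hNCN : NC WJ N Z₀ := Cfsg.Agent.Helper87.CenMain.nc_of_top hNC hRS hNS hN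
    have hcenN : N.IsCentral Z₀ := isCentral_of_constrained' hW hTp hNsat hRnN hRcN hNCN
      (fun L _ ι hL z hz h1 h2 => center_of_model hTp hL (hNCN.1 hz)
        (Or.inr (Or.inr (hfree R hRfn hRc N hN L ι hL))) h1 h2)
    rw [isCentral_iff_cen]
    refine ⟨hZS, fun P f hf => ?_⟩
    obtain ⟨g, hg, eg, hgR⟩ := (isNormal_iff.1 hRn).2 P f hf
    have hmorN : Mor N P f := by
      rw [mor_normalizerSystem_iff hN]
      exact ⟨hf, hNS.symm ▸ hf.le, fun x hx => hNS.symm ▸ hf.mem hx, g, hg, eg, hgR⟩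
    obtain ⟨g', hg', e', hg'Z⟩ := (isCentral_iff_cen.1 hcenN).2 _ _ hmorN
    exact ⟨g', ((mor_normalizerSystem_iff hN).1 hg').1, e', hg'Z⟩

end Cfsg.Agent.Helper86.GlCen
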