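import Mathlib
import Cfsg.Agent.Lib.Helper86.GlCenC
import Cfsg.Agent.Lib.Helper86.ThFusE

set_option autoImplicit false
set_option linter.style.haveILetI false
set_option linter.unusedSectionVars false
set_option linter.unusedVariables false

/-! # Generation of a saturated fusion system by `C_F(℧¹(Z(S)))` and `N_F(J(S))`, part A: the predicate and the chain
argument -/

namespace Cfsg.Agent.Helper86.GenVJ

open Cfsg Cfsg.FusionSystem Cfsg.Agent.Helper87 Cfsg.Agent.Helper85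
  Cfsg.Agent.Helper87.GlaubFunctor Cfsg.Agent.Helper87.CenFunctor Cfsg.Agent.Helper86.ThFus
  Cfsg.Agent.Helper86.GlCen Cfsg.Agent.Helper87.GlaubNormal

universe u

variable {Ω : Type u} [Group Ω]

/-- closure conditions on the predicate "is a map of `E`" -/
structure EPred (G : Subgroup Ω → (Ω → Ω) → Prop) : Prop where
  congr : ∀ {P : Subgroup Ω} {f f' : Ω → Ω}, G P f → (∀ x ∈ P, f x = f' x) → G P f'
  restrict : ∀ {P P' : Subgroup Ω} {f : Ω → Ω}, G P f → P' ≤ P → G P' f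
  comp : ∀ {P P' : Subgroup Ω} {f g : Ω → Ω}, G P f → G P' g → (∀ x ∈ P, f x ∈ P') →
    G P (fun x => g (f x))
  symm : ∀ {P P' : Subgroup Ω} {f f' : Ω → Ω}, G P f → (∀ y, y ∈ P' ↔ ∃ x ∈ P, f x = y) →
    (∀ x ∈ P, f' (f x) = x) → G P' f'

theorem ePred_mor {S : Subgroup Ω} (E : FusionSystem S) : EPred (fun P f => Mor E P f) where
  congr := fun h hff => h.congr hff
  restrict := fun h hP => h.restrict hP
  comp := fun h1 h2 hPP => h1.comp h2 hPP
  symm := by
    intro P P' f f' h hP' hinv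
    have hI : Iso E P P' f := ⟨h, hP'⟩
    obtain ⟨ψ, hψ, h1, h2⟩ := hI.symm
    refine hψ.1.congr (fun y hy => ?_)
    obtain ⟨x, hx, rfl⟩ := (hP' y).1 hy
    rw [h1 x hx, hinv x hx]

theorem EPred.alperinClosed {G : Subgroup Ω → (Ω → Ω) → Prop} (hG : EPred G) {S : Subgroup Ω}
    (F : FusionSystem S) : AlperinClosed F G where
  congr := fun h hff => hG.congr h hff
  restrict := fun _ h hP => hG.restrict h hP
  comp := fun _ _ hPP h1 h2 => hG.comp h1 h2 hPP

/-- transport of the predicate along a map satisfying it -/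
theorem EPred.conj {G : Subgroup Ω → (Ω → Ω) → Prop} (hG : EPred G) {S : Subgroup Ω} [Finite S]
    {F : FusionSystem S} {M A : Subgroup Ω} {φ γ γ' : Ω → Ω}
    (hφ : Mor F M φ) (hφg : G M φ) (hA : A ≤ M) (hγ : Mor F A γ)
    (hγM : ∀ x ∈ A, γ x ∈ M) (hcomm : ∀ a ∈ A, γ' (φ a) = φ (γ a))
    (hg' : G (hφ.restrict hA).image γ') : G A γ := by
  have hφA : Mor F A φ := hφ.restrict hA
  have h1 : G A φ := hG.restrict hφg hA
  have hB : hγ.image ≤ M := by
    rintro y ⟨x, hx, rfl⟩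
    exact hγM x hx
  have hφB : Mor F hγ.image φ := hφ.restrict hB
  have hIB : Iso F hγ.image hφB.image φ := Iso.of_mor hφB
  obtain ⟨ψ, hψ, hψ1, hψ2⟩ := hIB.symm
  have hψg : G hφB.image ψ := hG.symm (hG.restrict hφg hB) (fun y => Iff.rfl) hψ1
  have hg12 : G A (fun x => γ' (φ x)) := hG.comp h1 hg' (fun x hx => ⟨x, hx, rfl⟩)
  have hmaps : ∀ x ∈ A, γ' (φ x) ∈ hφB.image := by
    intro x hx
    rw [hcomm x hx]
    exact ⟨γ x, ⟨x, hx, rfl⟩, rfl⟩
  have h3 := hG.comp hg12 hψg hmaps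
  refine hG.congr h3 (fun x hx => ?_)
  show ψ (γ' (φ x)) = γ x
  rw [hcomm x hx, hψ1 (γ x) ⟨x, hx, rfl⟩]

/-! ### the subgroup `℧¹(Z(S))` -/

/-- the subgroup generated by the `p`-th powers of the elements of `Z(S)` -/
def vOf (p : ℕ) (S : Subgroup Ω) : Subgroup Ω :=
  Cfsg.powerClosure p 1 (S ⊓ Subgroup.centralizer (S : Set Ω))

theorem vOf_le (p : ℕ) (S : Subgroup Ω) : vOf p S ≤ S ⊓ Subgroup.centralizer (S : Set Ω) := by
  unfold vOf Cfsg.powerClosure
  rw [Subgroup.closure_le]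
  rintro y ⟨x, hx, rfl⟩
  exact Subgroup.pow_mem _ hx _

theorem vOf_mono_of {p : ℕ} {S T : Subgroup Ω}
    (h : S ⊓ Subgroup.centralizer (S : Set Ω) ≤ T ⊓ Subgroup.centralizer (T : Set Ω)) :
    vOf p S ≤ vOf p T := by
  unfold vOf Cfsg.powerClosure
  apply Subgroup.closure_mono
  rintro y ⟨x, hx, rfl⟩
  exact ⟨x, h hx, rfl⟩

theorem zOf_le_zOf_normalizerIn {S X : Subgroup Ω} (hX : X ≤ S) :
    S ⊓ Subgroup.centralizer (S : Set Ω) ≤
      normalizerIn S X ⊓ Subgroup.centralizer ((normalizerIn S X : Subgroup Ω) : Set Ω) := by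
  intro z hz
  exact ⟨Cfsg.Agent.Helper87.CenLocal.center_le_normalizerIn' hX hz,
    Subgroup.centralizer_le (inf_le_left : normalizerIn S X ≤ S) hz.2⟩

theorem vOf_le_vOf_normalizerIn (p : ℕ) {S X : Subgroup Ω} (hX : X ≤ S) :
    vOf p S ≤ vOf p (normalizerIn S X) :=
  vOf_mono_of (zOf_le_zOf_normalizerIn hX)

/-- a map fixing the `p`-th powers of the elements of a subgroup `Z` of its source fixes the subgroup they generate -/
theorem fix_powerClosure {S : Subgroup Ω} {F : FusionSystem S} {A : Subgroup Ω} {g : Ω → Ω} (hg : Mor F A g)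
    {p : ℕ} {Z : Subgroup Ω} (hZA : Z ≤ A) (hfix : ∀ z ∈ Z, g (z ^ p) = z ^ p) :
    ∀ v ∈ Cfsg.powerClosure p 1 Z, g v = v := by
  intro v hv
  have key : v ∈ A ∧ g v = v := by
    unfold Cfsg.powerClosure at hv
    induction hv using Subgroup.closure_induction with
    | mem y hy =>
      obtain ⟨x, hx, rfl⟩ := hy
      rw [pow_one]
      exact ⟨A.pow_mem (hZA hx) p, hfix x hx⟩
    | one => exact ⟨A.one_mem, hg.map_one⟩
    | mul a b _ _ iha ihb =>
      exact ⟨A.mul_mem iha.1 ihb.1, by rw [hg.map_mul iha.1 ihb.1, iha.2, ihb.2]⟩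
    | inv a _ iha =>
      exact ⟨A.inv_mem iha.1, by rw [hg.map_inv iha.1, iha.2]⟩
  exact key.2

/-! ### the hypotheses -/

/-- the maps of `F` fixing `℧¹(Z(S))` elementwise satisfy the predicate -/
def HV (p : ℕ) {S : Subgroup Ω} (F : FusionSystem S) (G : Subgroup Ω → (Ω → Ω) → Prop) : Prop :=
  ∀ (A : Subgroup Ω) (g : Ω → Ω), Mor F A g → vOf p S ≤ A → (∀ v ∈ vOf p S, g v = v) → G A g

/-- the maps of `F` carrying `J(S)` into itself satisfy the predicate -/
def HJ {S : Subgroup Ω} (F : FusionSystem S) (G : Subgroup Ω → (Ω → Ω) → Prop) : Prop :=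
  ∀ (A : Subgroup Ω) (g : Ω → Ω), Mor F A g → thompsonSubgroupAOf S ≤ A →
    (∀ x ∈ thompsonSubgroupAOf S, g x ∈ thompsonSubgroupAOf S) → G A g

theorem hv_normalizer {p : ℕ} {S : Subgroup Ω} {F : FusionSystem S} {G : Subgroup Ω → (Ω → Ω) → Prop}
    (hV : HV p F G) {X : Subgroup Ω} (hX : X ≤ S) {NX : FusionSystem (normalizerIn S X)}
    (hNX : F.IsNormalizerSystem X NX) : HV p NX G := by
  intro A g hg hVA hfix
  have hle := vOf_le_vOf_normalizerIn p hX
  exact hV A g ((mor_normalizerSystem_iff hNX).1 hg).1 (hle.trans hVA) (fun v hv => hfix v (hle hv))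

/-! ### `J(N)` is not contained in a subgroup `Q` that is not self-centralizing in `N` -/

theorem not_jOf_le {N Q : Subgroup Ω} [Finite N] (hQN : Q ≤ N)
    (h : ¬ N ⊓ Subgroup.centralizer (Q : Set Ω) ≤ Q) : ¬ thompsonSubgroupAOf N ≤ Q := by
  intro hJ
  apply h
  rintro x ⟨hxN, hxC⟩
  obtain ⟨A, hA⟩ := exists_maxAbelian (P := ↥N)
  have hAJ : A.map N.subtype ≤ Q := by
    refine le_trans ?_ hJ
    unfold thompsonSubgroupAOf thompsonSubgroupA
    exact Subgroup.map_mono (le_sSup hA)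
  -- `x` centralizes `A`
  have hxA : ∀ a ∈ A, (⟨x, hxN⟩ : N) * a = a * ⟨x, hxN⟩ := by
    intro a ha
    apply Subtype.ext
    have haQ : (a : Ω) ∈ Q := hAJ ⟨a, ha, rfl⟩
    exact (Subgroup.mem_centralizer_iff.1 hxC _ haQ).symm
  haveI := hA.1
  -- the subgroup generated by `A` and `x` is abelian
  let B : Subgroup N := Subgroup.closure ((A : Set N) ∪ {⟨x, hxN⟩})
  have hBc : IsMulCommutative B := by
    refine ⟨⟨?_⟩⟩
    have hcomm : ∀ a ∈ (A : Set N) ∪ {⟨x, hxN⟩}, ∀ b ∈ (A : Set N) ∪ {⟨x, hxN⟩}, a * b = b * a := by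
      rintro a (ha | ha) b (hb | hb)
      · have h0 := (hA.1).is_comm.comm (⟨a, ha⟩ : A) ⟨b, hb⟩
        have h1 := congrArg Subtype.val h0
        simpa using h1
      · rw [Set.mem_singleton_iff.1 hb]; exact (hxA a ha).symm
      · rw [Set.mem_singleton_iff.1 ha]; exact hxA b hb
      · rw [Set.mem_singleton_iff.1 ha, Set.mem_singleton_iff.1 hb]
    rintro ⟨a, ha⟩ ⟨b, hb⟩
    apply Subtype.ext
    show a * b = b * a
    exact Subgroup.closure_induction₂ (p := fun a b _ _ => a * b = b * a)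
      (fun a b ha hb => hcomm a ha b hb) (fun a _ => by simp) (fun a _ => by simp)
      (fun a b c _ _ _ h1 h2 => by rw [mul_assoc, h2, ← mul_assoc, h1, mul_assoc])
      (fun a b c _ _ _ h1 h2 => by rw [← mul_assoc, h1, mul_assoc, h2, ← mul_assoc])
      (fun a b _ _ h1 => by
        have : a⁻¹ * b = a⁻¹ * (b * a) * a⁻¹ := by group
        rw [this, ← h1]; group)
      (fun a b _ _ h1 => by
        have : a * b⁻¹ = b⁻¹ * (b * a) * b⁻¹ := by group
        rw [this, ← h1]; group) ha hb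
  have hAB : A ≤ B := fun a ha => Subgroup.subset_closure (Or.inl ha)
  have hcard := hA.2 B hBc
  have hAeq : A = B := Subgroup.eq_of_le_of_card_ge hAB hcard
  have hxB : (⟨x, hxN⟩ : N) ∈ B := Subgroup.subset_closure (Or.inr rfl)
  rw [← hAeq] at hxB
  exact hAJ ⟨⟨x, hxN⟩, hxB, rfl⟩

/-- if `Q ≤ X` and `C_S(Q)` is not contained in `Q`, then `C_{N_S(X)}(Q)` is not contained in `Q` -/
theorem not_normalizerIn_inf_centralizer_le {p : ℕ} [Fact p.Prime] {S : Subgroup Ω} [Finite S] (hS : IsPGroup p S)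
    {Q X : Subgroup Ω} (hQn : S ≤ Subgroup.normalizer (Q : Set Ω)) (hQX : Q ≤ X) (hX : X ≤ S)
    (h : ¬ centralizerIn S Q ≤ Q) :
    ¬ normalizerIn S X ⊓ Subgroup.centralizer (Q : Set Ω) ≤ Q := by
  intro hle
  have h1 : normalizerIn S X ⊓ centralizerIn S Q ≤ X := by
    rintro x ⟨hxN, hxC⟩
    exact hQX (hle ⟨hxN, hxC.2⟩)
  have h2 : centralizerIn S Q ≤ X :=
    le_of_normalizerIn_inf_le hS hX inf_le_left
      (Cfsg.Agent.Helper87.CenMain.le_normalizer_centralizerIn' hQn) h1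
  apply h
  intro x hx
  exact hle ⟨le_normalizerIn hX (h2 hx), hx.2⟩

end Cfsg.Agent.Helper86.GenVJ
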