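import Mathlib
import Cfsg.Agent.Lib.Helper86.GenA
import Cfsg.Agent.Lib.Helper86.ThFusC

set_option autoImplicit false
set_option linter.style.haveILetI false
set_option linter.unusedSectionVars false
set_option linter.unusedVariables false

/-! # Generation of a saturated fusion system by `C_F(℧¹(Z(S)))` and `N_F(J(S))`, part B: the chain argument and the case
where `O_p(F)` is not self-centralizing -/

namespace Cfsg.Agent.Helper86.GenVJ

open Cfsg Cfsg.FusionSystem Cfsg.Agent.Helper87 Cfsg.Agent.Helper85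
  Cfsg.Agent.Helper87.GlaubFunctor Cfsg.Agent.Helper87.CenFunctor Cfsg.Agent.Helper86.ThFus
  Cfsg.Agent.Helper86.GlCen Cfsg.Agent.Helper87.GlaubNormal

universe u

variable {Ω : Type u} [Group Ω]

/-- the chain argument: maps normalizing `J(N)` satisfy the predicate -/
theorem chain {p : ℕ} [Fact p.Prime] {S : Subgroup Ω} [Finite S] (hS : IsPGroup p S) {F : FusionSystem S}
    (hF : F.IsSaturated p) {G : Subgroup Ω → (Ω → Ω) → Prop} (hG : EPred G) (hJ : HJ F G)
    {Q : Subgroup Ω} (hQ : F.IsNormal Q) (hncen : ¬ centralizerIn S Q ≤ Q)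
    (hloc : ∀ X : Subgroup Ω, F.IsFullyNormalized X → Nat.card Q < Nat.card X →
      ∀ NX : FusionSystem (normalizerIn S X), F.IsNormalizerSystem X NX → HJ NX G →
        ∀ (P : Subgroup Ω) (f : Ω → Ω), Mor NX P f → G P f)
    (k : ℕ) (IHA : ∀ (P' : Subgroup Ω) (f' : Ω → Ω), Mor F P' f' → k < Nat.card P' → G P' f') :
    ∀ n : ℕ, ∀ (N A : Subgroup Ω) (γ : Ω → Ω), Nat.card S - Nat.card N = n → N ≤ S → Q ≤ N →
      ¬ (N ⊓ Subgroup.centralizer (Q : Set Ω) ≤ Q) → k < Nat.card N → A ≤ N → Mor F A γ →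
      (∀ x ∈ A, γ x ∈ N) → thompsonSubgroupAOf N ≤ A →
      (∀ x ∈ thompsonSubgroupAOf N, γ x ∈ thompsonSubgroupAOf N) → G A γ := by
  have hW := isPos_WJ.{u} p
  have hQs : F.StronglyClosed Q := stronglyClosed_of_isNormal hQ
  have hQS : Q ≤ S := (isNormal_iff.1 hQ).1
  have hSn : S ≤ Subgroup.normalizer (Q : Set Ω) := stronglyClosed_le_normalizer hQs
  intro n
  induction n using Nat.strong_induction_on with
  | _ n ih =>
    intro N A γ hn hN hQN hNQ hkN hA hγ hγN hJA hγJ
    by_cases hNS : N = S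
    · subst hNS
      exact hJ A γ hγ hJA hγJ
    · haveI : Finite N := finite_of_le hN
      have hNp : IsPGroup p N := hS.to_le hN
      -- extend `γ` to `A ⊔ Q`
      obtain ⟨γ₁, hγ₁, e₁, hγ₁Q⟩ := (isNormal_iff.1 hQ).2 A γ hγ
      have hA₁ : A ⊔ Q ≤ N := sup_le hA hQN
      have hγ₁N : ∀ x ∈ A ⊔ Q, γ₁ x ∈ N :=
        hγ₁.map_sup_mem le_sup_left le_sup_right
          (fun a ha => by rw [e₁ a ha]; exact hγN a ha)
          (fun b hb => hQN ((hγ₁Q _).2 ⟨b, hb, rfl⟩))
      suffices hmain : G (A ⊔ Q) γ₁ from hG.congr (hG.restrict hmain le_sup_left) e₁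
      have hJN : thompsonSubgroupAOf N ≤ N := jOf_le N
      have hXN : thompsonSubgroupAOf N ⊔ Q ≤ N := sup_le hJN hQN
      have hXS : thompsonSubgroupAOf N ⊔ Q ≤ S := hXN.trans hN
      have hXA : thompsonSubgroupAOf N ⊔ Q ≤ A ⊔ Q := sup_le (hJA.trans le_sup_left) le_sup_right
      have hγ₁X : ∀ x ∈ thompsonSubgroupAOf N ⊔ Q, γ₁ x ∈ thompsonSubgroupAOf N ⊔ Q :=
        hγ₁.map_sup_mem (hJA.trans le_sup_left) le_sup_right
          (fun a ha => by
            rw [e₁ a (hJA ha)]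
            exact (le_sup_left : thompsonSubgroupAOf N ≤ thompsonSubgroupAOf N ⊔ Q) (hγJ a ha))
          (fun b hb => (le_sup_right : Q ≤ thompsonSubgroupAOf N ⊔ Q) ((hγ₁Q _).2 ⟨b, hb, rfl⟩))
      -- `X` is strictly larger than `Q`
      have hJnQ : ¬ thompsonSubgroupAOf N ≤ Q := not_jOf_le hQN hNQ
      obtain ⟨j, hjJ, hjQ⟩ := SetLike.not_le_iff_exists.1 hJnQ
      have hcardX : Nat.card Q < Nat.card ↥(thompsonSubgroupAOf N ⊔ Q) :=
        card_lt_of_not_mem le_sup_right hXS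
          ((le_sup_left : thompsonSubgroupAOf N ≤ thompsonSubgroupAOf N ⊔ Q) hjJ) hjQ
      -- normalizers
      have hnormJ : normalizerIn S N ≤ normalizerIn S (thompsonSubgroupAOf N) :=
        pos_normalizerIn_le hW hS hN
      have hnormX : normalizerIn S N ≤ normalizerIn S (thompsonSubgroupAOf N ⊔ Q) := by
        intro s hs
        exact ⟨hs.1, mem_normalizer_sup (hnormJ hs).2 (hSn hs.1)⟩
      have hNX : N ≤ normalizerIn S (thompsonSubgroupAOf N ⊔ Q) := (le_normalizerIn hN).trans hnormX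
      obtain ⟨n₀, hn₀, hn₀N⟩ := exists_normalizer_not_mem hS hN hNS
      have hcard1 : Nat.card N < Nat.card (normalizerIn S (thompsonSubgroupAOf N ⊔ Q)) :=
        card_lt_of_not_mem hNX inf_le_left (hnormX hn₀) hn₀N
      obtain ⟨X', hXX', hX'fn⟩ := exists_fullyNormalized_conj F hXS
      obtain ⟨φ, hφ, hφX⟩ := exists_map_normalizer_to_fullyNormalized hS hF hX'fn hXX'
      have hφN' : ∀ x ∈ normalizerIn S (thompsonSubgroupAOf N ⊔ Q), φ x ∈ normalizerIn S X' :=
        fun x hx => map_normalizerIn hφ hφX hx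
      have hcard2 : Nat.card (normalizerIn S (thompsonSubgroupAOf N ⊔ Q)) ≤
          Nat.card (normalizerIn S X') := card_le_of_mor hφ inf_le_left hφN'
      have hcard3 : Nat.card (normalizerIn S X') ≤ Nat.card S := card_normalizerIn_le X'
      have hX'S : X' ≤ S := hX'fn.1
      -- `Q ≤ X'`
      have hQX : Q ≤ thompsonSubgroupAOf N ⊔ Q := le_sup_right
      have hφQ : ∀ x ∈ Q, φ x ∈ Q := fun x hx =>
        Mor.map_stronglyClosed hQs hφ (hNX (hQN hx)) hx
      have hQX' : Q ≤ X' := by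
        intro q hq
        obtain ⟨q', hq', rfl⟩ := surj_on_of_inj hφ (hQN.trans hNX) hφQ q hq
        exact hφX.map_mem (hQX hq')
      have hcardX' : Nat.card Q < Nat.card X' := by
        rw [← hφX.card_eq]; exact hcardX
      have hN'Q : ¬ normalizerIn S X' ⊓ Subgroup.centralizer (Q : Set Ω) ≤ Q :=
        not_normalizerIn_inf_centralizer_le hS hSn hQX' hX'S hncen
      have hQN' : Q ≤ normalizerIn S X' := hQX'.trans (le_normalizerIn hX'S)
      obtain ⟨NX', hNX'⟩ := Cfsg.Agent.S5096.result F X' hX'S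
      have hJNX' : HJ NX' G := by
        intro A' γ' hγ' hJA' hγ'J
        have hγ'F := (mor_normalizerSystem_iff hNX').1 hγ'
        exact ih (Nat.card S - Nat.card (normalizerIn S X')) (by omega) (normalizerIn S X')
          A' γ' rfl inf_le_left hQN' hN'Q (by omega) hγ'F.2.1 hγ'F.1 hγ'F.2.2.1 hJA' hγ'J
      have hall := hloc X' hX'fn hcardX' NX' hNX' hJNX'
      -- transport
      have hAX : A ⊔ Q ≤ normalizerIn S (thompsonSubgroupAOf N ⊔ Q) := hA₁.trans hNX
      have hφA : Mor F (A ⊔ Q) φ := hφ.restrict hAX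
      have hφNm : Mor F N φ := hφ.restrict hNX
      have hIA : Iso F (A ⊔ Q) hφA.image φ := Iso.of_mor hφA
      obtain ⟨ψ, hψ, hψ1, hψ2⟩ := hIA.symm
      have hγ'm : Mor F hφA.image (fun y => φ (γ₁ (ψ y))) :=
        (hψ.1.comp hγ₁ (fun y hy => hψ.map_mem hy)).comp hφNm
          (fun y hy => hγ₁N _ (hψ.map_mem hy))
      have hcomm : ∀ a ∈ A ⊔ Q, (fun y => φ (γ₁ (ψ y))) (φ a) = φ (γ₁ a) := by
        intro a ha
        show φ (γ₁ (ψ (φ a))) = φ (γ₁ a)
        rw [hψ1 a ha]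
      have hX'A' : X' ≤ hφA.image := by
        intro y hy
        obtain ⟨x, hx, rfl⟩ := hφX.surj hy
        exact ⟨x, hXA hx, rfl⟩
      have hγ'X' : ∀ y ∈ X', (fun y => φ (γ₁ (ψ y))) y ∈ X' := by
        intro y hy
        obtain ⟨x, hx, rfl⟩ := hφX.surj hy
        rw [hcomm x (hXA hx)]
        exact hφX.map_mem (hγ₁X x hx)
      have hisoX' : Iso F X' X' (fun y => φ (γ₁ (ψ y))) :=
        iso_of_card_le (hγ'm.restrict hX'A') hX'S hγ'X' le_rfl
      have hA'N' : hφA.image ≤ normalizerIn S X' := by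
        rintro y ⟨a, ha, rfl⟩
        exact hφN' a (hAX ha)
      have hmorN' : Mor NX' hφA.image (fun y => φ (γ₁ (ψ y))) := by
        rw [mor_normalizerSystem_iff hNX']
        refine ⟨hγ'm, hA'N', ?_, fun y => φ (γ₁ (ψ y)), ?_, fun _ _ => rfl, hisoX'.2⟩
        · intro y hy
          exact hφN' _ (hNX (hγ₁N _ (hψ.map_mem hy)))
        · rw [sup_eq_left.2 hX'A']
          exact hγ'm
      have hgood' : G hφA.image (fun y => φ (γ₁ (ψ y))) := hall _ _ hmorN'
      have hφgood : G N φ := hG.restrict (IHA _ φ hφ (by omega)) hNX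
      exact hG.conj hφNm hφgood hA₁ hγ₁ hγ₁N hcomm hgood'

/-- the case where `O_p(F)` is not self-centralizing -/
theorem noncentric_case {p : ℕ} [Fact p.Prime] {S : Subgroup Ω} [Finite S] (hS : IsPGroup p S)
    {F : FusionSystem S} (hF : F.IsSaturated p) {G : Subgroup Ω → (Ω → Ω) → Prop} (hG : EPred G)
    (hJ : HJ F G) {Q : Subgroup Ω} (hQ : F.IsNormal Q) (hncen : ¬ centralizerIn S Q ≤ Q)
    (hloc : ∀ X : Subgroup Ω, F.IsFullyNormalized X → Nat.card Q < Nat.card X →
      ∀ NX : FusionSystem (normalizerIn S X), F.IsNormalizerSystem X NX → HJ NX G →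
        ∀ (P : Subgroup Ω) (f : Ω → Ω), Mor NX P f → G P f) :
    ∀ (P : Subgroup Ω) (f : Ω → Ω), Mor F P f → G P f := by
  have hW := isPos_WJ.{u} p
  have hQs : F.StronglyClosed Q := stronglyClosed_of_isNormal hQ
  have hQS : Q ≤ S := (isNormal_iff.1 hQ).1
  have hSn : S ≤ Subgroup.normalizer (Q : Set Ω) := stronglyClosed_le_normalizer hQs
  apply alperin_strong hS hF G (hG.alperinClosed F)
  intro R hRfn hRc hRr IHA α hα
  have hR : R ≤ S := hRfn.1
  have hm : Mor F R (extAut α) := (mem_autGroup_iff hR).1 hα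
  have hiso : Iso F R R (extAut α) := iso_of_mor_extAut hm
  by_cases hRS : R = S
  · subst hRS
    exact hJ R _ hm (jOf_le R) (fun x hx => pos_iso_mem hW hS hiso hx)
  · haveI : Finite R := finite_of_le hR
    have hQR : Q ≤ R := le_of_isNormal_centric_radical hS hQ hRc hRr
    have hRneQ : ¬ R ≤ Q := by
      intro hRQ
      apply hncen
      intro x hx
      have hxR : x ∈ centralizerIn S R := ⟨hx.1, Subgroup.centralizer_le hRQ hx.2⟩
      exact hRQ (hRc.2 R (isConj_refl hR) hxR)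
    obtain ⟨r, hrR, hrQ⟩ := SetLike.not_le_iff_exists.1 hRneQ
    have hcardR : Nat.card Q < Nat.card R := card_lt_of_not_mem hQR hR hrR hrQ
    obtain ⟨n₀, hn₀, hn₀R⟩ := exists_normalizer_not_mem hS hR hRS
    have hcard : Nat.card R < Nat.card (normalizerIn S R) :=
      card_lt_of_not_mem (le_normalizerIn hR) inf_le_left hn₀ hn₀R
    obtain ⟨NR, hNR⟩ := Cfsg.Agent.S5096.result F R hR
    have hTQ : ¬ normalizerIn S R ⊓ Subgroup.centralizer (Q : Set Ω) ≤ Q :=
      not_normalizerIn_inf_centralizer_le hS hSn hQR hR hncen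
    have hQT : Q ≤ normalizerIn S R := hQR.trans (le_normalizerIn hR)
    have hJNR : HJ NR G := by
      intro A' γ' hγ' hJA' hγ'J
      have hγ'F := (mor_normalizerSystem_iff hNR).1 hγ'
      exact chain hS hF hG hJ hQ hncen hloc (Nat.card R) IHA _ (normalizerIn S R) A' γ' rfl
        inf_le_left hQT hTQ hcard hγ'F.2.1 hγ'F.1 hγ'F.2.2.1 hJA' hγ'J
    have hall := hloc R hRfn hcardR NR hNR hJNR
    have hmorN : Mor NR R (extAut α) := by
      rw [mor_normalizerSystem_iff hNR]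
      refine ⟨hm, le_normalizerIn hR, fun x hx => le_normalizerIn hR (hiso.map_mem hx),
        extAut α, ?_, fun _ _ => rfl, hiso.2⟩
      rw [sup_idem]
      exact hm
    exact hall _ _ hmorN

end Cfsg.Agent.Helper86.GenVJ
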