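import Mathlib
import Cfsg.Agent.Lib.Helper33.QuadGen

set_option autoImplicit false
set_option linter.style.haveILetI false
set_option linter.unusedSectionVars false
set_option linter.unusedVariables false

/-! # Generation by `C_F(℧¹(Z(S)))` and `N_F(J(S))`: the group-theoretic input

In a finite group `X` with `C_X(O_p(X)) ≤ O_p(X)` in which `J(S)` is not normal, some element of `S` outside `O_p(X)`
centralizes the `p`-th powers of the elements of `Z(O_p(X))` (extracted from helper33's `QuadGen.gen74`: Thompson replacement and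
the quadratic action lemma). -/

namespace Cfsg.Agent.Helper86.GenVJ

open Pointwise Cfsg
open scoped commutatorElement
open Cfsg.Agent.Helper33

universe u

theorem exists_centralizing_power {p : ℕ} [Fact p.Prime] (X : Type u) [Group X] [Finite X] (S : Sylow p X)
    (hchar : Subgroup.centralizer ((pCore p X : Subgroup X) : Set X) ≤ pCore p X)
    (hnot : ¬ (⊤ : Subgroup X) ≤
      Subgroup.normalizer ((Cfsg.thompsonSubgroupAOf (S : Subgroup X) : Subgroup X) : Set X)) :
    ∃ v : X, v ∈ (S : Subgroup X) ∧ v ∉ pCore p X ∧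
      ∀ b ∈ pCore p X ⊓ Subgroup.centralizer ((pCore p X : Subgroup X) : Set X), v * b ^ p = b ^ p * v := by
  set Q := pCore p X with hQ
  haveI hQn : Q.Normal := Cfsg.Agent.Helper33.pCore_normal p
  obtain ⟨B, hB⟩ : ∃ B : Subgroup X, B = Q ⊓ Subgroup.centralizer (Q : Set X) := ⟨_, rfl⟩
  haveI hBn : B.Normal := by rw [hB]; infer_instance
  have hBc : ∀ x ∈ B, ∀ y ∈ B, x * y = y * x := by
    intro x hx y hy
    rw [hB] at hx hy
    exact Subgroup.mem_centralizer_iff.mp hy.2 x hx.1
  obtain ⟨g, hgS, hgQ, hquad⟩ := (Cfsg.Agent.Helper33.QuadGen.quadLoc_jA (p := p) X) ⊤ S le_top S.isPGroup'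
    (isSylIn_top S).2.2 hnot
  rw [pCoreOf_top] at hgQ hquad
  rw [← hQ, ← hB] at hquad
  obtain ⟨v, hvS, hvQ, hvpQ, hvz⟩ := exists_power_not_mem Q (S : Subgroup X) S.isPGroup' g hgS hgQ
  have hquadv : ⁅⁅B, Subgroup.zpowers v⁆, Subgroup.zpowers v⁆ = ⊥ := by
    rw [eq_bot_iff, ← hquad]
    have hle : Subgroup.zpowers v ≤ Subgroup.zpowers g := Subgroup.zpowers_le.mpr hvz
    exact Subgroup.commutator_mono (Subgroup.commutator_mono le_rfl hle) hle
  have hvp : ∀ b ∈ B, v ^ p * b = b * v ^ p := by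
    intro b hb
    rw [hB] at hb
    exact Subgroup.mem_centralizer_iff.mp hb.2 _ hvpQ
  have hcomm := quad_pow_comm B hBc v hquadv hvp
  refine ⟨v, hvS, hvQ, fun b hb => ?_⟩
  exact hcomm b (by rw [hB]; exact hb)

end Cfsg.Agent.Helper86.GenVJ
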