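import Mathlib
import Cfsg.Agent.Lib.Helper86.GenB
import Cfsg.Agent.Lib.Helper86.GenC0
import Cfsg.Agent.Lib.Helper87.CenStep
import Cfsg.Agent.Lib.Helper87.CenConstrained
import Cfsg.Agent.Lib.Helper87.ModelSolv

set_option autoImplicit false
set_option linter.style.haveILetI false
set_option linter.unusedSectionVars false
set_option linter.unusedVariables false

/-! # Generation of a saturated fusion system by `C_F(℧¹(Z(S)))` and `N_F(J(S))`, part C: the constrained case -/

namespace Cfsg.Agent.Helper86.GenVJ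

open Cfsg Cfsg.FusionSystem Cfsg.Agent.Helper87 Cfsg.Agent.Helper85
  Cfsg.Agent.Helper87.GlaubFunctor Cfsg.Agent.Helper87.CenFunctor Cfsg.Agent.Helper86.ThFus
  Cfsg.Agent.Helper86.GlCen Cfsg.Agent.Helper87.GlaubNormal Cfsg.Agent.Helper87.CenStep
  Cfsg.Agent.Helper87.CenConstrained

universe u

variable {Ω : Type u} [Group Ω]

theorem Mor.map_pow' {S : Subgroup Ω} {F : FusionSystem S} {B : Subgroup Ω} {g : Ω → Ω} (hg : Mor F B g)
    {x : Ω} (hx : x ∈ B) (n : ℕ) : g (x ^ n) = g x ^ n := by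
  induction n with
  | zero => rw [pow_zero, pow_zero]; exact hg.map_one
  | succ n ih => rw [pow_succ, pow_succ, hg.map_mul (B.pow_mem hx n) hx, ih]

/-- a map of the system carrying `Q` onto itself carries `℧¹(Z(Q))` into itself -/
theorem map_vOf {p : ℕ} {S : Subgroup Ω} {F : FusionSystem S} {B : Subgroup Ω} {g : Ω → Ω} (hg : Mor F B g)
    {Q : Subgroup Ω} (hQB : Q ≤ B) (hgQ : ∀ y, y ∈ Q ↔ ∃ x ∈ Q, g x = y) :
    ∀ x ∈ vOf p Q, g x ∈ vOf p Q := by
  have hZ : ∀ b ∈ Q ⊓ Subgroup.centralizer (Q : Set Ω), g b ∈ Q ⊓ Subgroup.centralizer (Q : Set Ω) := by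
    rintro b ⟨hbQ, hbC⟩
    refine ⟨(hgQ _).2 ⟨b, hbQ, rfl⟩, ?_⟩
    show g b ∈ Subgroup.centralizer (Q : Set Ω)
    rw [Subgroup.mem_centralizer_iff]
    intro y hy
    obtain ⟨x, hx, rfl⟩ := (hgQ y).1 hy
    rw [← hg.map_mul (hQB hx) (hQB hbQ), ← hg.map_mul (hQB hbQ) (hQB hx),
      Subgroup.mem_centralizer_iff.1 hbC x hx]
  intro x hx
  have key : x ∈ B ∧ g x ∈ vOf p Q := by
    unfold vOf Cfsg.powerClosure at hx
    induction hx using Subgroup.closure_induction with
    | mem y hy =>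
      obtain ⟨b, hb, rfl⟩ := hy
      refine ⟨B.pow_mem (hQB hb.1) _, ?_⟩
      rw [Mor.map_pow' hg (hQB hb.1)]
      exact Subgroup.subset_closure ⟨g b, hZ b hb, rfl⟩
    | one => exact ⟨B.one_mem, by rw [hg.map_one]; exact Subgroup.one_mem _⟩
    | mul a b _ _ iha ihb =>
      exact ⟨B.mul_mem iha.1 ihb.1, by rw [hg.map_mul iha.1 ihb.1]; exact Subgroup.mul_mem _ iha.2 ihb.2⟩
    | inv a _ iha =>
      exact ⟨B.inv_mem iha.1, by rw [hg.map_inv iha.1]; exact Subgroup.inv_mem _ iha.2⟩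
  exact key.2

theorem vOf_le_self (p : ℕ) (Q : Subgroup Ω) : vOf p Q ≤ Q := (vOf_le p Q).trans inf_le_left

/-- `℧¹(Z(Q))` is strongly closed when `Q` is normal in the system -/
theorem stronglyClosed_vOf {p : ℕ} {S : Subgroup Ω} [Finite S] {F : FusionSystem S} {Q : Subgroup Ω}
    (hQ : F.IsNormal Q) : F.StronglyClosed (vOf p Q) := by
  obtain ⟨hQS, hn⟩ := isNormal_iff.1 hQ
  rw [stronglyClosed_iff]
  refine ⟨(vOf_le_self p Q).trans hQS, fun R f hR hf x hx => ?_⟩
  obtain ⟨g, hg, e, hgQ⟩ := hn R f hf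
  rw [← e x hx]
  exact map_vOf hg le_sup_right hgQ x (hR hx)

/-- the constrained case -/
theorem constrained_case {p : ℕ} [Fact p.Prime] {S : Subgroup Ω} [Finite S] (hS : IsPGroup p S)
    {F : FusionSystem S} (hF : F.IsSaturated p) {G : Subgroup Ω → (Ω → Ω) → Prop} (hG : EPred G)
    (hV : HV p F G) (hJ : HJ F G) (hQcen : centralizerIn S F.core ≤ F.core)
    (hloc : ∀ X : Subgroup Ω, F.IsFullyNormalized X → Nat.card F.core < Nat.card X →
      ∀ NX : FusionSystem (normalizerIn S X), F.IsNormalizerSystem X NX → HJ NX G →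
        ∀ (P : Subgroup Ω) (f : Ω → Ω), Mor NX P f → G P f) :
    ∀ (P : Subgroup Ω) (f : Ω → Ω), Mor F P f → G P f := by
  have hW := isPos_WJ.{u} p
  have hQ : F.IsNormal F.core := isNormal_core F
  have hQs : F.StronglyClosed F.core := stronglyClosed_of_isNormal hQ
  have hQS : F.core ≤ S := (isNormal_iff.1 hQ).1
  have hSn : S ≤ Subgroup.normalizer ((F.core : Subgroup Ω) : Set Ω) := stronglyClosed_le_normalizer hQs
  have hwc : ∀ X₂, F.IsConj F.core X₂ → X₂ = F.core := fun X₂ hc => eq_of_isConj_of_isNormal hQ hc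
  have hQc : F.IsCentric F.core := ⟨hQS, fun Q₂ hc => by rw [hwc Q₂ hc]; exact hQcen⟩
  obtain ⟨L, _, ι, hL, -⟩ := Cfsg.Agent.Helper87.ModelExists.exists_model_centralizer hS hF hQ hQc
  haveI : Finite L := hL.1
  obtain ⟨P₀, hP₀⟩ := hL.2.2.1
  have hreal := hL.2.1
  have hinj : Function.Injective ι := hreal.1
  let e : ↥S ≃* ↥(P₀ : Subgroup L) :=
    (MonoidHom.ofInjective hinj).trans (MulEquiv.subgroupCongr hP₀.symm)
  have hmap : thompsonSubgroupAOf (P₀ : Subgroup L) = (WJ ↥S).map ι := by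
    have h3 : (thompsonSubgroupA ↥S).map e.toMonoidHom = thompsonSubgroupA ↥(P₀ : Subgroup L) :=
      thompsonA_map_equiv e
    unfold thompsonSubgroupAOf
    rw [← h3, Subgroup.map_map]
    congr 1
  have hmemX : ∀ x ∈ thompsonSubgroupAOf S, au ι x ∈ (WJ ↥S).map ι := by
    intro x hx
    obtain ⟨hxT, hxW⟩ := mem_WW.1 (show x ∈ WW WJ S from hx)
    rw [au_mem ι hxT]
    exact ⟨⟨x, hxT⟩, hxW, rfl⟩
  have hmemX' : ∀ x ∈ S, au ι x ∈ (WJ ↥S).map ι → x ∈ thompsonSubgroupAOf S := by
    intro x hxT hx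
    rw [au_mem ι hxT] at hx
    obtain ⟨w, hw, hwx⟩ := hx
    have := hinj hwx
    exact (mem_WW (W := WJ)).2 ⟨hxT, this ▸ hw⟩
  have hXrange : (WJ ↥S).map ι ≤ ι.range := by
    rintro _ ⟨x, -, rfl⟩
    exact ⟨x, rfl⟩
  -- the image of the core is `O_p(L)`
  haveI hYn : (imageAlong ι F.core).Normal := model_image_normal hL hQ
  have hYp : IsPGroup p (imageAlong ι F.core) := (hS.to_subgroup (F.core.subgroupOf S)).map ι
  have hcore : imageAlong ι F.core = pCore p L :=
    le_antisymm (le_pCore hYn hYp) (Cfsg.Agent.Helper87.ModelSolv.pCore_le_img_core hL)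
  by_cases hJn : (⊤ : Subgroup L) ≤
      Subgroup.normalizer ((thompsonSubgroupAOf (P₀ : Subgroup L) : Subgroup L) : Set L)
  · -- `J(S)` is normal in the system
    intro P f hf
    obtain ⟨hP, hfT, g, hg⟩ := (realized_mor_iff hreal).1 hf
    have hgn : g ∈ Subgroup.normalizer (((WJ ↥S).map ι : Subgroup L) : Set L) := by
      rw [← hmap]; exact hJn (Subgroup.mem_top g)
    have hrange : ∀ x ∈ P ⊔ thompsonSubgroupAOf S, g * au ι x * g⁻¹ ∈ ι.range := by
      apply conj_mem_range_sup hP (jOf_le S) g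
      · intro x hx
        rw [← hg x hx]
        exact au_mem_range' ι (hfT x hx)
      · intro x hx
        exact hXrange ((Subgroup.mem_normalizer_iff.1 hgn _).1 (hmemX x hx))
    have hf' : Mor F (P ⊔ thompsonSubgroupAOf S) (fun x => au (backHom ι hinj) (g * au ι x * g⁻¹)) := by
      rw [realized_mor_iff hreal]
      refine ⟨sup_le hP (jOf_le S), fun x _ => au_backHom_mem ι hinj _, g, fun x hx => ?_⟩
      exact au_au_back ι hinj (hrange x hx)
    have hfJ : ∀ x ∈ thompsonSubgroupAOf S,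
        (fun x => au (backHom ι hinj) (g * au ι x * g⁻¹)) x ∈ thompsonSubgroupAOf S := by
      intro x hx
      apply hmemX' _ (au_backHom_mem ι hinj _)
      show au ι (au (backHom ι hinj) (g * au ι x * g⁻¹)) ∈ (WJ ↥S).map ι
      rw [au_au_back ι hinj (hrange x (le_sup_right (a := P) hx))]
      exact (Subgroup.mem_normalizer_iff.1 hgn _).1 (hmemX x hx)
    have h1 := hJ _ _ hf' le_sup_right hfJ
    refine hG.congr (hG.restrict h1 le_sup_left) (fun x hx => ?_)
    apply au_injOn hinj (au_backHom_mem ι hinj _) (hfT x hx)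
    rw [au_au_back ι hinj (hrange x (le_sup_left (b := thompsonSubgroupAOf S) hx)), hg x hx]
  · -- an element of `S` outside the core centralizing `℧¹(Z(O_p(F)))`
    obtain ⟨v₀, hv₀S, hv₀Q, hcomm⟩ := exists_centralizing_power L P₀ hL.2.2.2 hJn
    have hv₀r : v₀ ∈ ι.range := hP₀ ▸ hv₀S
    have hvS : au (backHom ι hinj) v₀ ∈ S := au_backHom_mem ι hinj _
    have hvv₀ : au ι (au (backHom ι hinj) v₀) = v₀ := au_au_back ι hinj hv₀r
    have hvQ : au (backHom ι hinj) v₀ ∉ F.core := by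
      intro h
      apply hv₀Q
      rw [← hcore, ← hvv₀]
      exact mem_img.2 ⟨_, hvS, h, rfl⟩
    have hA₀s : F.StronglyClosed (vOf p F.core) := stronglyClosed_vOf hQ
    have hA₀Q : vOf p F.core ≤ F.core := vOf_le_self p F.core
    have hA₀S : vOf p F.core ≤ S := hA₀Q.trans hQS
    have hA₀n : S ≤ Subgroup.normalizer ((vOf p F.core : Subgroup Ω) : Set Ω) :=
      stronglyClosed_le_normalizer hA₀s
    -- `v` centralizes `℧¹(Z(O_p(F)))`
    have hvC : au (backHom ι hinj) v₀ ∈ centralizerIn S (vOf p F.core) := by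
      refine ⟨hvS, ?_⟩
      show _ ∈ Subgroup.centralizer ((vOf p F.core : Subgroup Ω) : Set Ω)
      rw [Subgroup.mem_centralizer_iff]
      intro a ha
      have hgen : ∀ b ∈ F.core ⊓ Subgroup.centralizer ((F.core : Subgroup Ω) : Set Ω),
          b ^ (p ^ 1) * au (backHom ι hinj) v₀ = au (backHom ι hinj) v₀ * b ^ (p ^ 1) := by
        intro b hb
        have hbS : b ∈ S := hQS hb.1
        have hb1 : au ι b ∈ pCore p L := by
          rw [← hcore]; exact mem_img.2 ⟨b, hbS, hb.1, rfl⟩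
        have hb2 : au ι b ∈ Subgroup.centralizer ((pCore p L : Subgroup L) : Set L) := by
          rw [Subgroup.mem_centralizer_iff]
          intro y hy
          rw [← hcore] at hy
          obtain ⟨q, hqS, hqQ, rfl⟩ := mem_img.1 hy
          rw [← au_mul ι hqS hbS, ← au_mul ι hbS hqS, Subgroup.mem_centralizer_iff.1 hb.2 q hqQ]
        have h3 := hcomm (au ι b) ⟨hb1, hb2⟩
        rw [pow_one]
        apply au_injOn hinj (S.mul_mem (S.pow_mem hbS p) hvS) (S.mul_mem hvS (S.pow_mem hbS p))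
        rw [au_mul ι (S.pow_mem hbS p) hvS, au_mul ι hvS (S.pow_mem hbS p), hvv₀, au_pow_eq ι hbS, h3]
      unfold vOf Cfsg.powerClosure at ha
      induction ha using Subgroup.closure_induction with
      | mem y hy =>
        obtain ⟨b, hb, rfl⟩ := hy
        exact hgen b hb
      | one => simp
      | mul a b _ _ iha ihb => rw [mul_assoc, ihb, ← mul_assoc, iha, mul_assoc]
      | inv a _ iha =>
        have : a⁻¹ * au (backHom ι hinj) v₀ = a⁻¹ * (au (backHom ι hinj) v₀ * a) * a⁻¹ := by group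
        rw [this, ← iha]; group
    -- the subgroup `S₁ = C_S(℧¹(Z(O_p(F))))`
    have hS₁S : centralizerIn S (vOf p F.core) ≤ S := inf_le_left
    have hQS₁ : F.core ≤ centralizerIn S (vOf p F.core) := by
      intro q hq
      refine ⟨hQS hq, ?_⟩
      show q ∈ Subgroup.centralizer ((vOf p F.core : Subgroup Ω) : Set Ω)
      rw [Subgroup.mem_centralizer_iff]
      intro a ha
      exact (Subgroup.mem_centralizer_iff.1 (vOf_le p F.core ha).2 q hq).symm
    have hS₁n : S ≤ Subgroup.normalizer ((centralizerIn S (vOf p F.core) : Subgroup Ω) : Set Ω) :=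
      Cfsg.Agent.Helper87.CenMain.le_normalizer_centralizerIn' hA₀n
    have hNS₁ : normalizerIn S (centralizerIn S (vOf p F.core)) = S :=
      le_antisymm inf_le_left (le_inf le_rfl hS₁n)
    have hS₁fn : F.IsFullyNormalized (centralizerIn S (vOf p F.core)) :=
      fn_of_normalizerIn_eq hS₁S hNS₁
    have hcardS₁ : Nat.card F.core < Nat.card ↥(centralizerIn S (vOf p F.core)) :=
      card_lt_of_not_mem hQS₁ hS₁S hvC hvQ
    obtain ⟨NS₁, hNS₁'⟩ := Cfsg.Agent.S5096.result F _ hS₁S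
    have hJNS₁ : HJ NS₁ G := by
      intro A g hg hJA hgJ
      rw [hNS₁] at hJA hgJ
      exact hJ A g ((mor_normalizerSystem_iff hNS₁').1 hg).1 hJA hgJ
    have hallS₁ := hloc _ hS₁fn hcardS₁ NS₁ hNS₁' hJNS₁
    -- `℧¹(Z(S)) ≤ ℧¹(Z(O_p(F)))`
    have hVA₀ : vOf p S ≤ vOf p F.core := by
      apply vOf_mono_of
      rintro z ⟨hzS, hzC⟩
      have hzQ : z ∈ F.core := hQcen ⟨hzS, Subgroup.centralizer_le hQS hzC⟩
      exact ⟨hzQ, Subgroup.centralizer_le hQS hzC⟩
    -- Alperin's theorem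
    apply alperin_strong hS hF G (hG.alperinClosed F)
    intro R hRfn hRc hRr IHA α hα
    have hR : R ≤ S := hRfn.1
    haveI : Finite R := finite_of_le hR
    have hm : Mor F R (extAut α) := (mem_autGroup_iff hR).1 hα
    have hiso : Iso F R R (extAut α) := iso_of_mor_extAut hm
    have hQR : F.core ≤ R := le_of_isNormal_centric_radical hS hQ hRc hRr
    have hA₀R : vOf p F.core ≤ R := hA₀Q.trans hQR
    have hαA₀ : ∀ x ∈ vOf p F.core, extAut α x ∈ vOf p F.core := fun x hx =>
      Mor.map_stronglyClosed hA₀s hm (hA₀R hx) hx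
    by_cases hii : normalizerIn S R ⊓ centralizerIn S (vOf p F.core) ≤ R
    · have hS₁R : centralizerIn S (vOf p F.core) ≤ R :=
        le_of_normalizerIn_inf_le hS hR hS₁S hS₁n hii
      have hαS₁ : ∀ x ∈ centralizerIn S (vOf p F.core),
          extAut α x ∈ centralizerIn S (vOf p F.core) := by
        intro x hx
        refine ⟨hm.mem (hS₁R hx), ?_⟩
        show extAut α x ∈ Subgroup.centralizer ((vOf p F.core : Subgroup Ω) : Set Ω)
        rw [Subgroup.mem_centralizer_iff]
        intro a ha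
        obtain ⟨a', ha', rfl⟩ := surj_on_of_inj hm hA₀R hαA₀ a ha
        rw [← hm.map_mul (hA₀R ha') (hS₁R hx), ← hm.map_mul (hS₁R hx) (hA₀R ha'),
          Subgroup.mem_centralizer_iff.1 hx.2 a' ha']
      have hisoS₁ : Iso F (centralizerIn S (vOf p F.core)) (centralizerIn S (vOf p F.core)) (extAut α) :=
        iso_of_card_le (hm.restrict hS₁R) hS₁S hαS₁ le_rfl
      have hmorN : Mor NS₁ R (extAut α) := by
        rw [mor_normalizerSystem_iff hNS₁']
        refine ⟨hm, hNS₁.symm ▸ hR, fun x hx => hNS₁.symm ▸ hm.mem hx, extAut α, ?_,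
          fun _ _ => rfl, hisoS₁.2⟩
        rw [sup_eq_left.2 hS₁R]
        exact hm
      exact hallS₁ _ _ hmorN
    · obtain ⟨t, ⟨htN, htC⟩, htnR⟩ := SetLike.not_le_iff_exists.1 hii
      have htS : t ∈ S := htN.1
      have htR : t ∈ Subgroup.normalizer (R : Set Ω) := htN.2
      have htQ : t ∈ Subgroup.centralizer ((vOf p F.core : Subgroup Ω) : Set Ω) := htC.2
      haveI hKn : (fixQ F (vOf p F.core) R).Normal := fixQ_normal hA₀s hR
      obtain ⟨-, Rs, hRs⟩ := fullyAutomized_of_fullyNormalized hS hF hRfn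
      have hPKp : IsPGroup p ↥(((autInducedBy S R).subgroupOf (F.autGroup R)) ⊓
          fixQ F (vOf p F.core) R) := by
        have h0 : IsPGroup p ↥((autInducedBy S R).subgroupOf (F.autGroup R)) := hRs ▸ Rs.isPGroup'
        exact h0.to_le inf_le_left
      have hidx : ¬ p ∣ (((autInducedBy S R).subgroupOf (F.autGroup R)) ⊓
          fixQ F (vOf p F.core) R).relIndex (fixQ F (vOf p F.core) R) := by
        rw [Subgroup.inf_relIndex_right]
        intro h
        have h1 := Cfsg.Agent.Helper50.relIndex_normal_dvd_index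
          ((autInducedBy S R).subgroupOf (F.autGroup R)) (fixQ F (vOf p F.core) R)
        have h2 : ¬ p ∣ ((autInducedBy S R).subgroupOf (F.autGroup R)).index := by
          rw [← hRs]; exact Rs.not_dvd_index
        exact h2 (h.trans h1)
      have ha : (⟨α, hα⟩ : F.autGroup R) ∈ Subgroup.normalizer
          ((fixQ F (vOf p F.core) R : Subgroup (F.autGroup R)) : Set (F.autGroup R)) := by
        rw [Subgroup.normalizer_eq_top]; exact Subgroup.mem_top _
      obtain ⟨m, hm', hν⟩ := Cfsg.Agent.Helper50.exists_mul_mem_normalizer_of_sylow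
        (inf_le_right : ((autInducedBy S R).subgroupOf (F.autGroup R)) ⊓
          fixQ F (vOf p F.core) R ≤ fixQ F (vOf p F.core) R) hPKp hidx ha
      -- the conjugation by `t`
      have hc : conjAut R t htR ∈ F.autGroup R :=
        autInducedBy_le_autGroup F hR (conjAut_mem_autInducedBy htS htR)
      have hcPK : (⟨conjAut R t htR, hc⟩ : F.autGroup R) ∈
          ((autInducedBy S R).subgroupOf (F.autGroup R)) ⊓ fixQ F (vOf p F.core) R := by
        refine ⟨Subgroup.mem_subgroupOf.2 (conjAut_mem_autInducedBy htS htR), fun x hx => ?_⟩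
        apply Subtype.ext
        show t * (x : Ω) * t⁻¹ = x
        have := Subgroup.mem_centralizer_iff.1 htQ (x : Ω) hx
        rw [← this]; group
      have hνc := (Subgroup.mem_normalizer_iff.1 hν ⟨conjAut R t htR, hc⟩).1 hcPK
      obtain ⟨g, hg, eg⟩ := mem_autInducedBy_iff.1 (Subgroup.mem_subgroupOf.1 hνc.1)
      have hνm : Mor F R (extAut ((m⁻¹ * ⟨α, hα⟩ : F.autGroup R) : MulAut R)) :=
        (mem_autGroup_iff hR).1 (m⁻¹ * ⟨α, hα⟩ : F.autGroup R).2
      have hνiso : Iso F R R (extAut ((m⁻¹ * ⟨α, hα⟩ : F.autGroup R) : MulAut R)) :=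
        iso_of_mor_extAut hνm
      have htext : t ∈ hνiso.ext := by
        refine ⟨htS, htR, g, hg, fun x hx => ?_⟩
        have hx' : t * x * t⁻¹ ∈ R := (Subgroup.mem_normalizer_iff.1 htR x).1 hx
        rw [extAut_mem _ hx', extAut_mem _ hx]
        have h1 := eg (((m⁻¹ * ⟨α, hα⟩ : F.autGroup R) : MulAut R) ⟨x, hx⟩)
        rw [← h1]
        show _ = ((((m⁻¹ * ⟨α, hα⟩ : F.autGroup R) : MulAut R) ((conjAut R t htR)
          ((((m⁻¹ * ⟨α, hα⟩ : F.autGroup R) : MulAut R))⁻¹
            (((m⁻¹ * ⟨α, hα⟩ : F.autGroup R) : MulAut R) ⟨x, hx⟩))) : R) : Ω)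
        rw [MulAut.inv_apply_self]
        rfl
      obtain ⟨g', hg', eg'⟩ :=
        (isReceptive_iff.1 (receptive_of_fullyNormalized hS hF hRfn)).2 R _ hνiso
      have hcard : Nat.card R < Nat.card hνiso.ext :=
        card_lt_of_not_mem hνiso.le_ext (hνiso.ext_le_normalizerIn.trans inf_le_left) htext htnR
      have hGg' : G hνiso.ext g' := IHA _ g' hg' hcard
      have hGν : G R (extAut ((m⁻¹ * ⟨α, hα⟩ : F.autGroup R) : MulAut R)) :=
        hG.congr (hG.restrict hGg' hνiso.le_ext) eg'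
      -- the factor fixing `℧¹(Z(O_p(F)))`
      have hmm : Mor F R (extAut ((m : F.autGroup R) : MulAut R)) :=
        (mem_autGroup_iff hR).1 (m : F.autGroup R).2
      have hmfix : ∀ a ∈ vOf p F.core, extAut ((m : F.autGroup R) : MulAut R) a = a := by
        intro a ha
        rw [extAut_mem _ (hA₀R ha)]
        exact congrArg Subtype.val (hm' ⟨a, hA₀R ha⟩ ha)
      have hGm : G R (extAut ((m : F.autGroup R) : MulAut R)) :=
        hV R _ hmm (hVA₀.trans hA₀R) (fun v hv => hmfix v (hVA₀ hv))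
      have hαeq : (α : MulAut R) = ((m : F.autGroup R) : MulAut R) *
          ((m⁻¹ * ⟨α, hα⟩ : F.autGroup R) : MulAut R) := by
        have : (⟨α, hα⟩ : F.autGroup R) = m * (m⁻¹ * ⟨α, hα⟩) := by group
        exact congrArg (fun y : F.autGroup R => (y : MulAut R)) this
      have hcomp := hG.comp hGν hGm (fun x hx => hνiso.map_mem hx)
      refine hG.congr hcomp (fun x hx => ?_)
      show extAut ((m : F.autGroup R) : MulAut R)
        (extAut ((m⁻¹ * ⟨α, hα⟩ : F.autGroup R) : MulAut R) x) = extAut α x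
      have h5 : (α : MulAut R) ⟨x, hx⟩ = ((m : F.autGroup R) : MulAut R)
          (((m⁻¹ * ⟨α, hα⟩ : F.autGroup R) : MulAut R) ⟨x, hx⟩) :=
        congrArg (fun β : MulAut R => β ⟨x, hx⟩) hαeq
      rw [extAut_mem α hx, h5, extAut_mem _ hx, extAut_mem _ (Subtype.coe_prop _)]

end Cfsg.Agent.Helper86.GenVJ
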