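import Mathlib
import Cfsg.Agent.Lib.Helper86.GenC
import Cfsg.Agent.Lib.Helper87.CenMain
import Cfsg.Agent.Lib.Helper84.FusNorm

set_option autoImplicit false
set_option linter.style.haveILetI false
set_option linter.unusedSectionVars false
set_option linter.unusedVariables false

/-! # Generation of a saturated fusion system by `C_F(℧¹(Z(S)))` and `N_F(J(S))`, part D: the main induction -/

namespace Cfsg.Agent.Helper86.GenVJ

open Cfsg Cfsg.FusionSystem Cfsg.Agent.Helper87 Cfsg.Agent.Helper85
  Cfsg.Agent.Helper87.GlaubFunctor Cfsg.Agent.Helper87.CenFunctor Cfsg.Agent.Helper86.ThFus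
  Cfsg.Agent.Helper86.GlCen Cfsg.Agent.Helper87.GlaubNormal Cfsg.Agent.Helper87.CenMain

universe u

variable {Ω : Type u} [Group Ω]

/-- **Generation.** If the maps of `F` fixing `℧¹(Z(S))` elementwise and the maps of `F` normalizing `J(S)` satisfy a predicate
closed under composition, restriction and inverses, then all maps of `F` satisfy it. -/
theorem main {p : ℕ} [Fact p.Prime] {G : Subgroup Ω → (Ω → Ω) → Prop} (hG : EPred G) :
    ∀ n : ℕ, ∀ (S : Subgroup Ω) [Finite S] (F : FusionSystem S), nu F = n → IsPGroup p S →
      F.IsSaturated p → HV p F G → HJ F G → ∀ (P : Subgroup Ω) (f : Ω → Ω), Mor F P f → G P f := by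
  intro n
  induction n using Nat.strong_induction_on with
  | _ n ih =>
    intro S _ F hn hS hF hV hJ
    have hQ : F.IsNormal F.core := isNormal_core F
    have hloc : ∀ X : Subgroup Ω, F.IsFullyNormalized X → Nat.card F.core < Nat.card X →
        ∀ NX : FusionSystem (normalizerIn S X), F.IsNormalizerSystem X NX → HJ NX G →
          ∀ (P : Subgroup Ω) (f : Ω → Ω), Mor NX P f → G P f := by
      intro X hXfn hlt NX hNX hJNX
      haveI : Finite ↥(normalizerIn S X) := finite_of_le (inf_le_left : normalizerIn S X ≤ S)
      have hsat := Cfsg.Agent.Helper84.normalizerSystem_saturated F hS hF hXfn NX hNX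
      apply ih (nu NX) _ (normalizerIn S X) NX rfl
        (hS.to_le (inf_le_left : normalizerIn S X ≤ S)) hsat (hv_normalizer hV hXfn.1 hNX) hJNX
      rw [← hn]
      by_cases h : Nat.card (normalizerIn S X) < Nat.card S
      · exact nu_lt_of_card_lt F NX h
      · have hc : Nat.card (normalizerIn S X) = Nat.card S :=
          le_antisymm (card_normalizerIn_le X) (not_lt.1 h)
        apply nu_lt_of_core F NX hc
        have hXn : NX.IsNormal X := normalizerSystem_isNormal hXfn.1 hNX
        have hle : X ≤ NX.core := le_core hXn
        haveI : Finite NX.core := finite_of_le (Cfsg.Agent.Helper87.ModelSolv.core_le NX)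
        exact lt_of_lt_of_le hlt (Subgroup.card_le_of_le hle)
    by_cases hcen : centralizerIn S F.core ≤ F.core
    · exact constrained_case hS hF hG hV hJ hcen hloc
    · exact noncentric_case hS hF hG hJ hQ hcen hloc

end Cfsg.Agent.Helper86.GenVJ
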