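import Mathlib
import Cfsg.Agent.Lib.Helper86.CoprimeAut
import Cfsg.Agent.Lib.Helper86.ChainStabilizer

set_option autoImplicit false

/-! Group lemmas around an elementary abelian group of rank two: two "transvections" with different centres
generate the inversion; an automorphism of 2-power order of an odd `p`-group that inverts all elements of order
`p` forces them to be central; `[N, P] < N` for a nontrivial normal subgroup of a finite `p`-group. -/

namespace Cfsg.Agent.Helper86

open scoped commutatorElement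

section transv

variable {V : Type*} [Group V]

theorem aut_pow_fix (β : MulAut V) (x : V) (hx : β x = x) (k : ℕ) : (β ^ k) x = x := by
  have := aut_pow_apply_eq β x 1 (by rw [hx, mul_one]) (map_one β) k
  rwa [one_pow, mul_one] at this

/-- Two "transvections" `u`, `u'` of a commutative group of exponent `p` generated by `x`, `y`, with centres
`x` and `y`: some product of them inverts every element. -/
theorem exists_inverting_of_two_transvections (hc : ∀ a b : V, a * b = b * a)
    {p : ℕ} [hp : Fact p.Prime] (hexp : ∀ v : V, v ^ p = 1) (A : Subgroup (MulAut V)) (x y : V)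
    (hgen : Subgroup.closure {x, y} = ⊤)
    (u u' : MulAut V) (hu : u ∈ A) (hu' : u' ∈ A)
    (hux : u x = x) (huy : ∃ k : ℕ, ¬ p ∣ k ∧ u y = y * x ^ k)
    (hu'y : u' y = y) (hu'x : ∃ k : ℕ, ¬ p ∣ k ∧ u' x = x * y ^ k) :
    ∃ w ∈ A, ∀ v : V, w v = v⁻¹ := by
  obtain ⟨k₂, hk₂, huy⟩ := huy
  obtain ⟨k₁, hk₁, hu'x⟩ := hu'x
  have hp1 : 1 < p := hp.out.one_lt
  obtain ⟨s, -, hs⟩ := Nat.exists_mul_mod_eq_one_of_coprime
    ((Nat.Prime.coprime_iff_not_dvd hp.out).2 hk₂).symm hp1
  obtain ⟨s₁, -, hs₁⟩ := Nat.exists_mul_mod_eq_one_of_coprime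
    ((Nat.Prime.coprime_iff_not_dvd hp.out).2 hk₁).symm hp1
  -- normalized transvections
  have hax : (u ^ s) x = x := aut_pow_fix u x hux s
  have hay : (u ^ s) y = y * x := by
    have hxk : u (x ^ k₂) = x ^ k₂ := by rw [map_pow, hux]
    rw [aut_pow_apply_eq u y (x ^ k₂) huy hxk s, ← pow_mul, pow_eq_pow_mod (k₂ * s) (hexp x), hs, pow_one]
  have hby : (u' ^ (s₁ * (p - 1))) y = y := aut_pow_fix u' y hu'y _
  have hyinv : y ^ (p - 1) = y⁻¹ := by
    apply eq_inv_of_mul_eq_one_left
    rw [← pow_succ, Nat.sub_add_cancel hp1.le, hexp]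
  have hbx : (u' ^ (s₁ * (p - 1))) x = x * y⁻¹ := by
    have hyk : u' (y ^ k₁) = y ^ k₁ := by rw [map_pow, hu'y]
    rw [aut_pow_apply_eq u' x (y ^ k₁) hu'x hyk (s₁ * (p - 1)), ← pow_mul, ← mul_assoc, pow_mul,
      pow_eq_pow_mod (k₁ * s₁) (hexp y), hs₁, pow_one, hyinv]
  set a := u ^ s with ha
  set b := u' ^ (s₁ * (p - 1)) with hb
  have haA : a ∈ A := A.pow_mem hu s
  have hbA : b ∈ A := A.pow_mem hu' _
  set w := a * b * a with hw
  have hwx : w x = y⁻¹ := by
    rw [hw, MulAut.mul_apply, MulAut.mul_apply, hax, hbx, map_mul, map_inv, hax, hay, mul_inv_rev]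
    group
  have hwy : w y = x := by
    rw [hw, MulAut.mul_apply, MulAut.mul_apply, hay, map_mul, hby, hbx, map_mul, map_mul, map_inv, hax, hay,
      mul_inv_rev, hc (y * x) (x * (x⁻¹ * y⁻¹))]
    group
  refine ⟨w * w, A.mul_mem (A.mul_mem (A.mul_mem haA hbA) haA) (A.mul_mem (A.mul_mem haA hbA) haA), ?_⟩
  have hx2 : (w * w) x = x⁻¹ := by rw [MulAut.mul_apply, hwx, map_inv, hwy]
  have hy2 : (w * w) y = y⁻¹ := by rw [MulAut.mul_apply, hwy, hwx]
  intro v
  have hv : v ∈ Subgroup.closure {x, y} := by rw [hgen]; trivial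
  induction hv using Subgroup.closure_induction with
  | mem z hz =>
    rcases hz with rfl | hz
    · exact hx2
    · rw [Set.mem_singleton_iff] at hz; rw [hz]; exact hy2
  | one => simp
  | mul a' b' _ _ iha ihb => rw [map_mul, iha, ihb, mul_inv_rev, hc]
  | inv a' _ iha => rw [map_inv, iha]

/-- an automorphism fixing two generators is trivial -/
theorem aut_eq_one_of_fix_gens (x y : V) (hgen : Subgroup.closure {x, y} = ⊤) (u : MulAut V)
    (hx : u x = x) (hy : u y = y) : u = 1 := by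
  have h : u.toMonoidHom = MonoidHom.id V := by
    apply MonoidHom.eq_of_eqOn_dense hgen
    intro z hz
    rcases hz with rfl | hz
    · exact hx
    · rw [Set.mem_singleton_iff] at hz; rw [hz]; exact hy
  ext v
  exact DFunLike.congr_fun h v

/-- `x^k` with natural exponent from membership in `zpowers x`, for an element of finite order -/
theorem exists_pow_of_mem_zpowers {p : ℕ} (hp : 0 < p) (x z : V) (hx : x ^ p = 1) (hz : z ∈ Subgroup.zpowers x) :
    ∃ k : ℕ, z = x ^ k := by
  have hfin : IsOfFinOrder x := isOfFinOrder_iff_pow_eq_one.2 ⟨p, hp, hx⟩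
  have := hfin.mem_powers_iff_mem_zpowers.2 hz
  obtain ⟨k, hk⟩ := Submonoid.mem_powers_iff _ _ |>.1 this
  exact ⟨k, hk.symm⟩

/-- A nontrivial "transvection" `u` with centre `x`, and an automorphism `β` moving `y` to `x` (where `x`, `y`
generate the commutative group `V` of exponent `p`): the group generated contains the inversion. -/
theorem exists_inverting_of_transvection_conj (hc : ∀ a b : V, a * b = b * a)
    {p : ℕ} [hp : Fact p.Prime] (hexp : ∀ v : V, v ^ p = 1) (A : Subgroup (MulAut V)) (x y : V)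
    (hgen : Subgroup.closure {x, y} = ⊤)
    (u β : MulAut V) (hu : u ∈ A) (hβ : β ∈ A) (hux : u x = x)
    (hcomm : ∀ v : V, v⁻¹ * u v ∈ Subgroup.zpowers x) (hu1 : u ≠ 1) (hβy : β y = x) :
    ∃ w ∈ A, ∀ v : V, w v = v⁻¹ := by
  have hpos : 0 < p := hp.out.pos
  have hform : ∀ v : V, ∃ k : ℕ, u v = v * x ^ k := by
    intro v
    obtain ⟨k, hk⟩ := exists_pow_of_mem_zpowers hpos x _ (hexp x) (hcomm v)
    exact ⟨k, by rw [← hk]; group⟩
  set u' := β⁻¹ * u * β with hu'
  have hu'A : u' ∈ A := A.mul_mem (A.mul_mem (A.inv_mem hβ) hu) hβ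
  have hβinv : β⁻¹ x = y := by rw [← hβy, MulAut.inv_apply_self]
  have hu'y : u' y = y := by
    rw [hu', MulAut.mul_apply, MulAut.mul_apply, hβy, hux, hβinv]
  have hu'1 : u' ≠ 1 := by
    intro h
    apply hu1
    have : u = β * u' * β⁻¹ := by rw [hu']; group
    rw [this, h]; group
  obtain ⟨k₂, hk₂⟩ := hform y
  obtain ⟨k₁, hk₁⟩ := hform (β x)
  have hu'x : u' x = x * y ^ k₁ := by
    rw [hu', MulAut.mul_apply, MulAut.mul_apply, hk₁, map_mul, MulAut.inv_apply_self, map_pow, hβinv]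
  have hnd₂ : ¬ p ∣ k₂ := by
    rintro ⟨j, rfl⟩
    apply hu1
    apply aut_eq_one_of_fix_gens x y hgen u hux
    rw [hk₂, pow_mul, hexp, one_pow, mul_one]
  have hnd₁ : ¬ p ∣ k₁ := by
    rintro ⟨j, rfl⟩
    apply hu'1
    apply aut_eq_one_of_fix_gens x y hgen u' _ hu'y
    rw [hu'x, pow_mul, hexp, one_pow, mul_one]
  exact exists_inverting_of_two_transvections hc hexp A x y hgen u u' hu hu'A hux ⟨k₂, hnd₂, hk₂⟩ hu'y
    ⟨k₁, hnd₁, hu'x⟩

end transv

section misc

variable {G : Type*} [Group G]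

theorem commutator_le_left_of_le_normalizer {N P : Subgroup G}
    (hnorm : P ≤ Subgroup.normalizer (N : Set G)) : ⁅N, P⁆ ≤ N := by
  rw [Subgroup.commutator_le]
  intro n hn g hg
  have h1 : g * n⁻¹ * g⁻¹ ∈ N := (Subgroup.mem_normalizer_iff.1 (hnorm hg) _).1 (N.inv_mem hn)
  have : ⁅n, g⁆ = n * (g * n⁻¹ * g⁻¹) := by rw [commutatorElement_def]; group
  rw [this]
  exact N.mul_mem hn h1

theorem card_lt_card_of_lt {H K : Subgroup G} [Finite K] (h : H < K) : Nat.card H < Nat.card K := by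
  by_contra hn
  push Not at hn
  exact h.ne (Subgroup.eq_of_le_of_card_ge h.le hn)

/-- odd powers of an automorphism inverting `x` invert `x` -/
theorem aut_pow_inv_of_odd (β : MulAut G) (x : G) (h : β x = x⁻¹) (m : ℕ) (hm : Odd m) :
    (β ^ m) x = x⁻¹ := by
  have h2 : (β ^ 2) x = x := by
    rw [pow_two, MulAut.mul_apply, h, map_inv, h, inv_inv]
  obtain ⟨j, rfl⟩ := hm
  rw [pow_succ, MulAut.mul_apply, h, map_inv, pow_mul, aut_pow_fix _ x h2]

/-- three strictly increasing divisors of `p²` -/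
theorem chain_of_dvd_prime_sq {p a b c : ℕ} (hp : p.Prime) (hc : c ∣ b) (hb : b ∣ a) (ha : a ∣ p ^ 2)
    (hcb : c < b) (hba : b < a) : c = 1 ∧ b = p ∧ a = p ^ 2 := by
  obtain ⟨k, hk, rfl⟩ := (Nat.dvd_prime_pow hp).1 ha
  obtain ⟨j, hj, rfl⟩ := (Nat.dvd_prime_pow hp).1 hb
  obtain ⟨i, hi, rfl⟩ := (Nat.dvd_prime_pow hp).1 hc
  have h1 : i < j := (Nat.pow_lt_pow_iff_right hp.one_lt).1 hcb
  have h2 : j < k := (Nat.pow_lt_pow_iff_right hp.one_lt).1 hba
  have hi0 : i = 0 := by omega
  have hj1 : j = 1 := by omega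
  have hk2 : k = 2 := by omega
  subst hi0 hj1 hk2
  simp

end misc

section comm

variable {G : Type*} [Group G]

/-- the iterated commutators of a normalized subgroup with `P` lie in the lower central series of `P` -/
theorem commutator_lt_of_isPGroup {p : ℕ} [Fact p.Prime] {P N : Subgroup G} [Finite P] (hP : IsPGroup p P)
    (hNP : N ≤ P) (hnorm : P ≤ Subgroup.normalizer (N : Set G)) (hN : N ≠ ⊥) : ⁅N, P⁆ < N := by
  have hle : ⁅N, P⁆ ≤ N := by
    rw [Subgroup.commutator_le]
    intro n hn g hg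
    have h1 : g * n⁻¹ * g⁻¹ ∈ N := (Subgroup.mem_normalizer_iff.1 (hnorm hg) _).1 (N.inv_mem hn)
    have : ⁅n, g⁆ = n * (g * n⁻¹ * g⁻¹) := by rw [commutatorElement_def]; group
    rw [this]
    exact N.mul_mem hn h1
  refine lt_of_le_of_ne hle (fun heq => hN ?_)
  have hnil : Group.IsNilpotent P := hP.isNilpotent
  obtain ⟨n, hn⟩ := (Subgroup.isNilpotent_iff_lowerCentralSeries P).1 hnil
  have key : ∀ i : ℕ, N ≤ P.lowerCentralSeries i := by
    intro i
    induction i with
    | zero => rw [Subgroup.lowerCentralSeries_zero]; exact hNP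
    | succ i ih =>
      rw [Subgroup.lowerCentralSeries_succ]
      calc N = ⁅N, P⁆ := heq.symm
        _ ≤ ⁅P.lowerCentralSeries i, P⁆ := Subgroup.commutator_mono ih le_rfl
  rw [eq_bot_iff, ← hn]
  exact key n

end comm

section invert

variable {P : Type*} [Group P] [Finite P]

/-- An automorphism `τ` of `2`-power order of a finite `p`-group, `p` odd, that inverts every element of order
dividing `p`: then every element of order dividing `p` is central. -/
theorem commute_of_inverting {p : ℕ} [hp : Fact p.Prime] (hp2 : p ≠ 2) (hP : IsPGroup p P)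
    (τ : MulAut P) (a : ℕ) (hτ : τ ^ (2 ^ a) = 1) (hinv : ∀ v : P, v ^ p = 1 → τ v = v⁻¹)
    (g v : P) (hv : v ^ p = 1) : g * v = v * g := by
  classical
  -- the subgroup of elements of order dividing p that... we use the centralizer of all such elements
  let T : Set P := {v : P | v ^ p = 1}
  let M : Subgroup P := Subgroup.centralizer T
  have hodd : Nat.Coprime p 2 := (Nat.coprime_primes hp.out Nat.prime_two).2 hp2
  have hMcop : (Nat.card M).Coprime 2 := by
    obtain ⟨k, hk⟩ := (hP.to_subgroup M).exists_card_eq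
    rw [hk]
    exact hodd.pow_left k
  have hconjT : ∀ (h : P) (t : P), t ^ p = 1 → (h * t * h⁻¹) ^ p = 1 := by
    intro h t ht
    rw [conj_pow, ht]; group
  have hcomm : τ ∈ commStab M := by
    intro h
    rw [Subgroup.mem_centralizer_iff]
    intro t ht
    have ht' : t ^ p = 1 := ht
    -- τ (h t⁻¹ h⁻¹) computed two ways
    have hti : (t⁻¹) ^ p = 1 := by rw [inv_pow, ht', inv_one]
    have h1 : τ (h * t⁻¹ * h⁻¹) = (h * t⁻¹ * h⁻¹)⁻¹ := hinv _ (hconjT h _ hti)
    have h2 : τ (h * t⁻¹ * h⁻¹) = τ h * t * (τ h)⁻¹ := by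
      rw [map_mul, map_mul, hinv _ hti, inv_inv, map_inv]
    have h3 : τ h * t * (τ h)⁻¹ = h * t * h⁻¹ := by
      rw [← h2, h1]; group
    -- so h⁻¹ τ h commutes with t
    calc t * (h⁻¹ * τ h) = h⁻¹ * (h * t * h⁻¹) * τ h := by group
      _ = h⁻¹ * (τ h * t * (τ h)⁻¹) * τ h := by rw [h3]
      _ = h⁻¹ * τ h * t := by group
  obtain ⟨m, hm, hfix⟩ := exists_fixed_mul (q := 2) τ a hτ M hMcop hcomm g
  -- the fixed element `g * m` is trivial
  have hgm : g * m = 1 := by
    by_contra hne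
    set z := g * m with hz
    obtain ⟨k, hk⟩ := hP z
    -- least power killing z
    have hex : ∃ j : ℕ, z ^ (p ^ j) = 1 := ⟨k, hk⟩
    let j := Nat.find hex
    have hj : z ^ (p ^ j) = 1 := Nat.find_spec hex
    have hj0 : j ≠ 0 := by
      intro h0
      rw [h0, pow_zero, pow_one] at hj
      exact hne hj
    obtain ⟨i, hi⟩ := Nat.exists_eq_succ_of_ne_zero hj0
    have hlt : i < j := by omega
    have hni : z ^ (p ^ i) ≠ 1 := fun h => Nat.find_min hex hlt h
    set t := z ^ (p ^ i) with ht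
    have htp : t ^ p = 1 := by
      rw [ht, ← pow_mul, ← pow_succ, ← Nat.succ_eq_add_one, ← hi]; exact hj
    have hτt : τ t = t := by rw [ht, map_pow, hfix]
    have hinvt : τ t = t⁻¹ := hinv t htp
    have ht2 : t ^ 2 = 1 := by
      rw [pow_two]
      nth_rewrite 1 [← hτt]
      rw [hinvt, inv_mul_cancel]
    have h1 : orderOf t ∣ 2 := orderOf_dvd_of_pow_eq_one ht2
    have h2 : orderOf t ∣ p := orderOf_dvd_of_pow_eq_one htp
    have h3 : orderOf t ∣ Nat.gcd p 2 := Nat.dvd_gcd h2 h1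
    rw [hodd.gcd_eq_one, Nat.dvd_one, orderOf_eq_one_iff] at h3
    exact hni h3
  have hgM : g ∈ M := by
    have : g = m⁻¹ := eq_inv_of_mul_eq_one_left hgm
    rw [this]; exact M.inv_mem hm
  have := (Subgroup.mem_centralizer_iff.1 hgM) v hv
  exact this.symm

end invert

end Cfsg.Agent.Helper86
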