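import Mathlib
import Cfsg.Prelude.Def_Transfer
import Cfsg.Agent.Lib.Helper86.RankTwoGroup
import Cfsg.Agent.Lib.Helper87.OmegaLemma
import Cfsg.Agent.Lib.Helper83.OrderP3
import Cfsg.Agent.Lib.Helper63.HeisES
import Cfsg.Agent.Lib.Helper17.Order8Dihedral

set_option autoImplicit false

/-! A finite `p`-group `G` whose commutators and `p`-th powers lie in a central subgroup `D` of order `p`, and
which has two non-commuting elements `y`, `g` of order `p` such that the centralizer of `y` is elementary abelian,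
is the direct product of `⟨y, g⟩` (nonabelian of order `p³`; dihedral for `p = 2`, of exponent `p` for `p` odd)
and an elementary abelian group. -/

namespace Cfsg.Agent.Helper86

open scoped commutatorElement

section basic

variable {G : Type*} [Group G]

/-- `a ↦ ⁅a, y⁆` as a homomorphism, when commutators are central -/
def commHom (hc : ∀ a b : G, ⁅a, b⁆ ∈ Subgroup.center G) (y : G) : G →* G :=
  MonoidHom.mk' (fun a => ⁅a, y⁆) (by
    intro a b
    have h1 : ⁅a * b, y⁆ = a * ⁅b, y⁆ * a⁻¹ * ⁅a, y⁆ := by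
      simp only [commutatorElement_def]; group
    have h2 : a * ⁅b, y⁆ = ⁅b, y⁆ * a := (Subgroup.mem_center_iff.1 (hc b y) a)
    have h3 : ⁅a, y⁆ * ⁅b, y⁆ = ⁅b, y⁆ * ⁅a, y⁆ := (Subgroup.mem_center_iff.1 (hc b y) _)
    show ⁅a * b, y⁆ = ⁅a, y⁆ * ⁅b, y⁆
    rw [h1, h2, h3]; group)

theorem commHom_apply (hc : ∀ a b : G, ⁅a, b⁆ ∈ Subgroup.center G) (y a : G) :
    commHom hc y a = ⁅a, y⁆ := rfl

theorem commHom_eq_one_iff (hc : ∀ a b : G, ⁅a, b⁆ ∈ Subgroup.center G) (y a : G) :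
    commHom hc y a = 1 ↔ a * y = y * a := by
  rw [commHom_apply, commutatorElement_eq_one_iff_mul_comm]

theorem commHom_of_mem_center (hc : ∀ a b : G, ⁅a, b⁆ ∈ Subgroup.center G) (y a : G)
    (ha : a ∈ Subgroup.center G) : commHom hc y a = 1 := by
  rw [commHom_eq_one_iff]
  exact ((Subgroup.mem_center_iff.1 ha) y).symm

/-- every element of a subgroup of prime order is a power of a given nontrivial element -/
theorem exists_pow_of_card_prime {p : ℕ} [hp : Fact p.Prime] (D : Subgroup G) (hD : Nat.card D = p)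
    {c d : G} (hc : c ∈ D) (hc1 : c ≠ 1) (hd : d ∈ D) : c ^ p = 1 ∧ ∃ k : ℕ, d = c ^ k := by
  have : Finite D := Nat.finite_of_card_ne_zero (by rw [hD]; exact hp.out.ne_zero)
  have hcp : c ^ p = 1 := by
    have h := pow_card_eq_one' (G := D) (x := ⟨c, hc⟩)
    rw [hD] at h
    simpa using congrArg Subtype.val h
  refine ⟨hcp, ?_⟩
  have ho : orderOf c = p := orderOf_eq_prime hcp hc1
  have hz : Subgroup.zpowers c = D := by
    apply Subgroup.eq_of_le_of_card_ge ((Subgroup.zpowers_le).2 hc)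
    rw [hD, Nat.card_zpowers, ho]
  exact exists_pow_of_mem_zpowers hp.out.pos c d hcp (hz ▸ hd)

/-- a power with exponent prime to `p` of an element with `c ^ p = 1` generates the same cyclic group -/
theorem exists_pow_pow_eq {p : ℕ} [hp : Fact p.Prime] {c : G} (hcp : c ^ p = 1) {k : ℕ} (hk : ¬ p ∣ k) :
    ∃ s : ℕ, (c ^ k) ^ s = c := by
  obtain ⟨s, -, hs⟩ := Nat.exists_mul_mod_eq_one_of_coprime
    ((Nat.Prime.coprime_iff_not_dvd hp.out).2 hk).symm hp.out.one_lt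
  refine ⟨s, ?_⟩
  rw [← pow_mul, pow_eq_pow_mod (k * s) hcp, hs, pow_one]

theorem pow_eq_one_of_dvd' {p : ℕ} {c : G} (hcp : c ^ p = 1) {k : ℕ} (hk : p ∣ k) : c ^ k = 1 := by
  obtain ⟨j, rfl⟩ := hk
  rw [pow_mul, hcp, one_pow]

theorem dvd_of_pow_eq_one' {p : ℕ} [hp : Fact p.Prime] {c : G} (hcp : c ^ p = 1) (hc1 : c ≠ 1) {k : ℕ}
    (hk : c ^ k = 1) : p ∣ k := by
  have ho : orderOf c = p := orderOf_eq_prime hcp hc1
  rw [← ho]
  exact orderOf_dvd_of_pow_eq_one hk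

/-- for non-commuting `g`, `y` (commutators lying in the central subgroup `D` of order `p`), every element can
be moved into the centralizer of `y` by a power of `g` -/
theorem exists_pow_mul_commute {p : ℕ} [hp : Fact p.Prime] (D : Subgroup G) (hD : Nat.card D = p)
    (hDc : D ≤ Subgroup.center G) (hcomm : ∀ a b : G, ⁅a, b⁆ ∈ D) (y g : G) (hgy : g * y ≠ y * g) (a : G) :
    ∃ j : ℕ, (a * g ^ j) * y = y * (a * g ^ j) := by
  have hc : ∀ a b : G, ⁅a, b⁆ ∈ Subgroup.center G := fun a b => hDc (hcomm a b)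
  have hc1 : ⁅g, y⁆ ≠ 1 := fun h => hgy (commutatorElement_eq_one_iff_mul_comm.1 h)
  obtain ⟨hcp, i, hi⟩ := exists_pow_of_card_prime D hD (hcomm g y) hc1 (hcomm a y)
  refine ⟨(p - 1) * i, ?_⟩
  rw [← commHom_eq_one_iff hc, map_mul, map_pow, commHom_apply, commHom_apply, hi, ← pow_add]
  apply pow_eq_one_of_dvd' hcp
  refine ⟨i, ?_⟩
  have : 1 ≤ p := hp.out.one_lt.le
  calc i + (p - 1) * i = ((p - 1) + 1) * i := by ring
    _ = p * i := by rw [Nat.sub_add_cancel this]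

end basic

section compl

/-- a complement to the subgroup generated by a nontrivial element, in a finite elementary abelian group -/
theorem exists_compl_zpowers {K : Type*} [CommGroup K] [Finite K] {p : ℕ} [hp : Fact p.Prime]
    (hK : ∀ k : K, k ^ p = 1) (c : K) (hc : c ≠ 1) :
    ∃ A : Subgroup K, c ∉ A ∧ ∀ k : K, ∃ a ∈ A, ∃ i : ℕ, k = a * c ^ i := by
  have hfin : ({A : Subgroup K | c ∉ A} : Set (Subgroup K)).Finite := Set.toFinite _
  have hbot : (⊥ : Subgroup K) ∈ ({A : Subgroup K | c ∉ A} : Set (Subgroup K)) := by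
    show c ∉ (⊥ : Subgroup K)
    rw [Subgroup.mem_bot]; exact hc
  obtain ⟨A₀, -, hA₀⟩ := hfin.exists_le_maximal hbot
  have hcA : c ∉ A₀ := hA₀.prop
  refine ⟨A₀, hcA, fun k => ?_⟩
  by_contra hk
  push Not at hk
  have hkA : k ∉ A₀ := fun h => hk k h 0 (by rw [pow_zero, mul_one])
  have hcA₁ : c ∈ A₀ ⊔ Subgroup.zpowers k := by
    by_contra hcon
    have hle : A₀ ⊔ Subgroup.zpowers k ≤ A₀ := hA₀.le_of_ge hcon le_sup_left
    exact hkA (hle (Subgroup.mem_sup_right (Subgroup.mem_zpowers k)))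
  obtain ⟨a, ha, z, hz, haz⟩ := Subgroup.mem_sup.1 hcA₁
  obtain ⟨i, hi⟩ := exists_pow_of_mem_zpowers hp.out.pos k z (hK k) hz
  by_cases hpi : p ∣ i
  · apply hcA
    rw [← haz, hi, pow_eq_one_of_dvd' (hK k) hpi, mul_one]
    exact ha
  · obtain ⟨s, hs⟩ := exists_pow_pow_eq (hK k) hpi
    apply hk ((a⁻¹) ^ s) (A₀.pow_mem (A₀.inv_mem ha) s) s
    have h1 : k ^ i = a⁻¹ * c := by rw [← hi, ← haz]; group
    rw [← hs, h1, mul_pow]

end compl

section main

variable {G : Type*} [Group G]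

theorem comm_pow_pow (hc : ∀ a b : G, ⁅a, b⁆ ∈ Subgroup.center G) (a b : G) (j i : ℕ) :
    ⁅a ^ j, b ^ i⁆ = ⁅a, b⁆ ^ (i * j) := by
  have h1 : ⁅a ^ j, b ^ i⁆ = ⁅a, b ^ i⁆ ^ j := by
    rw [← commHom_apply hc, map_pow, commHom_apply]
  have h2 : ⁅a, b ^ i⁆ = ⁅a, b⁆ ^ i := by
    rw [← commutatorElement_inv, ← commHom_apply hc, map_pow, commHom_apply, ← inv_pow, commutatorElement_inv]
  rw [h1, h2, ← pow_mul]

theorem mul_eq_comm_mul (a b : G) : a * b = ⁅a, b⁆ * b * a := by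
  rw [commutatorElement_def]; group

/-- normal form multiplication in a group generated by `y`, `g` with central commutator -/
theorem nf_mul (hc : ∀ a b : G, ⁅a, b⁆ ∈ Subgroup.center G) (y g : G) (i j k i' j' k' : ℕ) :
    (y ^ i * g ^ j * ⁅g, y⁆ ^ k) * (y ^ i' * g ^ j' * ⁅g, y⁆ ^ k') =
      y ^ (i + i') * g ^ (j + j') * ⁅g, y⁆ ^ (k + k' + i' * j) := by
  have hcen : ∀ (n : ℕ) (x : G), x * ⁅g, y⁆ ^ n = ⁅g, y⁆ ^ n * x := fun n x =>
    Subgroup.mem_center_iff.1 (Subgroup.pow_mem _ (hc g y) n) x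
  have h1 : g ^ j * y ^ i' = ⁅g, y⁆ ^ (i' * j) * y ^ i' * g ^ j := by
    rw [mul_eq_comm_mul (g ^ j) (y ^ i'), comm_pow_pow hc]
  calc (y ^ i * g ^ j * ⁅g, y⁆ ^ k) * (y ^ i' * g ^ j' * ⁅g, y⁆ ^ k')
      = y ^ i * (g ^ j * (⁅g, y⁆ ^ k * y ^ i')) * g ^ j' * ⁅g, y⁆ ^ k' := by group
    _ = y ^ i * (g ^ j * (y ^ i' * ⁅g, y⁆ ^ k)) * g ^ j' * ⁅g, y⁆ ^ k' := by rw [hcen k (y ^ i')]
    _ = y ^ i * (g ^ j * y ^ i') * (⁅g, y⁆ ^ k * g ^ j') * ⁅g, y⁆ ^ k' := by group
    _ = y ^ i * (⁅g, y⁆ ^ (i' * j) * y ^ i' * g ^ j) * (g ^ j' * ⁅g, y⁆ ^ k) * ⁅g, y⁆ ^ k' := by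
        rw [h1, hcen k (g ^ j')]
    _ = (y ^ i * ⁅g, y⁆ ^ (i' * j)) * y ^ i' * (g ^ j * g ^ j') * (⁅g, y⁆ ^ k * ⁅g, y⁆ ^ k') := by group
    _ = (⁅g, y⁆ ^ (i' * j) * y ^ i) * y ^ i' * (g ^ j * g ^ j') * (⁅g, y⁆ ^ k * ⁅g, y⁆ ^ k') := by
        rw [hcen (i' * j) (y ^ i)]
    _ = ⁅g, y⁆ ^ (i' * j) * (y ^ (i + i') * g ^ (j + j') * ⁅g, y⁆ ^ (k + k')) := by
        rw [pow_add, pow_add, pow_add]; group
    _ = (y ^ (i + i') * g ^ (j + j') * ⁅g, y⁆ ^ (k + k')) * ⁅g, y⁆ ^ (i' * j) := by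
        rw [hcen (i' * j)]
    _ = y ^ (i + i') * g ^ (j + j') * ⁅g, y⁆ ^ (k + k' + i' * j) := by
        rw [pow_add _ (k + k') (i' * j)]; group

/-- elements of `⟨y, g⟩` in normal form -/
theorem nf_of_mem_closure [Finite G] (hc : ∀ a b : G, ⁅a, b⁆ ∈ Subgroup.center G) (y g t : G)
    (ht : t ∈ Subgroup.closure ({y, g} : Set G)) : ∃ i j k : ℕ, t = y ^ i * g ^ j * ⁅g, y⁆ ^ k := by
  have hpow : ∀ (a : G), (∃ i j k : ℕ, a = y ^ i * g ^ j * ⁅g, y⁆ ^ k) → ∀ n : ℕ,
      ∃ i j k : ℕ, a ^ n = y ^ i * g ^ j * ⁅g, y⁆ ^ k := by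
    intro a ha n
    induction n with
    | zero => exact ⟨0, 0, 0, by simp⟩
    | succ n ih =>
      obtain ⟨i, j, k, h1⟩ := ih
      obtain ⟨i', j', k', h2⟩ := ha
      refine ⟨i + i', j + j', k + k' + i' * j, ?_⟩
      rw [pow_succ, h1, ← nf_mul hc, ← h2]
  induction ht using Subgroup.closure_induction with
  | mem z hz =>
    rcases hz with rfl | hz
    · exact ⟨1, 0, 0, by simp⟩
    · rw [Set.mem_singleton_iff] at hz
      exact ⟨0, 1, 0, by simp [hz]⟩
  | one => exact ⟨0, 0, 0, by simp⟩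
  | mul a b _ _ iha ihb =>
    obtain ⟨i, j, k, h1⟩ := iha
    obtain ⟨i', j', k', h2⟩ := ihb
    exact ⟨i + i', j + j', k + k' + i' * j, by rw [h1, h2, nf_mul hc]⟩
  | inv a _ iha =>
    have h1 : a⁻¹ = a ^ (orderOf a - 1) := by
      apply inv_eq_of_mul_eq_one_right
      rw [← pow_succ', Nat.sub_add_cancel (orderOf_pos a), pow_orderOf_eq_one]
    rw [h1]
    exact hpow a iha _

open scoped IsMulCommutative in
/-- the splitting `G = ⟨y, g⟩ × A₀` -/
theorem exists_split [Finite G] {p : ℕ} [hp : Fact p.Prime] (D : Subgroup G) (hD : Nat.card D = p)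
    (hDc : D ≤ Subgroup.center G) (hcomm : ∀ a b : G, ⁅a, b⁆ ∈ D) (y g : G) (hy : y ^ p = 1) (hg : g ^ p = 1)
    (hgy : g * y ≠ y * g) (hMexp : ∀ m : G, m * y = y * m → m ^ p = 1)
    (hMab : ∀ m m' : G, m * y = y * m → m' * y = y * m' → m * m' = m' * m) :
    ∃ A₀ : Subgroup G, (∀ a ∈ A₀, a ^ p = 1) ∧ A₀ ≤ Subgroup.center G ∧
      Nat.card (Subgroup.closure ({y, g} : Set G)) = p ^ 3 ∧
      Nonempty (G ≃* (Subgroup.closure ({y, g} : Set G)) × A₀) := by
  have hc : ∀ a b : G, ⁅a, b⁆ ∈ Subgroup.center G := fun a b => hDc (hcomm a b)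
  obtain ⟨c, hcdef⟩ : ∃ c : G, c = ⁅g, y⁆ := ⟨_, rfl⟩
  have hc1 : c ≠ 1 := by
    rw [hcdef]; exact fun h => hgy (commutatorElement_eq_one_iff_mul_comm.1 h)
  have hcD : c ∈ D := hcdef ▸ hcomm g y
  have hcc : c ∈ Subgroup.center G := hDc hcD
  have hcp : c ^ p = 1 := (exists_pow_of_card_prime D hD hcD hc1 hcD).1
  obtain ⟨T, hT⟩ : ∃ T : Subgroup G, T = Subgroup.closure ({y, g} : Set G) := ⟨_, rfl⟩
  rw [← hT]
  have hyT : y ∈ T := hT ▸ Subgroup.subset_closure (by simp)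
  have hgT : g ∈ T := hT ▸ Subgroup.subset_closure (by simp)
  have hcT : c ∈ T := by
    rw [hcdef, commutatorElement_def]
    exact T.mul_mem (T.mul_mem (T.mul_mem hgT hyT) (T.inv_mem hgT)) (T.inv_mem hyT)
  have hnf : ∀ t ∈ T, ∃ i j k : ℕ, t = y ^ i * g ^ j * c ^ k := by
    intro t ht
    rw [hcdef]
    exact nf_of_mem_closure hc y g t (hT ▸ ht)
  have hκy : ∀ i j k : ℕ, commHom hc y (y ^ i * g ^ j * c ^ k) = c ^ j := by
    intro i j k
    rw [map_mul, map_mul, map_pow, map_pow, map_pow, commHom_apply, commHom_apply,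
      commHom_of_mem_center hc y c hcc, commutatorElement_self, ← hcdef]
    simp
  have hκg : ∀ i j k : ℕ, commHom hc g (y ^ i * g ^ j * c ^ k) = (c⁻¹) ^ i := by
    intro i j k
    have : ⁅y, g⁆ = c⁻¹ := by rw [hcdef, commutatorElement_inv]
    rw [map_mul, map_mul, map_pow, map_pow, map_pow, commHom_apply, commHom_apply,
      commHom_of_mem_center hc g c hcc, commutatorElement_self, this]
    simp
  have hZexp : ∀ k ∈ Subgroup.center G, k ^ p = 1 := fun k hk =>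
    hMexp k ((Subgroup.mem_center_iff.1 hk y).symm)
  -- the complement
  obtain ⟨A, hcA, hA⟩ := exists_compl_zpowers (K := Subgroup.center G) (p := p)
    (fun k => Subtype.ext (by rw [Subgroup.coe_pow, Subgroup.coe_one]; exact hZexp k k.2)) ⟨c, hcc⟩ (fun h => hc1 (congrArg Subtype.val h))
  obtain ⟨A₀, hA₀⟩ : ∃ A₀ : Subgroup G, A₀ = A.map (Subgroup.center G).subtype := ⟨_, rfl⟩
  have hA₀c : A₀ ≤ Subgroup.center G := by
    rw [hA₀]; rintro _ ⟨k, -, rfl⟩; exact k.2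
  have hA₀exp : ∀ a ∈ A₀, a ^ p = 1 := fun a ha => hZexp a (hA₀c ha)
  have hcA₀ : c ∉ A₀ := by
    rw [hA₀]
    rintro ⟨k, hk, hkc⟩
    apply hcA
    have : k = ⟨c, hcc⟩ := Subtype.ext hkc
    rwa [this] at hk
  have hdecZ : ∀ k ∈ Subgroup.center G, ∃ a ∈ A₀, ∃ i : ℕ, k = a * c ^ i := by
    intro k hk
    obtain ⟨a, ha, i, hi⟩ := hA ⟨k, hk⟩
    refine ⟨a, hA₀ ▸ ⟨a, ha, rfl⟩, i, ?_⟩
    simpa using congrArg Subtype.val hi
  have hcen : ∀ k : G, k * y = y * k → k * g = g * k → k ∈ Subgroup.center G := by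
    intro k hky hkg
    rw [Subgroup.mem_center_iff]
    intro b
    obtain ⟨l, hl⟩ := exists_pow_mul_commute D hD hDc hcomm y g hgy b
    have h1 : k * (b * g ^ l) = (b * g ^ l) * k := hMab k (b * g ^ l) hky hl
    have h2 : k * g ^ l = g ^ l * k := Commute.pow_right hkg l
    have h3 : k * b * g ^ l = b * k * g ^ l := by
      calc k * b * g ^ l = k * (b * g ^ l) := by group
        _ = b * g ^ l * k := h1
        _ = b * (g ^ l * k) := by group
        _ = b * (k * g ^ l) := by rw [h2]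
        _ = b * k * g ^ l := by group
    exact (mul_right_cancel h3).symm
  have hsurj : ∀ a : G, ∃ t ∈ T, ∃ a₀ ∈ A₀, t * a₀ = a := by
    intro a
    obtain ⟨j, hj⟩ := exists_pow_mul_commute D hD hDc hcomm y g hgy a
    obtain ⟨i, hi⟩ := exists_pow_mul_commute D hD hDc hcomm g y (fun h => hgy h.symm) (a * g ^ j)
    have hky : (a * g ^ j * y ^ i) * y = y * (a * g ^ j * y ^ i) := by
      calc a * g ^ j * y ^ i * y = (a * g ^ j) * y * y ^ i := by
            rw [mul_assoc, ← pow_succ, pow_succ', ← mul_assoc]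
        _ = y * (a * g ^ j) * y ^ i := by rw [hj]
        _ = y * (a * g ^ j * y ^ i) := by group
    have hk := hcen _ hky hi
    obtain ⟨a₀, ha₀, l, hl⟩ := hdecZ _ hk
    refine ⟨c ^ l * (y ^ i)⁻¹ * (g ^ j)⁻¹, ?_, a₀, ha₀, ?_⟩
    · exact T.mul_mem (T.mul_mem (T.pow_mem hcT l) (T.inv_mem (T.pow_mem hyT i)))
        (T.inv_mem (T.pow_mem hgT j))
    · have hcomm0 : ∀ x, x * a₀ = a₀ * x := Subgroup.mem_center_iff.1 (hA₀c ha₀)
      rw [hcomm0]
      calc a₀ * (c ^ l * (y ^ i)⁻¹ * (g ^ j)⁻¹) = (a₀ * c ^ l) * (y ^ i)⁻¹ * (g ^ j)⁻¹ := by group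
        _ = (a * g ^ j * y ^ i) * (y ^ i)⁻¹ * (g ^ j)⁻¹ := by rw [hl]
        _ = a := by group
  have hdisj : ∀ x : G, x ∈ T → x ∈ A₀ → x = 1 := by
    intro x hxT hxA
    obtain ⟨i, j, k, hx⟩ := hnf x hxT
    have hxc := hA₀c hxA
    have h1 : c ^ j = 1 := by
      rw [← hκy i j k, ← hx]; exact commHom_of_mem_center hc y x hxc
    have h2 : (c⁻¹) ^ i = 1 := by
      rw [← hκg i j k, ← hx]; exact commHom_of_mem_center hc g x hxc
    have hpj : p ∣ j := dvd_of_pow_eq_one' hcp hc1 h1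
    have hpi : p ∣ i := dvd_of_pow_eq_one' (c := c⁻¹) (by rw [inv_pow, hcp, inv_one]) (by simpa using hc1) h2
    have hx' : x = c ^ k := by
      rw [hx, pow_eq_one_of_dvd' hy hpi, pow_eq_one_of_dvd' hg hpj]; simp
    by_cases hpk : p ∣ k
    · rw [hx', pow_eq_one_of_dvd' hcp hpk]
    · exfalso
      obtain ⟨s, hs⟩ := exists_pow_pow_eq hcp hpk
      apply hcA₀
      rw [← hs, ← hx']
      exact A₀.pow_mem hxA s
  have hcard : Nat.card T = p ^ 3 := by
    let f : Fin p × Fin p × Fin p → T := fun q =>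
      ⟨y ^ (q.1 : ℕ) * g ^ (q.2.1 : ℕ) * c ^ (q.2.2 : ℕ),
        T.mul_mem (T.mul_mem (T.pow_mem hyT _) (T.pow_mem hgT _)) (T.pow_mem hcT _)⟩
    have hoc : orderOf c = p := orderOf_eq_prime hcp hc1
    have hfi : Function.Injective f := by
      rintro ⟨i, j, k⟩ ⟨i', j', k'⟩ h
      have h0 : y ^ (i : ℕ) * g ^ (j : ℕ) * c ^ (k : ℕ) = y ^ (i' : ℕ) * g ^ (j' : ℕ) * c ^ (k' : ℕ) :=
        congrArg Subtype.val h
      have h1 : c ^ (j : ℕ) = c ^ (j' : ℕ) := by rw [← hκy i j k, ← hκy i' j' k', h0]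
      have h2 : (c⁻¹) ^ (i : ℕ) = (c⁻¹) ^ (i' : ℕ) := by rw [← hκg i j k, ← hκg i' j' k', h0]
      have hj : j = j' := by
        have := pow_inj_mod.1 h1
        rw [hoc, Nat.mod_eq_of_lt j.2, Nat.mod_eq_of_lt j'.2] at this
        exact Fin.ext this
      have hi : i = i' := by
        have := pow_inj_mod.1 h2
        rw [orderOf_inv, hoc, Nat.mod_eq_of_lt i.2, Nat.mod_eq_of_lt i'.2] at this
        exact Fin.ext this
      subst hj; subst hi
      have h3 : c ^ (k : ℕ) = c ^ (k' : ℕ) := mul_left_cancel h0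
      have hk : k = k' := by
        have := pow_inj_mod.1 h3
        rw [hoc, Nat.mod_eq_of_lt k.2, Nat.mod_eq_of_lt k'.2] at this
        exact Fin.ext this
      rw [hk]
    have hfs : Function.Surjective f := by
      rintro ⟨t, ht⟩
      obtain ⟨i, j, k, hx⟩ := hnf t ht
      refine ⟨(⟨i % p, Nat.mod_lt _ hp.out.pos⟩, ⟨j % p, Nat.mod_lt _ hp.out.pos⟩,
        ⟨k % p, Nat.mod_lt _ hp.out.pos⟩), Subtype.ext ?_⟩
      show y ^ (i % p) * g ^ (j % p) * c ^ (k % p) = t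
      rw [hx, ← pow_eq_pow_mod i hy, ← pow_eq_pow_mod j hg, ← pow_eq_pow_mod k hcp]
    rw [← Nat.card_congr (Equiv.ofBijective f ⟨hfi, hfs⟩), Nat.card_prod, Nat.card_prod, Nat.card_fin]
    ring
  refine ⟨A₀, hA₀exp, hA₀c, hcard, ?_⟩
  let Ψ : T × A₀ →* G := MonoidHom.noncommCoprod T.subtype A₀.subtype
    (fun t a => Subgroup.mem_center_iff.1 (hA₀c a.2) t)
  have hΨi : Function.Injective Ψ := by
    refine (MonoidHom.noncommCoprod_injective _ _ _).2 ⟨Subtype.coe_injective, Subtype.coe_injective, ?_⟩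
    rw [Subgroup.range_subtype, Subgroup.range_subtype, Subgroup.disjoint_def]
    exact fun hx1 hx2 => hdisj _ hx1 hx2
  have hΨs : Function.Surjective Ψ := by
    intro a
    obtain ⟨t, ht, a₀, ha₀, h⟩ := hsurj a
    exact ⟨(⟨t, ht⟩, ⟨a₀, ha₀⟩), h⟩
  exact ⟨(MulEquiv.ofBijective Ψ ⟨hΨi, hΨs⟩).symm⟩

end main

section small

/-- a finite group has a model in `Type` -/
theorem exists_small_group (H : Type*) [Group H] [Finite H] :
    ∃ (E : Type) (_ : Group E), Nonempty (H ≃* E) := by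
  let e : {k : ℕ // k < Nat.card H} ≃ H := Fin.equivSubtype.symm.trans (Finite.equivFin H).symm
  let _ : Group {k : ℕ // k < Nat.card H} := e.group
  have hmul : ∀ x y : {k : ℕ // k < Nat.card H}, e (x * y) = e x * e y := fun x y => by
    show e (e.symm (e x * e y)) = e x * e y
    exact e.apply_symm_apply _
  exact ⟨{k : ℕ // k < Nat.card H}, inferInstance, ⟨(MulEquiv.mk e hmul).symm⟩⟩

/-- a finite commutative group has a model in `Type` -/
theorem exists_small_commGroup (H : Type*) [Group H] [Finite H] (hc : ∀ a b : H, a * b = b * a) :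
    ∃ (A : Type) (_ : CommGroup A), Nonempty (H ≃* A) := by
  let e : {k : ℕ // k < Nat.card H} ≃ H := Fin.equivSubtype.symm.trans (Finite.equivFin H).symm
  let _ : CommGroup H := { (inferInstance : Group H) with mul_comm := hc }
  let _ : CommGroup {k : ℕ // k < Nat.card H} := e.commGroup
  have hmul : ∀ x y : {k : ℕ // k < Nat.card H}, e (x * y) = e x * e y := fun x y => by
    show e (e.symm (e x * e y)) = e x * e y
    exact e.apply_symm_apply _
  exact ⟨{k : ℕ // k < Nat.card H}, inferInstance, ⟨(MulEquiv.mk e hmul).symm⟩⟩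

end small

section final

variable {G : Type*} [Group G]

/-- the `p`-th power map is multiplicative (`p` odd, commutators in a central subgroup of order `p`) -/
theorem mul_pow_prime_of_class_two {p : ℕ} [hp : Fact p.Prime] (hp2 : p ≠ 2) (D : Subgroup G)
    (hD : Nat.card D = p) (hDc : D ≤ Subgroup.center G) (hcomm : ∀ a b : G, ⁅a, b⁆ ∈ D) (x y : G) :
    (x * y) ^ p = x ^ p * y ^ p := by
  have hcD : y⁻¹ * x⁻¹ * y * x ∈ D := by
    have : y⁻¹ * x⁻¹ * y * x = ⁅y⁻¹, x⁻¹⁆ := by rw [commutatorElement_def]; group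
    rw [this]; exact hcomm _ _
  have hcc := hDc hcD
  have hcp : (y⁻¹ * x⁻¹ * y * x) ^ p = 1 := by
    have : Finite D := Nat.finite_of_card_ne_zero (by rw [hD]; exact hp.out.ne_zero)
    have h := pow_card_eq_one' (G := D) (x := ⟨_, hcD⟩)
    rw [hD] at h
    simpa using congrArg Subtype.val h
  have h := Helper87.mul_pow_class_two x y _ rfl ((Subgroup.mem_center_iff.1 hcc x).symm)
    ((Subgroup.mem_center_iff.1 hcc y).symm) p
  rw [h, pow_eq_one_of_dvd' hcp (Helper87.dvd_tri_of_odd_prime p hp.out hp2), mul_one]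

/-- A finite group whose commutators lie in a central subgroup `D` of order `p`, with two non-commuting elements
`y`, `g` of order `p` such that the centralizer of `y` is elementary abelian, is `D₈ × A` (`p = 2`) or `E × A` with
`E` extraspecial of order `p³` and exponent `p`, for an elementary abelian `A`. -/
theorem genExtraspecial_split [Finite G] {p : ℕ} [hp : Fact p.Prime] (D : Subgroup G) (hD : Nat.card D = p)
    (hDc : D ≤ Subgroup.center G) (hcomm : ∀ a b : G, ⁅a, b⁆ ∈ D) (y g : G) (hy : y ^ p = 1) (hg : g ^ p = 1)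
    (hgy : g * y ≠ y * g) (hMexp : ∀ m : G, m * y = y * m → m ^ p = 1)
    (hMab : ∀ m m' : G, m * y = y * m → m' * y = y * m' → m * m' = m' * m) :
    (p = 2 → ∃ (A : Type) (_ : CommGroup A), (∀ a : A, a ^ 2 = 1) ∧ Nonempty (G ≃* DihedralGroup 4 × A)) ∧
    (p ≠ 2 → ∃ (E : Type) (_ : Group E) (A : Type) (_ : CommGroup A), Cfsg.IsExtraspecial p E ∧
      Nat.card E = p ^ 3 ∧ Monoid.exponent E = p ∧ (∀ a : A, a ^ p = 1) ∧ Nonempty (G ≃* E × A)) := by
  obtain ⟨A₀, hA₀exp, hA₀c, hcard, ⟨e⟩⟩ := exists_split D hD hDc hcomm y g hy hg hgy hMexp hMab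
  obtain ⟨T, hT⟩ : ∃ T : Subgroup G, T = Subgroup.closure ({y, g} : Set G) := ⟨_, rfl⟩
  rw [← hT] at hcard e
  have hyT : y ∈ T := hT ▸ Subgroup.subset_closure (by simp)
  have hgT : g ∈ T := hT ▸ Subgroup.subset_closure (by simp)
  have hna : ∃ a b : T, a * b ≠ b * a := ⟨⟨g, hgT⟩, ⟨y, hyT⟩, fun h => hgy (congrArg Subtype.val h)⟩
  have hy1 : y ≠ 1 := by rintro rfl; exact hgy (by simp)
  have hg1 : g ≠ 1 := by rintro rfl; exact hgy (by simp)
  have hA₀comm : ∀ a b : A₀, a * b = b * a := fun a b =>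
    Subtype.ext (Subgroup.mem_center_iff.1 (hA₀c b.2) a)
  obtain ⟨A, instA, ⟨eA⟩⟩ := exists_small_commGroup A₀ hA₀comm
  have hAexp : ∀ a : A, a ^ p = 1 := by
    intro a
    obtain ⟨b, rfl⟩ := eA.surjective a
    have : b ^ p = 1 := Subtype.ext (by rw [Subgroup.coe_pow, Subgroup.coe_one]; exact hA₀exp b b.2)
    rw [← map_pow, this, map_one]
  constructor
  · intro h2
    subst h2
    have hcard8 : Nat.card T = 8 := by rw [hcard]; norm_num
    have hna' : ¬ ∀ x y : T, x * y = y * x := by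
      obtain ⟨a, b, hab⟩ := hna
      exact fun h => hab (h a b)
    rcases Helper17.order8_dihedral_or_unique_involution hcard8 hna' with ⟨⟨eT⟩⟩ | ⟨z, -, hz⟩
    · exact ⟨A, instA, hAexp, ⟨e.trans (MulEquiv.prodCongr eT eA)⟩⟩
    · exfalso
      have h1 : orderOf (⟨y, hyT⟩ : T) = 2 :=
        orderOf_eq_prime (Subtype.ext (by rw [Subgroup.coe_pow]; exact hy))
          (fun h => hy1 (congrArg Subtype.val h))
      have h2 : orderOf (⟨g, hgT⟩ : T) = 2 :=
        orderOf_eq_prime (Subtype.ext (by rw [Subgroup.coe_pow]; exact hg))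
          (fun h => hg1 (congrArg Subtype.val h))
      have h3 : (⟨y, hyT⟩ : T) = ⟨g, hgT⟩ := (hz _ h1).trans (hz _ h2).symm
      have h4 : y = g := congrArg Subtype.val h3
      exact hgy (by rw [h4])
  · intro hp2
    obtain ⟨E, instE, ⟨eE⟩⟩ := exists_small_group T
    have hTexp0 : ∀ t ∈ Subgroup.closure ({y, g} : Set G), t ^ p = 1 := by
      intro t ht
      induction ht using Subgroup.closure_induction with
      | mem z hz =>
        rcases hz with rfl | hz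
        · exact hy
        · rw [Set.mem_singleton_iff] at hz; rw [hz]; exact hg
      | one => exact one_pow p
      | mul a b _ _ iha ihb => rw [mul_pow_prime_of_class_two hp2 D hD hDc hcomm, iha, ihb, mul_one]
      | inv a _ iha => rw [inv_pow, iha, inv_one]
    have hTexp : ∀ t : T, t ^ p = 1 := by
      rintro ⟨t, ht⟩
      apply Subtype.ext
      rw [Subgroup.coe_pow, Subgroup.coe_one]
      exact hTexp0 t (hT ▸ ht)
    have hexpT : Monoid.exponent T = p := by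
      haveI : Nontrivial T := ⟨⟨⟨y, hyT⟩, 1, fun h => hy1 (congrArg Subtype.val h)⟩⟩
      rw [Monoid.exponent_eq_prime_iff hp.out]
      intro t ht
      exact orderOf_eq_prime (hTexp t) ht
    refine ⟨E, instE, A, instA, ?_, ?_, ?_, hAexp, ⟨e.trans (MulEquiv.prodCongr eE eA)⟩⟩
    · exact Helper63.isExtraspecial_of_mulEquiv eE (Helper83.isExtraspecial_of_nonabelian_p3 hcard hna)
    · rw [← Nat.card_congr eE.toEquiv, hcard]
    · rw [← Monoid.exponent_eq_of_mulEquiv eE, hexpT]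

end final

end Cfsg.Agent.Helper86
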