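import Mathlib
import Cfsg.Agent.S5236
import Cfsg.Agent.Lib.Helper87.FusionEssential
import Cfsg.Agent.Lib.Helper86.AgemoFusion
import Cfsg.Agent.Lib.Helper86.RankTwoGroup

set_option autoImplicit false

/-! A strongly closed subgroup `P` (of a saturated fusion system over a `p`-group, `p` odd) whose elements of
order dividing `p` form a subgroup of order dividing `p²` is normal in the system. -/

namespace Cfsg.Agent.Helper86

open Cfsg Cfsg.FusionSystem Cfsg.Agent.Helper87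
open scoped commutatorElement

variable {Ω : Type*} [Group Ω] {S : Subgroup Ω}

theorem stronglyClosed_bot' (F : FusionSystem S) : F.StronglyClosed (⊥ : Subgroup Ω) := by
  rw [stronglyClosed_iff]
  refine ⟨bot_le, fun R f hR hf x hx => ?_⟩
  have : x = 1 := by simpa using hR hx
  rw [this, hf.map_one]; exact Subgroup.one_mem _

/-- extension to `S` of an automorphism (in the system) of a subgroup `V` normal in `S` that commutes with
the conjugation action of `S` -/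
theorem exists_extension_of_commuting {p : ℕ} [Fact p.Prime] [Finite S] (hS : IsPGroup p S)
    {F : FusionSystem S} (hF : F.IsSaturated p) {V : Subgroup Ω} (hVS : V ≤ S)
    (hVn : S ≤ Subgroup.normalizer (V : Set Ω)) {d : Ω → Ω} (hd : Iso F V V d)
    (hcomm : ∀ g ∈ S, ∀ x ∈ V, d (g * x * g⁻¹) = g * d x * g⁻¹) :
    ∃ e, Mor F S e ∧ ∀ x ∈ V, e x = d x := by
  have hrec : F.IsReceptive V :=
    receptive_of_fullyNormalized hS hF (fullyNormalized_of_le_normalizer F hVS hVn)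
  obtain ⟨e, he, hed⟩ := (isReceptive_iff.1 hrec).2 V d hd
  have hle : S ≤ hd.ext := by
    intro g hg
    exact ⟨hg, hVn hg, g, hg, fun x hx => hcomm g hg x hx⟩
  exact ⟨e, he.restrict hle, hed⟩

theorem conj_normalizes_commutator {V P K : Subgroup Ω} (hVn : K ≤ Subgroup.normalizer (V : Set Ω))
    (hPn : K ≤ Subgroup.normalizer (P : Set Ω)) : K ≤ Subgroup.normalizer ((⁅V, P⁆ : Subgroup Ω) : Set Ω) := by
  apply le_normalizer_of_forall
  intro g hg x hx
  have hmap : (⁅V, P⁆).map (MulAut.conj g).toMonoidHom ≤ ⁅V, P⁆ := by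
    rw [Subgroup.map_commutator]
    apply Subgroup.commutator_mono
    · rintro _ ⟨v, hv, rfl⟩; exact (Subgroup.mem_normalizer_iff.1 (hVn hg) v).1 hv
    · rintro _ ⟨v, hv, rfl⟩; exact (Subgroup.mem_normalizer_iff.1 (hPn hg) v).1 hv
  exact hmap ⟨x, hx, rfl⟩

theorem omega_comm_stronglyClosed {p : ℕ} [Fact p.Prime] [Finite S] (hp2 : p ≠ 2) (hS : IsPGroup p S)
    {F : FusionSystem S} (hF : F.IsSaturated p) {P : Subgroup Ω} (hP : F.StronglyClosed P)
    (V : Subgroup Ω) (hV : ∀ x, x ∈ V ↔ x ∈ P ∧ x ^ p = 1) (hVcard : Nat.card V ∣ p ^ 2) :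
    F.StronglyClosed V ∧ F.StronglyClosed ⁅V, P⁆ ∧ ⁅⁅V, P⁆, P⁆ = ⊥ := by
  classical
  have hp : p.Prime := Fact.out
  have hPS : P ≤ S := hP.1
  have hVP : V ≤ P := fun x hx => ((hV x).1 hx).1
  have hVS : V ≤ S := hVP.trans hPS
  haveI : Finite P := finite_of_le hPS
  haveI : Finite V := finite_of_le hVS
  have hPp : IsPGroup p P := hS.to_le hPS
  have hVsc : F.StronglyClosed V := by
    rw [stronglyClosed_iff]
    refine ⟨hVS, fun R f hR hf x hx => ?_⟩
    rw [hV]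
    refine ⟨(stronglyClosed_iff.1 hP).2 R f (hR.trans hVP) hf x hx, ?_⟩
    have hxp : x ^ p = 1 := ((hV x).1 (hR hx)).2
    rw [← mor_map_pow hf hx, hxp, hf.map_one]
  have hPn : S ≤ Subgroup.normalizer (P : Set Ω) := StronglyClosed.le_normalizer hP
  have hVn : S ≤ Subgroup.normalizer (V : Set Ω) := StronglyClosed.le_normalizer hVsc
  obtain ⟨Q₁, hQ₁⟩ : ∃ Q : Subgroup Ω, Q = ⁅V, P⁆ := ⟨_, rfl⟩
  rw [← hQ₁]
  have hQ₁V : Q₁ ≤ V := hQ₁ ▸ commutator_le_left_of_le_normalizer (hPS.trans hVn)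
  have hQ₁S : Q₁ ≤ S := hQ₁V.trans hVS
  haveI : Finite Q₁ := finite_of_le hQ₁S
  have hQ₁n : S ≤ Subgroup.normalizer (Q₁ : Set Ω) := hQ₁ ▸ conj_normalizes_commutator hVn hPn
  have hQ₂ : ⁅Q₁, P⁆ = ⊥ ∧ (Q₁ ≠ ⊥ → Nat.card Q₁ = p ∧ Nat.card V = p ^ 2) := by
    by_cases h1 : Q₁ = ⊥
    · refine ⟨?_, fun h => absurd h1 h⟩
      rw [h1]; exact Subgroup.commutator_bot_left P
    · have hV1 : V ≠ ⊥ := fun h => h1 (le_bot_iff.1 (h ▸ hQ₁V))
      have hlt1 : Q₁ < V := hQ₁ ▸ commutator_lt_of_isPGroup hPp hVP (hPS.trans hVn) hV1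
      have hlt2 : ⁅Q₁, P⁆ < Q₁ :=
        commutator_lt_of_isPGroup hPp (hQ₁V.trans hVP) (hPS.trans hQ₁n) h1
      have := chain_of_dvd_prime_sq hp (Subgroup.card_dvd_of_le hlt2.le) (Subgroup.card_dvd_of_le hlt1.le)
        hVcard (card_lt_card_of_lt hlt2) (card_lt_card_of_lt hlt1)
      exact ⟨Subgroup.card_eq_one.1 this.1, fun _ => ⟨this.2.1, this.2.2⟩⟩
  refine ⟨hVsc, ?_, hQ₂.1⟩
  by_cases h1 : Q₁ = ⊥
  · rw [h1]; exact stronglyClosed_bot' F
  obtain ⟨hQ₁card, hVcard2⟩ := hQ₂.2 h1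
  have hQ₁cen : Q₁ ≤ Subgroup.centralizer (P : Set Ω) :=
    Subgroup.commutator_eq_bot_iff_le_centralizer.1 hQ₂.1
  rw [stronglyClosed_iff]
  refine ⟨hQ₁S, fun R f hR hf x hx => ?_⟩
  by_contra hy
  have hx1 : x ≠ 1 := by
    rintro rfl
    exact hy (by rw [hf.map_one]; exact Subgroup.one_mem _)
  have hRQ : R = Q₁ := by
    apply Subgroup.eq_of_le_of_card_ge hR
    rw [hQ₁card]
    have hd : Nat.card R ∣ p := hQ₁card ▸ Subgroup.card_dvd_of_le hR
    rcases (Nat.dvd_prime hp).1 hd with h | h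
    · exfalso
      have : R = ⊥ := Subgroup.card_eq_one.1 h
      rw [this] at hx
      exact hx1 (by simpa using hx)
    · exact h.ge
  subst hRQ
  have hxV : x ∈ V := hQ₁V hx
  have hyV : f x ∈ V := (stronglyClosed_iff.1 hVsc).2 R f hQ₁V hf x hx
  have hVab : ∀ a b : V, a * b = b * a := IsPGroup.commutative_of_card_eq_prime_sq hVcard2
  have hxp : x ^ p = 1 := ((hV x).1 hxV).2
  have hox : orderOf x = p := orderOf_eq_prime hxp hx1
  -- `R = ⟨x⟩`
  have hRz : R = Subgroup.zpowers x := by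
    symm
    apply Subgroup.eq_of_le_of_card_ge ((Subgroup.zpowers_le).2 hx)
    rw [hQ₁card, Nat.card_zpowers, hox]
  -- the inverse map, extended to `V`
  have hiso : Iso F R hf.image f := Iso.of_mor hf
  obtain ⟨g, hg, hgf, -⟩ := hiso.symm
  have hrec : F.IsReceptive R :=
    receptive_of_fullyNormalized hS hF (fullyNormalized_of_le_normalizer F hQ₁S hQ₁n)
  obtain ⟨g', hg', hg'g⟩ := (isReceptive_iff.1 hrec).2 _ g hg
  have hYV : hf.image ≤ V := by
    rintro _ ⟨z, hz, rfl⟩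
    exact (stronglyClosed_iff.1 hVsc).2 R f hQ₁V hf z hz
  have hVext : V ≤ hg.ext := by
    refine le_trans ?_ hg.centralizerIn_le_ext
    intro v hv
    refine ⟨hVS hv, Subgroup.mem_centralizer_iff.2 (fun z hz => ?_)⟩
    exact congrArg Subtype.val (hVab ⟨z, hYV hz⟩ ⟨v, hv⟩)
  have hg'V : Mor F V g' := hg'.restrict hVext
  have hb : Iso F V V g' := iso_of_card_le hg'V hVS
    (fun v hv => (stronglyClosed_iff.1 hVsc).2 V g' le_rfl hg'V v hv) le_rfl
  have hby : g' (f x) = x := by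
    rw [hg'g (f x) ⟨x, hx, rfl⟩]; exact hgf x hx
  -- a conjugation acting nontrivially on `V`
  obtain ⟨v₀, hv₀, g₀, hg₀, hne⟩ : ∃ v ∈ V, ∃ g ∈ P, g * v ≠ v * g := by
    by_contra hcon
    push Not at hcon
    apply h1
    rw [hQ₁, Subgroup.commutator_eq_bot_iff_le_centralizer]
    intro v hv
    rw [Subgroup.mem_centralizer_iff]
    intro g hg
    exact hcon v hv g hg
  have hu₀ : Iso F V V (fun z => g₀ * z * g₀⁻¹) :=
    iso_of_card_le (Mor.conj hVS (hPS hg₀)) hVS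
      (fun v hv => (Subgroup.mem_normalizer_iff.1 (hVn (hPS hg₀)) v).1 hv) le_rfl
  -- generation
  have hexpV : ∀ v : V, v ^ p = 1 := fun v => Subtype.ext ((hV v).1 v.2).2
  have hynz : (⟨f x, hyV⟩ : V) ∉ Subgroup.zpowers (⟨x, hxV⟩ : V) := by
    intro hmem
    obtain ⟨k, hk⟩ := Subgroup.mem_zpowers_iff.1 hmem
    apply hy
    have : x ^ k = f x := by
      have := congrArg Subtype.val hk
      simpa using this
    rw [← this]
    exact R.zpow_mem hx k
  have hgen : Subgroup.closure {(⟨x, hxV⟩ : V), (⟨f x, hyV⟩ : V)} = ⊤ := by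
    set W := Subgroup.closure {(⟨x, hxV⟩ : V), (⟨f x, hyV⟩ : V)} with hW
    have hxW : (⟨x, hxV⟩ : V) ∈ W := Subgroup.subset_closure (by simp)
    have hyW : (⟨f x, hyV⟩ : V) ∈ W := Subgroup.subset_closure (by simp)
    have hzW : Subgroup.zpowers (⟨x, hxV⟩ : V) < W := by
      refine lt_of_le_of_ne ((Subgroup.zpowers_le).2 hxW) (fun h => hynz ?_)
      rw [h]; exact hyW
    have hcz : Nat.card (Subgroup.zpowers (⟨x, hxV⟩ : V)) = p := by
      rw [Nat.card_zpowers]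
      apply orderOf_eq_prime (hexpV _)
      intro h
      exact hx1 (congrArg Subtype.val h)
    have hlt : p < Nat.card W := hcz ▸ card_lt_card_of_lt hzW
    have hdvd : Nat.card W ∣ p ^ 2 := hVcard2 ▸ Subgroup.card_subgroup_dvd_card W
    obtain ⟨k, hk, hkW⟩ := (Nat.dvd_prime_pow hp).1 hdvd
    have hk2 : k = 2 := by
      rw [hkW] at hlt
      have : 1 < k := by
        have := (Nat.pow_lt_pow_iff_right hp.one_lt).1 (by simpa using hlt : p ^ 1 < p ^ k)
        exact this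
      omega
    rw [hk2] at hkW
    apply (Subgroup.card_eq_iff_eq_top W).1
    rw [hkW, hVcard2]
  have hux : hu₀.equiv ⟨x, hxV⟩ = ⟨x, hxV⟩ := by
    apply Subtype.ext
    show g₀ * x * g₀⁻¹ = x
    have := (Subgroup.mem_centralizer_iff.1 (hQ₁cen hx)) g₀ hg₀
    rw [this]; group
  have hcomm : ∀ v : V, v⁻¹ * hu₀.equiv v ∈ Subgroup.zpowers (⟨x, hxV⟩ : V) := by
    intro v
    have h2 : (v : Ω)⁻¹ * (g₀ * v * g₀⁻¹) ∈ R := by
      rw [hQ₁]
      have : (v : Ω)⁻¹ * (g₀ * v * g₀⁻¹) = ⁅(v : Ω)⁻¹, g₀⁆ := by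
        rw [commutatorElement_def]; group
      rw [this]
      exact Subgroup.commutator_mem_commutator (V.inv_mem v.2) hg₀
    rw [hRz] at h2
    obtain ⟨k, hk⟩ := Subgroup.mem_zpowers_iff.1 h2
    rw [Subgroup.mem_zpowers_iff]
    refine ⟨k, Subtype.ext ?_⟩
    rw [Subgroup.coe_zpow, Subgroup.coe_mul, Subgroup.coe_inv, Iso.equiv_apply]
    exact hk
  have hu1 : (hu₀.equiv : MulAut V) ≠ 1 := by
    intro h
    apply hne
    have h2 : hu₀.equiv ⟨v₀, hv₀⟩ = ⟨v₀, hv₀⟩ := by rw [h]; rfl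
    have h3 : g₀ * v₀ * g₀⁻¹ = v₀ := congrArg Subtype.val h2
    calc g₀ * v₀ = g₀ * v₀ * g₀⁻¹ * g₀ := by group
      _ = v₀ * g₀ := by rw [h3]
  have hβy : hb.equiv ⟨f x, hyV⟩ = ⟨x, hxV⟩ := Subtype.ext hby
  obtain ⟨w, hwA, hw⟩ := exists_inverting_of_transvection_conj (V := V) (p := p) hVab hexpV
    (F.autGroup V) ⟨x, hxV⟩ ⟨f x, hyV⟩ hgen hu₀.equiv hb.equiv hu₀.equiv_mem_autGroup hb.equiv_mem_autGroup
    hux hcomm hu1 hβy
  -- the inversion of `V` is a map of the system; extend it to `S`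
  have hd : Iso F V V (extAut w) := iso_of_mor_extAut ((mem_autGroup_iff hVS).1 hwA)
  have hdv : ∀ v ∈ V, extAut w v = v⁻¹ := fun v hv => by
    rw [extAut_mem w hv, hw]; rfl
  obtain ⟨e, he, hev⟩ := exists_extension_of_commuting hS hF hVS hVn hd (by
    intro g hg v hv
    have hc : g * v * g⁻¹ ∈ V := (Subgroup.mem_normalizer_iff.1 (hVn hg) v).1 hv
    rw [hdv _ hc, hdv v hv]; group)
  have heP : Iso F P P e := iso_of_card_le (he.restrict hPS) hPS
    (fun z hz => (stronglyClosed_iff.1 hP).2 P e le_rfl (he.restrict hPS) z hz) le_rfl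
  have hσ : ∀ v : P, v ^ p = 1 → (heP.equiv : MulAut P) v = v⁻¹ := by
    intro v hv
    apply Subtype.ext
    have hvV : (v : Ω) ∈ V := (hV v).2 ⟨v.2, by simpa using congrArg Subtype.val hv⟩
    show e v = _
    rw [hev _ hvV, hdv _ hvV]; rfl
  -- its 2-part
  have hn0 : orderOf (heP.equiv : MulAut P) ≠ 0 := (orderOf_pos _).ne'
  obtain ⟨a, m, hm, hn⟩ := Nat.exists_eq_two_pow_mul_odd hn0
  have hτ : ((heP.equiv : MulAut P) ^ m) ^ (2 ^ a) = 1 := by
    rw [← pow_mul, mul_comm, ← hn, pow_orderOf_eq_one]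
  have hτinv : ∀ v : P, v ^ p = 1 → ((heP.equiv : MulAut P) ^ m) v = v⁻¹ :=
    fun v hv => aut_pow_inv_of_odd _ v (hσ v hv) m hm
  have hcen := commute_of_inverting hp2 hPp _ a hτ hτinv
  apply hne
  have := hcen ⟨g₀, hg₀⟩ ⟨v₀, hVP hv₀⟩ (Subtype.ext ((hV v₀).1 hv₀).2)
  exact congrArg Subtype.val this

/-- `p` odd, `P` strongly closed in the saturated system, and the elements of `P` of order dividing `p` form a
subgroup of order dividing `p²`: then `P` is normal in the system. -/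
theorem isNormal_of_omega_card_dvd_sq {p : ℕ} [Fact p.Prime] [Finite S] (hp2 : p ≠ 2) (hS : IsPGroup p S)
    {F : FusionSystem S} (hF : F.IsSaturated p) {P : Subgroup Ω} (hP : F.StronglyClosed P)
    (V : Subgroup Ω) (hV : ∀ x, x ∈ V ↔ x ∈ P ∧ x ^ p = 1) (hVcard : Nat.card V ∣ p ^ 2) :
    F.IsNormal P := by
  obtain ⟨hVsc, hQ₁sc, hQ₂⟩ := omega_comm_stronglyClosed hp2 hS hF hP V hV hVcard
  have hom : omegaOne p P = V := by
    unfold omegaOne
    apply le_antisymm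
    · rw [Subgroup.closure_le]
      intro x hx
      exact (hV x).2 hx
    · intro x hx
      exact Subgroup.subset_closure ((hV x).1 hx)
  have hPS : P ≤ S := hP.1
  have hVn : S ≤ Subgroup.normalizer (V : Set Ω) := StronglyClosed.le_normalizer hVsc
  refine (Cfsg.Agent.S5236.result p hS F hF hp2 P hP).2 ⟨2, ![⊥, ⁅V, P⁆, V], rfl, ?_, ?_, ?_, ?_⟩
  · rw [hom]; rfl
  · rw [Fin.monotone_iff_le_succ]
    intro i
    fin_cases i
    · exact bot_le
    · exact commutator_le_left_of_le_normalizer (hPS.trans hVn)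
  · intro i
    fin_cases i
    · exact stronglyClosed_bot' F
    · exact hQ₁sc
    · exact hVsc
  · intro i
    fin_cases i
    · show ⁅⁅V, P⁆, P⁆ ≤ ⊥
      rw [hQ₂]
    · show ⁅V, P⁆ ≤ ⁅V, P⁆
      exact le_rfl

end Cfsg.Agent.Helper86
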