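import Mathlib
import Cfsg.Agent.Lib.Helper87.FusionEssential
import Cfsg.Agent.Lib.Helper86.AgemoFusion
import Cfsg.Agent.Lib.Helper86.OmegaRankTwo
import Cfsg.Agent.Lib.Helper86.GenExtraspecial

set_option autoImplicit false

/-! Fusion of the derived subgroup `D` (of order `p`, containing all `p`-th powers) of a strongly closed subgroup
`P`: an element `y ∉ D` of `P` that is conjugate in the system to a generator of `D` has elementary abelian
centralizer in `P`, and is not central in `P`. -/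

namespace Cfsg.Agent.Helper86

open Cfsg Cfsg.FusionSystem Cfsg.Agent.Helper87
open scoped commutatorElement

variable {Ω : Type*} [Group Ω] {S : Subgroup Ω}

theorem mem_inf_centralizer_singleton {P : Subgroup Ω} {y v : Ω} :
    v ∈ P ⊓ Subgroup.centralizer ({y} : Set Ω) ↔ v ∈ P ∧ v * y = y * v := by
  rw [Subgroup.mem_inf, Subgroup.mem_centralizer_singleton_iff]

theorem mor_map_commutatorElement {F : FusionSystem S} {R : Subgroup Ω} {f : Ω → Ω} (h : Mor F R f) {a b : Ω}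
    (ha : a ∈ R) (hb : b ∈ R) : f ⁅a, b⁆ = ⁅f a, f b⁆ := by
  rw [commutatorElement_def, commutatorElement_def,
    h.map_mul (R.mul_mem (R.mul_mem ha hb) (R.inv_mem ha)) (R.inv_mem hb),
    h.map_mul (R.mul_mem ha hb) (R.inv_mem ha), h.map_mul ha hb, h.map_inv ha, h.map_inv hb]

/-- the key lemma -/
theorem centralizer_of_fused_generator {p : ℕ} [hp : Fact p.Prime] [Finite S] (hS : IsPGroup p S)
    {F : FusionSystem S} (hF : F.IsSaturated p) {P : Subgroup Ω} (hP : F.StronglyClosed P)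
    (D : Subgroup Ω) (hDP : D ≤ P) (hDcard : Nat.card D = p) (hDn : S ≤ Subgroup.normalizer (D : Set Ω))
    (hDc : ∀ d ∈ D, ∀ a ∈ P, a * d = d * a) (hcommD : ∀ a ∈ P, ∀ b ∈ P, ⁅a, b⁆ ∈ D)
    (hpowD : ∀ a ∈ P, a ^ p ∈ D) (hna : ∃ a ∈ P, ∃ b ∈ P, a * b ≠ b * a)
    {f : Ω → Ω} (hf : Mor F D f) {z : Ω} (hz : z ∈ D) (hy : f z ∉ D) :
    f z ∈ P ∧ (f z) ^ p = 1 ∧ (∀ a ∈ P, a * f z = f z * a → a ^ p = 1) ∧
      (∀ a ∈ P, ∀ b ∈ P, a * f z = f z * a → b * f z = f z * b → a * b = b * a) ∧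
      (∃ g₀ ∈ P, g₀ * f z ≠ f z * g₀) ∧
      ∃ g', Mor F (P ⊓ Subgroup.centralizer ({f z} : Set Ω)) g' ∧ g' (f z) = z ∧
        ∀ w ∈ D, g' w ∈ D → w = 1 := by
  classical
  have hPS : P ≤ S := hP.1
  have hDS : D ≤ S := hDP.trans hPS
  have hsc := (stronglyClosed_iff.1 hP).2
  obtain ⟨y, hydef⟩ : ∃ y : Ω, y = f z := ⟨_, rfl⟩
  rw [← hydef] at hy ⊢
  have hz1 : z ≠ 1 := by
    rintro rfl
    apply hy
    rw [hydef, hf.map_one]; exact D.one_mem
  have hzp : z ^ p = 1 := (exists_pow_of_card_prime D hDcard hz hz1 hz).1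
  have hDz : ∀ d ∈ D, ∃ k : ℕ, d = z ^ k := fun d hd => (exists_pow_of_card_prime D hDcard hz hz1 hd).2
  have hyP : y ∈ P := hydef ▸ hsc D f hDP hf z hz
  have hyp : y ^ p = 1 := by rw [hydef, ← mor_map_pow hf hz, hzp, hf.map_one]
  have hy1 : y ≠ 1 := by
    intro h
    apply hy; rw [h]; exact D.one_mem
  -- the inverse map and its extension
  have hiso : Iso F D hf.image f := Iso.of_mor hf
  obtain ⟨g, hg, hgf, -⟩ := hiso.symm
  have hrec : F.IsReceptive D :=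
    receptive_of_fullyNormalized hS hF (fullyNormalized_of_le_normalizer F hDS hDn)
  obtain ⟨g', hg', hg'g⟩ := (isReceptive_iff.1 hrec).2 _ g hg
  obtain ⟨M, hMdef⟩ : ∃ M : Subgroup Ω, M = P ⊓ Subgroup.centralizer ({y} : Set Ω) := ⟨_, rfl⟩
  have hM : ∀ v, v ∈ M ↔ v ∈ P ∧ v * y = y * v := fun v => by
    rw [hMdef]; exact mem_inf_centralizer_singleton
  have hMP : M ≤ P := fun v hv => ((hM v).1 hv).1
  have hMext : M ≤ hg.ext := by
    refine le_trans ?_ hg.centralizerIn_le_ext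
    intro v hv
    obtain ⟨hvP, hvy⟩ := (hM v).1 hv
    refine ⟨hPS hvP, Subgroup.mem_centralizer_iff.2 ?_⟩
    rintro _ ⟨d, hd, rfl⟩
    obtain ⟨k, rfl⟩ := hDz d hd
    rw [mor_map_pow hf hz, ← hydef]
    exact ((Commute.pow_right (show Commute v y from hvy) k).eq).symm
  have hg'M : Mor F M g' := hg'.restrict hMext
  have hyM : y ∈ M := (hM y).2 ⟨hyP, rfl⟩
  have hDM : D ≤ M := fun d hd => (hM d).2 ⟨hDP hd, (hDc d hd y hyP).symm⟩
  have hg'y : g' y = z := by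
    rw [hg'g y ⟨z, hz, hydef.symm⟩, hydef]; exact hgf z hz
  have hg'P : ∀ v ∈ M, g' v ∈ P := fun v hv => hsc M g' hMP hg'M v hv
  -- the key property
  have hstar : ∀ w ∈ D, g' w ∈ D → w = 1 := by
    intro w hw hgw
    by_contra hw1
    obtain ⟨i, hi⟩ := hDz _ hgw
    have h1 : g' w = g' (y ^ i) := by rw [hi, mor_map_pow hg'M hyM, hg'y]
    have h2 : w = y ^ i := hg'M.inj (hDM hw) (M.pow_mem hyM i) h1
    have hpi : ¬ p ∣ i := fun h => hw1 (by rw [h2, pow_eq_one_of_dvd' hyp h])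
    obtain ⟨s, hs⟩ := exists_pow_pow_eq hyp hpi
    apply hy
    rw [← hs, ← h2]
    exact D.pow_mem hw s
  refine ⟨hyP, hyp, ?_, ?_, ?_, g', hMdef ▸ hg'M, hg'y, hstar⟩
  · intro a haP hay
    have haM : a ∈ M := (hM a).2 ⟨haP, hay⟩
    apply hstar _ (hpowD a haP)
    rw [mor_map_pow hg'M haM]
    exact hpowD _ (hg'P a haM)
  · intro a haP b hbP hay hby
    have haM : a ∈ M := (hM a).2 ⟨haP, hay⟩
    have hbM : b ∈ M := (hM b).2 ⟨hbP, hby⟩
    have h1 : ⁅a, b⁆ = 1 := by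
      apply hstar _ (hcommD a haP b hbP)
      rw [mor_map_commutatorElement hg'M haM hbM]
      exact hcommD _ (hg'P a haM) _ (hg'P b hbM)
    exact commutatorElement_eq_one_iff_mul_comm.1 h1
  · by_contra hcon
    push Not at hcon
    obtain ⟨a, haP, b, hbP, hab⟩ := hna
    have haM : a ∈ M := (hM a).2 ⟨haP, hcon a haP⟩
    have hbM : b ∈ M := (hM b).2 ⟨hbP, hcon b hbP⟩
    have h1 : ⁅a, b⁆ = 1 := by
      apply hstar _ (hcommD a haP b hbP)
      rw [mor_map_commutatorElement hg'M haM hbM]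
      exact hcommD _ (hg'P a haM) _ (hg'P b hbM)
    exact hab (commutatorElement_eq_one_iff_mul_comm.1 h1)

end Cfsg.Agent.Helper86
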