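import Mathlib
import Cfsg.Agent.Lib.Helper31.H2Defs

set_option autoImplicit false
set_option linter.style.haveILetI false

/-!
# H2 (TBL): Theorem B lower bound `r ≥ p ^ n * (p - 1) ≥ 2 * p ^ n`
-/

namespace Cfsg.Agent.Helper86.H2

open Cfsg Cfsg.Agent.Helper31.H2 Cfsg.Agent.Helper31.HHB Cfsg.Agent.Helper48.Wreath

theorem tb_lower {G : Type*} [Group G] [Finite G] {p : ℕ} [Fact p.Prime] (hp2 : p ≠ 2)
    (hsol : IsPSolvable p G) {W : Type*} [CommGroup W] [Finite W] [Module (ZMod p) (Additive W)]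
    (φ : G →* MulAut W) (hker : φ.ker = pCore p G) (g : G) (n : ℕ)
    (hg : g ^ p ^ (n + 1) ∈ pCore p G) (hg' : g ^ p ^ n ∉ pCore p G) :
    (linRep p φ g - 1) ^ (2 * p ^ n - 1) ≠ 0 := by
  intro h0
  have hp : p.Prime := Fact.out
  have hp3 : 3 ≤ p := by
    have := hp.two_le
    omega
  haveI hPn : (pCore p G).Normal := Cfsg.pCore_normal p G
  have hle : pCore p G ≤ φ.ker := hker.ge
  set ψ : G ⧸ pCore p G →* MulAut W := QuotientGroup.lift (pCore p G) φ hle with hψ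
  have hψinj : Function.Injective ψ := by
    rw [injective_iff_map_eq_one]
    intro g' hg'
    obtain ⟨g, rfl⟩ := QuotientGroup.mk_surjective g'
    have h1 : φ g = 1 := hg'
    have h2 : g ∈ φ.ker := MonoidHom.mem_ker.mpr h1
    rw [hker] at h2
    exact (QuotientGroup.eq_one_iff g).mpr h2
  have hsolH : IsPSolvable p (G ⧸ pCore p G) := Cfsg.Agent.Helper76.IsPSolvable.quotient hsol _
  have hOH : pCore p (G ⧸ pCore p G) = ⊥ := pCore_quot_pCore_eq_bot p
  set x : G ⧸ pCore p G := QuotientGroup.mk' (pCore p G) g with hx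
  have hx1 : x ^ p ^ (n + 1) = 1 := by
    rw [hx, ← map_pow]
    exact (QuotientGroup.eq_one_iff _).mpr hg
  have hx2 : x ^ p ^ n ≠ 1 := by
    rw [hx, ← map_pow]
    intro h
    exact hg' ((QuotientGroup.eq_one_iff _).mp h)
  obtain ⟨q, hq, hqp, Q, hQ, hQx, y, hyQ, hyx⟩ :=
    Cfsg.Agent.Helper31.HH.exists_invariant_q_not_centralized hsolH hOH n x hx1 hx2
  haveI : Fact q.Prime := ⟨hq⟩
  haveI : Module.Finite (ZMod p) (Additive W) := Module.Finite.of_finite
  set ρ0 := linRep p ψ with hρ0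
  have hρ0inj : Function.Injective ρ0 := linRep_injective p ψ hψinj
  have hρx : ρ0 x = linRep p φ g := rfl
  have h0' : (ρ0 x - 1) ^ (2 * p ^ n - 1) = 0 := by rw [hρx]; exact h0
  have hex : ∃ r, (ρ0 x - 1) ^ r = 0 := ⟨_, h0'⟩
  classical
  have hr : (ρ0 x - 1) ^ (Nat.find hex) = 0 := Nat.find_spec hex
  have hmin : ∀ k < Nat.find hex, (ρ0 x - 1) ^ k ≠ 0 := fun k hk => Nat.find_min hex hk
  have hrle : Nat.find hex ≤ 2 * p ^ n - 1 := Nat.find_min' hex h0'
  have key := theoremB_hom ρ0 hρ0inj q (Ne.symm hqp) Q hQ x hQx n hx1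
    ⟨y, hyQ, hyx⟩ (Nat.find hex) hr hmin
  have hpn : 0 < p ^ n := pow_pos hp.pos n
  rcases key with h | ⟨_, n₀, m, h1, h2, h3, h4, h5⟩
  · rw [pow_succ] at h
    have e4 : 3 * p ^ n ≤ p ^ n * p := by
      rw [mul_comm]
      exact Nat.mul_le_mul_left _ hp3
    omega
  · have e1 : p ^ (n + 1 - n₀) * p ^ n₀ = p ^ n * p := by
      rw [← pow_add, ← pow_succ]
      congr 1
      omega
    have e2 : p ^ (n + 1 - n₀) ≤ p ^ n := Nat.pow_le_pow_right hp.pos (by omega)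
    have e3 : p ^ (n + 1 - n₀) * (p ^ n₀ - 1) = p ^ n * p - p ^ (n + 1 - n₀) := by
      rw [Nat.mul_sub_one, e1]
    rw [e3] at h5
    have e4 : 3 * p ^ n ≤ p ^ n * p := by
      rw [mul_comm]
      exact Nat.mul_le_mul_left _ hp3
    omega

end Cfsg.Agent.Helper86.H2
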