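import Mathlib

set_option autoImplicit false

/-!
# HEC (DATA): from the computed data to the isomorphism
-/

namespace Cfsg.Agent.Helper86.HEC

/-- (DATA)  From the computed data inside an ambient group `G` to the isomorphism; `hiso` is the statement of
(ISO) for the type `↥(centralizer {ζ})`. -/
theorem iso_of_data {G : Type*} [Group G] (ζ : G) (hζ1 : ζ ≠ 1)
    (hfin : Finite ↥(Subgroup.centralizer ({ζ} : Set G)))
    (hC : Nat.card ↥(Subgroup.centralizer ({ζ} : Set G)) ≤ 21504)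
    (U M : Subgroup G)
    (hU : U ≤ Subgroup.centralizer ({ζ} : Set G)) (hM : M ≤ Subgroup.centralizer ({ζ} : Set G))
    (hζU : ζ ∈ U)
    (hUcomm : ∀ a ∈ U, ∀ b ∈ U, a * b = b * a)
    (hUexp : ∀ a ∈ U, a * a = 1)
    (hUcard : Nat.card ↥U = 16)
    (hnorm : ∀ m ∈ M, ∀ u ∈ U, m * u * m⁻¹ ∈ U)
    (hint : U ⊓ M = ⊥)
    (f : Fin 1344 → G) (hf : ∀ k, f k ∈ M)
    (hinj : ∀ k k', (∀ u ∈ U, f k * u * (f k)⁻¹ = f k' * u * (f k')⁻¹) → k = k')
    (s : Matrix.SpecialLinearGroup (Fin 5) (ZMod 2))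
    (hs : (s : Matrix (Fin 5) (Fin 5) (ZMod 2)) = Matrix.transvection 0 1 1)
    (hiso : ∀ (U' M' : Subgroup ↥(Subgroup.centralizer ({ζ} : Set G))),
      Nat.card ↥(Subgroup.centralizer ({ζ} : Set G)) = 21504 → U'.Normal →
      (∀ a ∈ U', ∀ b ∈ U', a * b = b * a) → (∀ a ∈ U', a * a = 1) → Nat.card ↥U' = 16 →
      U' ⊓ M' = ⊥ → U' ⊔ M' = ⊤ →
      (∀ m ∈ M', (∀ u ∈ U', m * u * m⁻¹ = u) → m = 1) →
      ∀ z : ↥(Subgroup.centralizer ({ζ} : Set G)), z ∈ U' → z ≠ 1 → (∀ g, g * z = z * g) →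
      Nonempty (↥(Subgroup.centralizer ({ζ} : Set G)) ≃*
        Subgroup.centralizer ({s} : Set (Matrix.SpecialLinearGroup (Fin 5) (ZMod 2))))) :
    Nonempty (↥(Subgroup.centralizer ({ζ} : Set G)) ≃*
      Subgroup.centralizer ({s} : Set (Matrix.SpecialLinearGroup (Fin 5) (ZMod 2)))) := by
  classical
  have : Finite ↥U := Finite.of_injective _ (Subgroup.inclusion_injective hU)
  have : Finite ↥M := Finite.of_injective _ (Subgroup.inclusion_injective hM)
  -- the kernel of the action of `M` on `U`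
  set K : Subgroup G := M ⊓ Subgroup.centralizer (U : Set G) with hK
  have hKM : K ≤ M := inf_le_left
  have : Finite ↥K := Finite.of_injective _ (Subgroup.inclusion_injective hKM)
  have hKact : ∀ x ∈ K, ∀ u ∈ U, x * u * x⁻¹ = u := by
    intro x hx u hu
    have h1 : u * x = x * u := (Subgroup.mem_centralizer_iff.mp hx.2) u hu
    rw [← h1, mul_inv_cancel_right]
  have hKmem : ∀ x ∈ M, (∀ u ∈ U, x * u * x⁻¹ = u) → x ∈ K := by
    intro x hx hact
    refine ⟨hx, Subgroup.mem_centralizer_iff.mpr fun u hu => ?_⟩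
    have := hact u hu
    calc u * x = (x * u * x⁻¹) * x := by rw [this]
      _ = x * u := by group
  -- `1344 * |K| ≤ |M|`
  have h1 : 1344 * Nat.card ↥K ≤ Nat.card ↥M := by
    let ψ : Fin 1344 × ↥K → ↥M := fun x => ⟨f x.1 * (x.2 : G), M.mul_mem (hf x.1) (hKM x.2.2)⟩
    have hψ : Function.Injective ψ := by
      rintro ⟨k, x⟩ ⟨k', x'⟩ hx
      have e : f k * (x : G) = f k' * (x' : G) := congrArg Subtype.val hx
      have hc : ∀ (k : Fin 1344) (x : ↥K) (u : G), u ∈ U →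
          (f k * (x : G)) * u * (f k * (x : G))⁻¹ = f k * u * (f k)⁻¹ := by
        intro k x u hu
        calc (f k * (x : G)) * u * (f k * (x : G))⁻¹
            = f k * ((x : G) * u * (x : G)⁻¹) * (f k)⁻¹ := by group
          _ = f k * u * (f k)⁻¹ := by rw [hKact x x.2 u hu]
      have hkk : k = k' := by
        apply hinj
        intro u hu
        rw [← hc k x u hu, ← hc k' x' u hu, e]
      subst hkk
      have : (x : G) = x' := mul_left_cancel e
      rw [Subtype.ext this]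
    have := Nat.card_le_card_of_injective ψ hψ
    rw [Nat.card_prod] at this
    simpa using this
  -- `|U| * |M| ≤ |Cz|`
  let φ : ↥U × ↥M → ↥(Subgroup.centralizer ({ζ} : Set G)) := fun x =>
    ⟨(x.1 : G) * (x.2 : G), Subgroup.mul_mem _ (hU x.1.2) (hM x.2.2)⟩
  have hφ : Function.Injective φ := by
    rintro ⟨u, m⟩ ⟨u', m'⟩ hx
    have e : (u : G) * (m : G) = (u' : G) * (m' : G) := congrArg Subtype.val hx
    have hmem : (u' : G)⁻¹ * (u : G) ∈ U ⊓ M := by
      refine ⟨U.mul_mem (U.inv_mem u'.2) u.2, ?_⟩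
      have : (u' : G)⁻¹ * (u : G) = (m' : G) * (m : G)⁻¹ := by
        calc (u' : G)⁻¹ * (u : G) = (u' : G)⁻¹ * ((u : G) * (m : G)) * (m : G)⁻¹ := by group
          _ = (u' : G)⁻¹ * ((u' : G) * (m' : G)) * (m : G)⁻¹ := by rw [e]
          _ = (m' : G) * (m : G)⁻¹ := by group
      rw [this]
      exact M.mul_mem m'.2 (M.inv_mem m.2)
    rw [hint, Subgroup.mem_bot] at hmem
    have huu : (u : G) = u' := by
      calc (u : G) = (u' : G) * ((u' : G)⁻¹ * (u : G)) := by group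
        _ = u' := by rw [hmem, mul_one]
    have hmm : (m : G) = m' := by
      rw [huu] at e
      exact mul_left_cancel e
    rw [Subtype.ext huu, Subtype.ext hmm]
  have h2 : Nat.card ↥U * Nat.card ↥M ≤ Nat.card ↥(Subgroup.centralizer ({ζ} : Set G)) := by
    have := Nat.card_le_card_of_injective φ hφ
    rwa [Nat.card_prod] at this
  have hKpos : 0 < Nat.card ↥K := Nat.card_pos
  rw [hUcard] at h2
  have hMcard : Nat.card ↥M = 1344 := by omega
  have hKcard : Nat.card ↥K = 1 := by omega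
  have hCcard : Nat.card ↥(Subgroup.centralizer ({ζ} : Set G)) = 21504 := by omega
  have hKbot : K = ⊥ := Subgroup.card_eq_one.mp hKcard
  -- `φ` is surjective
  have hφbij : Function.Bijective φ := by
    apply hφ.bijective_of_nat_card_le
    rw [Nat.card_prod, hUcard, hMcard, hCcard]
  have hdecomp : ∀ g ∈ Subgroup.centralizer ({ζ} : Set G), ∃ u ∈ U, ∃ m ∈ M, g = u * m := by
    intro g hg
    obtain ⟨⟨u, m⟩, hx⟩ := hφbij.2 ⟨g, hg⟩
    exact ⟨u, u.2, m, m.2, (congrArg Subtype.val hx).symm⟩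
  have hζC : ζ ∈ Subgroup.centralizer ({ζ} : Set G) := hU hζU
  refine hiso (U.subgroupOf _) (M.subgroupOf _) hCcard ?_ ?_ ?_ ?_ ?_ ?_ ?_ ⟨ζ, hζC⟩ ?_ ?_ ?_
  · -- normal
    refine ⟨fun n hn g => ?_⟩
    rw [Subgroup.mem_subgroupOf] at hn ⊢
    obtain ⟨u, hu, m, hm, hg⟩ := hdecomp g g.2
    have : ((g * n * g⁻¹ : ↥(Subgroup.centralizer ({ζ} : Set G))) : G) =
        u * (m * (n : G) * m⁻¹) * u⁻¹ := by
      push_cast
      rw [hg]
      group
    rw [this]
    exact U.mul_mem (U.mul_mem hu (hnorm m hm _ hn)) (U.inv_mem hu)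
  · intro a ha b hb
    rw [Subgroup.mem_subgroupOf] at ha hb
    exact Subtype.ext (hUcomm _ ha _ hb)
  · intro a ha
    rw [Subgroup.mem_subgroupOf] at ha
    exact Subtype.ext (hUexp _ ha)
  · rw [Nat.card_congr (Subgroup.subgroupOfEquivOfLe hU).toEquiv, hUcard]
  · rw [eq_bot_iff]
    intro x hx
    have h3 : (x : G) ∈ U ⊓ M := ⟨Subgroup.mem_subgroupOf.mp hx.1, Subgroup.mem_subgroupOf.mp hx.2⟩
    rw [hint, Subgroup.mem_bot] at h3
    rw [Subgroup.mem_bot]
    exact Subtype.ext h3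
  · rw [eq_top_iff]
    intro g _
    obtain ⟨u, hu, m, hm, hg⟩ := hdecomp g g.2
    have : g = (⟨u, hU hu⟩ : ↥(Subgroup.centralizer ({ζ} : Set G))) * ⟨m, hM hm⟩ := Subtype.ext hg
    rw [this]
    exact Subgroup.mul_mem_sup (Subgroup.mem_subgroupOf.mpr hu) (Subgroup.mem_subgroupOf.mpr hm)
  · intro m hm hact
    rw [Subgroup.mem_subgroupOf] at hm
    have hmK : (m : G) ∈ K := by
      apply hKmem _ hm
      intro u hu
      have := hact ⟨u, hU hu⟩ (Subgroup.mem_subgroupOf.mpr hu)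
      exact congrArg Subtype.val this
    rw [hKbot, Subgroup.mem_bot] at hmK
    exact Subtype.ext hmK
  · exact Subgroup.mem_subgroupOf.mpr hζU
  · intro h1
    exact hζ1 (congrArg Subtype.val h1)
  · intro g
    apply Subtype.ext
    exact Subgroup.mem_centralizer_singleton_iff.mp g.2

end Cfsg.Agent.Helper86.HEC
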