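import Mathlib
import Cfsg.Prelude.Def_LieRecognition
import Cfsg.Agent.Lib.Helper87.LinPoly
import Cfsg.Agent.Lib.Helper1.Hig.Defs
import Cfsg.Agent.Lib.Helper49.HigS1

/-!
# HIG piece (D1) for helper1's S1138/S5214 server: the configuration `M`
(second seat, helper86). Route: `n` := least `i` with `L_i ≤ Z` (`L` the lower central series),
`A₀ := L_(n-1)`; `M := {x | x*x ∈ Z ∧ ∃ z ∈ Z, x*z ∈ A₀}`.
-/

set_option autoImplicit false

namespace Cfsg.Agent.Helper86.Hig

open Cfsg.Agent.Helper1.Hig Cfsg.Agent.Helper87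
open scoped commutatorElement

variable {P : Type*} [Group P]

theorem h86_comm_mul_central {x z g : P} (hz : z * g = g * z) : ⁅x * z, g⁆ = ⁅x, g⁆ := by
  simp only [commutatorElement_def]
  calc x * z * g * (x * z)⁻¹ * g⁻¹ = x * (z * g) * z⁻¹ * x⁻¹ * g⁻¹ := by group
    _ = x * (g * z) * z⁻¹ * x⁻¹ * g⁻¹ := by rw [hz]
    _ = x * g * x⁻¹ * g⁻¹ := by group

theorem h86_comm_mul_right {m g h : P} (hc : g * ⁅m, h⁆ = ⁅m, h⁆ * g) :
    ⁅m, g * h⁆ = ⁅m, g⁆ * ⁅m, h⁆ := by
  have e : ⁅m, g * h⁆ = ⁅m, g⁆ * (g * ⁅m, h⁆) * g⁻¹ := by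
    simp only [commutatorElement_def]; group
  rw [e, hc]; group

/-- `g ↦ ⁅m, g⁆` as a homomorphism into the centre -/
def h86_commHom (m : P) (hm : ∀ g : P, ⁅m, g⁆ ∈ Subgroup.center P) : P →* Subgroup.center P :=
  MonoidHom.mk' (fun g => ⟨⁅m, g⁆, hm g⟩) (by
    intro a b
    apply Subtype.ext
    exact h86_comm_mul_right (Subgroup.mem_center_iff.1 (hm b) a))

theorem h86_commHom_apply (m : P) (hm : ∀ g : P, ⁅m, g⁆ ∈ Subgroup.center P) (g : P) :
    ((h86_commHom m hm g : Subgroup.center P) : P) = ⁅m, g⁆ := rfl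

/-- the subgroup `M` -/
def h86_M (A₀ : Subgroup P) (hA : ∀ a ∈ A₀, ∀ g : P, ⁅a, g⁆ ∈ Subgroup.center P) : Subgroup P where
  carrier := {x | x * x ∈ Subgroup.center P ∧ ∃ z ∈ Subgroup.center P, x * z ∈ A₀}
  one_mem' := ⟨by simp, 1, Subgroup.one_mem _, by simp⟩
  mul_mem' := by
    rintro x y ⟨hx2, z, hz, hxz⟩ ⟨hy2, w, hw, hyw⟩
    have hzc := Subgroup.mem_center_iff.1 hz
    have hwc := Subgroup.mem_center_iff.1 hw
    have hc : ⁅y, x⁆ ∈ Subgroup.center P := by
      have := hA _ hyw x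
      rwa [h86_comm_mul_central (hwc x).symm] at this
    have hcc := Subgroup.mem_center_iff.1 hc
    refine ⟨?_, z * w, Subgroup.mul_mem _ hz hw, ?_⟩
    · have e1 : y * x = ⁅y, x⁆ * x * y := by
        simp only [commutatorElement_def]; group
      have e : x * y * (x * y) = ⁅y, x⁆ * (x * x) * (y * y) := by
        calc x * y * (x * y) = x * (y * x) * y := by group
          _ = x * (⁅y, x⁆ * x * y) * y := by rw [e1]
          _ = (x * ⁅y, x⁆) * x * y * y := by group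
          _ = (⁅y, x⁆ * x) * x * y * y := by rw [hcc x]
          _ = ⁅y, x⁆ * (x * x) * (y * y) := by group
      rw [e]
      exact Subgroup.mul_mem _ (Subgroup.mul_mem _ hc hx2) hy2
    · have e : x * y * (z * w) = x * z * (y * w) := by
        calc x * y * (z * w) = x * (y * z) * w := by group
          _ = x * (z * y) * w := by rw [hzc y]
          _ = x * z * (y * w) := by group
      rw [e]
      exact A₀.mul_mem hxz hyw
  inv_mem' := by
    rintro x ⟨hx2, z, hz, hxz⟩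
    have hzc := Subgroup.mem_center_iff.1 hz
    refine ⟨?_, z⁻¹, Subgroup.inv_mem _ hz, ?_⟩
    · have e : x⁻¹ * x⁻¹ = (x * x)⁻¹ := by group
      rw [e]; exact Subgroup.inv_mem _ hx2
    · have hzi := Subgroup.mem_center_iff.1 (Subgroup.inv_mem _ hz)
      have e : x⁻¹ * z⁻¹ = (x * z)⁻¹ := by
        rw [mul_inv_rev]; exact hzi x⁻¹
      rw [e]; exact A₀.inv_mem hxz

theorem h86_mem_M {A₀ : Subgroup P} {hA : ∀ a ∈ A₀, ∀ g : P, ⁅a, g⁆ ∈ Subgroup.center P} {x : P} :
    x ∈ h86_M A₀ hA ↔ x * x ∈ Subgroup.center P ∧ ∃ z ∈ Subgroup.center P, x * z ∈ A₀ := Iff.rfl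

/-- (D1) the configuration. -/
theorem exists_cfg {P : Type*} [Group P] (S : SuzNF P)
    (hna : ∃ a b : P, ⁅a, b⁆ ∉ Subgroup.center P) : Nonempty (Cfg S) := by
  classical
  have := S.fin
  have : Fact (Nat.Prime 2) := ⟨Nat.prime_two⟩
  obtain ⟨a₀, b₀, hab⟩ := hna
  -- the lower central series reaches the centre
  have hnil : Group.IsNilpotent P := S.two.isNilpotent
  obtain ⟨c, hc⟩ := Subgroup.nilpotent_iff_lowerCentralSeries.1 hnil
  have hex : ∃ i, (⊤ : Subgroup P).lowerCentralSeries i ≤ Subgroup.center P :=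
    ⟨c, by rw [hc]; exact bot_le⟩
  have hn := Nat.find_spec hex
  have hmin : ∀ i < Nat.find hex, ¬ (⊤ : Subgroup P).lowerCentralSeries i ≤ Subgroup.center P :=
    fun i hi => Nat.find_min hex hi
  have h0 : Nat.find hex ≠ 0 := by
    intro h
    rw [h] at hn
    exact hab (hn (Subgroup.mem_top _))
  have h1 : Nat.find hex ≠ 1 := by
    intro h
    rw [h] at hn
    exact hab (hn (Subgroup.commutator_mem_commutator (Subgroup.mem_top a₀) (Subgroup.mem_top b₀)))
  obtain ⟨k, hk⟩ : ∃ k, Nat.find hex = k + 2 := ⟨Nat.find hex - 2, by omega⟩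
  rw [hk] at hn hmin
  set A₀ : Subgroup P := (⊤ : Subgroup P).lowerCentralSeries (k + 1) with hA₀
  have hA0Z : ¬ A₀ ≤ Subgroup.center P := hmin (k + 1) (by omega)
  have hA : ∀ a ∈ A₀, ∀ g : P, ⁅a, g⁆ ∈ Subgroup.center P :=
    fun a ha g => hn (Subgroup.commutator_mem_commutator ha (Subgroup.mem_top g))
  have hA0P : A₀ ≤ (⊤ : Subgroup P).lowerCentralSeries 1 :=
    Subgroup.lowerCentralSeries_antitone ⊤ (by omega : 1 ≤ k + 1)
  have hA0ξ : ∀ a ∈ A₀, S.ξ a ∈ A₀ := by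
    intro a ha
    have hchar : A₀.Characteristic := by rw [hA₀]; infer_instance
    exact (Subgroup.characteristic_iff_map_le.1 hchar S.ξ) (Subgroup.mem_map_of_mem _ ha)
  -- facts on the centre
  have hZsq : ∀ z ∈ Subgroup.center P, z * z = 1 := fun z hz => (S.sq_one_iff z).2 hz
  have hZξ : ∀ z ∈ Subgroup.center P, S.ξ z ∈ Subgroup.center P := by
    intro z hz
    rw [← S.sq_one_iff, ← map_mul, hZsq z hz, map_one]
  set M : Subgroup P := h86_M A₀ hA with hM
  have hMcomm : ∀ m ∈ M, ∀ g : P, ⁅m, g⁆ ∈ Subgroup.center P := by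
    rintro m ⟨-, z, hz, hmz⟩ g
    have := hA _ hmz g
    rwa [h86_comm_mul_central ((Subgroup.mem_center_iff.1 hz g).symm)] at this
  have hZM : Subgroup.center P ≤ M := by
    intro z hz
    refine ⟨Subgroup.mul_mem _ hz hz, z⁻¹, Subgroup.inv_mem _ hz, ?_⟩
    rw [mul_inv_cancel]; exact A₀.one_mem
  have hA0M : ∀ a ∈ A₀, a * a ∈ Subgroup.center P → a ∈ M := by
    intro a ha ha2
    exact ⟨ha2, 1, Subgroup.one_mem _, by rwa [mul_one]⟩
  have hξM : ∀ m ∈ M, S.ξ m ∈ M := by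
    rintro m ⟨hm2, z, hz, hmz⟩
    refine ⟨?_, S.ξ z, hZξ z hz, ?_⟩
    · rw [← map_mul]; exact hZξ _ hm2
    · rw [← map_mul]; exact hA0ξ _ hmz
  have hpow : ∀ j : ℕ, ∀ m ∈ M, (S.ξ ^ j) m ∈ M := by
    intro j
    induction j with
    | zero => intro m hm; simpa using hm
    | succ j ih =>
      intro m hm
      rw [pow_succ', MulAut.mul_apply]
      exact hξM _ (ih m hm)
  have hinvM : ∀ m ∈ M, S.ξ⁻¹ m ∈ M := by
    intro m hm
    have hN : 0 < orderOf S.ξ := by
      rw [S.order_ξ]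
      have : 2 ^ 2 ≤ 2 ^ S.n := Nat.pow_le_pow_right (by norm_num) S.hn
      omega
    have e : S.ξ⁻¹ = S.ξ ^ (orderOf S.ξ - 1) := by
      symm
      apply eq_inv_of_mul_eq_one_left
      rw [← pow_succ, Nat.sub_add_cancel hN, pow_orderOf_eq_one]
    rw [e]
    exact hpow _ m hm
  -- squares and commutators centralize `M`
  have hsqC : ∀ g : P, g * g ∈ Subgroup.centralizer (M : Set P) := by
    intro g
    rw [Subgroup.mem_centralizer_iff]
    intro m hm
    have h2 : h86_commHom m (hMcomm m hm) (g * g) = 1 := by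
      rw [map_mul]
      apply Subtype.ext
      exact hZsq _ (h86_commHom m (hMcomm m hm) g).2
    have h3 : ⁅m, g * g⁆ = 1 :=
      ((h86_commHom_apply m (hMcomm m hm) (g * g)).symm.trans (congrArg Subtype.val h2)).trans
        (Subgroup.coe_one _)
    exact commutatorElement_eq_one_iff_mul_comm.1 h3
  have hcommC : ∀ a b : P, ⁅a, b⁆ ∈ Subgroup.centralizer (M : Set P) := by
    intro a b
    rw [Subgroup.mem_centralizer_iff]
    intro m hm
    have h2 : h86_commHom m (hMcomm m hm) ⁅a, b⁆ = 1 := by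
      rw [map_commutatorElement]
      exact commutatorElement_eq_one_iff_mul_comm.2 (Subtype.ext
        (Subgroup.mem_center_iff.1 (h86_commHom m (hMcomm m hm) b).2
          (h86_commHom m (hMcomm m hm) a).1))
    have h3 : ⁅m, ⁅a, b⁆⁆ = 1 :=
      ((h86_commHom_apply m (hMcomm m hm) ⁅a, b⁆).symm.trans (congrArg Subtype.val h2)).trans
        (Subgroup.coe_one _)
    exact commutatorElement_eq_one_iff_mul_comm.1 h3
  have hZC : Subgroup.center P ≤ Subgroup.centralizer (M : Set P) := by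
    intro z hz
    rw [Subgroup.mem_centralizer_iff]
    intro m _
    exact Subgroup.mem_center_iff.1 hz m
  have hMC : M ≤ Subgroup.centralizer (M : Set P) := by
    rintro x ⟨-, z, hz, hxz⟩
    have h1 : x * z ∈ Subgroup.centralizer (M : Set P) := by
      have h2 : (⊤ : Subgroup P).lowerCentralSeries 1 ≤ Subgroup.centralizer (M : Set P) := by
        rw [Subgroup.lowerCentralSeries_succ, Subgroup.lowerCentralSeries_zero, Subgroup.commutator_le]
        intro g₁ _ g₂ _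
        exact hcommC g₁ g₂
      exact h2 (hA0P hxz)
    have h3 : x = x * z * z⁻¹ := by group
    rw [h3]
    exact Subgroup.mul_mem _ h1 (hZC (Subgroup.inv_mem _ hz))
  -- an element of `M` outside the centre
  obtain ⟨m₀, hm₀M, hm₀Z⟩ : ∃ m ∈ M, m ∉ Subgroup.center P := by
    obtain ⟨a, haA, haZ⟩ : ∃ a ∈ A₀, a ∉ Subgroup.center P := by
      by_contra hcon
      push Not at hcon
      exact hA0Z hcon
    have hex2 : ∃ j : ℕ, a ^ 2 ^ j ∈ Subgroup.center P := by
      obtain ⟨j, hj⟩ := S.two a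
      exact ⟨j, by rw [hj]; exact Subgroup.one_mem _⟩
    have hj0 : Nat.find hex2 ≠ 0 := by
      intro h
      have := Nat.find_spec hex2
      rw [h, pow_zero, pow_one] at this
      exact haZ this
    obtain ⟨j, hj⟩ : ∃ j, Nat.find hex2 = j + 1 := ⟨Nat.find hex2 - 1, by omega⟩
    have hspec := Nat.find_spec hex2
    rw [hj] at hspec
    have hminj : a ^ 2 ^ j ∉ Subgroup.center P := Nat.find_min hex2 (by omega)
    refine ⟨a ^ 2 ^ j, hA0M _ (A₀.pow_mem haA _) ?_, hminj⟩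
    rw [← pow_add, ← two_mul, ← pow_succ']
    exact hspec
  have hm₀sq : m₀ * m₀ ≠ 1 := fun h => hm₀Z ((S.sq_one_iff m₀).1 h)
  have hm₀sqZ : m₀ * m₀ ∈ Subgroup.center P := hm₀M.1
  -- surjectivity of squaring
  have hsurj : ∀ z ∈ Subgroup.center P, ∃ m ∈ M, m * m = z := by
    intro z hz
    by_cases hz1 : z = 1
    · exact ⟨1, M.one_mem, by rw [hz1, mul_one]⟩
    · obtain ⟨i, hi⟩ := S.trans (m₀ * m₀) z hm₀sqZ hz hm₀sq hz1
      exact ⟨(S.ξ ^ i) m₀, hpow i m₀ hm₀M, by rw [← map_mul, hi]⟩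
  -- the centralizer is ξ-invariant
  have hξC : ∀ x ∈ Subgroup.centralizer (M : Set P), S.ξ x ∈ Subgroup.centralizer (M : Set P) := by
    intro x hx
    rw [Subgroup.mem_centralizer_iff] at hx ⊢
    intro m hm
    have h1 := hx _ (hinvM m hm)
    have h2 : m = S.ξ (S.ξ⁻¹ m) := by simp
    calc m * S.ξ x = S.ξ (S.ξ⁻¹ m) * S.ξ x := by rw [← h2]
      _ = S.ξ (S.ξ⁻¹ m * x) := by rw [map_mul]
      _ = S.ξ (x * S.ξ⁻¹ m) := by rw [h1]
      _ = S.ξ x * m := by rw [map_mul, ← h2]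
  -- the centralizer is commutative
  have hCab : ∀ a ∈ Subgroup.centralizer (M : Set P), ∀ b ∈ Subgroup.centralizer (M : Set P),
      a * b = b * a := by
    by_contra hcon
    push Not at hcon
    obtain ⟨a, ha, b, hb, hab'⟩ := hcon
    have h := Cfsg.Agent.Helper49.Hig.sub_center S (Subgroup.centralizer (M : Set P)) hZC hξC
      ⟨a, ha, b, hb, hab'⟩ m₀ (hMC hm₀M) (fun y hy => by
        have := (Subgroup.mem_centralizer_iff.1 hy) m₀ hm₀M
        exact this)
    exact hm₀Z h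
  refine ⟨{
    M := M
    center_le := hZM
    ξ_mem := hξM
    sq_mem := fun m hm => hm.1
    comm_mem := hMcomm
    sq_surj := hsurj
    le_cent := hMC
    cent_comm := hCab
    sq_mem_cent := hsqC
    comm_mem_cent := hcommC
    mem_of_pow_four := ?_ }⟩
  intro c hc hc4
  have hc2 : c * c ∈ Subgroup.center P := by
    rw [← S.sq_one_iff]
    have : c * c * (c * c) = c ^ 4 := by
      rw [show (4 : ℕ) = 2 + 2 from rfl, pow_add, pow_two]
    rw [this, hc4]
  obtain ⟨m, hm, hmm⟩ := hsurj _ hc2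
  have hcm : m * c = c * m := (Subgroup.mem_centralizer_iff.1 hc) m hm
  have hcm' : m⁻¹ * c = c * m⁻¹ := by
    calc m⁻¹ * c = m⁻¹ * (c * m) * m⁻¹ := by group
      _ = m⁻¹ * (m * c) * m⁻¹ := by rw [hcm]
      _ = c * m⁻¹ := by group
  have h1 : c * m⁻¹ * (c * m⁻¹) = 1 := by
    calc c * m⁻¹ * (c * m⁻¹) = c * (m⁻¹ * c) * m⁻¹ := by group
      _ = c * (c * m⁻¹) * m⁻¹ := by rw [hcm']
      _ = (c * c) * (m * m)⁻¹ := by group
      _ = 1 := by rw [hmm, mul_inv_cancel]
  have h2 : c * m⁻¹ ∈ Subgroup.center P := (S.sq_one_iff _).1 h1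
  have h3 : c = c * m⁻¹ * m := by group
  rw [h3]
  exact M.mul_mem (hZM h2) hm

end Cfsg.Agent.Helper86.Hig
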