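import Mathlib
import Cfsg.Prelude.Def_LieRecognition
import Cfsg.Prelude.Def_FusionSystem
import Cfsg.Agent.Lib.Helper87.FusionNormal

/-!
# HIG piece (H) for helper1's S1138/S5214 server: the fusion-system part of S5214
A `2`-group `S` whose involutions are central, with `S' ≤ Z(S)` and `Z(S)` of exponent two, is normal in
every saturated fusion system over `S`.
-/

set_option autoImplicit false

namespace Cfsg.Agent.Helper86.Hig

open Cfsg Cfsg.FusionSystem Cfsg.Agent.Helper87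
open scoped commutatorElement

section

variable {Ω : Type*} [Group Ω]

/-- the stability group of the chain `1 ≤ Z ∩ R ≤ R` in `Aut R` -/
def h86_stab (Z R : Subgroup Ω) : Subgroup (MulAut R) where
  carrier := {α | (∀ x : R, (x : Ω) ∈ Z → α x = x) ∧ ∀ x : R, ((α x : R) : Ω) * (x : Ω)⁻¹ ∈ Z}
  one_mem' := by
    refine ⟨fun x _ => rfl, fun x => ?_⟩
    simp [Z.one_mem]
  mul_mem' := by
    rintro α β ⟨ha1, ha2⟩ ⟨hb1, hb2⟩
    refine ⟨fun x hx => ?_, fun x => ?_⟩
    · rw [MulAut.mul_apply, hb1 x hx, ha1 x hx]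
    · have e : (((α * β) x : R) : Ω) * (x : Ω)⁻¹ =
          (((α (β x) : R) : Ω) * ((β x : R) : Ω)⁻¹) * (((β x : R) : Ω) * (x : Ω)⁻¹) := by
        rw [MulAut.mul_apply]; group
      rw [e]
      exact Z.mul_mem (ha2 (β x)) (hb2 x)
  inv_mem' := by
    rintro α ⟨ha1, ha2⟩
    refine ⟨fun x hx => ?_, fun x => ?_⟩
    · have h := ha1 x hx
      calc α⁻¹ x = α⁻¹ (α x) := by rw [h]
        _ = x := by simp
    · have h := ha2 (α⁻¹ x)
      have e1 : α (α⁻¹ x) = x := by simp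
      rw [e1] at h
      have e : ((α⁻¹ x : R) : Ω) * (x : Ω)⁻¹ = ((x : Ω) * ((α⁻¹ x : R) : Ω)⁻¹)⁻¹ := by group
      rw [e]
      exact Z.inv_mem h

theorem h86_mem_stab {Z R : Subgroup Ω} {α : MulAut R} :
    α ∈ h86_stab Z R ↔ (∀ x : R, (x : Ω) ∈ Z → α x = x) ∧
      ∀ x : R, ((α x : R) : Ω) * (x : Ω)⁻¹ ∈ Z := Iff.rfl

/-- if `Z ∩ R` is the set of elements of `R` of square one, the stability group is normal in `Aut R` -/
theorem h86_stab_normal {Z R : Subgroup Ω} (hZ : ∀ x : R, (x : Ω) ∈ Z ↔ (x : Ω) * (x : Ω) = 1) :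
    (h86_stab Z R).Normal := by
  have hchar : ∀ (β : MulAut R) (x : R), (x : Ω) ∈ Z → ((β x : R) : Ω) ∈ Z := by
    intro β x hx
    rw [hZ] at hx ⊢
    have h1 : x * x = 1 := Subtype.ext hx
    have h2 : β x * β x = 1 := by rw [← map_mul, h1, map_one]
    exact congrArg Subtype.val h2
  constructor
  rintro α ⟨ha1, ha2⟩ β
  refine ⟨fun x hx => ?_, fun x => ?_⟩
  · have h1 : ((β⁻¹ x : R) : Ω) ∈ Z := hchar β⁻¹ x hx
    rw [MulAut.mul_apply, MulAut.mul_apply, ha1 _ h1]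
    simp
  · set y := β⁻¹ x with hy
    have hxy : x = β y := by rw [hy]; simp
    have h1 : ((α y * y⁻¹ : R) : Ω) ∈ Z := by
      have := ha2 y
      simpa using this
    have h2 := hchar β _ h1
    have e : (((β * α * β⁻¹) x : R) : Ω) * (x : Ω)⁻¹ = ((β (α y * y⁻¹) : R) : Ω) := by
      rw [MulAut.mul_apply, MulAut.mul_apply, ← hy, hxy, map_mul, map_inv]
      simp
    rw [e]
    exact h2

/-- the stability group has exponent two if `Z` has -/
theorem h86_stab_sq {Z R : Subgroup Ω} (hZ2 : ∀ z ∈ Z, z * z = 1) {α : MulAut R}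
    (hα : α ∈ h86_stab Z R) : α * α = 1 := by
  obtain ⟨ha1, ha2⟩ := hα
  ext x
  rw [MulAut.mul_apply, MulAut.one_apply]
  -- α x = z x with z ∈ Z ∩ R
  set z : R := α x * x⁻¹ with hz
  have hzZ : (z : Ω) ∈ Z := by
    have := ha2 x
    simpa [hz] using this
  have e1 : α x = z * x := by rw [hz]; group
  have e2 : α z = z := ha1 z hzZ
  have e3 : z * z = 1 := Subtype.ext (hZ2 _ hzZ)
  have : α (α x) = x := by
    rw [e1, map_mul, e2, e1]
    calc z * (z * x) = (z * z) * x := by group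
      _ = x := by rw [e3, one_mul]
  exact congrArg Subtype.val this

theorem h86_stab_isPGroup {Z R : Subgroup Ω} (hZ2 : ∀ z ∈ Z, z * z = 1) :
    IsPGroup 2 (h86_stab Z R) := by
  intro α
  refine ⟨1, ?_⟩
  apply Subtype.ext
  rw [pow_one, pow_two]
  exact h86_stab_sq hZ2 α.2

variable {S : Subgroup Ω}

/-- abstract form: `Z ≤ S` central of exponent two containing all involutions and all commutators of `S` -/
theorem h86_normal_of_central_data [Finite S] (hS : IsPGroup 2 S)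
    (F : Cfsg.FusionSystem S) (hF : F.IsSaturated 2) (Z : Subgroup Ω)
    (hZc : ∀ z ∈ Z, ∀ s ∈ S, s * z = z * s) (hZ2 : ∀ z ∈ Z, z * z = 1)
    (hinv : ∀ x ∈ S, x * x = 1 → x ∈ Z)
    (hcomm : ∀ a ∈ S, ∀ b ∈ S, a * b * a⁻¹ * b⁻¹ ∈ Z) : F.IsNormal S := by
  have : Fact (Nat.Prime 2) := ⟨Nat.prime_two⟩
  apply isNormal_top_of_centric_radical_eq hS hF
  intro R _ hcen hrad
  apply eq_top_of_autInducedBy_le_inn hS hcen
  have hRS : R ≤ S := hcen.1
  have hZchar : ∀ x : R, (x : Ω) ∈ Z ↔ (x : Ω) * (x : Ω) = 1 :=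
    fun x => ⟨fun h => hZ2 _ h, fun h => hinv _ (hRS x.2) h⟩
  have hn : ((h86_stab Z R).subgroupOf (F.autGroup R)).Normal :=
    (h86_stab_normal hZchar).subgroupOf _
  have hp : IsPGroup 2 ((h86_stab Z R).subgroupOf (F.autGroup R)) :=
    (h86_stab_isPGroup hZ2).comap_subtype
  have hle := le_pCore hn hp
  intro α hα
  have hαA : α ∈ F.autGroup R := autInducedBy_le_autGroup F hRS hα
  obtain ⟨g, hg, e⟩ := mem_autInducedBy_iff.1 hα
  have hαK : α ∈ h86_stab Z R := by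
    refine ⟨fun x hx => ?_, fun x => ?_⟩
    · apply Subtype.ext
      rw [e x, hZc _ hx g hg]
      group
    · rw [e x]
      exact hcomm g hg x (hRS x.2)
  have h3 : (⟨α, hαA⟩ : F.autGroup R) ∈ (h86_stab Z R).subgroupOf (F.autGroup R) := by
    rw [Subgroup.mem_subgroupOf]; exact hαK
  have h4 := hle h3
  rw [← hrad.2]
  exact ⟨⟨α, hαA⟩, h4, rfl⟩

end

/-- (H) the fusion-system part of S5214 (Helper84.normal_of_alperin_invariant with Q = S: show
there is no essential subgroup). For Q < S centric: Z := center S ≤ Q and Z = {x ∈ Q : x*x = 1} is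
characteristic in Q; N_S(Q) acts trivially on Q/Z (⁅x,g⁆ ∈ S' ≤ Z) and on Z, and the stability
group of 1 ≤ Z ≤ Q is a normal elementary abelian 2-subgroup of Aut Q; so Aut_S(Q) ≤ O_2(Aut_F Q),
= Inn Q if Q is radical; then N_S(Q) = Q C_S(Q) = Q, so Q = S. Compare
Helper84.le_of_normal_centric_radical and Helper87.ExtraspecialCenter. -/
theorem normal_of_higman {Ω : Type*} [Group Ω] {S : Subgroup Ω} [Finite S] (hS : IsPGroup 2 S)
    (F : Cfsg.FusionSystem S) (hF : F.IsSaturated 2)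
    (hinv : ∀ x : S, x * x = 1 → x ∈ Subgroup.center S)
    (hcomm : ∀ a b : S, ⁅a, b⁆ ∈ Subgroup.center S)
    (hexp : ∀ z ∈ Subgroup.center S, z * z = 1) : F.IsNormal S := by
  refine h86_normal_of_central_data hS F hF ((Subgroup.center S).map S.subtype) ?_ ?_ ?_ ?_
  · rintro _ ⟨z, hz, rfl⟩ s hs
    have := Subgroup.mem_center_iff.1 hz ⟨s, hs⟩
    exact congrArg Subtype.val this
  · rintro _ ⟨z, hz, rfl⟩
    exact congrArg Subtype.val (hexp z hz)
  · intro x hx hxx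
    exact ⟨⟨x, hx⟩, hinv ⟨x, hx⟩ (Subtype.ext hxx), rfl⟩
  · intro a ha b hb
    refine ⟨⁅(⟨a, ha⟩ : S), ⟨b, hb⟩⁆, hcomm _ _, ?_⟩
    rw [commutatorElement_def]
    rfl

end Cfsg.Agent.Helper86.Hig
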