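import Mathlib
import Cfsg.Agent.Lib.Helper70.Transfer
import Cfsg.Agent.Lib.Helper48.TransferInv
import Cfsg.Agent.Lib.Helper47.Frat
import Cfsg.Agent.Lib.Helper86.CoprimeAut

/-!
# A local form of Tate's theorem (helper86)

`G` a finite `p`-group, `P ⊴ G`, `A ≤ Aut(P)` containing the image `B` of `G`.  If `B` is "TI" in `A`
modulo `P`, `[G,G] ≤ Q ≤ P ⊓ Φ(G)`, `A` stabilizes `Q`, then `A` has no nontrivial `p'`-elements.
The proof uses the transfer `G → C` of characters `P → C` and a Mackey decomposition over `A/B`.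
-/

set_option autoImplicit false

namespace Cfsg.Agent.Helper86.LocalTate

open scoped commutatorElement

variable {G : Type*} [Group G] {P : Subgroup G} {C : Type*} [CommGroup C]

/-- right action of automorphisms on characters -/
def act (ξ : P →* C) (α : MulAut P) : P →* C := ξ.comp α.toMonoidHom

@[simp] theorem act_apply (ξ : P →* C) (α : MulAut P) (x : P) : act ξ α x = ξ (α x) := rfl

theorem act_one (ξ : P →* C) : act ξ 1 = ξ := by ext x; rfl

theorem act_mul (ξ : P →* C) (α β : MulAut P) : act ξ (α * β) = act (act ξ α) β := by ext x; rfl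

/-- the action of a fixed automorphism as an endomorphism of the character group -/
def actHom (α : MulAut P) : (P →* C) →* (P →* C) where
  toFun ξ := act ξ α
  map_one' := by ext x; rfl
  map_mul' ξ ζ := by ext x; rfl

@[simp] theorem actHom_apply (α : MulAut P) (ξ : P →* C) : actHom α ξ = act ξ α := rfl

theorem mul_act (ξ ζ : P →* C) (α : MulAut P) : act (ξ * ζ) α = act ξ α * act ζ α :=
  map_mul (actHom α) ξ ζ

theorem inv_act (ξ : P →* C) (α : MulAut P) : act ξ⁻¹ α = (act ξ α)⁻¹ := map_inv (actHom α) ξ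

theorem one_act (α : MulAut P) : act (1 : P →* C) α = 1 := map_one (actHom α)

theorem prod_act {ι : Type*} (s : Finset ι) (f : ι → (P →* C)) (α : MulAut P) :
    act (∏ i ∈ s, f i) α = ∏ i ∈ s, act (f i) α := map_prod (actHom α) f s

theorem pow_act (ξ : P →* C) (n : ℕ) (α : MulAut P) : act (ξ ^ n) α = (act ξ α) ^ n :=
  map_pow (actHom α) ξ n

variable [hPn : P.Normal]

/-- conjugation by an element of `P`, transported by an automorphism of `P` -/
theorem conj_conjNormal (α : MulAut P) (x : P) :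
    α * MulAut.conjNormal (x : G) * α⁻¹ = MulAut.conjNormal ((α x : P) : G) := by
  ext y
  simp only [MulAut.mul_apply, MulAut.conjNormal_apply]
  have h : α (MulAut.conjNormal (x : G) (α⁻¹ y)) = α x * y * (α x)⁻¹ := by
    have e : MulAut.conjNormal (x : G) (α⁻¹ y) = x * (α⁻¹ y) * x⁻¹ := by
      apply Subtype.ext
      simp [MulAut.conjNormal_apply]
    rw [e, map_mul, map_mul, map_inv]
    simp
  have := congrArg (Subtype.val) h
  simpa using this

/-- the norm of a character: the product of its `G`-conjugates -/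
noncomputable def norm [Fintype (G ⧸ P)] (η : P →* C) : P →* C :=
  ∏ c : G ⧸ P, act η (MulAut.conjNormal (c.out)⁻¹)

theorem norm_mul [Fintype (G ⧸ P)] (η ζ : P →* C) : norm (η * ζ) = norm η * norm ζ := by
  unfold norm
  rw [← Finset.prod_mul_distrib]
  exact Finset.prod_congr rfl fun c _ => mul_act η ζ _

theorem norm_one [Fintype (G ⧸ P)] : norm (1 : P →* C) = 1 := by
  unfold norm
  exact Finset.prod_eq_one fun c _ => one_act _

theorem smul_eq_of_mem (x : P) (c : G ⧸ P) : (x : G)⁻¹ • c = c := by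
  induction c using QuotientGroup.induction_on with
  | H g =>
    rw [MulAction.Quotient.smul_mk, QuotientGroup.eq, smul_eq_mul]
    have : ((x : G)⁻¹ * g)⁻¹ * g = g⁻¹ * x * g := by group
    rw [this]
    have := hPn.conj_mem x x.2 g⁻¹
    simpa using this

theorem transfer_eq_norm [Finite G] [Fintype (G ⧸ P)] (η : P →* C) (x : P) :
    MonoidHom.transfer η (x : G) = norm η x := by
  rw [Cfsg.Agent.Helper70.transfer_eq_prod_out]
  unfold norm
  rw [MonoidHom.finsetProd_apply]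
  refine Finset.prod_congr rfl fun c _ => ?_
  rw [smul_eq_of_mem x c]
  have hmem : (c.out)⁻¹ * (x : G) * c.out ∈ P := by
    have := hPn.conj_mem x x.2 (c.out)⁻¹
    simpa using this
  rw [Cfsg.Agent.Helper70.extHom_of_mem η hmem, act_apply]
  congr 1
  apply Subtype.ext
  simp

theorem norm_apply_of_mem_frattini [Finite G] [Fintype (G ⧸ P)] {p : ℕ} [Fact p.Prime]
    (hC : ∀ c : C, c ^ p = 1) (η : P →* C) (x : P) (hx : (x : G) ∈ frattini G) : norm η x = 1 := by
  rw [← transfer_eq_norm]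
  have h := Cfsg.Agent.Helper47.frattini_le_ker_of_elementary (p := p) (MonoidHom.transfer η)
    (fun a b => mul_comm _ _) (fun a => hC _)
  exact h hx

section Mackey

variable (A : Subgroup (MulAut P)) (hBA : ∀ g : G, (MulAut.conjNormal g : MulAut P) ∈ A)

/-- the conjugation map `G → A` -/
def cA : G →* A := (MulAut.conjNormal : G →* MulAut P).codRestrict A hBA

@[simp] theorem coe_cA (g : G) : ((cA A hBA g : A) : MulAut P) = MulAut.conjNormal g := rfl

/-- the image of `G` in `A` -/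
def BA : Subgroup A := ((MulAut.conjNormal : G →* MulAut P).range).subgroupOf A

theorem mem_BA {a : A} : a ∈ BA A ↔ ∃ g : G, (a : MulAut P) = MulAut.conjNormal g := by
  unfold BA
  rw [Subgroup.mem_subgroupOf, MonoidHom.mem_range]
  constructor
  · rintro ⟨g, hg⟩; exact ⟨g, hg.symm⟩
  · rintro ⟨g, hg⟩; exact ⟨g, hg.symm⟩

theorem cA_mem_BA (g : G) : cA A hBA g ∈ BA A := mem_BA A |>.2 ⟨g, rfl⟩

/-- elements of `P` act trivially on the cosets `A / B` -/
theorem cA_smul_of_mem (x : P) (q : A ⧸ BA A) : cA A hBA (x : G) • q = q := by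
  induction q using QuotientGroup.induction_on with
  | H a =>
    rw [MulAction.Quotient.smul_mk, QuotientGroup.eq, smul_eq_mul]
    rw [mem_BA]
    refine ⟨(((a⁻¹ : A) : MulAut P) x⁻¹ : P), ?_⟩
    have h := conj_conjNormal ((a⁻¹ : A) : MulAut P) x⁻¹
    rw [← h]
    simp only [Subgroup.coe_mul, Subgroup.coe_inv, coe_cA, mul_inv_rev, inv_inv, map_inv,
      Subgroup.coe_inv]

variable (hTI : ∀ α ∈ A, (∀ g : G, α ≠ MulAut.conjNormal g) → ∀ g : G,
    (∃ h : G, α * MulAut.conjNormal g * α⁻¹ = MulAut.conjNormal h) → g ∈ P)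

include hTI in
/-- `G / P` acts freely on the nontrivial cosets -/
theorem mem_of_cA_smul_eq (q : A ⧸ BA A) (hq : q ≠ ((1 : A) : A ⧸ BA A)) (g : G)
    (h : cA A hBA g • q = q) : g ∈ P := by
  induction q using QuotientGroup.induction_on with
  | H a =>
    rw [MulAction.Quotient.smul_mk, QuotientGroup.eq, smul_eq_mul, mem_BA] at h
    obtain ⟨k, hk⟩ := h
    have ha : a ∉ BA A := by
      intro ha
      apply hq
      rw [QuotientGroup.eq]
      simpa using (BA A).inv_mem ha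
    have hg : g⁻¹ ∈ P := by
      apply hTI ((a⁻¹ : A) : MulAut P) (a⁻¹).2 ?_ g⁻¹
      · refine ⟨k, ?_⟩
        rw [← hk]
        simp only [Subgroup.coe_mul, Subgroup.coe_inv, coe_cA, mul_inv_rev, inv_inv, map_inv]
      · intro g' hg'
        apply ha
        rw [mem_BA]
        refine ⟨g'⁻¹, ?_⟩
        have : (a : MulAut P) = (((a⁻¹ : A) : MulAut P))⁻¹ := by simp
        rw [this, hg', map_inv]
    simpa using P.inv_mem hg

variable (𝒳 : Subgroup (P →* C)) (h𝒳 : ∀ ζ ∈ 𝒳, ∀ α ∈ A, act ζ α ∈ 𝒳)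

omit hPn in
include h𝒳 in
theorem mk_act_eq {ζ ζ' : P →* C} (h : (ζ : (P →* C) ⧸ 𝒳) = ζ') {α : MulAut P} (hα : α ∈ A) :
    ((act ζ α : P →* C) : (P →* C) ⧸ 𝒳) = act ζ' α := by
  rw [QuotientGroup.eq] at h ⊢
  have := h𝒳 _ h α hα
  rwa [mul_act, inv_act] at this

variable (ξ : P →* C) (hξ : ∀ g : G, ξ⁻¹ * act ξ (MulAut.conjNormal g) ∈ 𝒳)

include hξ in
theorem mk_act_of_mem_BA (b : A) (hb : b ∈ BA A) :
    ((act ξ (b : MulAut P) : P →* C) : (P →* C) ⧸ 𝒳) = ξ := by
  obtain ⟨g, hg⟩ := (mem_BA A).1 hb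
  rw [hg, eq_comm, QuotientGroup.eq]
  exact hξ g

/-- the partial "trace" of `ξ` over a set of cosets -/
noncomputable def tr (s : Finset (A ⧸ BA A)) : P →* C :=
  ∏ q ∈ s, act ξ (((q.out : A) : MulAut P))⁻¹

include h𝒳 hξ in
/-- the total trace is `A`-invariant modulo `𝒳` -/
theorem mk_act_tr_univ [Fintype (A ⧸ BA A)] (β : A) :
    ((act (tr A ξ Finset.univ) ((β : MulAut P))⁻¹ : P →* C) : (P →* C) ⧸ 𝒳) = tr A ξ Finset.univ := by
  unfold tr
  rw [prod_act]
  have hπ : ∀ f : (A ⧸ BA A) → (P →* C), ((∏ q, f q : P →* C) : (P →* C) ⧸ 𝒳) =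
      ∏ q, ((f q : P →* C) : (P →* C) ⧸ 𝒳) := fun f => map_prod (QuotientGroup.mk' 𝒳) f _
  rw [hπ, hπ]
  have hre := Equiv.prod_comp (MulAction.toPerm β) (fun q : A ⧸ BA A =>
    ((act ξ (((q.out : A) : MulAut P))⁻¹ : P →* C) : (P →* C) ⧸ 𝒳))
  refine Eq.trans ?_ hre
  refine Finset.prod_congr rfl fun q _ => ?_
  rw [MulAction.toPerm_apply]
  obtain ⟨b, hb⟩ := QuotientGroup.mk_out_eq_mul (BA A) (β * q.out)
  have hq : (((β * q.out : A) : A ⧸ BA A)) = β • q := by
    conv_rhs => rw [← QuotientGroup.out_eq' q]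
    rfl
  rw [hq] at hb
  have e : (((β • q).out : A) : MulAut P)⁻¹ =
      (((b : A) : MulAut P))⁻¹ * ((((q.out : A) : MulAut P))⁻¹ * ((β : MulAut P))⁻¹) := by
    rw [hb]
    simp only [Subgroup.coe_mul, mul_inv_rev, mul_assoc]
  rw [e, act_mul, ← act_mul ξ]
  have hmem : (((q.out : A) : MulAut P))⁻¹ * ((β : MulAut P))⁻¹ ∈ A :=
    A.mul_mem (A.inv_mem q.out.2) (A.inv_mem β.2)
  have h1 := mk_act_of_mem_BA A 𝒳 ξ hξ (b : A)⁻¹ ((BA A).inv_mem b.2)
  have h2 := mk_act_eq A 𝒳 h𝒳 h1 hmem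
  rw [Subgroup.coe_inv] at h2
  exact h2.symm

include hTI h𝒳 hξ in
/-- the trace over a `G`-stable set of nontrivial cosets is a norm modulo `𝒳` -/
theorem mk_tr_eq_norm [Fintype (G ⧸ P)] [DecidableEq (A ⧸ BA A)]
    (𝒴 : Subgroup (P →* C)) (h𝒴 : ∀ ζ ∈ 𝒴, ∀ α ∈ A, act ζ α ∈ 𝒴) (hξ𝒴 : ξ ∈ 𝒴) :
    ∀ (n : ℕ) (s : Finset (A ⧸ BA A)), s.card = n → ((1 : A) : A ⧸ BA A) ∉ s →
      (∀ (g : G) (q : A ⧸ BA A), q ∈ s → cA A hBA g • q ∈ s) →
      ∃ η ∈ 𝒴, ((tr A ξ s : P →* C) : (P →* C) ⧸ 𝒳) = (norm η : P →* C) := by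
  intro n
  induction n using Nat.strong_induction_on with
  | _ n ih =>
    intro s hcard h1 hst
    by_cases hs : s = ∅
    · subst hs
      refine ⟨1, 𝒴.one_mem, ?_⟩
      rw [norm_one]
      unfold tr
      rw [Finset.prod_empty]
    · obtain ⟨q₁, hq₁⟩ := Finset.nonempty_iff_ne_empty.2 hs
      have hq₁ne : q₁ ≠ ((1 : A) : A ⧸ BA A) := fun h => h1 (h ▸ hq₁)
      let orb : G ⧸ P → A ⧸ BA A := fun c => cA A hBA (c.out) • q₁
      have h_orb : ∀ g : G, cA A hBA g • q₁ = orb (g : G ⧸ P) := by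
        intro g
        obtain ⟨x, hx⟩ := QuotientGroup.mk_out_eq_mul P g
        show _ = cA A hBA ((g : G ⧸ P).out) • q₁
        rw [hx, map_mul, mul_smul, cA_smul_of_mem]
      have h_inj : Function.Injective orb := by
        intro c c' h
        have h2 : cA A hBA ((c'.out)⁻¹ * c.out) • q₁ = q₁ := by
          rw [map_mul, mul_smul]
          show cA A hBA (c'.out)⁻¹ • orb c = q₁
          rw [h, map_inv]
          show (cA A hBA c'.out)⁻¹ • (cA A hBA c'.out • q₁) = q₁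
          rw [inv_smul_smul]
        have h3 := mem_of_cA_smul_eq A hBA hTI q₁ hq₁ne _ h2
        have h4 : ((c'.out : G) : G ⧸ P) = ((c.out : G) : G ⧸ P) := QuotientGroup.eq.2 h3
        rw [QuotientGroup.out_eq', QuotientGroup.out_eq'] at h4
        exact h4.symm
      let O : Finset (A ⧸ BA A) := Finset.univ.image orb
      have hOs : O ⊆ s := by
        intro q hq
        obtain ⟨c, -, rfl⟩ := Finset.mem_image.1 hq
        exact hst _ _ hq₁
      have hq₁O : q₁ ∈ O := by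
        apply Finset.mem_image.2
        refine ⟨((1 : G) : G ⧸ P), Finset.mem_univ _, ?_⟩
        rw [← h_orb 1, map_one, one_smul]
      have hcard' : (s \ O).card < n := by
        rw [← hcard]
        exact Finset.card_lt_card (Finset.sdiff_ssubset hOs ⟨q₁, hq₁O⟩)
      have hst' : ∀ (g : G) (q : A ⧸ BA A), q ∈ s \ O → cA A hBA g • q ∈ s \ O := by
        intro g q hq
        rw [Finset.mem_sdiff] at hq ⊢
        refine ⟨hst g q hq.1, fun hO => hq.2 ?_⟩
        obtain ⟨c, -, hc⟩ := Finset.mem_image.1 hO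
        apply Finset.mem_image.2
        refine ⟨((g⁻¹ * c.out : G) : G ⧸ P), Finset.mem_univ _, ?_⟩
        rw [← h_orb, map_mul, mul_smul]
        show cA A hBA g⁻¹ • orb c = q
        rw [hc, map_inv, inv_smul_smul]
      have h1' : ((1 : A) : A ⧸ BA A) ∉ s \ O := fun h => h1 (Finset.mem_sdiff.1 h).1
      obtain ⟨η', hη', hη'eq⟩ := ih _ hcard' (s \ O) rfl h1' hst'
      set η₁ : P →* C := act ξ (((q₁.out : A) : MulAut P))⁻¹ with hη₁
      have hη₁𝒴 : η₁ ∈ 𝒴 := h𝒴 ξ hξ𝒴 _ (A.inv_mem q₁.out.2)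
      refine ⟨η₁ * η', 𝒴.mul_mem hη₁𝒴 hη', ?_⟩
      have hsplit : tr A ξ s = tr A ξ (s \ O) * tr A ξ O := by
        unfold tr
        exact (Finset.prod_sdiff hOs).symm
      have hO : ((tr A ξ O : P →* C) : (P →* C) ⧸ 𝒳) = (norm η₁ : P →* C) := by
        unfold tr norm
        rw [Finset.prod_image (fun a _ b _ h => h_inj h)]
        have hπ : ∀ f : (G ⧸ P) → (P →* C), ((∏ q, f q : P →* C) : (P →* C) ⧸ 𝒳) =
            ∏ q, ((f q : P →* C) : (P →* C) ⧸ 𝒳) := fun f => map_prod (QuotientGroup.mk' 𝒳) f _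
        rw [hπ, hπ]
        refine Finset.prod_congr rfl fun c _ => ?_
        obtain ⟨b, hb⟩ := QuotientGroup.mk_out_eq_mul (BA A) (cA A hBA c.out * q₁.out)
        have hq : (((cA A hBA c.out * q₁.out : A) : A ⧸ BA A)) = orb c := by
          show _ = cA A hBA c.out • q₁
          conv_rhs => rw [← QuotientGroup.out_eq' q₁]
          rfl
        rw [hq] at hb
        have e : ((((orb c).out : A) : MulAut P))⁻¹ = (((b : A) : MulAut P))⁻¹ *
            ((((q₁.out : A) : MulAut P))⁻¹ * (MulAut.conjNormal (c.out)⁻¹ : MulAut P)) := by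
          rw [hb]
          simp only [Subgroup.coe_mul, mul_inv_rev, mul_assoc, coe_cA, map_inv]
        rw [e, act_mul]
        have hmem : (((q₁.out : A) : MulAut P))⁻¹ * (MulAut.conjNormal (c.out)⁻¹ : MulAut P) ∈ A :=
          A.mul_mem (A.inv_mem q₁.out.2) (hBA _)
        have h1b := mk_act_of_mem_BA A 𝒳 ξ hξ (b : A)⁻¹ ((BA A).inv_mem b.2)
        have h2 := mk_act_eq A 𝒳 h𝒳 h1b hmem
        rw [Subgroup.coe_inv] at h2
        rw [h2, act_mul]
      rw [hsplit, norm_mul, QuotientGroup.mk_mul, QuotientGroup.mk_mul, hη'eq, hO, mul_comm]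

include hBA hTI h𝒳 hξ in
/-- Mackey decomposition: `ξ` times a norm is `A`-invariant modulo `𝒳` -/
theorem mackey [Finite G] [Fintype (G ⧸ P)]
    (𝒴 : Subgroup (P →* C)) (h𝒴 : ∀ ζ ∈ 𝒴, ∀ α ∈ A, act ζ α ∈ 𝒴) (hξ𝒴 : ξ ∈ 𝒴) :
    ∃ η ∈ 𝒴, ∀ β ∈ A, ((act (ξ * norm η) β : P →* C) : (P →* C) ⧸ 𝒳) = (ξ * norm η : P →* C) := by
  classical
  have : Finite P := inferInstance
  have : Finite A := inferInstance
  let _ : Fintype (A ⧸ BA A) := Fintype.ofFinite _
  set q₀ : A ⧸ BA A := ((1 : A) : A ⧸ BA A) with hq₀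
  have hst : ∀ (g : G) (q : A ⧸ BA A), q ∈ Finset.univ.erase q₀ →
      cA A hBA g • q ∈ Finset.univ.erase q₀ := by
    intro g q hq
    rw [Finset.mem_erase] at hq ⊢
    refine ⟨fun h => hq.1 ?_, Finset.mem_univ _⟩
    have h2 : q = (cA A hBA g)⁻¹ • q₀ := by rw [← h, inv_smul_smul]
    rw [h2, hq₀, MulAction.Quotient.smul_mk, QuotientGroup.eq, smul_eq_mul]
    simpa using cA_mem_BA A hBA g
  obtain ⟨η, hη, hηeq⟩ := mk_tr_eq_norm A hBA hTI 𝒳 h𝒳 ξ hξ 𝒴 h𝒴 hξ𝒴 _ (Finset.univ.erase q₀) rfl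
    (Finset.notMem_erase _ _) hst
  refine ⟨η, hη, ?_⟩
  have hsplit : tr A ξ Finset.univ = act ξ (((q₀.out : A) : MulAut P))⁻¹ * tr A ξ (Finset.univ.erase q₀) := by
    unfold tr
    exact (Finset.mul_prod_erase Finset.univ _ (Finset.mem_univ q₀)).symm
  have hout : (q₀.out : A) ∈ BA A := by
    have h := QuotientGroup.out_eq' q₀
    rw [hq₀] at h
    have := QuotientGroup.eq.1 h
    simpa using (BA A).inv_mem this
  have h0 : ((act ξ (((q₀.out : A) : MulAut P))⁻¹ : P →* C) : (P →* C) ⧸ 𝒳) = ξ := by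
    have := mk_act_of_mem_BA A 𝒳 ξ hξ (q₀.out : A)⁻¹ ((BA A).inv_mem hout)
    rwa [Subgroup.coe_inv] at this
  have hu : ((tr A ξ Finset.univ : P →* C) : (P →* C) ⧸ 𝒳) = (ξ * norm η : P →* C) := by
    rw [hsplit, QuotientGroup.mk_mul, QuotientGroup.mk_mul, h0, hηeq]
  intro β hβ
  have h1 := mk_act_eq A 𝒳 h𝒳 hu.symm hβ
  rw [h1]
  have h2 := mk_act_tr_univ A 𝒳 h𝒳 ξ hξ (⟨β, hβ⟩⁻¹ : A)
  rw [Subgroup.coe_inv, inv_inv] at h2
  rw [h2, hu]

end Mackey

section Main

variable [Finite G] {p : ℕ} [hp : Fact p.Prime] (hG : IsPGroup p G)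
  (Q : Subgroup G) (hPne : P ≠ ⊤) (hcomm : commutator G ≤ Q) (hQΦ : Q ≤ frattini G)
  (A : Subgroup (MulAut P)) (hBA : ∀ g : G, (MulAut.conjNormal g : MulAut P) ∈ A)
  (hTI : ∀ α ∈ A, (∀ g : G, α ≠ MulAut.conjNormal g) → ∀ g : G,
    (∃ h : G, α * MulAut.conjNormal g * α⁻¹ = MulAut.conjNormal h) → g ∈ P)
  (hQinv : ∀ α ∈ A, ∀ x : P, (x : G) ∈ Q → ((α x : P) : G) ∈ Q)
  (hC : ∀ c : C, c ^ p = 1)

/-- characters killing `Q` -/
def XQ (C : Type*) [CommGroup C] (Q : Subgroup G) : Subgroup (P →* C) where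
  carrier := {ξ | ∀ x : P, (x : G) ∈ Q → ξ x = 1}
  one_mem' := fun _ _ => rfl
  mul_mem' := by
    intro a b ha hb x hx
    rw [MonoidHom.mul_apply, ha x hx, hb x hx, one_mul]
  inv_mem' := by
    intro a ha x hx
    rw [MonoidHom.inv_apply, ha x hx, inv_one]

omit hPn [Finite G] in
include hQinv in
theorem XQ_stable : ∀ ζ ∈ XQ (P := P) C Q, ∀ α ∈ A, act ζ α ∈ XQ (P := P) C Q := by
  intro ζ hζ α hα x hx
  rw [act_apply]
  exact hζ _ (hQinv α hα x hx)

omit [Finite G] in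
/-- the element `x⁻¹ (g x g⁻¹)` of `P` is a commutator -/
theorem inv_mul_conj_eq (g : G) (x : P) :
    (((x⁻¹ * (MulAut.conjNormal g x : P) : P)) : G) = ⁅(x : G)⁻¹, g⁆ := by
  simp [commutatorElement_def, MulAut.conjNormal_apply, mul_assoc]

omit [Finite G] in
include hcomm in
theorem XQ_fixed (ξ : P →* C) (hξ : ξ ∈ XQ (P := P) C Q) (g : G) :
    act ξ (MulAut.conjNormal g) = ξ := by
  ext x
  rw [act_apply]
  have h1 : (MulAut.conjNormal g x : P) = x * (x⁻¹ * (MulAut.conjNormal g x : P)) := by group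
  rw [h1, map_mul]
  have h2 : ((x⁻¹ * (MulAut.conjNormal g x : P) : P) : G) ∈ Q := by
    rw [inv_mul_conj_eq]
    apply hcomm
    rw [commutator_def]
    exact Subgroup.commutator_mem_commutator (Subgroup.mem_top _) (Subgroup.mem_top _)
  rw [hξ _ h2, mul_one]

omit hPn [Finite G] hp in
include hC in
theorem pow_p_eq_one (η : P →* C) : η ^ p = 1 := by
  ext x
  rw [MonoidHom.pow_apply, hC, MonoidHom.one_apply]

include hG hPne hcomm hC in
theorem norm_eq_one_of_mem_XQ [Fintype (G ⧸ P)] (η : P →* C) (hη : η ∈ XQ (P := P) C Q) :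
    norm η = 1 := by
  unfold norm
  rw [Finset.prod_congr rfl fun c _ => XQ_fixed Q hcomm η hη _, Finset.prod_const, Finset.card_univ]
  have hidx : Fintype.card (G ⧸ P) = P.index := by
    rw [Subgroup.index, Nat.card_eq_fintype_card]
  obtain ⟨n, hn⟩ := hG.index P
  have hn0 : n ≠ 0 := by
    intro h0
    rw [h0, pow_zero, Subgroup.index_eq_one] at hn
    exact hPne hn
  obtain ⟨m, rfl⟩ := Nat.exists_eq_succ_of_ne_zero hn0
  rw [hidx, hn, pow_succ, mul_comm, pow_mul, pow_p_eq_one hC, one_pow]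

include hG hPne hcomm hBA hTI hQinv hC in
/-- Step I: characters killing `Q` are `A`-invariant -/
theorem act_eq_of_mem_XQ (ξ : P →* C) (hξ : ξ ∈ XQ (P := P) C Q) (β : MulAut P) (hβ : β ∈ A) :
    act ξ β = ξ := by
  classical
  let _ : Fintype (G ⧸ P) := Fintype.ofFinite _
  have hbot : ∀ ζ ∈ (⊥ : Subgroup (P →* C)), ∀ α ∈ A, act ζ α ∈ (⊥ : Subgroup (P →* C)) := by
    intro ζ hζ α _
    rw [Subgroup.mem_bot] at hζ ⊢
    rw [hζ, one_act]
  have hfix : ∀ g : G, ξ⁻¹ * act ξ (MulAut.conjNormal g) ∈ (⊥ : Subgroup (P →* C)) := by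
    intro g
    rw [XQ_fixed Q hcomm ξ hξ g, inv_mul_cancel]
    exact Subgroup.one_mem _
  obtain ⟨η, hη, h⟩ := mackey A hBA hTI ⊥ hbot ξ hfix (XQ C Q) (XQ_stable Q A hQinv) hξ
  have h1 := h β hβ
  rw [norm_eq_one_of_mem_XQ hG Q hPne hcomm hC η hη, mul_one, QuotientGroup.eq, Subgroup.mem_bot] at h1
  exact inv_mul_eq_one.1 h1

include hQΦ hC in
/-- Step II: norms kill `Q` -/
theorem norm_mem_XQ [Fintype (G ⧸ P)] (η : P →* C) : norm η ∈ XQ (P := P) C Q := by
  intro x hx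
  exact norm_apply_of_mem_frattini hC η x (hQΦ hx)

include hG hPne hcomm hQΦ hBA hTI hQinv hC in
/-- Step III: invariance under `G` modulo an `A`-stable subgroup implies invariance under `A` -/
theorem step_three (𝒳 : Subgroup (P →* C)) (h𝒳 : ∀ ζ ∈ 𝒳, ∀ α ∈ A, act ζ α ∈ 𝒳) (ξ : P →* C)
    (hξ : ∀ g : G, ξ⁻¹ * act ξ (MulAut.conjNormal g) ∈ 𝒳) (β : MulAut P) (hβ : β ∈ A) :
    ξ⁻¹ * act ξ β ∈ 𝒳 := by
  classical
  let _ : Fintype (G ⧸ P) := Fintype.ofFinite _
  have htop : ∀ ζ ∈ (⊤ : Subgroup (P →* C)), ∀ α ∈ A, act ζ α ∈ (⊤ : Subgroup (P →* C)) :=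
    fun _ _ _ _ => Subgroup.mem_top _
  obtain ⟨η, -, h⟩ := mackey A hBA hTI 𝒳 h𝒳 ξ hξ ⊤ htop (Subgroup.mem_top _)
  have h1 := h β hβ
  rw [mul_act, act_eq_of_mem_XQ hG Q hPne hcomm A hBA hTI hQinv hC (norm η)
    (norm_mem_XQ Q hQΦ hC η) β hβ, QuotientGroup.eq] at h1
  have h2 := 𝒳.inv_mem h1
  have e : ((act ξ β * norm η)⁻¹ * (ξ * norm η))⁻¹ = ξ⁻¹ * act ξ β := by
    rw [mul_inv_rev, inv_inv, mul_inv_rev]
    have : (norm η)⁻¹ * ξ⁻¹ * (act ξ β * norm η) = ξ⁻¹ * act ξ β * ((norm η)⁻¹ * norm η) := by ac_rfl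
    rw [this, inv_mul_cancel, mul_one]
  rwa [e] at h2

/-- characters killing the `k`-th term of the lower central series of `G` (inside `P`) -/
def Xk (C : Type*) [CommGroup C] (P : Subgroup G) (k : ℕ) : Subgroup (P →* C) where
  carrier := {ξ | ∀ x : P, (x : G) ∈ (⊤ : Subgroup G).lowerCentralSeries k → ξ x = 1}
  one_mem' := fun _ _ => rfl
  mul_mem' := by
    intro a b ha hb x hx
    rw [MonoidHom.mul_apply, ha x hx, hb x hx, one_mul]
  inv_mem' := by
    intro a ha x hx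
    rw [MonoidHom.inv_apply, ha x hx, inv_one]

omit hPn [Finite G] in
theorem Xk_zero (ξ : P →* C) (hξ : ξ ∈ Xk C P 0) : ξ = 1 := by
  ext x
  exact hξ x (by rw [Subgroup.lowerCentralSeries_zero]; exact Subgroup.mem_top _)

omit hPn [Finite G] in
theorem Xk_mono (k : ℕ) : Xk C P k ≤ Xk C P (k + 1) := by
  intro ξ hξ x hx
  exact hξ x (Subgroup.lowerCentralSeries_antitone _ (Nat.le_succ k) hx)

omit [Finite G] in
theorem Xk_succ_fixed (k : ℕ) (ξ : P →* C) (hξ : ξ ∈ Xk C P (k + 1)) (g : G) :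
    ξ⁻¹ * act ξ (MulAut.conjNormal g) ∈ Xk C P k := by
  intro x hx
  rw [MonoidHom.mul_apply, MonoidHom.inv_apply, act_apply, ← map_inv, ← map_mul]
  apply hξ
  rw [inv_mul_conj_eq, Subgroup.lowerCentralSeries_succ]
  exact Subgroup.commutator_mem_commutator (Subgroup.inv_mem _ hx) (Subgroup.mem_top _)

include hG hPne hcomm hQΦ hBA hTI hQinv hC in
theorem Xk_claim (k : ℕ) : (∀ ζ ∈ Xk C P k, ∀ α ∈ A, act ζ α ∈ Xk C P k) ∧
    (∀ ξ ∈ Xk C P (k + 1), ∀ β ∈ A, ξ⁻¹ * act ξ β ∈ Xk C P k) := by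
  induction k with
  | zero =>
    have h0 : ∀ ζ ∈ Xk C P 0, ∀ α ∈ A, act ζ α ∈ Xk C P 0 := by
      intro ζ hζ α _
      rw [Xk_zero ζ hζ, one_act]
      exact Subgroup.one_mem _
    exact ⟨h0, fun ξ hξ β hβ => step_three hG Q hPne hcomm hQΦ A hBA hTI hQinv hC _ h0 ξ
      (Xk_succ_fixed 0 ξ hξ) β hβ⟩
  | succ k ih =>
    have h1 : ∀ ζ ∈ Xk C P (k + 1), ∀ α ∈ A, act ζ α ∈ Xk C P (k + 1) := by
      intro ζ hζ α hα
      have h2 := Xk_mono k (ih.2 ζ hζ α hα)
      have := (Xk C P (k + 1)).mul_mem hζ h2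
      rwa [mul_inv_cancel_left] at this
    exact ⟨h1, fun ξ hξ β hβ => step_three hG Q hPne hcomm hQΦ A hBA hTI hQinv hC _ h1 ξ
      (Xk_succ_fixed (k + 1) ξ hξ) β hβ⟩

omit hPn [Finite G] in
theorem act_pow_eq (ξ ζ : P →* C) (α : MulAut P) (h1 : act ξ α = ξ * ζ) (h2 : act ζ α = ζ) (j : ℕ) :
    act ξ (α ^ j) = ξ * ζ ^ j := by
  induction j with
  | zero => rw [pow_zero, pow_zero, mul_one, act_one]
  | succ j ih =>
    have h3 : ∀ i : ℕ, act ζ (α ^ i) = ζ := by
      intro i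
      induction i with
      | zero => rw [pow_zero, act_one]
      | succ i ihi => rw [pow_succ', act_mul, h2, ihi]
    rw [pow_succ', act_mul, h1, mul_act, ih, h3, pow_succ, mul_assoc]

include hG hPne hcomm hQΦ hBA hTI hQinv hC in
/-- elements of `A` of order prime to `p` fix every character -/
theorem act_eq_of_coprime (α : MulAut P) (hα : α ∈ A) (hcop : (orderOf α).Coprime p) (ξ : P →* C) :
    act ξ α = ξ := by
  have key : ∀ k : ℕ, ∀ ξ ∈ Xk C P k, act ξ α = ξ := by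
    intro k
    induction k with
    | zero =>
      intro ξ hξ
      rw [Xk_zero ξ hξ, one_act]
    | succ k ih =>
      intro ξ hξ
      set ζ := ξ⁻¹ * act ξ α with hζ
      have hζk : ζ ∈ Xk C P k := (Xk_claim hG Q hPne hcomm hQΦ A hBA hTI hQinv hC k).2 ξ hξ α hα
      have h1 : act ξ α = ξ * ζ := by rw [hζ, mul_inv_cancel_left]
      have h2 := act_pow_eq ξ ζ α h1 (ih ζ hζk) (orderOf α)
      rw [pow_orderOf_eq_one, act_one] at h2
      have h3 : ζ ^ orderOf α = 1 := by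
        have := h2.symm
        rwa [mul_eq_left] at this
      have h4 : ζ ^ p = 1 := pow_p_eq_one hC ζ
      have h5 : orderOf ζ ∣ Nat.gcd (orderOf α) p :=
        Nat.dvd_gcd (orderOf_dvd_of_pow_eq_one h3) (orderOf_dvd_of_pow_eq_one h4)
      rw [hcop.gcd_eq_one, Nat.dvd_one, orderOf_eq_one_iff] at h5
      rw [h1, h5, mul_one]
  have hnil : Group.IsNilpotent G := hG.isNilpotent
  obtain ⟨n, hn⟩ := Subgroup.nilpotent_iff_lowerCentralSeries.1 hnil
  apply key n
  intro x hx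
  rw [hn, Subgroup.mem_bot] at hx
  have : x = 1 := Subtype.ext hx
  rw [this, map_one]

/-- Burnside: an automorphism of order prime to `p` of a finite `p`-group acting trivially modulo the
Frattini subgroup is trivial -/
theorem eq_one_of_commStab_frattini {R : Type*} [Group R] [Finite R] {p : ℕ} [hp : Fact p.Prime]
    (hR : IsPGroup p R) (α : MulAut R) (hα : α ∈ commStab (frattini R))
    (hcop : (orderOf α).Coprime p) : α = 1 := by
  classical
  -- prime power case
  have hpp : ∀ β : MulAut R, β ∈ commStab (frattini R) → ∀ q k : ℕ, q.Prime → q ≠ p →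
      β ^ (q ^ k) = 1 → β = 1 := by
    intro β hβ q k hq hqp hβq
    have : Fact q.Prime := ⟨hq⟩
    have hM : (Nat.card (frattini R)).Coprime q := by
      obtain ⟨a, ha⟩ := IsPGroup.iff_card.1 (hR.to_subgroup (frattini R))
      rw [ha]
      exact Nat.Coprime.pow_left a ((Nat.coprime_primes hp.out hq).2 hqp.symm)
    let F : Subgroup R :=
      { carrier := {y | β y = y}
        one_mem' := map_one β
        mul_mem' := by
          intro a b ha hb
          show β (a * b) = a * b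
          rw [map_mul, ha, hb]
        inv_mem' := by
          intro a ha
          show β a⁻¹ = a⁻¹
          rw [map_inv, ha] }
    have htop : F ⊔ frattini R = ⊤ := by
      rw [eq_top_iff]
      intro x _
      obtain ⟨m, hm, hfix⟩ := exists_fixed_mul β k hβq (frattini R) hM hβ x
      have : x = (x * m) * m⁻¹ := by group
      rw [this]
      exact Subgroup.mul_mem _ (Subgroup.mem_sup_left hfix)
        (Subgroup.mem_sup_right (Subgroup.inv_mem _ hm))
    have hF := frattini_nongenerating htop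
    ext y
    have : y ∈ F := by rw [hF]; exact Subgroup.mem_top _
    exact this
  -- general case inside the cyclic group generated by `α`
  let Z := Subgroup.zpowers α
  have hZfin : Finite Z := inferInstance
  have hord : (orderOf (⟨α, Subgroup.mem_zpowers α⟩ : Z)).Coprime p := by
    rw [← Subgroup.orderOf_coe]
    exact hcop
  have hmem := mem_closure_primePow (p := p) (⟨α, Subgroup.mem_zpowers α⟩ : Z) hord
  have hle : Subgroup.closure {h : Z | ∃ q k : ℕ, q.Prime ∧ q ≠ p ∧ h ^ (q ^ k) = 1} ≤ ⊥ := by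
    rw [Subgroup.closure_le]
    rintro ⟨h, hh⟩ ⟨q, k, hq, hqp, hpow⟩
    have hhc : h ∈ commStab (frattini R) := by
      obtain ⟨j, rfl⟩ := Subgroup.mem_zpowers_iff.1 hh
      exact Subgroup.zpow_mem _ hα j
    have hpow' : h ^ (q ^ k) = 1 := by
      have := congrArg Subtype.val hpow
      simpa using this
    have := hpp h hhc q k hq hqp hpow'
    rw [SetLike.mem_coe, Subgroup.mem_bot]
    exact Subtype.ext this
  have := hle hmem
  rw [Subgroup.mem_bot] at this
  exact congrArg Subtype.val this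

include hG hPne hcomm hQΦ hBA hTI hQinv in
/-- elements of `A` of order prime to `p` act trivially modulo the Frattini subgroup of `P` -/
theorem mem_commStab_frattini_of_coprime (α : MulAut P) (hα : α ∈ A) (hcop : (orderOf α).Coprime p) :
    α ∈ commStab (frattini P) := by
  intro y
  have hPp : IsPGroup p P := hG.to_subgroup P
  simp only [frattini, Order.radical, Subgroup.mem_iInf]
  intro K hK
  have hK' : IsCoatom K := hK
  have : Group.IsNilpotent P := hPp.isNilpotent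
  have hn : K.Normal := Subgroup.NormalizerCondition.normal_of_coatom (H := K)
    (Group.normalizerCondition_of_isNilpotent (G := P)) hK'
  have hidx : K.index = p := Cfsg.Agent.Helper48.index_of_isCoatom_of_isPGroup hPp hK'
  have hcard : Nat.card (P ⧸ K) = p := hidx
  have : IsCyclic (P ⧸ K) := isCyclic_of_prime_card hcard
  let _ : CommGroup (P ⧸ K) := IsCyclic.commGroup
  have hCK : ∀ c : P ⧸ K, c ^ p = 1 := by
    intro c
    rw [← hcard]
    exact pow_card_eq_one'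
  have h := act_eq_of_coprime (C := P ⧸ K) hG Q hPne hcomm hQΦ A hBA hTI hQinv hCK α hα hcop
    (QuotientGroup.mk' K)
  have h2 := DFunLike.congr_fun h y
  rw [act_apply] at h2
  have h3 : ((α y : P) : P ⧸ K) = (y : P ⧸ K) := h2
  exact QuotientGroup.eq.1 h3.symm

include hG hPne hcomm hQΦ hBA hTI hQinv in
/-- **Local Tate**: under the TI hypothesis, `A` is a `p`-group -/
theorem isPGroup_of_TI : IsPGroup p A := by
  have hPp : IsPGroup p P := hG.to_subgroup P
  intro a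
  obtain ⟨k, m, hm, hkm⟩ := Nat.exists_eq_pow_mul_and_not_dvd (orderOf_pos a).ne' p hp.out.ne_one
  refine ⟨k, ?_⟩
  have hdvd : p ^ k ∣ orderOf (a : MulAut P) := by
    rw [Subgroup.orderOf_coe, hkm]
    exact dvd_mul_right _ _
  have hord : orderOf ((a : MulAut P) ^ (p ^ k)) = m := by
    rw [orderOf_pow_of_dvd (pow_ne_zero _ hp.out.ne_zero) hdvd, Subgroup.orderOf_coe, hkm,
      Nat.mul_div_cancel_left _ (pow_pos hp.out.pos k)]
  have hcop : (orderOf ((a : MulAut P) ^ (p ^ k))).Coprime p := by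
    rw [hord]
    exact ((Nat.Prime.coprime_iff_not_dvd hp.out).2 hm).symm
  have hmemA : (a : MulAut P) ^ (p ^ k) ∈ A := A.pow_mem a.2 _
  have h1 := mem_commStab_frattini_of_coprime hG Q hPne hcomm hQΦ A hBA hTI hQinv _ hmemA hcop
  have h2 := eq_one_of_commStab_frattini hPp _ h1 hcop
  apply Subtype.ext
  rw [Subgroup.coe_pow, h2]
  rfl

end Main

end Cfsg.Agent.Helper86.LocalTate
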