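import Mathlib
import Cfsg.Prelude.Def_CaseTheorems
import Cfsg.Agent.Lib.Helper73.MetaEight
import Cfsg.Agent.Lib.Helper73.MetaWreath
import Cfsg.Agent.Lib.Helper87.FusionAlperin
import Cfsg.Agent.Lib.Helper2.PGroup
import Cfsg.Agent.S1896
import Cfsg.Agent.S2879
import Cfsg.Agent.S4207
import Cfsg.Agent.S4208

set_option autoImplicit false

/-! In a metacyclic 2-group `X` that is not dihedral, semidihedral or generalized quaternion: if `t ∈ X` normalizes
a subgroup `E` with `t² ∈ E`, then conjugation by `t` on `E` lies in `O₂(A)` for every group `A` of automorphisms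
of `E` containing it. -/

namespace Cfsg.Agent.Helper86

open Cfsg

/-- membership in the kernel of the action on the quotient by a characteristic subgroup -/
theorem mem_ker_quotAut_of' {G : Type*} [Group G] (N : Subgroup G) [hN : N.Characteristic]
    (α : MulAut G) (h : ∀ x : G, (α x)⁻¹ * x ∈ N) : α ∈ (Cfsg.Agent.S4208.quotAut N).ker := by
  rw [MonoidHom.mem_ker]
  ext q
  induction q using QuotientGroup.induction_on with
  | _ x =>
    rw [Cfsg.Agent.S4208.quotAut_mk, MulAut.one_apply]
    exact QuotientGroup.eq.2 (h x)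

/-- the kernel of the action on the Frattini quotient of a `p`-group is a `p`-group -/
theorem isPGroup_ker_quotAut' {P : Type*} [Group P] [Finite P] {p : ℕ} [Fact p.Prime]
    (hP : IsPGroup p P) : IsPGroup p (Cfsg.Agent.S4208.quotAut (frattini P)).ker := by
  obtain ⟨n, hn⟩ := IsPGroup.iff_card.1 hP
  obtain ⟨r, -, hr⟩ := (Nat.dvd_prime_pow (Fact.out : p.Prime)).1
    (hn ▸ (frattini P).index_dvd_card)
  have h1 := Cfsg.Agent.S4207.result hn hr (Cfsg.Agent.S4208.quotAut (frattini P)).ker
    (fun α hα x => Cfsg.Agent.S4208.mem_ker_quotAut (frattini P) α hα x)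
  obtain ⟨j, -, hj⟩ := (Nat.dvd_prime_pow (Fact.out : p.Prime)).1 h1
  exact IsPGroup.of_card hj

theorem g0_one_sq : ∀ u : Cfsg.Agent.Helper73.MetaWreath.G0 1, u ^ 2 = 1 := by decide

theorem quaternion_two_not_comm :
    (QuaternionGroup.a 1 : QuaternionGroup 2) * QuaternionGroup.xa 0 ≠
      QuaternionGroup.xa 0 * QuaternionGroup.a 1 := by decide

theorem conj_mem_pCore_of_metacyclic {X : Type*} [Group X] [Finite X] (hX : IsPGroup 2 X)
    (hm : Cfsg.IsMetacyclic X) (hd : ¬ ∃ m : ℕ, Nonempty (X ≃* DihedralGroup m))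
    (hq : ¬ ∃ m : ℕ, Nonempty (X ≃* QuaternionGroup m)) (hsd : ¬ Cfsg.IsQuasiDihedral X)
    {E₀ : Type*} [Group E₀] (f : E₀ →* X) (hf : Function.Injective f) (t : X)
    (ht2 : t ^ 2 ∈ f.range) (A : Subgroup (MulAut E₀)) (γ : A)
    (hγ : ∀ v : E₀, f ((γ : MulAut E₀) v) = t * f v * t⁻¹) : γ ∈ pCore 2 A := by
  classical
  haveI : Fact (Nat.Prime 2) := ⟨Nat.prime_two⟩
  haveI : Finite E₀ := Finite.of_injective f hf
  have hE2 : IsPGroup 2 E₀ := hX.of_injective f hf
  have hnot : ¬ ((∃ k, Nonempty (X ≃* DihedralGroup k)) ∨ Cfsg.IsQuasiDihedral X ∨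
      (∃ k, Nonempty (X ≃* QuaternionGroup k))) := by
    rintro (h | h | h)
    exacts [hd h, hsd h, hq h]
  have htE : ∀ x ∈ f.range, t * x * t⁻¹ ∈ f.range := by
    rintro _ ⟨v, rfl⟩
    exact ⟨(γ : MulAut E₀) v, hγ v⟩
  by_cases hA2 : IsPGroup 2 (MulAut E₀)
  · have htop : (⊤ : Subgroup A) ≤ pCore 2 A :=
      Helper87.le_pCore inferInstance ((hA2.to_subgroup A).to_subgroup ⊤)
    exact htop (Subgroup.mem_top γ)
  · rcases Cfsg.Agent.S1896.result hE2 (Cfsg.Agent.S2879.isMetacyclic_of_injective f hf hm) hA2 with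
      ⟨⟨e⟩⟩ | ⟨n, ⟨e⟩⟩
    · exfalso
      apply hnot
      apply Cfsg.Agent.Helper73.MetaEight.dsq_of_nonabelian_eight hX hm f.range
      · rw [← Nat.card_congr (MonoidHom.ofInjective hf).toEquiv, Nat.card_congr e.toEquiv,
          Nat.card_eq_fintype_card, QuaternionGroup.card]
      · refine ⟨f (e.symm (QuaternionGroup.a 1)), ⟨_, rfl⟩, f (e.symm (QuaternionGroup.xa 0)), ⟨_, rfl⟩, ?_⟩
        intro h
        have h2 : e.symm (QuaternionGroup.a 1) * e.symm (QuaternionGroup.xa 0) =
            e.symm (QuaternionGroup.xa 0) * e.symm (QuaternionGroup.a 1) :=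
          hf (by rw [map_mul, map_mul]; exact h)
        have h3 : (QuaternionGroup.a 1 : QuaternionGroup 2) * QuaternionGroup.xa 0 =
            QuaternionGroup.xa 0 * QuaternionGroup.a 1 :=
          e.symm.injective (by rw [map_mul, map_mul]; exact h2)
        exact quaternion_two_not_comm h3
    · rcases Nat.lt_or_ge n 2 with hn | hn
      · interval_cases n
        · exfalso
          apply hA2
          haveI h0 : Subsingleton (Multiplicative (ZMod (2 ^ 0)) × Multiplicative (ZMod (2 ^ 0))) := by
            show Subsingleton (Multiplicative (ZMod 1) × Multiplicative (ZMod 1))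
            infer_instance
          haveI : Subsingleton E₀ := e.toEquiv.subsingleton
          haveI : Subsingleton (MulAut E₀) := ⟨fun a b => by ext x; exact Subsingleton.elim _ _⟩
          exact IsPGroup.of_card (n := 0) (by rw [Nat.card_unique, pow_zero])
        · have hV2 : ∀ x ∈ f.range, x ^ 2 = 1 := by
            rintro _ ⟨v, rfl⟩
            have : v ^ 2 = 1 := e.injective (by rw [map_pow, map_one]; exact g0_one_sq _)
            rw [← map_pow, this, map_one]
          by_cases hcent : ∀ v : E₀, t * f v = f v * t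
          · have : γ = 1 := by
              apply Subtype.ext
              ext v
              apply hf
              rw [hγ v, hcent v]
              simp
            rw [this]; exact Subgroup.one_mem _
          · push Not at hcent
            obtain ⟨v, hv⟩ := hcent
            exfalso
            apply hnot
            exact Cfsg.Agent.Helper73.MetaEight.dsq_of_four_group hX hm f.range hV2 t htE ht2 (f v)
              ⟨v, rfl⟩ hv
      · have hsq : ∀ v : E₀, ∃ y : E₀, t * f v * t⁻¹ * (f v)⁻¹ = (f y) ^ 2 := by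
          intro v
          by_contra hcon
          push Not at hcon
          exact Cfsg.Agent.Helper73.MetaWreath.no_wreath hX hm f.range n hn
            ((MonoidHom.ofInjective hf).symm.trans e) t htE ht2 (f v) ⟨v, rfl⟩
            (by rintro _ ⟨y, rfl⟩; exact hcon y)
        have hker : (γ : MulAut E₀) ∈ (Cfsg.Agent.S4208.quotAut (frattini E₀)).ker := by
          apply mem_ker_quotAut_of'
          intro v
          obtain ⟨y, hy⟩ := hsq v
          have hcomm : ((γ : MulAut E₀) v)⁻¹ * v = v * ((γ : MulAut E₀) v)⁻¹ :=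
            e.injective (by rw [map_mul, map_mul, mul_comm])
          have h1 : ((γ : MulAut E₀) v)⁻¹ * v = (y⁻¹) ^ 2 := by
            rw [hcomm]
            apply hf
            rw [map_mul, map_inv, hγ v, map_pow, map_inv, inv_pow, ← hy]
            group
          rw [h1]
          exact Cfsg.Agent.Helper2.pow_mem_frattini hE2 _
        have hK2 : IsPGroup 2 (((Cfsg.Agent.S4208.quotAut (frattini E₀)).ker).subgroupOf A) :=
          (isPGroup_ker_quotAut' hE2).comap_subtype
        have hKn : (((Cfsg.Agent.S4208.quotAut (frattini E₀)).ker).subgroupOf A).Normal := inferInstance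
        exact Helper87.le_pCore hKn hK2 (Subgroup.mem_subgroupOf.2 hker)

end Cfsg.Agent.Helper86
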