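import Mathlib

/-!
# helper86: N5400 (NF) le_normalizer_iff (helper25 sub-server, S0983 order 5400)
-/

set_option autoImplicit false

namespace Cfsg.Agent.Helper86.N5400

open Cfsg MulAction

universe u

section NoSimple

variable {G : Type u} [Group G] [Finite G]

/-- (NF) a Sylow 5-subgroup `Q` of order 25 normalizes a subgroup `F` of order 5 iff `F ≤ Q`. -/
theorem le_normalizer_iff (Q : Sylow 5 G) (hQ : Nat.card (Q : Subgroup G) = 25) (F : Subgroup G)
    (hF : Nat.card F = 5) :
    (Q : Subgroup G) ≤ Subgroup.normalizer (F : Set G) ↔ F ≤ (Q : Subgroup G) := by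
  have hp5 : Fact (Nat.Prime 5) := ⟨by norm_num⟩
  constructor
  · intro hQN
    have hFp : IsPGroup 5 F := IsPGroup.of_card (n := 1) (by rw [hF]; norm_num)
    have hsup : IsPGroup 5 ((Q : Subgroup G) ⊔ F : Subgroup G) :=
      IsPGroup.to_sup_of_normal_right' Q.isPGroup' hFp hQN
    have heq : ((Q : Subgroup G) ⊔ F : Subgroup G) = (Q : Subgroup G) :=
      Q.is_maximal' hsup le_sup_left
    rw [← heq]
    exact le_sup_right
  · intro hFQ
    have hcomm : IsMulCommutative ↥(Q : Subgroup G) :=
      IsPGroup.isMulCommutative_of_card_eq_prime_sq (p := 5) (by rw [hQ]; norm_num)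
    have hc : ∀ a ∈ (Q : Subgroup G), ∀ b ∈ (Q : Subgroup G), a * b = b * a := by
      intro a ha b hb
      have := hcomm.is_comm.comm (⟨a, ha⟩ : ↥(Q : Subgroup G)) ⟨b, hb⟩
      exact congrArg Subtype.val this
    intro q hq
    rw [Subgroup.mem_normalizer_iff]
    intro f
    constructor
    · intro hf
      have : q * f * q⁻¹ = f := by rw [hc q hq f (hFQ hf)]; simp
      rw [this]; exact hf
    · intro hf
      have h1 : q * (q * f * q⁻¹) = (q * f * q⁻¹) * q := hc q hq _ (hFQ hf)
      have : q * f * q⁻¹ = f := by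
        have h2 : q * f * q⁻¹ * q = q * f := by simp
        rw [h2] at h1
        have h3 : q * f * q⁻¹ = f := by
          have := mul_left_cancel h1
          exact this
        exact h3
      rw [this] at hf; exact hf

end NoSimple

end Cfsg.Agent.Helper86.N5400
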