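import Mathlib
import Cfsg.Agent.Lib.Helper86.N96Idx

/-!
# helper86: N96 (P4) M_card (helper54 server, S0980)
-/

set_option autoImplicit false

namespace Cfsg.Agent.Helper86.N96

open Cfsg MulAction

universe u

theorem h86_conj_zpow {G : Type u} [Group G] (n x : G) (k : ℤ) :
    n * x ^ k * n⁻¹ = (n * x * n⁻¹) ^ k := by
  exact (conj_zpow).symm

theorem h86_mem_normalizer_zpowers {G : Type u} [Group G] (x n : G)
    (h1 : n * x * n⁻¹ ∈ Subgroup.zpowers x) (h2 : n⁻¹ * x * n ∈ Subgroup.zpowers x) :
    n ∈ Subgroup.normalizer ((Subgroup.zpowers x : Subgroup G) : Set G) := by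
  rw [Subgroup.mem_normalizer_iff]
  intro h
  constructor
  · intro hh
    obtain ⟨k, rfl⟩ := Subgroup.mem_zpowers_iff.mp hh
    rw [h86_conj_zpow]
    exact Subgroup.zpow_mem _ h1 k
  · intro hh
    obtain ⟨k, hk⟩ := Subgroup.mem_zpowers_iff.mp hh
    have : h = n⁻¹ * (x ^ k) * n⁻¹⁻¹ := by rw [hk]; simp [mul_assoc]
    rw [this, h86_conj_zpow]
    apply Subgroup.zpow_mem
    simpa using h2

section Sylow

variable {G : Type u} [Group G] [Finite G] [IsSimpleGroup G]

/-- (P4) `M := N(⟨x⟩)` has order 360 and contains `N(R)`. -/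
theorem M_card (hG : Nat.card G = 5760) (R : Sylow 5 G)
    (hN : Nat.card (Subgroup.normalizer ((R : Subgroup G) : Set G)) = 60)
    (x : G) (hx : orderOf x = 3)
    (hnx : ∀ n ∈ Subgroup.normalizer ((R : Subgroup G) : Set G), n * x * n⁻¹ ∈ Subgroup.zpowers x)
    (m : ℕ) (hm : Nat.card ↥(Subgroup.normalizer ((R : Subgroup G) : Set G) ⊓
      Subgroup.centralizer ({x} : Set G)) = m) (hm' : m = 30 ∨ m = 60)
    (hC : Nat.card (Subgroup.centralizer ({x} : Set G)) = 6 * m)
    (hidx : ∀ H : Subgroup G, H ≠ ⊤ → 10 ≤ H.index) :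
    Nat.card (Subgroup.normalizer ((Subgroup.zpowers x : Subgroup G) : Set G)) = 360 ∧
    Subgroup.normalizer ((R : Subgroup G) : Set G) ≤
      Subgroup.normalizer ((Subgroup.zpowers x : Subgroup G) : Set G) := by
  set NR := Subgroup.normalizer ((R : Subgroup G) : Set G) with hNR
  set M := Subgroup.normalizer ((Subgroup.zpowers x : Subgroup G) : Set G) with hMdef
  set C := Subgroup.centralizer ({x} : Set G) with hCdef
  -- N(R) ≤ M
  have hNM : NR ≤ M := by
    intro n hn
    apply h86_mem_normalizer_zpowers x n (hnx n hn)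
    have := hnx n⁻¹ (NR.inv_mem hn)
    simpa using this
  -- C(x) ≤ M
  have hCM : C ≤ M := by
    intro g hg
    have hgx : g * x = x * g := by
      rw [hCdef, Subgroup.mem_centralizer_iff] at hg
      exact (hg x (Set.mem_singleton x)).symm
    apply h86_mem_normalizer_zpowers x g
    · have : g * x * g⁻¹ = x := by rw [hgx]; simp
      rw [this]; exact Subgroup.mem_zpowers x
    · have : g⁻¹ * x * g = x := by rw [mul_assoc, ← hgx]; simp
      rw [this]; exact Subgroup.mem_zpowers x
  have hMx : ∀ g ∈ M, g * x * g⁻¹ ∈ Subgroup.zpowers x := by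
    intro g hg
    rw [hMdef, Subgroup.mem_normalizer_iff] at hg
    exact (hg x).mp (Subgroup.mem_zpowers x)
  have hinf : M ⊓ C = C := inf_eq_right.mpr hCM
  have hcases := h86_card_inf_centralizer M x hx hMx
  rw [← hCdef, hinf, hC] at hcases
  refine ⟨?_, hNM⟩
  rcases hm' with h30 | h60
  · -- m = 30
    rcases hcases with h | h
    · exfalso
      have hMC : C = M := by
        apply Subgroup.eq_of_le_of_card_ge hCM
        rw [h, hC]
      have : NR ⊓ C = NR := inf_eq_left.mpr (hMC ▸ hNM)
      rw [this, hN] at hm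
      omega
    · rw [h, h30]
  · -- m = 60
    rcases hcases with h | h
    · rw [h, h60]
    · exfalso
      have hMtop : M ≠ ⊤ := by
        intro htop
        rw [htop, Subgroup.card_top, hG] at h
        omega
      have h10 := hidx M hMtop
      have hmul := Subgroup.index_mul_card M
      rw [h, h60, hG] at hmul
      have : M.index = 8 := by omega
      omega

end Sylow

end Cfsg.Agent.Helper86.N96
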