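import Mathlib
import Cfsg.Agent.Lib.Helper87.FusionAlperin
import Cfsg.Agent.Lib.Helper87.FusionNormal
import Cfsg.Agent.Lib.Helper84.GrpSylow
import Cfsg.Agent.Lib.Helper47.PRes

set_option autoImplicit false
set_option linter.unusedVariables false
set_option linter.unusedSectionVars false
set_option linter.style.haveILetI false

/-! # Normal subsystems of the fusion system of a strictly p-constrained group: general group lemmas -/

namespace Cfsg.Agent.Helper86.NormSub

open Cfsg Cfsg.FusionSystem Cfsg.Agent.Helper87 Cfsg.Agent.Helper84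

section grp

variable {G : Type*} [Group G]

/-- iterating a conjugation which moves `r` by a fixed element -/
theorem conj_pow_mul {x r s : G} (hr : x * r * x⁻¹ = r * s) (hs : x * s * x⁻¹ = s) :
    ∀ n : ℕ, x ^ n * r * (x ^ n)⁻¹ = r * s ^ n := by
  have hsn : ∀ n : ℕ, x * s ^ n * x⁻¹ = s ^ n := by
    intro n
    have h := map_pow (MulAut.conj x) s n
    simp only [MulAut.conj_apply] at h
    rw [h, hs]
  intro n
  induction n with
  | zero => simp
  | succ n ih =>
    calc x ^ (n + 1) * r * (x ^ (n + 1))⁻¹ = x * (x ^ n * r * (x ^ n)⁻¹) * x⁻¹ := by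
          rw [pow_succ']; group
      _ = x * (r * s ^ n) * x⁻¹ := by rw [ih]
      _ = (x * r * x⁻¹) * (x * s ^ n * x⁻¹) := by group
      _ = r * s * s ^ n := by rw [hr, hsn]
      _ = r * s ^ (n + 1) := by rw [pow_succ', mul_assoc]

/-- coprime action: a `p'`-element stabilizing `r` modulo a fixed `p`-element fixes `r` -/
theorem coprime_fix {p m k : ℕ} (hm : m.Coprime p) {x r s : G}
    (hx : x ^ m = 1) (hr : x * r * x⁻¹ = r * s) (hs : x * s * x⁻¹ = s) (hsk : s ^ (p ^ k) = 1) :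
    s = 1 := by
  have hsn : ∀ n : ℕ, x * s ^ n * x⁻¹ = s ^ n := by
    intro n
    have h := map_pow (MulAut.conj x) s n
    simp only [MulAut.conj_apply] at h
    rw [h, hs]
  have key : ∀ n : ℕ, x ^ n * r * (x ^ n)⁻¹ = r * s ^ n := by
    intro n
    induction n with
    | zero => simp
    | succ n ih =>
      calc x ^ (n + 1) * r * (x ^ (n + 1))⁻¹ = x * (x ^ n * r * (x ^ n)⁻¹) * x⁻¹ := by
            rw [pow_succ']; group
        _ = x * (r * s ^ n) * x⁻¹ := by rw [ih]
        _ = (x * r * x⁻¹) * (x * s ^ n * x⁻¹) := by group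
        _ = r * s * s ^ n := by rw [hr, hsn]
        _ = r * s ^ (n + 1) := by rw [pow_succ', mul_assoc]
  have h1 := key m
  rw [hx] at h1
  have h1' : s ^ m = 1 := by
    have : r * 1 = r * s ^ m := by simpa using h1
    exact (mul_left_cancel this).symm
  have h2 : orderOf s ∣ m := orderOf_dvd_of_pow_eq_one h1'
  have h3 : orderOf s ∣ p ^ k := orderOf_dvd_of_pow_eq_one hsk
  have hc : Nat.Coprime m (p ^ k) := Nat.Coprime.pow_right k hm
  have h4 : orderOf s ∣ 1 := by
    have := Nat.dvd_gcd h2 h3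
    rwa [hc] at this
  exact orderOf_eq_one_iff.1 (Nat.dvd_one.1 h4)

/-- an element of a coset `b K` of a subgroup normalized by `b`, with `b ^ n ∈ K`, of order coprime to `n`, lies in `K` -/
theorem mem_of_coprime_coset (K : Subgroup G) {b k₀ g : G} {n m : ℕ}
    (hg : g = b * k₀) (hk₀ : k₀ ∈ K) (hbK : ∀ k ∈ K, b⁻¹ * k * b ∈ K) (hbn : b ^ n ∈ K)
    (hgm : g ^ m = 1) (hnm : Nat.Coprime n m) : g ∈ K := by
  have key : ∀ j : ℕ, (b ^ j)⁻¹ * (b * k₀) ^ j ∈ K := by
    intro j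
    induction j with
    | zero => simp
    | succ j ih =>
      have e : (b ^ (j + 1))⁻¹ * (b * k₀) ^ (j + 1) = (b⁻¹ * ((b ^ j)⁻¹ * (b * k₀) ^ j) * b) * k₀ := by
        rw [pow_succ b j, pow_succ (b * k₀) j]; group
      rw [e]
      exact K.mul_mem (hbK _ ih) hk₀
  have hgn : g ^ n ∈ K := by
    have h1 := key n
    have e : g ^ n = b ^ n * ((b ^ n)⁻¹ * (b * k₀) ^ n) := by rw [hg]; group
    rw [e]
    exact K.mul_mem hbn h1
  have hb := Nat.gcd_eq_gcd_ab n m
  rw [hnm] at hb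
  have e : g = (g ^ n) ^ (Nat.gcdA n m) * (g ^ m) ^ (Nat.gcdB n m) := by
    rw [← zpow_natCast g n, ← zpow_natCast g m, ← zpow_mul, ← zpow_mul, ← zpow_add, ← hb]
    simp
  rw [e, hgm, one_zpow, mul_one]
  exact K.zpow_mem hgn _

/-- a power of `g` with exponent `≡ 1` modulo `m` which has order prime to `p` -/
theorem exists_pow_coprime [Finite G] (p : ℕ) [hp : Fact p.Prime] (g : G) (m : ℕ) (hm : m.Coprime p) :
    ∃ N : ℕ, N ≡ 1 [MOD m] ∧ (orderOf (g ^ N)).Coprime p := by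
  have hn0 : orderOf g ≠ 0 := (orderOf_pos g).ne'
  obtain ⟨a, n', hn', hn⟩ := Nat.exists_eq_pow_mul_and_not_dvd hn0 p hp.out.ne_one
  have hcop' : Nat.Coprime n' p := (Nat.Prime.coprime_iff_not_dvd hp.out).2 hn' |>.symm
  have hM : Nat.Coprime (p ^ a) (m * n') :=
    Nat.Coprime.pow_left a (Nat.Coprime.mul_right hm.symm hcop'.symm)
  obtain ⟨N, hN0, hN1⟩ := Nat.chineseRemainder hM 0 1
  refine ⟨N, ?_, ?_⟩
  · exact Nat.ModEq.of_mul_right n' hN1
  · have hdvd : orderOf g ∣ N * n' := by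
      rw [hn]
      have h1 : p ^ a ∣ N := (Nat.modEq_zero_iff_dvd).1 hN0
      exact Nat.mul_dvd_mul h1 dvd_rfl
    have h2 : (g ^ N) ^ n' = 1 := by
      rw [← pow_mul]
      exact orderOf_dvd_iff_pow_eq_one.1 hdvd
    exact Nat.Coprime.coprime_dvd_left (orderOf_dvd_of_pow_eq_one h2) hcop'

/-- powers of two elements inducing the same conjugation on a subgroup normalized by one of them -/
theorem conj_pow_eq {U : Subgroup G} {d g : G} (hgU : ∀ x ∈ U, g * x * g⁻¹ ∈ U)
    (h : ∀ x ∈ U, d * x * d⁻¹ = g * x * g⁻¹) :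
    ∀ N : ℕ, ∀ x ∈ U, d ^ N * x * (d ^ N)⁻¹ = g ^ N * x * (g ^ N)⁻¹ := by
  intro N
  induction N with
  | zero => intro x _; simp
  | succ N ih =>
    intro x hx
    have hgN : ∀ N : ℕ, ∀ x ∈ U, g ^ N * x * (g ^ N)⁻¹ ∈ U := by
      intro N
      induction N with
      | zero => intro x hx; simpa using hx
      | succ N ihN =>
        intro x hx
        have e : g ^ (N + 1) * x * (g ^ (N + 1))⁻¹ = g * (g ^ N * x * (g ^ N)⁻¹) * g⁻¹ := by
          rw [pow_succ']; group
        rw [e]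
        exact hgU _ (ihN x hx)
    calc d ^ (N + 1) * x * (d ^ (N + 1))⁻¹ = d * (d ^ N * x * (d ^ N)⁻¹) * d⁻¹ := by
          rw [pow_succ']; group
      _ = d * (g ^ N * x * (g ^ N)⁻¹) * d⁻¹ := by rw [ih x hx]
      _ = g * (g ^ N * x * (g ^ N)⁻¹) * g⁻¹ := h _ (hgN N x hx)
      _ = g ^ (N + 1) * x * (g ^ (N + 1))⁻¹ := by rw [pow_succ']; group

/-- a subgroup containing a Sylow `p`-subgroup and all `p'`-elements of `X` contains `X` -/
theorem le_of_sylow_of_coprime {p : ℕ} [Fact p.Prime] {X P K : Subgroup G} [Finite X]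
    (hP : IsSylIn p P X) (hPK : P ≤ K) (hK : ∀ α ∈ X, (orderOf α).Coprime p → α ∈ K) : X ≤ K := by
  obtain ⟨R, hR⟩ := hP.exists_sylow
  have h1 : (R : Subgroup X) ≤ K.subgroupOf X := by
    rw [hR]
    intro x hx
    exact hPK hx
  have h2 := Cfsg.Agent.Helper47.sup_pResidual_eq_top_of_sylow_le (K.subgroupOf X) R h1
  have h3 : pResidual p X ≤ K.subgroupOf X := by
    unfold pResidual
    rw [Subgroup.closure_le]
    intro g hg
    have hg' : (orderOf g).Coprime p := hg
    rw [← Subgroup.orderOf_coe] at hg'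
    exact hK _ g.2 hg'
  rw [sup_eq_left.2 h3] at h2
  intro x hx
  have : (⟨x, hx⟩ : X) ∈ K.subgroupOf X := by rw [h2]; trivial
  exact this

/-- a finite subgroup mapped into itself by a conjugation is normalized -/
theorem mem_normalizer_of_conj_mem {U : Subgroup G} [Finite U] {d : G}
    (h : ∀ x ∈ U, d * x * d⁻¹ ∈ U) : d ∈ Subgroup.normalizer (U : Set G) := by
  haveI : Finite ((U : Subgroup G) : Set G) := ‹Finite U›
  apply Subgroup.mem_normalizer_fintype
  intro x hx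
  exact h x hx

end grp

section fus

variable {Ω : Type*} [Group Ω] {S : Subgroup Ω}

/-- maps of the fusion system of a subgroup on a subgroup, at function level -/
theorem fsos_mor_iff {H T : Subgroup Ω} {hTH : T ≤ H} {P : Subgroup Ω} {f : Ω → Ω} :
    Mor (fusionSystemOfSubgroup H T hTH) P f ↔
      P ≤ T ∧ (∀ x ∈ P, f x ∈ T) ∧ ∃ g ∈ H, ∀ x ∈ P, f x = g * x * g⁻¹ := by
  constructor
  · rintro ⟨φ, ⟨hP, hφT, g, hgH, hg⟩, e⟩
    exact ⟨hP, fun x hx => by rw [← e ⟨x, hx⟩]; exact hφT _, g, hgH,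
      fun x hx => by rw [← e ⟨x, hx⟩]; exact hg _⟩
  · rintro ⟨hP, hfT, g, hgH, hg⟩
    refine ⟨conjHom P g, ⟨hP, fun x => ?_, g, hgH, fun x => rfl⟩, fun x => ?_⟩
    · have := hfT x x.2
      rw [hg x x.2] at this
      exact this
    · rw [hg x x.2]; rfl

/-- maps of the fusion system of a group, at function level -/
theorem gfs_mor_iff' {T : Subgroup Ω} {P : Subgroup Ω} {f : Ω → Ω} :
    Mor (groupFusionSystem T) P f ↔ P ≤ T ∧ (∀ x ∈ P, f x ∈ T) ∧ ∃ g : Ω, ∀ x ∈ P, f x = g * x * g⁻¹ := by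
  constructor
  · rintro ⟨φ, ⟨hP, hφT, g, hg⟩, e⟩
    exact ⟨hP, fun x hx => by rw [← e ⟨x, hx⟩]; exact hφT _, g, fun x hx => by rw [← e ⟨x, hx⟩]; exact hg _⟩
  · rintro ⟨hP, hfT, g, hg⟩
    refine ⟨conjHom P g, ⟨hP, fun x => ?_, g, fun x => rfl⟩, fun x => ?_⟩
    · have := hfT x x.2
      rw [hg x x.2] at this
      exact this
    · rw [hg x x.2]; rfl

/-- a `p`-subgroup of `Aut_F(U)` normalized by `Aut_F(U)` consists of inner automorphisms, for radical `U` -/
theorem le_inn_of_normal_pGroup {F : FusionSystem S} {p : ℕ} [Fact p.Prime] {U : Subgroup Ω}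
    (hrad : F.IsRadical p U) {N : Subgroup (MulAut U)} (hN : N ≤ F.autGroup U) (hNp : IsPGroup p N)
    (hn : ∀ a ∈ F.autGroup U, ∀ b ∈ N, a * b * a⁻¹ ∈ N) : N ≤ Inn U := by
  have hnorm : (N.subgroupOf (F.autGroup U)).Normal := by
    constructor
    intro β hβ α
    rw [Subgroup.mem_subgroupOf] at hβ ⊢
    exact hn α α.2 β hβ
  have hp : IsPGroup p (N.subgroupOf (F.autGroup U)) := hNp.comap_subtype
  have hle := le_pCore hnorm hp
  intro β hβ
  rw [← hrad.2]
  exact ⟨⟨β, hN hβ⟩, hle (Subgroup.mem_subgroupOf.2 hβ), rfl⟩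

/-- the predicate "is a map of `E'`" is closed in the sense of Alperin -/
theorem alperinClosed_mor {T : Subgroup Ω} (F E' : FusionSystem T) : AlperinClosed F (Mor E') where
  congr := fun h e => h.congr e
  restrict := fun _ h hQP => h.restrict hQP
  comp := fun _ _ hPQ h1 h2 => h1.comp h2 hPQ

end fus

end Cfsg.Agent.Helper86.NormSub
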