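import Mathlib
import Cfsg.Agent.Lib.Helper86.NsA
import Cfsg.Agent.Lib.Helper87.FusionInvariant
import Cfsg.Agent.Lib.Helper87.FusionNormalCrit

set_option autoImplicit false
set_option linter.unusedVariables false
set_option linter.unusedSectionVars false
set_option linter.style.haveILetI false

/-! # Normal subsystems of the fusion system of a group: the interface `Dat` -/

namespace Cfsg.Agent.Helper86.NormSub

open Cfsg Cfsg.FusionSystem Cfsg.Agent.Helper87 Cfsg.Agent.Helper84

variable {G : Type*} [Group G] {p : ℕ}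

/-- what we use of a normal subsystem `E` over `T` of the fusion system of `G` on `S` -/
structure Dat (p : ℕ) (S T : Subgroup G) (E : FusionSystem T) : Prop where
  hTS : T ≤ S
  sat : E.IsSaturated p
  sub : ∀ {P : Subgroup G} {f : G → G}, Mor E P f → ∃ g : G, ∀ x ∈ P, f x = g * x * g⁻¹
  sc : ∀ {P : Subgroup G} {g : G}, P ≤ T → (∀ x ∈ P, g * x * g⁻¹ ∈ S) → ∀ x ∈ P, g * x * g⁻¹ ∈ T
  frat : ∀ {P : Subgroup G} {g : G}, P ≤ T → (∀ x ∈ P, g * x * g⁻¹ ∈ S) →
    ∃ n ∈ Subgroup.normalizer (T : Set G), ∃ f₀, Mor E P f₀ ∧ ∀ x ∈ P, g * x * g⁻¹ = n * f₀ x * n⁻¹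
  inv : ∀ {P : Subgroup G} {f : G → G} {n : G}, P ≤ T → Mor E P f →
    n ∈ Subgroup.normalizer (T : Set G) →
    Mor E (P.map (MulAut.conj n).toMonoidHom) (fun y => n * f (n⁻¹ * y * n) * n⁻¹)
  ext : ∀ {n : G}, n ∈ Subgroup.normalizer (T : Set G) → Mor E T (fun x => n * x * n⁻¹) →
    ∃ g ∈ Subgroup.normalizer (T : Set G), (∀ x ∈ T, g * x * g⁻¹ = n * x * n⁻¹) ∧
      ∀ c ∈ centralizerIn S T, c⁻¹ * (g * c * g⁻¹) ∈ T ⊓ Subgroup.centralizer (T : Set G)

theorem extAut_conjAut {P : Subgroup G} {n : G} (hn : n ∈ Subgroup.normalizer (P : Set G)) {x : G}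
    (hx : x ∈ P) : extAut (conjAut P n hn) x = n * x * n⁻¹ := by
  rw [extAut_mem _ hx, conjAut_apply]

theorem extAut_conjAut_inv {P : Subgroup G} {n : G} (hn : n ∈ Subgroup.normalizer (P : Set G)) {x : G}
    (hx : x ∈ P) : extAut (conjAut P n hn)⁻¹ x = n⁻¹ * x * n := by
  have h1 : n⁻¹ * x * n ∈ P := by
    have := (Subgroup.mem_normalizer_iff.1 (Subgroup.inv_mem _ hn) x).1 hx
    simpa using this
  have h2 := extAut_inv_left (conjAut P n hn) h1
  rw [extAut_conjAut hn h1] at h2
  have e : n * (n⁻¹ * x * n) * n⁻¹ = x := by group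
  rw [e] at h2
  exact h2

theorem dat_of_isNormalIn {S T : Subgroup G} {E : FusionSystem T}
    (hE : E.IsNormalIn (groupFusionSystem S) p) : Dat p S T E := by
  obtain ⟨⟨hsat, -, hinv⟩, hext⟩ := hE
  have hsub := hinv.1
  have hsc := stronglyClosed_iff.1 hinv.2.1
  have hTS : T ≤ S := hsc.1
  have hautn : ∀ {n : G} (hn : n ∈ Subgroup.normalizer (T : Set G)),
      conjAut T n hn ∈ (groupFusionSystem S).autGroup T := by
    intro n hn
    rw [mem_autGroup_iff hTS, gfs_mor_iff']
    refine ⟨hTS, fun x hx => hTS (extAut_mem_self _ hx), n, fun x hx => extAut_conjAut hn hx⟩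
  refine ⟨hTS, hsat, ?_, ?_, ?_, ?_, ?_⟩
  · intro P f hf
    exact (gfs_mor_iff'.1 (hf.of_subsystem hsub)).2.2
  · intro P g hP hg x hx
    exact hsc.2 P _ hP (gfs_mor_iff'.2 ⟨hP.trans hTS, hg, g, fun _ _ => rfl⟩) x hx
  · intro P g hP hg
    have hf : Mor (groupFusionSystem S) P (fun x => g * x * g⁻¹) :=
      gfs_mor_iff'.2 ⟨hP.trans hTS, hg, g, fun _ _ => rfl⟩
    obtain ⟨α, hα, f₀, hf₀, e⟩ := frattini_fun hinv hP hf
    obtain ⟨-, -, n, hn⟩ := gfs_mor_iff'.1 ((mem_autGroup_iff hTS).1 hα)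
    have hnN : n ∈ Subgroup.normalizer (T : Set G) := by
      apply mem_normalizer_of_aut α
      intro x
      rw [← hn x x.2, extAut_apply]
    refine ⟨n, hnN, f₀, hf₀, fun x hx => ?_⟩
    have h1 := e x hx
    rw [hn _ (hf₀.mem hx)] at h1
    exact h1
  · intro P f n hP hf hn
    have h1 := invariance_fun hinv hP hf (hautn hn)
    have himg : imgAut (conjAut T n hn) P = P.map (MulAut.conj n).toMonoidHom := by
      ext y
      rw [mem_imgAut hP]
      constructor
      · rintro ⟨x, hx, rfl⟩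
        rw [extAut_conjAut hn (hP hx)]
        exact ⟨x, hx, by simp [MulAut.conj_apply]⟩
      · rintro ⟨x, hx, rfl⟩
        refine ⟨x, hx, ?_⟩
        rw [extAut_conjAut hn (hP hx)]
        simp [MulAut.conj_apply]
    rw [himg] at h1
    apply h1.congr
    rintro y ⟨x, hx, rfl⟩
    have hyT : (MulAut.conj n).toMonoidHom x ∈ T := by
      have := (Subgroup.mem_normalizer_iff.1 hn x).1 (hP hx)
      simpa [MulAut.conj_apply] using this
    show extAut (conjAut T n hn) (f (extAut (conjAut T n hn)⁻¹ _)) = _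
    rw [extAut_conjAut_inv hn hyT]
    have hx' : n⁻¹ * (MulAut.conj n).toMonoidHom x * n = x := by
      simp [MulAut.conj_apply]; group
    rw [hx', extAut_conjAut hn (hf.mem hx)]
  · intro n hn hmor
    have hα : conjAut T n hn ∈ E.autGroup T := by
      rw [mem_autGroup_iff le_rfl]
      exact hmor.congr (fun x hx => (extAut_conjAut hn hx).symm)
    obtain ⟨β, hβ, hβT, hβc⟩ := hext _ hα
    have hle : T ⊔ centralizerIn S T ≤ S := sup_le hTS inf_le_left
    obtain ⟨-, -, g, hg⟩ := gfs_mor_iff'.1 ((mem_autGroup_iff hle).1 hβ)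
    have hgT : ∀ x ∈ T, g * x * g⁻¹ = n * x * n⁻¹ := by
      intro x hx
      have hxs : x ∈ T ⊔ centralizerIn S T := (le_sup_left : T ≤ _) hx
      have h1 := hg x hxs
      rw [extAut_mem β hxs] at h1
      have h2 := hβT ⟨x, hx⟩
      rw [conjAut_apply] at h2
      rw [← h1, ← h2]
      rfl
    refine ⟨g, ?_, hgT, ?_⟩
    · rw [Subgroup.mem_normalizer_iff]
      intro x
      constructor
      · intro hx
        rw [hgT x hx]
        exact (Subgroup.mem_normalizer_iff.1 hn x).1 hx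
      · intro hx
        have hy : n⁻¹ * (g * x * g⁻¹) * n ∈ T := by
          have := (Subgroup.mem_normalizer_iff.1 (Subgroup.inv_mem _ hn) (g * x * g⁻¹)).1 hx
          simpa using this
        have h1 := hgT _ hy
        have e : n * (n⁻¹ * (g * x * g⁻¹) * n) * n⁻¹ = g * x * g⁻¹ := by group
        rw [e] at h1
        have h2 : n⁻¹ * (g * x * g⁻¹) * n = x := by
          have := mul_left_cancel (mul_right_cancel h1)
          exact this
        rw [← h2]
        exact hy
    · intro c hc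
      have hcs : c ∈ T ⊔ centralizerIn S T := (le_sup_right : centralizerIn S T ≤ _) hc
      have h1 := hβc ⟨c, hcs⟩ hc
      have h2 := hg c hcs
      rw [extAut_mem β hcs] at h2
      rw [← h2]
      exact h1

end Cfsg.Agent.Helper86.NormSub
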