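import Mathlib
import Cfsg.Agent.Lib.Helper86.NsB

set_option autoImplicit false
set_option linter.unusedVariables false
set_option linter.unusedSectionVars false
set_option linter.style.haveILetI false

/-! # Normal subsystems of the fusion system of a strictly p-constrained group: the subgroups `Q`, `D`, `D_E` -/

namespace Cfsg.Agent.Helper86.NormSub

open Cfsg Cfsg.FusionSystem Cfsg.Agent.Helper87 Cfsg.Agent.Helper84

variable {G : Type*} [Group G] [Finite G] {p : ℕ} [hp : Fact p.Prime]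

/-- `Q = T ∩ O_p(G)` -/
def QQ (p : ℕ) (T : Subgroup G) : Subgroup G := T ⊓ pCore p G

/-- `D = C_G(O_p(G)/Q)` -/
def DD (p : ℕ) (T : Subgroup G) : Subgroup G where
  carrier := {g | g ∈ Subgroup.normalizer (QQ p T : Set G) ∧ ∀ r ∈ pCore p G, g * r * g⁻¹ * r⁻¹ ∈ QQ p T}
  one_mem' := ⟨Subgroup.one_mem _, fun r _ => by simp⟩
  mul_mem' := by
    rintro g h ⟨hgN, hg⟩ ⟨hhN, hh⟩
    refine ⟨Subgroup.mul_mem _ hgN hhN, fun r hr => ?_⟩
    have e : g * h * r * (g * h)⁻¹ * r⁻¹ = (g * (h * r * h⁻¹ * r⁻¹) * g⁻¹) * (g * r * g⁻¹ * r⁻¹) := by group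
    rw [e]
    exact Subgroup.mul_mem _ ((Subgroup.mem_normalizer_iff.1 hgN _).1 (hh r hr)) (hg r hr)
  inv_mem' := by
    rintro g ⟨hgN, hg⟩
    refine ⟨Subgroup.inv_mem _ hgN, fun r hr => ?_⟩
    have hr' : g⁻¹ * r * g ∈ pCore p G := by
      have := (pCore_normal p G).conj_mem r hr g⁻¹
      simpa using this
    have h1 := hg _ hr'
    have e : g * (g⁻¹ * r * g) * g⁻¹ * (g⁻¹ * r * g)⁻¹ = (g⁻¹ * r * g⁻¹⁻¹ * r⁻¹)⁻¹ := by group
    rw [e] at h1
    exact (Subgroup.inv_mem_iff _).1 h1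

theorem mem_DD {T : Subgroup G} {g : G} : g ∈ DD p T ↔
    g ∈ Subgroup.normalizer (QQ p T : Set G) ∧ ∀ r ∈ pCore p G, g * r * g⁻¹ * r⁻¹ ∈ QQ p T := Iff.rfl

theorem QQ_le (T : Subgroup G) : QQ p T ≤ T := inf_le_left

/-- `D_E`: the elements of `D` inducing on `Q` a map of `E` -/
def DE {T : Subgroup G} (E : FusionSystem T) (p : ℕ) [Fact p.Prime] : Subgroup G where
  carrier := {g | g ∈ DD p T ∧ Mor E (QQ p T) (fun x => g * x * g⁻¹)}
  one_mem' := ⟨Subgroup.one_mem _, (Mor.id (QQ_le T)).congr (fun x _ => by simp)⟩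
  mul_mem' := by
    rintro g h ⟨hgD, hg⟩ ⟨hhD, hh⟩
    refine ⟨Subgroup.mul_mem _ hgD hhD, ?_⟩
    have h1 := hh.comp hg (fun x hx => (Subgroup.mem_normalizer_iff.1 hhD.1 x).1 hx)
    exact h1.congr (fun x _ => by group)
  inv_mem' := by
    rintro g ⟨hgD, hg⟩
    refine ⟨Subgroup.inv_mem _ hgD, ?_⟩
    haveI : Finite T := Subtype.finite
    have hI : Iso E (QQ p T) (QQ p T) (fun x => g * x * g⁻¹) :=
      iso_of_card_le hg (QQ_le T) (fun x hx => (Subgroup.mem_normalizer_iff.1 hgD.1 x).1 hx) le_rfl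
    obtain ⟨g', hI', hl, -⟩ := hI.symm
    apply hI'.mor.congr
    intro y hy
    have hx : g⁻¹ * y * g ∈ QQ p T := by
      have := (Subgroup.mem_normalizer_iff.1 (Subgroup.inv_mem _ hgD.1) y).1 hy
      simpa using this
    have h2 := hl _ hx
    have e : g * (g⁻¹ * y * g) * g⁻¹ = y := by group
    rw [e] at h2
    rw [h2]
    simp

theorem mem_DE {T : Subgroup G} {E : FusionSystem T} {g : G} :
    g ∈ DE E p ↔ g ∈ DD p T ∧ Mor E (QQ p T) (fun x => g * x * g⁻¹) := Iff.rfl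

theorem DE_le_DD {T : Subgroup G} (E : FusionSystem T) : DE E p ≤ DD p T := fun _ h => h.1

variable {S : Sylow p G} {T : Subgroup G} {E : FusionSystem T}

theorem pCore_le_S : pCore p G ≤ (S : Subgroup G) := pCore_le_sylow S

theorem pCore_pow (r : G) (hr : r ∈ pCore p G) : ∃ k : ℕ, r ^ (p ^ k) = 1 := by
  obtain ⟨k, hk⟩ := (pCore_isPGroup (p := p) (G := G)) ⟨r, hr⟩
  exact ⟨k, by simpa using congrArg Subtype.val hk⟩

namespace Dat

variable (d : Dat p (S : Subgroup G) T E)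
include d

theorem T_normal {s t : G} (hs : s ∈ (S : Subgroup G)) (ht : t ∈ T) : s * t * s⁻¹ ∈ T :=
  d.sc le_rfl (fun x hx => (S : Subgroup G).mul_mem ((S : Subgroup G).mul_mem hs (d.hTS hx))
    ((S : Subgroup G).inv_mem hs)) t ht

theorem Q_normal (g : G) {x : G} (hx : x ∈ QQ p T) : g * x * g⁻¹ ∈ QQ p T := by
  have hR : ∀ y ∈ QQ p T, g * y * g⁻¹ ∈ pCore p G :=
    fun y hy => (pCore_normal p G).conj_mem y hy.2 g
  exact ⟨d.sc (QQ_le T) (fun y hy => pCore_le_S (hR y hy)) x hx, hR x hx⟩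

theorem mem_normalizer_Q (g : G) : g ∈ Subgroup.normalizer (QQ p T : Set G) := by
  rw [Subgroup.mem_normalizer_iff]
  intro x
  constructor
  · exact fun hx => d.Q_normal g hx
  · intro hx
    have := d.Q_normal g⁻¹ hx
    have e : g⁻¹ * (g * x * g⁻¹) * g⁻¹⁻¹ = x := by group
    rwa [e] at this

theorem mem_DD_iff {g : G} : g ∈ DD p T ↔ ∀ r ∈ pCore p G, g * r * g⁻¹ * r⁻¹ ∈ QQ p T :=
  ⟨fun h => h.2, fun h => ⟨d.mem_normalizer_Q g, h⟩⟩

theorem T_le_DD : T ≤ DD p T := by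
  intro t ht
  rw [d.mem_DD_iff]
  intro r hr
  refine ⟨?_, ?_⟩
  · have h1 : r * t⁻¹ * r⁻¹ ∈ T := d.T_normal (pCore_le_S hr) (T.inv_mem ht)
    have e : t * r * t⁻¹ * r⁻¹ = t * (r * t⁻¹ * r⁻¹) := by group
    rw [e]
    exact T.mul_mem ht h1
  · have h1 : t * r * t⁻¹ ∈ pCore p G := (pCore_normal p G).conj_mem r hr t
    exact Subgroup.mul_mem _ h1 (Subgroup.inv_mem _ hr)

theorem T_le_DE : T ≤ DE E p := fun t ht => ⟨d.T_le_DD ht, Mor.conj (QQ_le T) ht⟩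

theorem DD_normal (g : G) {x : G} (hx : x ∈ DD p T) : g * x * g⁻¹ ∈ DD p T := by
  rw [d.mem_DD_iff] at hx ⊢
  intro r hr
  have hr' : g⁻¹ * r * g ∈ pCore p G := by
    have := (pCore_normal p G).conj_mem r hr g⁻¹
    simpa using this
  have h1 := d.Q_normal g (hx _ hr')
  have e : g * (x * (g⁻¹ * r * g) * x⁻¹ * (g⁻¹ * r * g)⁻¹) * g⁻¹ = g * x * g⁻¹ * r * (g * x * g⁻¹)⁻¹ * r⁻¹ := by
    group
  rwa [e] at h1

/-- conjugating an `E`-automorphism of `U ≤ T` by an element of `N_G(U)` gives an `E`-automorphism -/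
theorem normAut {U : Subgroup G} (hU : U ≤ T) {y : G} (hy : y ∈ Subgroup.normalizer (U : Set G))
    {f : G → G} (hf : Mor E U f) (hfU : ∀ x ∈ U, f x ∈ U) :
    Mor E U (fun x => y * f (y⁻¹ * x * y) * y⁻¹) := by
  have hyU : ∀ x ∈ U, y * x * y⁻¹ ∈ U := fun x hx => (Subgroup.mem_normalizer_iff.1 hy x).1 hx
  have hyU' : ∀ x ∈ U, y⁻¹ * x * y ∈ U := by
    intro x hx
    have := (Subgroup.mem_normalizer_iff.1 (Subgroup.inv_mem _ hy) x).1 hx
    simpa using this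
  obtain ⟨n, hn, f₀, hf₀, e⟩ := d.frat hU (fun x hx => d.hTS (hU (hyU x hx)))
  have I₀ := Iso.of_mor hf₀
  obtain ⟨f₀', hI', hl, hr⟩ := I₀.symm
  have step1 : Mor E hf₀.image (fun z => f (f₀' z)) := hI'.mor.comp hf (fun z hz => hI'.map_mem hz)
  have step2 : Mor E hf₀.image (fun z => f₀ (f (f₀' z))) :=
    step1.comp hf₀ (fun z hz => hfU _ (hI'.map_mem hz))
  have hU'T : hf₀.image ≤ T := hf₀.image_le
  have step3 := d.inv hU'T step2 hn
  have himg : hf₀.image.map (MulAut.conj n).toMonoidHom = U := by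
    ext w
    constructor
    · rintro ⟨z, hz, rfl⟩
      obtain ⟨x, hx, rfl⟩ := (hf₀.mem_image).1 hz
      show n * f₀ x * n⁻¹ ∈ U
      rw [← e x hx]
      exact hyU x hx
    · intro hw
      refine ⟨f₀ (y⁻¹ * w * y), (hf₀.mem_image).2 ⟨_, hyU' w hw, rfl⟩, ?_⟩
      show n * f₀ (y⁻¹ * w * y) * n⁻¹ = w
      rw [← e _ (hyU' w hw)]
      group
  rw [himg] at step3
  apply step3.congr
  intro w hw
  have hx : y⁻¹ * w * y ∈ U := hyU' w hw
  have h1 : n⁻¹ * w * n = f₀ (y⁻¹ * w * y) := by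
    have := e _ hx
    have e2 : y * (y⁻¹ * w * y) * y⁻¹ = w := by group
    rw [e2] at this
    have e3 : n⁻¹ * (n * f₀ (y⁻¹ * w * y) * n⁻¹) * n = f₀ (y⁻¹ * w * y) := by group
    rw [← this] at e3
    exact e3
  show n * f₀ (f (f₀' (n⁻¹ * w * n))) * n⁻¹ = y * f (y⁻¹ * w * y) * y⁻¹
  rw [h1, hl _ hx, ← e _ (hfU _ hx)]

theorem DE_normal (g : G) {x : G} (hx : x ∈ DE E p) : g * x * g⁻¹ ∈ DE E p := by
  refine ⟨d.DD_normal g hx.1, ?_⟩
  have h1 := d.normAut (QQ_le T) (d.mem_normalizer_Q g) hx.2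
    (fun z hz => d.Q_normal x hz)
  exact h1.congr (fun z _ => by group)

end Dat

end Cfsg.Agent.Helper86.NormSub
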