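import Mathlib
import Cfsg.Agent.Lib.Helper86.NsC
import Cfsg.Agent.Lib.Helper84.FusSat
import Cfsg.Agent.Lib.Helper84.GrpFus

set_option autoImplicit false
set_option linter.unusedVariables false
set_option linter.unusedSectionVars false
set_option linter.style.haveILetI false

/-! # Normal subsystems of the fusion system of a strictly p-constrained group: centralizer of `Q`, Frattini -/

namespace Cfsg.Agent.Helper86.NormSub

open Cfsg Cfsg.FusionSystem Cfsg.Agent.Helper87 Cfsg.Agent.Helper84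

variable {G : Type*} [Group G] [Finite G] {p : ℕ} [hp : Fact p.Prime]

/-- `C = C_D(Q)` -/
def CC (p : ℕ) (T : Subgroup G) : Subgroup G := DD p T ⊓ Subgroup.centralizer (QQ p T : Set G)

/-- decomposition of an element into commuting `p`- and `p'`-parts, as powers -/
theorem exists_pq_decomp (p : ℕ) [hp : Fact p.Prime] (y : G) :
    ∃ N₁ N₂ m k : ℕ, m.Coprime p ∧ (y ^ N₁) ^ m = 1 ∧ (y ^ N₂) ^ (p ^ k) = 1 ∧ y = y ^ N₂ * y ^ N₁ := by
  have hn0 : orderOf y ≠ 0 := (orderOf_pos y).ne'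
  obtain ⟨a, n', hn', hn⟩ := Nat.exists_eq_pow_mul_and_not_dvd hn0 p hp.out.ne_one
  have hcop' : Nat.Coprime n' p := ((Nat.Prime.coprime_iff_not_dvd hp.out).2 hn').symm
  have hM : Nat.Coprime (p ^ a) n' := Nat.Coprime.pow_left a hcop'.symm
  obtain ⟨N₁, h10, h11⟩ := Nat.chineseRemainder hM 0 1
  obtain ⟨N₂, h20, h21⟩ := Nat.chineseRemainder hM 1 0
  refine ⟨N₁, N₂, n', a, hcop', ?_, ?_, ?_⟩
  · rw [← pow_mul]
    apply orderOf_dvd_iff_pow_eq_one.1
    rw [hn]
    exact Nat.mul_dvd_mul ((Nat.modEq_zero_iff_dvd).1 h10) dvd_rfl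
  · rw [← pow_mul]
    apply orderOf_dvd_iff_pow_eq_one.1
    rw [hn, mul_comm (p ^ a) n']
    exact Nat.mul_dvd_mul ((Nat.modEq_zero_iff_dvd).1 h21) dvd_rfl
  · rw [← pow_add]
    have h1 : N₂ + N₁ ≡ 1 [MOD p ^ a] := by
      have := Nat.ModEq.add h20 h10
      simpa using this
    have h2 : N₂ + N₁ ≡ 1 [MOD n'] := by
      have := Nat.ModEq.add h21 h11
      simpa using this
    have h3 : N₂ + N₁ ≡ 1 [MOD orderOf y] := by
      rw [hn]
      exact (Nat.modEq_and_modEq_iff_modEq_mul hM).1 ⟨h1, h2⟩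
    have := (pow_eq_pow_iff_modEq (x := y)).2 h3
    rw [this, pow_one]

variable {S : Sylow p G} {T : Subgroup G} {E : FusionSystem T}

theorem isPGroup_T (hTS : T ≤ (S : Subgroup G)) : IsPGroup p T := S.isPGroup'.to_le hTS

namespace Dat

variable (d : Dat p (S : Subgroup G) T E)
include d

theorem S_le_normalizer : (S : Subgroup G) ≤ Subgroup.normalizer (T : Set G) := by
  intro s hs
  haveI : Finite T := Subtype.finite
  exact mem_normalizer_of_conj_mem (fun x hx => d.T_normal hs hx)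

theorem cenQ_normal (g : G) {x : G} (hx : x ∈ Subgroup.centralizer (QQ p T : Set G)) :
    g * x * g⁻¹ ∈ Subgroup.centralizer (QQ p T : Set G) := by
  rw [Subgroup.mem_centralizer_iff]
  intro q hq
  have hq' : g⁻¹ * q * g ∈ QQ p T := by
    have := d.Q_normal g⁻¹ hq
    simpa using this
  have h1 := Subgroup.mem_centralizer_iff.1 hx _ hq'
  calc q * (g * x * g⁻¹) = g * ((g⁻¹ * q * g) * x) * g⁻¹ := by group
    _ = g * (x * (g⁻¹ * q * g)) * g⁻¹ := by rw [h1]
    _ = g * x * g⁻¹ * q := by group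

theorem CC_normal (g : G) {x : G} (hx : x ∈ CC p T) : g * x * g⁻¹ ∈ CC p T := by
  refine ⟨d.DD_normal g hx.1, ?_⟩
  show g * x * g⁻¹ ∈ Subgroup.centralizer (QQ p T : Set G)
  rw [Subgroup.mem_centralizer_iff]
  intro q hq
  have hq' : g⁻¹ * q * g ∈ QQ p T := by
    have := d.Q_normal g⁻¹ hq
    simpa using this
  have h1 := Subgroup.mem_centralizer_iff.1 hx.2 _ hq'
  calc q * (g * x * g⁻¹) = g * ((g⁻¹ * q * g) * x) * g⁻¹ := by group
    _ = g * (x * (g⁻¹ * q * g)) * g⁻¹ := by rw [h1]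
    _ = g * x * g⁻¹ * q := by group

/-- a `p'`-element of `C_D(Q)` is trivial -/
theorem eq_one_of_mem_CC
    (hG : Subgroup.centralizer ((pCore p G : Subgroup G) : Set G) ≤ pCore p G)
    {x : G} (hx : x ∈ CC p T) {m : ℕ} (hm : m.Coprime p) (hxm : x ^ m = 1) : x = 1 := by
  have hcen : x ∈ Subgroup.centralizer ((pCore p G : Subgroup G) : Set G) := by
    rw [Subgroup.mem_centralizer_iff]
    intro r hr
    have hs : r⁻¹ * (x * r * x⁻¹) ∈ QQ p T := by
      have h1 := d.Q_normal r⁻¹ (hx.1.2 r hr)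
      have e : r⁻¹ * (x * r * x⁻¹ * r⁻¹) * r⁻¹⁻¹ = r⁻¹ * (x * r * x⁻¹) := by group
      rwa [e] at h1
    have hr' : x * r * x⁻¹ = r * (r⁻¹ * (x * r * x⁻¹)) := by group
    have hs' : x * (r⁻¹ * (x * r * x⁻¹)) * x⁻¹ = r⁻¹ * (x * r * x⁻¹) := by
      have := Subgroup.mem_centralizer_iff.1 hx.2 _ hs
      rw [← this]; group
    obtain ⟨k, hk⟩ := pCore_pow (p := p) _ hs.2
    have h1 := coprime_fix hm hxm hr' hs' hk
    rw [h1, mul_one] at hr'
    calc r * x = (x * r * x⁻¹) * x := by rw [hr']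
      _ = x * r := by group
  obtain ⟨k, hk⟩ := pCore_pow (p := p) x (hG hcen)
  have h2 : orderOf x ∣ m := orderOf_dvd_of_pow_eq_one hxm
  have h3 : orderOf x ∣ p ^ k := orderOf_dvd_of_pow_eq_one hk
  have hc : Nat.Coprime m (p ^ k) := Nat.Coprime.pow_right k hm
  have h4 : orderOf x ∣ 1 := by
    have := Nat.dvd_gcd h2 h3
    rwa [hc] at this
  exact orderOf_eq_one_iff.1 (Nat.dvd_one.1 h4)

theorem CC_le_pCore
    (hG : Subgroup.centralizer ((pCore p G : Subgroup G) : Set G) ≤ pCore p G) :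
    CC p T ≤ pCore p G := by
  apply le_pCore
  · exact ⟨fun x hx g => d.CC_normal g hx⟩
  · intro y
    obtain ⟨N₁, N₂, m, k, hm, h1, h2, h3⟩ := exists_pq_decomp p (y : G)
    have hx : (y : G) ^ N₁ ∈ CC p T := Subgroup.pow_mem _ y.2 _
    have h4 := d.eq_one_of_mem_CC hG hx hm h1
    rw [h4, mul_one] at h3
    refine ⟨k, Subtype.ext ?_⟩
    rw [Subgroup.coe_pow, Subgroup.coe_one, h3]
    exact h2

theorem centralizerIn_Q_le
    (hG : Subgroup.centralizer ((pCore p G : Subgroup G) : Set G) ≤ pCore p G) :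
    centralizerIn T (QQ p T) ≤ QQ p T := by
  intro t ht
  exact ⟨ht.1, d.CC_le_pCore hG ⟨d.T_le_DD ht.1, ht.2⟩⟩

theorem comm_mem_ZQ
    (hG : Subgroup.centralizer ((pCore p G : Subgroup G) : Set G) ≤ pCore p G)
    {x c : G} (hx : x ∈ DD p T) (hc : c ∈ CC p T) :
    x * c * x⁻¹ * c⁻¹ ∈ QQ p T ⊓ Subgroup.centralizer (QQ p T : Set G) := by
  refine ⟨hx.2 c (d.CC_le_pCore hG hc), ?_⟩
  exact Subgroup.mul_mem _ (d.CC_normal x hc).2 (Subgroup.inv_mem _ hc.2)

/-- the inverse of an `E`-automorphism induced by conjugation -/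
theorem mor_conj_inv {U : Subgroup G} (hU : U ≤ T) {g : G} (hg : g ∈ Subgroup.normalizer (U : Set G))
    (hf : Mor E U (fun x => g * x * g⁻¹)) : Mor E U (fun x => g⁻¹ * x * g) := by
  haveI : Finite T := Subtype.finite
  have hI : Iso E U U (fun x => g * x * g⁻¹) :=
    iso_of_card_le hf hU (fun x hx => (Subgroup.mem_normalizer_iff.1 hg x).1 hx) le_rfl
  obtain ⟨g', hI', hl, -⟩ := hI.symm
  apply hI'.mor.congr
  intro y hy
  have hx : g⁻¹ * y * g ∈ U := by
    have := (Subgroup.mem_normalizer_iff.1 (Subgroup.inv_mem _ hg) y).1 hy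
    simpa using this
  have h2 := hl _ hx
  have e : g * (g⁻¹ * y * g) * g⁻¹ = y := by group
  rw [e] at h2
  exact h2

/-- Frattini argument for the strongly closed subgroup `T`: `G = D_E N_G(T)` -/
theorem exists_mul_mem_normalizer (g : G) :
    ∃ k ∈ DE E p, k * g ∈ Subgroup.normalizer (T : Set G) := by
  haveI : Finite T := Subtype.finite
  have hsyl : IsSylIn p ((S : Subgroup G) ⊓ DE E p) (DE E p) := by
    apply IsSylIn.inf_normal (sylow_isSylIn_top S) le_top
    intro x _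
    rw [Subgroup.mem_normalizer_iff]
    intro y
    constructor
    · exact fun hy => d.DE_normal x hy
    · intro hy
      have := d.DE_normal x⁻¹ hy
      have e : x⁻¹ * (x * y * x⁻¹) * x⁻¹⁻¹ = y := by group
      rwa [e] at this
  have hT' : T.map (MulAut.conj g).toMonoidHom ≤ DE E p := by
    rintro _ ⟨t, ht, rfl⟩
    exact d.DE_normal g (d.T_le_DE ht)
  have hT'p : IsPGroup p (T.map (MulAut.conj g).toMonoidHom) := (isPGroup_T d.hTS).map _
  obtain ⟨k, hk, hle⟩ := hsyl.exists_conj_ge hT' hT'p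
  refine ⟨k⁻¹, Subgroup.inv_mem _ hk, ?_⟩
  apply mem_normalizer_of_conj_mem
  apply d.sc le_rfl
  intro t ht
  obtain ⟨s, hs, e⟩ := hle ⟨t, ht, rfl⟩
  have e' : k * s * k⁻¹ = g * t * g⁻¹ := by simpa [MulAut.conj_apply] using e
  have : k⁻¹ * g * t * (k⁻¹ * g)⁻¹ = s := by
    calc k⁻¹ * g * t * (k⁻¹ * g)⁻¹ = k⁻¹ * (g * t * g⁻¹) * k := by group
      _ = k⁻¹ * (k * s * k⁻¹) * k := by rw [e']
      _ = s := by group
  rw [this]
  exact hs.1

theorem normalizerIn_Q : normalizerIn T (QQ p T) = T :=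
  le_antisymm inf_le_left (fun t ht => ⟨ht, d.mem_normalizer_Q t⟩)

theorem fullyNormalized_Q : E.IsFullyNormalized (QQ p T) := by
  haveI : Finite T := Subtype.finite
  refine ⟨QQ_le T, fun Q' _ => ?_⟩
  rw [d.normalizerIn_Q]
  exact card_normalizerIn_le Q'

/-- an `E`-automorphism of `Q` induced by `n`, with `n` normalizing `U ≥ Q`, extends to an `E`-map on `U` -/
theorem exists_extension {U : Subgroup G} (hU : U ≤ T) {n : G}
    (hn : n ∈ Subgroup.normalizer (U : Set G)) (hmor : Mor E (QQ p T) (fun x => n * x * n⁻¹)) :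
    ∃ f, Mor E U f ∧ ∀ x ∈ QQ p T, f x = n * x * n⁻¹ := by
  haveI : Finite T := Subtype.finite
  have hrec := receptive_of_fullyNormalized (isPGroup_T d.hTS) d.sat d.fullyNormalized_Q
  have hI : Iso E (QQ p T) (QQ p T) (fun x => n * x * n⁻¹) :=
    iso_of_card_le hmor (QQ_le T) (fun x hx => d.Q_normal n hx) le_rfl
  obtain ⟨f, hf, e⟩ := (isReceptive_iff.1 hrec).2 _ _ hI
  have hle : U ≤ hI.ext := by
    intro u hu
    rw [Iso.mem_ext]
    refine ⟨hU hu, d.mem_normalizer_Q u, n * u * n⁻¹,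
      hU ((Subgroup.mem_normalizer_iff.1 hn u).1 hu), fun x _ => by group⟩
  exact ⟨f, hf.restrict hle, e⟩

end Dat

end Cfsg.Agent.Helper86.NormSub
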