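import Mathlib
import Cfsg.Agent.Lib.Helper86.NsD
import Cfsg.Agent.Lib.Helper84.GrpHyp

set_option autoImplicit false
set_option linter.unusedVariables false
set_option linter.unusedSectionVars false
set_option linter.style.haveILetI false

/-! # Normal subsystems of the fusion system of a strictly p-constrained group: `Aut_E(Q) ≤ Aut_D(Q)` -/

namespace Cfsg.Agent.Helper86.NormSub

open Cfsg Cfsg.FusionSystem Cfsg.Agent.Helper87 Cfsg.Agent.Helper84

variable {G : Type*} [Group G] [Finite G] {p : ℕ} [hp : Fact p.Prime]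

/-- conjugating an induced automorphism by an induced automorphism -/
theorem conj_conj_apply {T : Subgroup G} {κ β : MulAut T} {g r : G}
    (hκ : ∀ x : T, ((κ x : T) : G) = g * x * g⁻¹) (hβ : ∀ x : T, ((β x : T) : G) = r * x * r⁻¹) :
    ∀ x : T, (((κ * β * κ⁻¹) x : T) : G) = (g * r * g⁻¹) * x * (g * r * g⁻¹)⁻¹ := by
  intro x
  have h1 : ((κ⁻¹ x : T) : G) = g⁻¹ * x * g := by
    have h2 := hκ (κ⁻¹ x)
    have h3 : κ (κ⁻¹ x) = x := by simp
    rw [h3] at h2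
    rw [h2]; group
  rw [MulAut.mul_apply, MulAut.mul_apply, hκ, hβ, h1]
  group

/-- a `p`-subgroup of `K` normalized by `K` lies in every Sylow `p`-subgroup of `K` -/
theorem sylIn_normal_le {A : Type*} [Group A] {P N K : Subgroup A} [Finite K] (h : IsSylIn p P K)
    (hNK : N ≤ K) (hN : IsPGroup p N) (hn : K ≤ Subgroup.normalizer (N : Set A)) : N ≤ P := by
  obtain ⟨k, hk, hle⟩ := h.exists_conj_ge hNK hN
  intro n hn'
  have h1 : k * n * k⁻¹ ∈ N := (Subgroup.mem_normalizer_iff.1 (hn hk) n).1 hn'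
  obtain ⟨t, ht, e⟩ := hle h1
  have e' : k * t * k⁻¹ = k * n * k⁻¹ := by simpa [MulAut.conj_apply] using e
  have : t = n := mul_left_cancel (mul_right_cancel e')
  rw [← this]; exact ht

/-- elements of `N_G(T)` inducing an `E`-automorphism of `T` and acting trivially on `C_S(T)/Z(T)` -/
def Good (S T : Subgroup G) (E : FusionSystem T) (y : G) : Prop :=
  y ∈ Subgroup.normalizer (T : Set G) ∧ Mor E T (fun x => y * x * y⁻¹) ∧
    ∀ c ∈ centralizerIn S T, c⁻¹ * (y * c * y⁻¹) ∈ T ⊓ Subgroup.centralizer (T : Set G)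

theorem ZT_conj {T : Subgroup G} {y z : G} (hy : y ∈ Subgroup.normalizer (T : Set G))
    (hz : z ∈ T ⊓ Subgroup.centralizer (T : Set G)) :
    y * z * y⁻¹ ∈ T ⊓ Subgroup.centralizer (T : Set G) := by
  refine ⟨(Subgroup.mem_normalizer_iff.1 hy z).1 hz.1, ?_⟩
  show y * z * y⁻¹ ∈ Subgroup.centralizer (T : Set G)
  rw [Subgroup.mem_centralizer_iff]
  intro t ht
  have ht' : y⁻¹ * t * y ∈ T := by
    have := (Subgroup.mem_normalizer_iff.1 (Subgroup.inv_mem _ hy) t).1 ht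
    simpa using this
  have h1 := Subgroup.mem_centralizer_iff.1 hz.2 _ ht'
  calc t * (y * z * y⁻¹) = y * ((y⁻¹ * t * y) * z) * y⁻¹ := by group
    _ = y * (z * (y⁻¹ * t * y)) * y⁻¹ := by rw [h1]
    _ = y * z * y⁻¹ * t := by group

theorem Good.one {S T : Subgroup G} {E : FusionSystem T} : Good S T E 1 :=
  ⟨Subgroup.one_mem _, (Mor.id le_rfl).congr (fun x _ => by simp),
    fun c _ => by simp⟩

theorem Good.mul {S T : Subgroup G} {E : FusionSystem T} {y y' : G} (h : Good S T E y)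
    (h' : Good S T E y') : Good S T E (y * y') := by
  refine ⟨Subgroup.mul_mem _ h.1 h'.1, ?_, ?_⟩
  · have h1 := h'.2.1.comp h.2.1 (fun x hx => (Subgroup.mem_normalizer_iff.1 h'.1 x).1 hx)
    exact h1.congr (fun x _ => by group)
  · intro c hc
    have e : c⁻¹ * (y * y' * c * (y * y')⁻¹) =
        (c⁻¹ * (y * c * y⁻¹)) * (y * (c⁻¹ * (y' * c * y'⁻¹)) * y⁻¹) := by group
    rw [e]
    exact Subgroup.mul_mem _ (h.2.2 c hc) (ZT_conj h.1 (h'.2.2 c hc))

theorem Good.pow {S T : Subgroup G} {E : FusionSystem T} {y : G} (h : Good S T E y) (k : ℕ) :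
    Good S T E (y ^ k) := by
  induction k with
  | zero => rw [pow_zero]; exact Good.one
  | succ k ih => rw [pow_succ]; exact ih.mul h

variable {S : Sylow p G} {T : Subgroup G} {E : FusionSystem T}

namespace Dat

variable (d : Dat p (S : Subgroup G) T E)
include d

theorem normalizerIn_T : normalizerIn T T = T :=
  le_antisymm inf_le_left (fun t ht => ⟨ht, Subgroup.le_normalizer ht⟩)

theorem autSyl : IsSylIn p (autInducedBy T T) (E.autGroup T) := by
  haveI : Finite T := Subtype.finite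
  have hfn : E.IsFullyNormalized T := by
    refine ⟨le_rfl, fun Q' _ => ?_⟩
    rw [normalizerIn_T d]
    exact card_normalizerIn_le Q'
  have := fullyAutomized_of_fullyNormalized (isPGroup_T d.hTS) d.sat hfn
  exact ((fullyAutomized_iff E T).1 this).2

/-- an `E`-automorphism of `T` is induced by an element of `N_G(T)` -/
theorem exists_conj_of_mem_autGroup {U : Subgroup G} (hU : U ≤ T) {κ : MulAut U}
    (hκ : κ ∈ E.autGroup U) :
    ∃ g ∈ Subgroup.normalizer (U : Set G), ∀ x : U, ((κ x : U) : G) = g * x * g⁻¹ := by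
  obtain ⟨g, hg⟩ := d.sub ((Helper87.mem_autGroup_iff hU).1 hκ)
  have hg' : ∀ x : U, ((κ x : U) : G) = g * x * g⁻¹ := by
    intro x
    rw [← hg x x.2, extAut_apply]
  exact ⟨g, mem_normalizer_of_aut κ hg', hg'⟩

/-- an element of `O_p(G)` inducing an `E`-automorphism on `T` induces an inner automorphism -/
theorem exists_inner_of_mem_pCore {s : G} (hs : s ∈ pCore p G)
    (hmor : Mor E T (fun x => s * x * s⁻¹)) : ∃ t ∈ T, ∀ w ∈ T, s * w * s⁻¹ = t * w * t⁻¹ := by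
  haveI : Finite T := Subtype.finite
  have hsN : s ∈ Subgroup.normalizer (T : Set G) := d.S_le_normalizer (pCore_le_S hs)
  have hNp : IsPGroup p ((autInducedBy (pCore p G) T ⊓ E.autGroup T : Subgroup (MulAut T))) :=
    (Helper87.isPGroup_autInducedBy (pCore_isPGroup (p := p) (G := G)) T).to_le inf_le_left
  have hconj : ∀ κ ∈ E.autGroup T, ∀ β ∈ (autInducedBy (pCore p G) T ⊓ E.autGroup T : Subgroup (MulAut T)),
      κ * β * κ⁻¹ ∈ (autInducedBy (pCore p G) T ⊓ E.autGroup T : Subgroup (MulAut T)) := by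
    intro κ hκ β hβ
    refine ⟨?_, Subgroup.mul_mem _ (Subgroup.mul_mem _ hκ hβ.2) (Subgroup.inv_mem _ hκ)⟩
    obtain ⟨g, hgN, hg⟩ := d.exists_conj_of_mem_autGroup le_rfl hκ
    obtain ⟨r, hr, hβr⟩ := Helper87.mem_autInducedBy_iff.1 hβ.1
    exact Helper87.mem_autInducedBy_iff.2
      ⟨g * r * g⁻¹, (pCore_normal p G).conj_mem r hr g, conj_conj_apply hg hβr⟩
  have hnorm : E.autGroup T ≤ Subgroup.normalizer
      ((autInducedBy (pCore p G) T ⊓ E.autGroup T : Subgroup (MulAut T)) : Set (MulAut T)) := by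
    intro κ hκ
    rw [Subgroup.mem_normalizer_iff]
    intro β
    constructor
    · exact fun hβ => hconj κ hκ β hβ
    · intro hβ
      have := hconj κ⁻¹ (Subgroup.inv_mem _ hκ) _ hβ
      have e : κ⁻¹ * (κ * β * κ⁻¹) * κ⁻¹⁻¹ = β := by group
      rwa [e] at this
  have hle := sylIn_normal_le d.autSyl inf_le_right hNp hnorm
  have hmem : conjAut T s hsN ∈ (autInducedBy (pCore p G) T ⊓ E.autGroup T : Subgroup (MulAut T)) := by
    refine ⟨conjAut_mem_autInducedBy hs hsN, ?_⟩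
    exact (Helper87.mem_autGroup_iff le_rfl).2
      (hmor.congr (fun x hx => (extAut_conjAut hsN hx).symm))
  obtain ⟨t, ht, e⟩ := Helper87.mem_autInducedBy_iff.1 (hle hmem)
  refine ⟨t, ht, fun w hw => ?_⟩
  have := e ⟨w, hw⟩
  rw [conjAut_apply] at this
  exact this

theorem Good.comm_mem_sup {x : G} (hx : Good (S : Subgroup G) T E x) {r : G} (hr : r ∈ pCore p G) :
    r⁻¹ * (x * r * x⁻¹) ∈ T ⊔ centralizerIn (S : Subgroup G) T := by
  have hrN : r⁻¹ ∈ Subgroup.normalizer (T : Set G) :=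
    Subgroup.inv_mem _ (d.S_le_normalizer (pCore_le_S hr))
  have h1 : Mor E T (fun w => (r⁻¹ * x * r) * w * (r⁻¹ * x * r)⁻¹) := by
    have := d.normAut le_rfl hrN hx.2.1 (fun w hw => (Subgroup.mem_normalizer_iff.1 hx.1 w).1 hw)
    exact this.congr (fun w _ => by group)
  have h2 : Mor E T (fun w => x⁻¹ * w * x) := d.mor_conj_inv le_rfl hx.1 hx.2.1
  have hx' : ∀ w ∈ T, x⁻¹ * w * x ∈ T := by
    intro w hw
    have := (Subgroup.mem_normalizer_iff.1 (Subgroup.inv_mem _ hx.1) w).1 hw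
    simpa using this
  have h3 : Mor E T (fun w => (r⁻¹ * (x * r * x⁻¹)) * w * (r⁻¹ * (x * r * x⁻¹))⁻¹) :=
    (h2.comp h1 hx').congr (fun w _ => by group)
  have hsR : r⁻¹ * (x * r * x⁻¹) ∈ pCore p G :=
    Subgroup.mul_mem _ (Subgroup.inv_mem _ hr) ((pCore_normal p G).conj_mem r hr x)
  obtain ⟨t, ht, e⟩ := d.exists_inner_of_mem_pCore hsR h3
  have hc : t⁻¹ * (r⁻¹ * (x * r * x⁻¹)) ∈ centralizerIn (S : Subgroup G) T := by
    refine ⟨Subgroup.mul_mem _ (Subgroup.inv_mem _ (d.hTS ht)) (pCore_le_S hsR), ?_⟩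
    show _ ∈ Subgroup.centralizer (T : Set G)
    rw [Subgroup.mem_centralizer_iff]
    intro w hw
    have := e w hw
    calc w * (t⁻¹ * (r⁻¹ * (x * r * x⁻¹)))
        = t⁻¹ * (t * w * t⁻¹) * (r⁻¹ * (x * r * x⁻¹)) := by group
      _ = t⁻¹ * ((r⁻¹ * (x * r * x⁻¹)) * w * (r⁻¹ * (x * r * x⁻¹))⁻¹) * (r⁻¹ * (x * r * x⁻¹)) := by
          rw [this]
      _ = t⁻¹ * (r⁻¹ * (x * r * x⁻¹)) * w := by group
  have e2 : r⁻¹ * (x * r * x⁻¹) = t * (t⁻¹ * (r⁻¹ * (x * r * x⁻¹))) := by group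
  rw [e2]
  exact Subgroup.mul_mem _ ((le_sup_left : T ≤ _) ht) ((le_sup_right : centralizerIn (S : Subgroup G) T ≤ _) hc)

theorem Good.comm_mem_Q {x : G} (hx : Good (S : Subgroup G) T E x) {s : G} (hsR : s ∈ pCore p G)
    (hs : s ∈ T ⊔ centralizerIn (S : Subgroup G) T) : x * s * x⁻¹ * s⁻¹ ∈ QQ p T := by
  have hCN : centralizerIn (S : Subgroup G) T ≤ Subgroup.normalizer (T : Set G) :=
    fun c hc => d.S_le_normalizer hc.1
  have hs' : s ∈ ((T ⊔ centralizerIn (S : Subgroup G) T : Subgroup G) : Set G) := hs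
  rw [Subgroup.coe_mul_of_right_le_normalizer_left T _ hCN] at hs'
  obtain ⟨t, ht, c, hc, rfl⟩ := hs'
  refine ⟨?_, Subgroup.mul_mem _ ((pCore_normal p G).conj_mem _ hsR x) (Subgroup.inv_mem _ hsR)⟩
  have h1 : x * t * x⁻¹ ∈ T := (Subgroup.mem_normalizer_iff.1 hx.1 t).1 ht
  have h2 : c * (c⁻¹ * (x * c * x⁻¹)) * c⁻¹ ∈ T := d.T_normal hc.1 (hx.2.2 c hc).1
  have e : x * (t * c) * x⁻¹ * (t * c)⁻¹ =
      (x * t * x⁻¹) * (c * (c⁻¹ * (x * c * x⁻¹)) * c⁻¹) * t⁻¹ := by group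
  rw [e]
  exact T.mul_mem (T.mul_mem h1 h2) (T.inv_mem ht)

/-- a good `p'`-element centralizes `O_p(G)/Q` -/
theorem Good.mem_DD {x : G} (hx : Good (S : Subgroup G) T E x) {m : ℕ} (hm : m.Coprime p)
    (hxm : x ^ m = 1) : x ∈ DD p T := by
  rw [d.mem_DD_iff]
  intro r hr
  have hsR : r⁻¹ * (x * r * x⁻¹) ∈ pCore p G :=
    Subgroup.mul_mem _ (Subgroup.inv_mem _ hr) ((pCore_normal p G).conj_mem r hr x)
  have hs2 := Good.comm_mem_sup d hx hr
  have hs3 := Good.comm_mem_Q d hx hsR hs2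
  haveI : (QQ p T).Normal := ⟨fun y hy g => d.Q_normal g hy⟩
  obtain ⟨k, hk⟩ := pCore_pow (p := p) _ hsR
  have key : (QuotientGroup.mk' (QQ p T)) (r⁻¹ * (x * r * x⁻¹)) = 1 := by
    apply coprime_fix (x := QuotientGroup.mk' (QQ p T) x) (r := QuotientGroup.mk' (QQ p T) r) hm
      (k := k)
    · rw [← map_pow, hxm, map_one]
    · rw [← map_inv, ← map_mul, ← map_mul, ← map_mul]
      congr 1
      group
    · have h4 : (QuotientGroup.mk' (QQ p T)) (x * (r⁻¹ * (x * r * x⁻¹)) * x⁻¹ * (r⁻¹ * (x * r * x⁻¹))⁻¹) = 1 :=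
        (QuotientGroup.eq_one_iff _).2 hs3
      rw [map_mul, map_inv] at h4
      rw [← map_inv, ← map_mul, ← map_mul]
      exact mul_inv_eq_one.1 h4
    · rw [← map_pow, hk, map_one]
  have hsQ : r⁻¹ * (x * r * x⁻¹) ∈ QQ p T := (QuotientGroup.eq_one_iff _).1 key
  have := d.Q_normal r hsQ
  have e : r * (r⁻¹ * (x * r * x⁻¹)) * r⁻¹ = x * r * x⁻¹ * r⁻¹ := by group
  rwa [e] at this

/-- a good `p`-element acts on `T` as an element of `D` -/
theorem Good.pPart {z : G} (hz : Good (S : Subgroup G) T E z) {k : ℕ} (hzk : z ^ (p ^ k) = 1) :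
    ∃ y' ∈ DD p T, ∀ x ∈ T, y' * x * y'⁻¹ = z * x * z⁻¹ := by
  haveI : Finite T := Subtype.finite
  have hα : conjAut T z hz.1 ∈ E.autGroup T := by
    rw [Helper87.mem_autGroup_iff le_rfl]
    exact hz.2.1.congr (fun x hx => (extAut_conjAut hz.1 hx).symm)
  have hpow : (conjAut T z hz.1) ^ (p ^ k) = 1 := by
    ext w
    have := conj_pow_of_conj (conjAut T z hz.1) z (fun x => conjAut_apply T z hz.1 x) (p ^ k) w
    rw [this, hzk]
    simp
  have hpg : IsPGroup p (Subgroup.zpowers (conjAut T z hz.1)) := by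
    obtain ⟨j, -, hj⟩ := (Nat.dvd_prime_pow hp.out).1 (orderOf_dvd_of_pow_eq_one hpow)
    apply IsPGroup.of_card (n := j)
    rw [Nat.card_zpowers, hj]
  have hle : Subgroup.zpowers (conjAut T z hz.1) ≤ E.autGroup T := by
    rw [Subgroup.zpowers_le]; exact hα
  obtain ⟨κ, hκ, hsub⟩ := d.autSyl.exists_conj_ge hle hpg
  obtain ⟨β, hβ, e⟩ := hsub (Subgroup.mem_zpowers _)
  obtain ⟨g, hgN, hg⟩ := d.exists_conj_of_mem_autGroup le_rfl hκ
  obtain ⟨t, ht, hβt⟩ := Helper87.mem_autInducedBy_iff.1 hβ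
  refine ⟨g * t * g⁻¹, d.DD_normal g (d.T_le_DD ht), fun x hx => ?_⟩
  have h1 := conj_conj_apply hg hβt ⟨x, hx⟩
  have e' : κ * β * κ⁻¹ = conjAut T z hz.1 := by
    rw [← e]; rfl
  rw [e', conjAut_apply] at h1
  exact h1.symm

/-- **key step**: every `E`-automorphism of `Q = T ∩ O_p(G)` is induced by an element of `D = C_G(O_p(G)/Q)` -/
theorem exists_DD_conj {g : G} (hg : Mor E (QQ p T) (fun x => g * x * g⁻¹)) :
    ∃ y ∈ DD p T, ∀ x ∈ QQ p T, y * x * y⁻¹ = g * x * g⁻¹ := by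
  haveI : Finite T := Subtype.finite
  obtain ⟨k, hk, hkg⟩ := d.exists_mul_mem_normalizer g
  have hmorn : Mor E (QQ p T) (fun x => (k * g) * x * (k * g)⁻¹) :=
    (hg.comp hk.2 (fun x hx => d.Q_normal g hx)).congr (fun x _ => by group)
  obtain ⟨f, hf, hfQ⟩ := d.exists_extension le_rfl hkg hmorn
  obtain ⟨m, hm⟩ := d.sub hf
  have hmN : m ∈ Subgroup.normalizer (T : Set G) :=
    mem_normalizer_of_conj_mem (fun x hx => by rw [← hm x hx]; exact hf.mem hx)
  have hmorm : Mor E T (fun x => m * x * m⁻¹) := hf.congr hm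
  obtain ⟨y, hyN, hyT, hyc⟩ := d.ext hmN hmorm
  have hgood : Good (S : Subgroup G) T E y :=
    ⟨hyN, hmorm.congr (fun x hx => (hyT x hx).symm), hyc⟩
  obtain ⟨N₁, N₂, m', k', hm', h1, h2, h3⟩ := exists_pq_decomp p y
  have hxD : y ^ N₁ ∈ DD p T := Good.mem_DD d (hgood.pow N₁) hm' h1
  obtain ⟨y', hy'D, hy'⟩ := Good.pPart d (hgood.pow N₂) h2
  refine ⟨k⁻¹ * (y' * y ^ N₁), Subgroup.mul_mem _ (Subgroup.inv_mem _ hk.1) (Subgroup.mul_mem _ hy'D hxD),
    fun w hw => ?_⟩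
  have hwT : w ∈ T := QQ_le T hw
  have hw1 : y ^ N₁ * w * (y ^ N₁)⁻¹ ∈ T := QQ_le T (d.Q_normal _ hw)
  have e1 : y * w * y⁻¹ = y' * (y ^ N₁ * w * (y ^ N₁)⁻¹) * y'⁻¹ := by
    rw [hy' _ hw1]
    conv_lhs => rw [h3]
    group
  have e2 : y * w * y⁻¹ = (k * g) * w * (k * g)⁻¹ := by
    rw [hyT w hwT, ← hm w hwT, hfQ w hw]
  have e3 : g * w * g⁻¹ = k⁻¹ * ((k * g) * w * (k * g)⁻¹) * k := by group
  rw [e3, ← e2, e1]
  group

theorem exists_DE_conj {g : G} (hg : Mor E (QQ p T) (fun x => g * x * g⁻¹)) :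
    ∃ y ∈ DE E p, ∀ x ∈ QQ p T, y * x * y⁻¹ = g * x * g⁻¹ := by
  obtain ⟨y, hy, e⟩ := d.exists_DD_conj hg
  exact ⟨y, ⟨hy, hg.congr (fun x hx => (e x hx).symm)⟩, e⟩

end Dat

end Cfsg.Agent.Helper86.NormSub
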