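import Mathlib
import Cfsg.Agent.Lib.Helper86.NsE
import Cfsg.Agent.Lib.Helper87.FusionFactor

set_option autoImplicit false
set_option linter.unusedVariables false
set_option linter.unusedSectionVars false
set_option linter.style.haveILetI false

/-! # Normal subsystems of the fusion system of a strictly p-constrained group: the subgroup `H = T O^p(D_E)` -/

namespace Cfsg.Agent.Helper86.NormSub

open Cfsg Cfsg.FusionSystem Cfsg.Agent.Helper87 Cfsg.Agent.Helper84

variable {G : Type*} [Group G] [Finite G] {p : ℕ} [hp : Fact p.Prime]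

/-- `N = O^p(D_E)` -/
def NN {T : Subgroup G} (E : FusionSystem T) (p : ℕ) [Fact p.Prime] : Subgroup G :=
  (pResidual p ↥(DE E p)).map (DE E p).subtype

/-- `H = T O^p(D_E)` -/
def HH {T : Subgroup G} (E : FusionSystem T) (p : ℕ) [Fact p.Prime] : Subgroup G := T ⊔ NN E p

theorem NN_le_DE {T : Subgroup G} (E : FusionSystem T) : NN E p ≤ DE E p :=
  Cfsg.Agent.Helper47.map_pResidual_le _

theorem NN_eq_closure {T : Subgroup G} (E : FusionSystem T) :
    NN E p = Subgroup.closure {g : G | g ∈ DE E p ∧ (orderOf g).Coprime p} :=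
  Cfsg.Agent.Helper47.map_pResidual_eq_closure _

theorem mem_NN_of_coprime {T : Subgroup G} {E : FusionSystem T} {g : G} (hg : g ∈ DE E p)
    (hc : (orderOf g).Coprime p) : g ∈ NN E p := by
  rw [NN_eq_closure]
  exact Subgroup.subset_closure ⟨hg, hc⟩

theorem NN_le_HH {T : Subgroup G} (E : FusionSystem T) : NN E p ≤ HH E p := le_sup_right

theorem T_le_HH {T : Subgroup G} (E : FusionSystem T) : T ≤ HH E p := le_sup_left

variable {S : Sylow p G} {T : Subgroup G} {E : FusionSystem T}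

namespace Dat

variable (d : Dat p (S : Subgroup G) T E)
include d

theorem HH_le_DE : HH E p ≤ DE E p := sup_le d.T_le_DE (NN_le_DE E)

theorem NN_normal (g : G) {x : G} (hx : x ∈ NN E p) : g * x * g⁻¹ ∈ NN E p := by
  rw [NN_eq_closure] at hx ⊢
  induction hx using Subgroup.closure_induction with
  | mem y hy =>
    apply Subgroup.subset_closure
    refine ⟨d.DE_normal g hy.1, ?_⟩
    have : orderOf (g * y * g⁻¹) = orderOf y := (MulAut.conj g).orderOf_eq y
    rw [this]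
    exact hy.2
  | one => simp
  | mul a b _ _ iha ihb =>
    have e : g * (a * b) * g⁻¹ = (g * a * g⁻¹) * (g * b * g⁻¹) := by group
    rw [e]
    exact Subgroup.mul_mem _ iha ihb
  | inv a _ iha =>
    have e : g * a⁻¹ * g⁻¹ = (g * a * g⁻¹)⁻¹ := by group
    rw [e]
    exact Subgroup.inv_mem _ iha

theorem DE_mem_normalizer (g : G) : g ∈ Subgroup.normalizer (DE E p : Set G) := by
  rw [Subgroup.mem_normalizer_iff]
  intro y
  constructor
  · exact fun hy => d.DE_normal g hy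
  · intro hy
    have := d.DE_normal g⁻¹ hy
    have e : g⁻¹ * (g * y * g⁻¹) * g⁻¹⁻¹ = y := by group
    rwa [e] at this

theorem sylP : IsSylIn p ((S : Subgroup G) ⊓ DE E p) (DE E p) :=
  IsSylIn.inf_normal (sylow_isSylIn_top S) le_top (fun x _ => d.DE_mem_normalizer x)

/-- `D_E = O^p(D_E) (S ∩ D_E)` -/
theorem exists_NN_mul {k : G} (hk : k ∈ DE E p) :
    ∃ n ∈ NN E p, ∃ y ∈ (S : Subgroup G) ⊓ DE E p, k = n * y := by
  obtain ⟨R, hR⟩ := d.sylP.exists_sylow
  have h1 := Cfsg.Agent.Helper47.sylow_sup_pResidual_eq_top (p := p) R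
  haveI : (pResidual p ↥(DE E p)).Normal := Cfsg.Agent.Helper47.pResidual_normal
  have h2 : (⟨k, hk⟩ : DE E p) ∈ ((pResidual p ↥(DE E p) ⊔ (R : Subgroup (DE E p)) : Subgroup (DE E p)) : Set (DE E p)) := by
    rw [sup_comm, h1]; trivial
  rw [Subgroup.normal_mul] at h2
  obtain ⟨n, hn, y, hy, e⟩ := h2
  have hy' : (y : G) ∈ (S : Subgroup G) ⊓ DE E p := by
    have : y ∈ ((S : Subgroup G) ⊓ DE E p).subgroupOf (DE E p) := by rw [← hR]; exact hy
    exact this
  refine ⟨n, ⟨n, hn, rfl⟩, y, hy', ?_⟩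
  have := congrArg Subtype.val e
  simpa using this.symm

theorem HH_normal (g : G) {x : G} (hx : x ∈ HH E p) : g * x * g⁻¹ ∈ HH E p := by
  have hmap : (HH E p).map (MulAut.conj g).toMonoidHom ≤ HH E p := by
    unfold HH
    rw [Subgroup.map_sup]
    apply sup_le
    · rintro _ ⟨t, ht, rfl⟩
      show g * t * g⁻¹ ∈ T ⊔ NN E p
      obtain ⟨k, hk, hkg⟩ := d.exists_mul_mem_normalizer g
      have ht' : (k * g) * t * (k * g)⁻¹ ∈ T := (Subgroup.mem_normalizer_iff.1 hkg t).1 ht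
      obtain ⟨n, hn, y, hy, e⟩ := d.exists_NN_mul (Subgroup.inv_mem _ hk)
      have hy' : y * ((k * g) * t * (k * g)⁻¹) * y⁻¹ ∈ T := d.T_normal hy.1 ht'
      have e2 : g * t * g⁻¹ = n * (y * ((k * g) * t * (k * g)⁻¹) * y⁻¹) * n⁻¹ := by
        have e3 : g * t * g⁻¹ = k⁻¹ * ((k * g) * t * (k * g)⁻¹) * k⁻¹⁻¹ := by group
        rw [e3, e]; group
      rw [e2]
      have hnH : n ∈ T ⊔ NN E p := (le_sup_right : NN E p ≤ _) hn
      exact Subgroup.mul_mem _ (Subgroup.mul_mem _ hnH ((le_sup_left : T ≤ _) hy')) (Subgroup.inv_mem _ hnH)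
    · rintro _ ⟨n, hn, rfl⟩
      exact (le_sup_right : NN E p ≤ _) (d.NN_normal g hn)
  exact hmap ⟨x, hx, rfl⟩

theorem autSylQ : IsSylIn p (autInducedBy T (QQ p T)) (E.autGroup (QQ p T)) := by
  haveI : Finite T := Subtype.finite
  have := fullyAutomized_of_fullyNormalized (isPGroup_T d.hTS) d.sat d.fullyNormalized_Q
  exact ((fullyAutomized_iff E (QQ p T)).1 this).2

/-- `S ∩ D_E = T C_D(Q)` -/
theorem exists_T_mul_CC {s : G} (hs : s ∈ (S : Subgroup G) ⊓ DE E p) :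
    ∃ t ∈ T, ∃ c ∈ CC p T, s = t * c := by
  haveI : Finite T := Subtype.finite
  haveI : Finite (QQ p T) := Subtype.finite
  have hle : autInducedBy ((S : Subgroup G) ⊓ DE E p) (QQ p T) ≤ E.autGroup (QQ p T) := by
    unfold autInducedBy
    rw [Subgroup.closure_le]
    rintro α ⟨g, hg, e⟩
    apply (Helper87.mem_autGroup_iff (QQ_le T)).2
    apply hg.2.2.congr
    intro x hx
    rw [extAut_mem α hx, e]
  have hpg : IsPGroup p (autInducedBy ((S : Subgroup G) ⊓ DE E p) (QQ p T)) :=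
    Helper87.isPGroup_autInducedBy (S.isPGroup'.to_le inf_le_left) _
  have hcard := d.autSylQ.card_le hle hpg
  have hTle : autInducedBy T (QQ p T) ≤ autInducedBy ((S : Subgroup G) ⊓ DE E p) (QQ p T) := by
    unfold autInducedBy
    apply Subgroup.closure_mono
    rintro α ⟨g, hg, e⟩
    exact ⟨g, ⟨d.hTS hg, d.T_le_DE hg⟩, e⟩
  have heq := Subgroup.eq_of_le_of_card_ge hTle hcard
  have hsN := d.mem_normalizer_Q s
  have hmem : conjAut (QQ p T) s hsN ∈ autInducedBy T (QQ p T) := by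
    rw [heq]
    exact conjAut_mem_autInducedBy hs hsN
  obtain ⟨t, ht, e⟩ := Helper87.mem_autInducedBy_iff.1 hmem
  refine ⟨t, ht, t⁻¹ * s, ⟨Subgroup.mul_mem _ (Subgroup.inv_mem _ (d.T_le_DD ht)) hs.2.1, ?_⟩, by group⟩
  show t⁻¹ * s ∈ Subgroup.centralizer (QQ p T : Set G)
  rw [Subgroup.mem_centralizer_iff]
  intro x hx
  have h1 := e ⟨x, hx⟩
  rw [conjAut_apply] at h1
  calc x * (t⁻¹ * s) = t⁻¹ * (t * x * t⁻¹) * s := by group
    _ = t⁻¹ * (s * x * s⁻¹) * s := by rw [← h1]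
    _ = t⁻¹ * s * x := by group

/-- commutators of `S ∩ D_E` with `D_E` inside `S` lie in `T` -/
theorem comm_mem_T
    (hG : Subgroup.centralizer ((pCore p G : Subgroup G) : Set G) ≤ pCore p G)
    {x g : G} (hx : x ∈ (S : Subgroup G) ⊓ DE E p) (hg : g ∈ DE E p)
    (hgx : g * x * g⁻¹ ∈ (S : Subgroup G)) : x⁻¹ * (g * x * g⁻¹) ∈ T := by
  obtain ⟨t, ht, c, hc, rfl⟩ := d.exists_T_mul_CC hx
  have hz := d.comm_mem_ZQ hG hg.1 hc
  have hcS : c ∈ (S : Subgroup G) := pCore_le_S (d.CC_le_pCore hG hc)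
  have hzS : g * c * g⁻¹ * c⁻¹ ∈ (S : Subgroup G) := d.hTS (QQ_le T hz.1)
  have hgt : g * t * g⁻¹ ∈ (S : Subgroup G) := by
    have e : g * t * g⁻¹ = (g * (t * c) * g⁻¹) * ((g * c * g⁻¹ * c⁻¹) * c)⁻¹ := by group
    rw [e]
    exact Subgroup.mul_mem _ hgx (Subgroup.inv_mem _ (Subgroup.mul_mem _ hzS hcS))
  have hgtT : g * t * g⁻¹ ∈ T := by
    have hle : Subgroup.zpowers t ≤ T := by rw [Subgroup.zpowers_le]; exact ht
    apply d.sc hle _ t (Subgroup.mem_zpowers t)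
    intro w hw
    obtain ⟨j, rfl⟩ := Subgroup.mem_zpowers_iff.1 hw
    have e : g * t ^ j * g⁻¹ = (g * t * g⁻¹) ^ j := by
      simp
    rw [e]
    exact Subgroup.zpow_mem _ hgt j
  have h1 : t⁻¹ * (g * t * g⁻¹) * (g * c * g⁻¹ * c⁻¹) ∈ T :=
    T.mul_mem (T.mul_mem (T.inv_mem ht) hgtT) (QQ_le T hz.1)
  have h2 := d.T_normal (Subgroup.inv_mem _ hcS) h1
  have e : (t * c)⁻¹ * (g * (t * c) * g⁻¹) =
      c⁻¹ * (t⁻¹ * (g * t * g⁻¹) * (g * c * g⁻¹ * c⁻¹)) * c⁻¹⁻¹ := by group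
  rw [e]
  exact h2

/-- hyperfocal subgroup theorem applied to `D_E`: `S ∩ O^p(D_E) ≤ T` -/
theorem S_inf_NN_le
    (hG : Subgroup.centralizer ((pCore p G : Subgroup G) : Set G) ≤ pCore p G) :
    (S : Subgroup G) ⊓ NN E p ≤ T := by
  obtain ⟨R, hR⟩ := d.sylP.exists_sylow
  have h1 := inf_pResidual_le_hyperfocal p R
  have h2 : (groupFusionSystem (R : Subgroup (DE E p))).hyperfocalSubgroup p ≤ T.subgroupOf (DE E p) := by
    apply Helper87.hyperfocal_le
    intro P₁ hP₁ α hα _ x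
    obtain ⟨-, -, g, hg⟩ := gfs_mor_iff'.1 ((Helper87.mem_autGroup_iff hP₁).1 hα)
    have hx : (x : DE E p) ∈ (R : Subgroup (DE E p)) := hP₁ x.2
    rw [hR] at hx
    have hαx : ((α x : P₁) : DE E p) ∈ (R : Subgroup (DE E p)) := hP₁ (α x).2
    rw [hR] at hαx
    have e := hg x x.2
    rw [extAut_apply] at e
    rw [e] at hαx ⊢
    have hx' : ((x : DE E p) : G) ∈ (S : Subgroup G) ⊓ DE E p := hx
    have hgx : (g : G) * ((x : DE E p) : G) * (g : G)⁻¹ ∈ (S : Subgroup G) := by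
      have : ((g * (x : DE E p) * g⁻¹ : DE E p) : G) ∈ (S : Subgroup G) ⊓ DE E p := hαx
      exact this.1
    have := d.comm_mem_T hG hx' g.2 hgx
    exact this
  intro y hy
  have hyD : y ∈ DE E p := NN_le_DE E hy.2
  obtain ⟨y', hy', e⟩ := hy.2
  have e' : (y' : G) = y := e
  have hmem : y' ∈ (R : Subgroup (DE E p)) ⊓ pResidual p ↥(DE E p) := by
    refine ⟨?_, hy'⟩
    rw [hR]
    show (y' : G) ∈ (S : Subgroup G) ⊓ DE E p
    rw [e']
    exact ⟨hy.1, hyD⟩
  have := h2 (h1 hmem)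
  have h3 : (y' : G) ∈ T := this
  rw [e'] at h3
  exact h3

/-- `T` is a Sylow `p`-subgroup of `H` -/
theorem sylT
    (hG : Subgroup.centralizer ((pCore p G : Subgroup G) : Set G) ≤ pCore p G) :
    IsSylIn p T (HH E p) := by
  have h1 : IsSylIn p (((S : Subgroup G) ⊓ DE E p) ⊓ HH E p) (HH E p) := by
    apply IsSylIn.inf_normal d.sylP d.HH_le_DE
    intro x _
    rw [Subgroup.mem_normalizer_iff]
    intro y
    constructor
    · exact fun hy => d.HH_normal x hy
    · intro hy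
      have := d.HH_normal x⁻¹ hy
      have e : x⁻¹ * (x * y * x⁻¹) * x⁻¹⁻¹ = y := by group
      rwa [e] at this
  have h2 : ((S : Subgroup G) ⊓ DE E p) ⊓ HH E p = T := by
    apply le_antisymm
    · intro x hx
      haveI : (NN E p).Normal := ⟨fun y hy g => d.NN_normal g hy⟩
      have hx2 : x ∈ ((T ⊔ NN E p : Subgroup G) : Set G) := hx.2
      rw [Subgroup.mul_normal] at hx2
      obtain ⟨t, ht, n, hn, rfl⟩ := hx2
      have hnS : n ∈ (S : Subgroup G) := by
        have e : n = t⁻¹ * (t * n) := by group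
        rw [e]
        exact Subgroup.mul_mem _ (Subgroup.inv_mem _ (d.hTS ht)) hx.1.1
      exact T.mul_mem ht (d.S_inf_NN_le hG ⟨hnS, hn⟩)
    · intro t ht
      exact ⟨⟨d.hTS ht, d.T_le_DE ht⟩, T_le_HH E ht⟩
  rw [h2] at h1
  exact h1

end Dat

end Cfsg.Agent.Helper86.NormSub
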