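import Mathlib
import Cfsg.Agent.Lib.Helper86.NsF
import Cfsg.Agent.Lib.Helper86.RelGrpFus

set_option autoImplicit false
set_option linter.unusedVariables false
set_option linter.unusedSectionVars false
set_option linter.style.haveILetI false

/-! # Normal subsystems of the fusion system of a strictly p-constrained group: `E = F_T(H)` -/

namespace Cfsg.Agent.Helper86.NormSub

open Cfsg Cfsg.FusionSystem Cfsg.Agent.Helper87 Cfsg.Agent.Helper84

variable {G : Type*} [Group G] [Finite G] {p : ℕ} [hp : Fact p.Prime]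

theorem conjAut_inv_apply {U : Subgroup G} {b : G} (hb : b ∈ Subgroup.normalizer (U : Set G)) (x : U) :
    (((conjAut U b hb)⁻¹ x : U) : G) = b⁻¹ * x * b⁻¹⁻¹ := by
  have h2 := conjAut_apply U b hb ((conjAut U b hb)⁻¹ x)
  have h3 : conjAut U b hb ((conjAut U b hb)⁻¹ x) = x := by simp
  rw [h3] at h2
  rw [h2]; group

/-- a normal subgroup of `S` meeting `N_S(R)` inside `R` lies in `R` -/
theorem le_of_normalizerIn_inf_le' {S : Subgroup G} (hS : IsPGroup p S)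
    {R B : Subgroup G} (hR : R ≤ S) (hB : B ≤ S) (hBn : S ≤ Subgroup.normalizer (B : Set G))
    (h : normalizerIn S R ⊓ B ≤ R) : B ≤ R := by
  by_contra hBR
  haveI : Finite S := Subtype.finite
  have hM : B ⊔ R ≤ S := sup_le hB hR
  haveI : Finite ↥(B ⊔ R) := Helper87.finite_of_le hM
  have hMp : IsPGroup p ↥(B ⊔ R) := hS.to_le hM
  have hne : R ≠ B ⊔ R := by
    intro e
    apply hBR
    rw [e]
    exact le_sup_left
  obtain ⟨n, hn, hnR⟩ := exists_normalizer_not_mem (S := B ⊔ R) hMp (le_sup_right : R ≤ B ⊔ R) hne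
  have hnT : n ∈ ((B ⊔ R : Subgroup G) : Set G) := hn.1
  rw [Subgroup.coe_mul_of_right_le_normalizer_left B R (hR.trans hBn)] at hnT
  obtain ⟨b, hb, r, hr, rfl⟩ := hnT
  apply hnR
  have hbn : b ∈ Subgroup.normalizer (R : Set G) := by
    have h1 : (b * r) * r⁻¹ ∈ Subgroup.normalizer (R : Set G) :=
      Subgroup.mul_mem _ hn.2 (Subgroup.inv_mem _ (Subgroup.le_normalizer hr))
    rwa [mul_inv_cancel_right] at h1
  exact R.mul_mem (h ⟨⟨hB hb, hbn⟩, hb⟩) hr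

variable {S : Sylow p G} {T : Subgroup G} {E : FusionSystem T}

namespace Dat

variable (d : Dat p (S : Subgroup G) T E)
include d

/-- `Q` lies in every centric radical subgroup of a system over `T` all of whose maps are induced by `G` -/
theorem Q_le_of_centric_radical (F' : FusionSystem T)
    (hsub : ∀ {P : Subgroup G} {f : G → G}, Mor F' P f → ∃ g : G, ∀ x ∈ P, f x = g * x * g⁻¹)
    {U : Subgroup G} (hcen : F'.IsCentric U) (hrad : F'.IsRadical p U) : QQ p T ≤ U := by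
  haveI : Finite T := Subtype.finite
  have hU : U ≤ T := hcen.1
  apply le_of_normalizerIn_inf_le' (isPGroup_T d.hTS) hU (QQ_le T) (fun t _ => d.mem_normalizer_Q t)
  intro q hq
  have hqN : q ∈ Subgroup.normalizer (U : Set G) := hq.1.2
  have hN : autInducedBy (QQ p T) U ≤ F'.autGroup U := by
    refine le_trans ?_ (Helper87.autInducedBy_le_autGroup F' hU)
    unfold autInducedBy
    apply Subgroup.closure_mono
    rintro α ⟨g, hg, e⟩
    exact ⟨g, QQ_le T hg, e⟩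
  have hNp : IsPGroup p (autInducedBy (QQ p T) U) :=
    Helper87.isPGroup_autInducedBy ((isPGroup_T d.hTS).to_le (QQ_le T)) U
  have hn : ∀ a ∈ F'.autGroup U, ∀ b ∈ autInducedBy (QQ p T) U, a * b * a⁻¹ ∈ autInducedBy (QQ p T) U := by
    intro a ha b hb
    obtain ⟨g, hg⟩ := hsub ((Helper87.mem_autGroup_iff hU).1 ha)
    have hg' : ∀ x : U, ((a x : U) : G) = g * x * g⁻¹ := by
      intro x
      rw [← hg x x.2, extAut_apply]
    obtain ⟨r, hr, hbr⟩ := Helper87.mem_autInducedBy_iff.1 hb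
    exact Helper87.mem_autInducedBy_iff.2 ⟨g * r * g⁻¹, d.Q_normal g hr, conj_conj_apply hg' hbr⟩
  have hle := le_inn_of_normal_pGroup hrad hN hNp hn
  exact mem_of_conjAut_mem_inn hcen hq.1.1 hqN (hle (conjAut_mem_autInducedBy hq.2 hqN))

/-- an element of `C_G(Q)` normalizing `U ≥ Q` induces on `U` an automorphism of `p`-power order -/
theorem conjAut_pow_card
    (hG : Subgroup.centralizer ((pCore p G : Subgroup G) : Set G) ≤ pCore p G)
    {U : Subgroup G} (hQU : QQ p T ≤ U) (hU : U ≤ T) {b : G}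
    (hbN : b ∈ Subgroup.normalizer (U : Set G)) (hbC : b ∈ Subgroup.centralizer (QQ p T : Set G)) :
    (conjAut U b hbN) ^ (Nat.card (QQ p T)) = 1 := by
  ext x
  have h1 := conj_pow_of_conj (conjAut U b hbN) b (fun y => conjAut_apply U b hbN y) (Nat.card (QQ p T)) x
  rw [h1]
  have hbx : b * x * b⁻¹ ∈ U := (Subgroup.mem_normalizer_iff.1 hbN x).1 x.2
  have hs : (x : G)⁻¹ * (b * x * b⁻¹) ∈ QQ p T := by
    apply d.centralizerIn_Q_le hG
    refine ⟨T.mul_mem (T.inv_mem (hU x.2)) (hU hbx), ?_⟩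
    have e : (x : G)⁻¹ * (b * x * b⁻¹) = ((x : G)⁻¹ * b * (x : G)⁻¹⁻¹) * b⁻¹ := by group
    rw [e]
    exact Subgroup.mul_mem _ (d.cenQ_normal _ hbC) (Subgroup.inv_mem _ hbC)
  have hr : b * x * b⁻¹ = x * ((x : G)⁻¹ * (b * x * b⁻¹)) := by group
  have hs' : b * ((x : G)⁻¹ * (b * x * b⁻¹)) * b⁻¹ = (x : G)⁻¹ * (b * x * b⁻¹) := by
    have := Subgroup.mem_centralizer_iff.1 hbC _ hs
    rw [← this]; group
  rw [conj_pow_mul hr hs']
  have h2 : ((x : G)⁻¹ * (b * x * b⁻¹)) ^ (Nat.card (QQ p T)) = 1 := by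
    have := pow_card_eq_one' (G := QQ p T) (x := ⟨_, hs⟩)
    exact congrArg Subtype.val this
  rw [h2, mul_one]
  rfl

theorem coprime_card_Q {m : ℕ} (hm : m.Coprime p) : Nat.Coprime (Nat.card (QQ p T)) m := by
  have hQp : IsPGroup p (QQ p T) := (isPGroup_T d.hTS).to_le (QQ_le T)
  obtain ⟨j, hj⟩ := (IsPGroup.iff_card (p := p)).1 hQp
  rw [hj]
  exact Nat.Coprime.pow_left j hm.symm

/-- `E ⊆ F_T(H)` -/
theorem E_le
    (hG : Subgroup.centralizer ((pCore p G : Subgroup G) : Set G) ≤ pCore p G)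
    {P : Subgroup G} {f : G → G} (hf : Mor E P f) :
    Mor (fusionSystemOfSubgroup (HH E p) T (T_le_HH E)) P f := by
  haveI : Finite T := Subtype.finite
  refine Helper87.alperin (isPGroup_T d.hTS) d.sat _
    (alperinClosed_mor E (fusionSystemOfSubgroup (HH E p) T (T_le_HH E))) ?_ P f hf
  intro U hfn hcen hrad α hα
  have hU : U ≤ T := hcen.1
  haveI : Finite U := Helper87.finite_of_le hU
  have hsyl : IsSylIn p (autInducedBy T U) (E.autGroup U) :=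
    ((fullyAutomized_iff E U).1 (fullyAutomized_of_fullyNormalized (isPGroup_T d.hTS) d.sat hfn)).2
  have hQU : QQ p T ≤ U := d.Q_le_of_centric_radical E d.sub hcen hrad
  suffices h : E.autGroup U ≤ (fusionSystemOfSubgroup (HH E p) T (T_le_HH E)).autGroup U from
    (Helper87.mem_autGroup_iff hU).1 (h hα)
  apply le_of_sylow_of_coprime hsyl (Helper87.autInducedBy_le_autGroup _ hU)
  intro α hα hcop
  obtain ⟨g, hgN, hg⟩ := d.exists_conj_of_mem_autGroup hU hα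
  have hmorU : Mor E U (fun x => g * x * g⁻¹) :=
    ((Helper87.mem_autGroup_iff hU).1 hα).congr (fun x hx => by rw [extAut_mem α hx, hg])
  obtain ⟨d₁, hd₁, e₁⟩ := d.exists_DE_conj (hmorU.restrict hQU)
  -- `b = g d₁⁻¹` centralizes `Q`
  have hbC : g * d₁⁻¹ ∈ Subgroup.centralizer (QQ p T : Set G) := by
    rw [Subgroup.mem_centralizer_iff]
    intro q hq
    have hq' : d₁⁻¹ * q * d₁ ∈ QQ p T := by
      have := d.Q_normal d₁⁻¹ hq
      simpa using this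
    have h1 := e₁ _ hq'
    have e2 : d₁ * (d₁⁻¹ * q * d₁) * d₁⁻¹ = q := by group
    rw [e2] at h1
    calc q * (g * d₁⁻¹) = (g * (d₁⁻¹ * q * d₁) * g⁻¹) * (g * d₁⁻¹) := by rw [← h1]
      _ = g * d₁⁻¹ * q := by group
  -- `d₁` normalizes `U`
  have hd₁U : ∀ u ∈ U, d₁ * u * d₁⁻¹ ∈ U := by
    have hc' : ∀ u ∈ U, (g * d₁⁻¹) * (d₁ * u * d₁⁻¹) * (g * d₁⁻¹)⁻¹ * (d₁ * u * d₁⁻¹)⁻¹ ∈ CC p T := by
      intro u hu
      have hy : d₁ * u * d₁⁻¹ ∈ DE E p :=
        Subgroup.mul_mem _ (Subgroup.mul_mem _ hd₁ (d.T_le_DE (hU hu))) (Subgroup.inv_mem _ hd₁)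
      refine ⟨Subgroup.mul_mem _ (d.DD_normal _ hy.1) (Subgroup.inv_mem _ hy.1), ?_⟩
      have e : (g * d₁⁻¹) * (d₁ * u * d₁⁻¹) * (g * d₁⁻¹)⁻¹ * (d₁ * u * d₁⁻¹)⁻¹ =
          (g * d₁⁻¹) * ((d₁ * u * d₁⁻¹) * (g * d₁⁻¹)⁻¹ * (d₁ * u * d₁⁻¹)⁻¹) := by group
      rw [e]
      exact Subgroup.mul_mem _ hbC (d.cenQ_normal _ (Subgroup.inv_mem _ hbC))
    have hgu : ∀ u ∈ U, g * u * g⁻¹ ∈ U := fun u hu => (Subgroup.mem_normalizer_iff.1 hgN u).1 hu
    have hyS : ∀ u ∈ U, d₁ * u * d₁⁻¹ ∈ (S : Subgroup G) := by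
      intro u hu
      have hcS := pCore_le_S (S := S) (d.CC_le_pCore hG (hc' u hu))
      have e : d₁ * u * d₁⁻¹ = ((g * d₁⁻¹) * (d₁ * u * d₁⁻¹) * (g * d₁⁻¹)⁻¹ * (d₁ * u * d₁⁻¹)⁻¹)⁻¹ *
          (g * u * g⁻¹) := by group
      rw [e]
      exact Subgroup.mul_mem _ (Subgroup.inv_mem _ hcS) (d.hTS (hU (hgu u hu)))
    have hyT := d.sc hU hyS
    intro u hu
    have hcT : (g * d₁⁻¹) * (d₁ * u * d₁⁻¹) * (g * d₁⁻¹)⁻¹ * (d₁ * u * d₁⁻¹)⁻¹ ∈ T := by
      have e : (g * d₁⁻¹) * (d₁ * u * d₁⁻¹) * (g * d₁⁻¹)⁻¹ * (d₁ * u * d₁⁻¹)⁻¹ =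
          (g * u * g⁻¹) * (d₁ * u * d₁⁻¹)⁻¹ := by group
      rw [e]
      exact T.mul_mem (hU (hgu u hu)) (T.inv_mem (hyT u hu))
    have hcQ : (g * d₁⁻¹) * (d₁ * u * d₁⁻¹) * (g * d₁⁻¹)⁻¹ * (d₁ * u * d₁⁻¹)⁻¹ ∈ QQ p T :=
      ⟨hcT, d.CC_le_pCore hG (hc' u hu)⟩
    have e : d₁ * u * d₁⁻¹ = ((g * d₁⁻¹) * (d₁ * u * d₁⁻¹) * (g * d₁⁻¹)⁻¹ * (d₁ * u * d₁⁻¹)⁻¹)⁻¹ *
        (g * u * g⁻¹) := by group
    rw [e]
    exact U.mul_mem (U.inv_mem (hQU hcQ)) (hgu u hu)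
  have hd₁N : d₁ ∈ Subgroup.normalizer (U : Set G) := mem_normalizer_of_conj_mem hd₁U
  have hbN : g * d₁⁻¹ ∈ Subgroup.normalizer (U : Set G) :=
    Subgroup.mul_mem _ hgN (Subgroup.inv_mem _ hd₁N)
  -- work in `Aut(U)`
  have hαK : α ∈ autInducedBy (DE E p) U := by
    apply mem_of_coprime_coset (autInducedBy (DE E p) U) (b := conjAut U (g * d₁⁻¹) hbN)
      (k₀ := conjAut U d₁ hd₁N) (n := Nat.card (QQ p T)) (m := orderOf α)
    · ext x
      rw [MulAut.mul_apply, conjAut_apply, conjAut_apply, hg]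
      group
    · exact conjAut_mem_autInducedBy hd₁ hd₁N
    · intro k hk
      obtain ⟨d', hd', hk'⟩ := Helper87.mem_autInducedBy_iff.1 hk
      have h1 := conj_conj_apply (κ := (conjAut U (g * d₁⁻¹) hbN)⁻¹) (conjAut_inv_apply hbN) hk'
      rw [inv_inv] at h1
      exact Helper87.mem_autInducedBy_iff.2 ⟨_, d.DE_normal _ hd', h1⟩
    · rw [d.conjAut_pow_card hG hQU hU hbN hbC]
      exact Subgroup.one_mem _
    · exact pow_orderOf_eq_one α
    · exact d.coprime_card_Q hcop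
  obtain ⟨d', hd', hαd'⟩ := Helper87.mem_autInducedBy_iff.1 hαK
  obtain ⟨N, hN1, hNc⟩ := exists_pow_coprime p d' (orderOf α) hcop
  have hpow : α ^ N = α := by
    have := (pow_eq_pow_iff_modEq (x := α)).2 hN1
    rwa [pow_one] at this
  have hαN : ∀ x : U, ((α x : U) : G) = d' ^ N * x * (d' ^ N)⁻¹ := by
    intro x
    have := conj_pow_of_conj α d' hαd' N x
    rwa [hpow] at this
  have hdH : d' ^ N ∈ HH E p :=
    NN_le_HH E (mem_NN_of_coprime (Subgroup.pow_mem _ hd' N) hNc)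
  apply (Helper87.mem_autGroup_iff hU).2
  rw [fsos_mor_iff]
  refine ⟨hU, fun x hx => hU (extAut_mem_self α hx), d' ^ N, hdH, fun x hx => ?_⟩
  rw [extAut_mem α hx, hαN]

/-- `F_T(H) ⊆ E` -/
theorem le_E
    (hG : Subgroup.centralizer ((pCore p G : Subgroup G) : Set G) ≤ pCore p G)
    {P : Subgroup G} {f : G → G}
    (hf : Mor (fusionSystemOfSubgroup (HH E p) T (T_le_HH E)) P f) : Mor E P f := by
  haveI : Finite T := Subtype.finite
  have hsat : (fusionSystemOfSubgroup (HH E p) T (T_le_HH E)).IsSaturated p :=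
    fsos_saturated (T_le_HH E) (d.sylT hG)
  have hsubF : ∀ {P : Subgroup G} {f : G → G},
      Mor (fusionSystemOfSubgroup (HH E p) T (T_le_HH E)) P f → ∃ g : G, ∀ x ∈ P, f x = g * x * g⁻¹ := by
    intro P f h
    obtain ⟨-, -, g, -, hg⟩ := fsos_mor_iff.1 h
    exact ⟨g, hg⟩
  refine Helper87.alperin (isPGroup_T d.hTS) hsat _
    (alperinClosed_mor (fusionSystemOfSubgroup (HH E p) T (T_le_HH E)) E) ?_ P f hf
  intro U hfn hcen hrad α hα
  have hU : U ≤ T := hcen.1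
  haveI : Finite U := Helper87.finite_of_le hU
  have hsyl : IsSylIn p (autInducedBy T U) ((fusionSystemOfSubgroup (HH E p) T (T_le_HH E)).autGroup U) :=
    ((fullyAutomized_iff _ U).1 (fullyAutomized_of_fullyNormalized (isPGroup_T d.hTS) hsat hfn)).2
  have hQU : QQ p T ≤ U := d.Q_le_of_centric_radical _ hsubF hcen hrad
  suffices h : (fusionSystemOfSubgroup (HH E p) T (T_le_HH E)).autGroup U ≤ E.autGroup U from
    (Helper87.mem_autGroup_iff hU).1 (h hα)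
  apply le_of_sylow_of_coprime hsyl (Helper87.autInducedBy_le_autGroup _ hU)
  intro α hα hcop
  obtain ⟨-, -, h₀, hh₀H, hh₀⟩ := fsos_mor_iff.1 ((Helper87.mem_autGroup_iff hU).1 hα)
  have hh₀' : ∀ x : U, ((α x : U) : G) = h₀ * x * h₀⁻¹ := by
    intro x
    rw [← hh₀ x x.2, extAut_apply]
  have hh₀N : h₀ ∈ Subgroup.normalizer (U : Set G) := mem_normalizer_of_aut α hh₀'
  have hh₀D : h₀ ∈ DE E p := d.HH_le_DE hh₀H
  obtain ⟨f, hf, hfQ⟩ := d.exists_extension hU hh₀N hh₀D.2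
  obtain ⟨g, hg⟩ := d.sub hf
  -- `b = g h₀⁻¹` centralizes `Q`
  have hbC : g * h₀⁻¹ ∈ Subgroup.centralizer (QQ p T : Set G) := by
    rw [Subgroup.mem_centralizer_iff]
    intro q hq
    have hq' : h₀⁻¹ * q * h₀ ∈ QQ p T := by
      have := d.Q_normal h₀⁻¹ hq
      simpa using this
    have h1 : g * (h₀⁻¹ * q * h₀) * g⁻¹ = h₀ * (h₀⁻¹ * q * h₀) * h₀⁻¹ := by
      rw [← hg _ (hQU hq'), hfQ _ hq']
    have e2 : h₀ * (h₀⁻¹ * q * h₀) * h₀⁻¹ = q := by group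
    rw [e2] at h1
    calc q * (g * h₀⁻¹) = (g * (h₀⁻¹ * q * h₀) * g⁻¹) * (g * h₀⁻¹) := by rw [h1]
      _ = g * h₀⁻¹ * q := by group
  have hh₀U : ∀ u ∈ U, h₀ * u * h₀⁻¹ ∈ U := fun u hu => (Subgroup.mem_normalizer_iff.1 hh₀N u).1 hu
  have hgU : ∀ u ∈ U, g * u * g⁻¹ ∈ U := by
    intro u hu
    have hfu : g * u * g⁻¹ ∈ T := by rw [← hg u hu]; exact hf.mem hu
    have hc : (g * u * g⁻¹) * (h₀ * u * h₀⁻¹)⁻¹ ∈ QQ p T := by
      apply d.centralizerIn_Q_le hG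
      refine ⟨T.mul_mem hfu (T.inv_mem (hU (hh₀U u hu))), ?_⟩
      have e : (g * u * g⁻¹) * (h₀ * u * h₀⁻¹)⁻¹ =
          (g * h₀⁻¹) * ((h₀ * u * h₀⁻¹) * (g * h₀⁻¹)⁻¹ * (h₀ * u * h₀⁻¹)⁻¹) := by group
      rw [e]
      exact Subgroup.mul_mem _ hbC (d.cenQ_normal _ (Subgroup.inv_mem _ hbC))
    have e : g * u * g⁻¹ = ((g * u * g⁻¹) * (h₀ * u * h₀⁻¹)⁻¹) * (h₀ * u * h₀⁻¹) := by group
    rw [e]
    exact U.mul_mem (hQU hc) (hh₀U u hu)
  have hgN : g ∈ Subgroup.normalizer (U : Set G) := mem_normalizer_of_conj_mem hgU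
  have hbN : g * h₀⁻¹ ∈ Subgroup.normalizer (U : Set G) :=
    Subgroup.mul_mem _ hgN (Subgroup.inv_mem _ hh₀N)
  have hψ : conjAut U g hgN ∈ E.autGroup U := by
    apply (Helper87.mem_autGroup_iff hU).2
    exact hf.congr (fun x hx => by rw [extAut_conjAut hgN hx, hg x hx])
  apply mem_of_coprime_coset (E.autGroup U) (b := (conjAut U (g * h₀⁻¹) hbN)⁻¹)
    (k₀ := conjAut U g hgN) (n := Nat.card (QQ p T)) (m := orderOf α)
  · ext x
    rw [MulAut.mul_apply, conjAut_inv_apply, conjAut_apply, hh₀']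
    group
  · exact hψ
  · intro k hk
    rw [inv_inv]
    apply (Helper87.mem_autGroup_iff hU).2
    have hk' := (Helper87.mem_autGroup_iff hU).1 hk
    have h1 := d.normAut hU hbN hk' (fun x hx => extAut_mem_self k hx)
    apply h1.congr
    intro x hx
    have hx' : (g * h₀⁻¹)⁻¹ * x * (g * h₀⁻¹) ∈ U := by
      have := (Subgroup.mem_normalizer_iff.1 (Subgroup.inv_mem _ hbN) x).1 hx
      simpa using this
    rw [extAut_mem _ hx, MulAut.mul_apply, MulAut.mul_apply, conjAut_apply, extAut_mem k hx']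
    congr 3
  · rw [inv_pow, d.conjAut_pow_card hG hQU hU hbN hbC, inv_one]
    exact Subgroup.one_mem _
  · exact pow_orderOf_eq_one α
  · exact d.coprime_card_Q hcop

end Dat

end Cfsg.Agent.Helper86.NormSub
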