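import Mathlib
import Cfsg.Agent.Lib.Helper86.NsG

set_option autoImplicit false
set_option linter.unusedVariables false
set_option linter.unusedSectionVars false
set_option linter.style.haveILetI false

/-! # Normal subsystems of the fusion system of a strictly p-constrained group: uniqueness of `H` -/

namespace Cfsg.Agent.Helper86.NormSub

open Cfsg Cfsg.FusionSystem Cfsg.Agent.Helper87 Cfsg.Agent.Helper84

variable {G : Type*} [Group G] [Finite G] {p : ℕ} [hp : Fact p.Prime]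

variable {S : Sylow p G} {T : Subgroup G} {E : FusionSystem T}

namespace Dat

variable (d : Dat p (S : Subgroup G) T E)
include d

/-- a normal subgroup `H'` of `G` with Sylow `p`-subgroup `T` and `F_T(H') = E` equals `T O^p(D_E)` -/
theorem uniq
    (hG : Subgroup.centralizer ((pCore p G : Subgroup G) : Set G) ≤ pCore p G)
    {H' : Subgroup G} (hTH' : T ≤ H') (hn : H'.Normal) (hsyl : IsSylIn p T H')
    (hhom : ∀ (P : Subgroup G) (f : G → G),
      Mor E P f ↔ Mor (fusionSystemOfSubgroup H' T hTH') P f) : H' = HH E p := by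
  -- (U1) `H' ∩ O_p(G) ≤ T`
  have h1 : H' ⊓ pCore p G ≤ T := by
    apply sylIn_normal_le hsyl inf_le_left ((pCore_isPGroup (p := p) (G := G)).to_le inf_le_right)
    intro h hh
    rw [Subgroup.mem_normalizer_iff]
    intro y
    constructor
    · rintro ⟨hy1, hy2⟩
      exact ⟨hn.conj_mem y hy1 h, (pCore_normal p G).conj_mem y hy2 h⟩
    · rintro ⟨hy1, hy2⟩
      have a1 := hn.conj_mem _ hy1 h⁻¹
      have a2 := (pCore_normal p G).conj_mem _ hy2 h⁻¹
      have e : h⁻¹ * (h * y * h⁻¹) * h⁻¹⁻¹ = y := by group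
      rw [e] at a1 a2
      exact ⟨a1, a2⟩
  -- (U2) `H' ≤ D`
  have h2 : H' ≤ DD p T := by
    intro h hh
    rw [d.mem_DD_iff]
    intro r hr
    have a1 : h * r * h⁻¹ * r⁻¹ ∈ H' := by
      have e : h * r * h⁻¹ * r⁻¹ = h * (r * h⁻¹ * r⁻¹) := by group
      rw [e]
      exact H'.mul_mem hh (hn.conj_mem _ (H'.inv_mem hh) r)
    have a2 : h * r * h⁻¹ * r⁻¹ ∈ pCore p G :=
      Subgroup.mul_mem _ ((pCore_normal p G).conj_mem r hr h) (Subgroup.inv_mem _ hr)
    exact ⟨h1 ⟨a1, a2⟩, a2⟩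
  -- (U3) `H' ≤ D_E`
  have h3 : H' ≤ DE E p := by
    intro h hh
    refine ⟨h2 hh, ?_⟩
    rw [hhom, fsos_mor_iff]
    exact ⟨QQ_le T, fun x hx => QQ_le T (d.Q_normal h hx), h, hh, fun _ _ => rfl⟩
  -- (U4) `O^p(D_E) ≤ H'`
  have h4 : NN E p ≤ H' := by
    rw [NN_eq_closure, Subgroup.closure_le]
    rintro g ⟨hgD, hgc⟩
    obtain ⟨-, -, h, hh, e⟩ := fsos_mor_iff.1 ((hhom _ _).1 hgD.2)
    have hcC : h⁻¹ * g ∈ CC p T := by
      refine ⟨Subgroup.mul_mem _ (Subgroup.inv_mem _ (h2 hh)) hgD.1, ?_⟩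
      show h⁻¹ * g ∈ Subgroup.centralizer (QQ p T : Set G)
      rw [Subgroup.mem_centralizer_iff]
      intro q hq
      have := e q hq
      calc q * (h⁻¹ * g) = h⁻¹ * (h * q * h⁻¹) * g := by group
        _ = h⁻¹ * (g * q * g⁻¹) * g := by rw [← this]
        _ = h⁻¹ * g * q := by group
    have hbC : h * (h⁻¹ * g) * h⁻¹ ∈ CC p T := d.CC_normal h hcC
    obtain ⟨k, hk⟩ := pCore_pow (p := p) _ (d.CC_le_pCore hG hbC)
    apply mem_of_coprime_coset H' (b := h * (h⁻¹ * g) * h⁻¹) (k₀ := h) (n := p ^ k) (m := orderOf g)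
    · group
    · exact hh
    · intro x hx
      have := hn.conj_mem x hx (h * (h⁻¹ * g) * h⁻¹)⁻¹
      simpa using this
    · rw [hk]; exact H'.one_mem
    · exact pow_orderOf_eq_one g
    · exact Nat.Coprime.pow_left k hgc.symm
  -- (U5) `H' ≤ T O^p(D_E)`
  have h5 : H' ≤ HH E p := by
    obtain ⟨R, hR⟩ := hsyl.exists_sylow
    have a1 := Cfsg.Agent.Helper47.sylow_sup_pResidual_eq_top (p := p) R
    have a2 : H' = ((R : Subgroup H') ⊔ pResidual p ↥H').map H'.subtype := by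
      rw [a1, ← MonoidHom.range_eq_map, Subgroup.range_subtype]
    rw [a2, Subgroup.map_sup]
    apply sup_le
    · rw [hR, Subgroup.subgroupOf_map_subtype]
      exact le_trans inf_le_left (T_le_HH E)
    · exact le_trans (Cfsg.Agent.Helper47.map_pResidual_mono h3) (NN_le_HH E)
  exact le_antisymm h5 (sup_le hTH' h4)

end Dat

end Cfsg.Agent.Helper86.NormSub
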