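import Mathlib
import Cfsg.Prelude.Def_Blocks
import Cfsg.Agent.Lib.Helper55.O2520Defs
import Cfsg.Agent.Lib.Helper86.O2520SUMS

/-! O2520 piece (INT) inter_NS (helper55 server, S0984): `N ⊓ S = ⟨u⟩` and `S` is not inside `N`. -/

set_option autoImplicit false

namespace Cfsg.Agent.Helper86.O2520

open Cfsg Cfsg.Agent.Helper55.O2520
open scoped Classical Pointwise

universe u

/-- `|P ⊔ ⟨u⟩| = 36` -/
theorem h86_card_N {G : Type u} [Group G] [Finite G] (P : Subgroup G) (u w : G)
    (hc : Config P u w) : Nat.card (P ⊔ Subgroup.zpowers u : Subgroup G) = 36 := by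
  have hu4 : u ^ 4 = 1 := by rw [← hc.ordu]; exact pow_orderOf_eq_one u
  have key : ∀ x, u * x * u⁻¹ ∈ P → x ∈ P := by
    intro x hx
    have h1 := hc.norm _ hx
    have h2 := hc.norm _ h1
    have h3 := hc.norm _ h2
    have hu4' : u * u * u * u = 1 := by rw [← hu4]; simp [pow_succ]
    have e : u * (u * (u * (u * x * u⁻¹) * u⁻¹) * u⁻¹) * u⁻¹
        = (u * u * u * u) * x * (u * u * u * u)⁻¹ := by group
    rw [e, hu4'] at h3
    simpa using h3
  have hun : u ∈ Subgroup.normalizer (P : Set G) := by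
    rw [Subgroup.mem_normalizer_iff]
    intro x
    exact ⟨hc.norm x, key x⟩
  have hle : Subgroup.zpowers u ≤ Subgroup.normalizer (P : Set G) := Subgroup.zpowers_le.mpr hun
  have hset := Subgroup.coe_mul_of_right_le_normalizer_left P (Subgroup.zpowers u) hle
  have hU : Nat.card (Subgroup.zpowers u) = 4 := by rw [Nat.card_zpowers, hc.ordu]
  have hle36 : Nat.card (P ⊔ Subgroup.zpowers u : Subgroup G) ≤ 36 := by
    have h1 : Nat.card (P ⊔ Subgroup.zpowers u : Subgroup G)
        = Nat.card ((P : Set G) * (Subgroup.zpowers u : Set G) : Set G) := by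
      rw [← hset]; rfl
    rw [h1]
    calc Nat.card ((P : Set G) * (Subgroup.zpowers u : Set G) : Set G)
        ≤ Nat.card (P : Set G) * Nat.card (Subgroup.zpowers u : Set G) := Set.natCard_mul_le
      _ = 9 * 4 := by
          have a1 : Nat.card (P : Set G) = Nat.card P := rfl
          have a2 : Nat.card (Subgroup.zpowers u : Set G) = Nat.card (Subgroup.zpowers u) := rfl
          rw [a1, a2, hc.cardP, hU]
      _ = 36 := by norm_num
  have d9 : 9 ∣ Nat.card (P ⊔ Subgroup.zpowers u : Subgroup G) := by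
    rw [← hc.cardP]; exact Subgroup.card_dvd_of_le le_sup_left
  have d4 : 4 ∣ Nat.card (P ⊔ Subgroup.zpowers u : Subgroup G) := by
    rw [← hU]; exact Subgroup.card_dvd_of_le le_sup_right
  have hpos : 0 < Nat.card (P ⊔ Subgroup.zpowers u : Subgroup G) := Nat.card_pos
  have d36 : 36 ∣ Nat.card (P ⊔ Subgroup.zpowers u : Subgroup G) := by
    have : Nat.Coprime 9 4 := by norm_num
    exact this.mul_dvd_of_dvd_of_dvd d9 d4
  exact le_antisymm hle36 (Nat.le_of_dvd hpos d36)

/-- (INT) -/
theorem inter_NS {G : Type u} [Group G] [Finite G] (P : Subgroup G) (u w : G) (hc : Config P u w) :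
    (P ⊔ Subgroup.zpowers u) ⊓ (Subgroup.zpowers u ⊔ Subgroup.zpowers w) = Subgroup.zpowers u ∧
    ¬ (Subgroup.zpowers u ⊔ Subgroup.zpowers w ≤ P ⊔ Subgroup.zpowers u) := by
  have : Fintype G := Fintype.ofFinite G
  have hN := h86_card_N P u w hc
  have hS : Nat.card (Subgroup.zpowers u ⊔ Subgroup.zpowers w : Subgroup G) = 8 :=
    (sum_S P u w hc (fun _ => 0) (fun _ _ => rfl)).1
  have hU : Nat.card (Subgroup.zpowers u) = 4 := by rw [Nat.card_zpowers, hc.ordu]
  constructor
  · symm
    apply Subgroup.eq_of_le_of_card_ge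
    · exact le_inf le_sup_right le_sup_left
    · have d1 : Nat.card ((P ⊔ Subgroup.zpowers u) ⊓ (Subgroup.zpowers u ⊔ Subgroup.zpowers w) :
          Subgroup G) ∣ 36 := by
        rw [← hN]; exact Subgroup.card_dvd_of_le inf_le_left
      have d2 : Nat.card ((P ⊔ Subgroup.zpowers u) ⊓ (Subgroup.zpowers u ⊔ Subgroup.zpowers w) :
          Subgroup G) ∣ 8 := by
        rw [← hS]; exact Subgroup.card_dvd_of_le inf_le_right
      have d3 := Nat.dvd_gcd d1 d2
      have : Nat.gcd 36 8 = 4 := by norm_num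
      rw [this] at d3
      rw [hU]
      exact Nat.le_of_dvd (by norm_num) d3
  · intro hle
    have := Subgroup.card_dvd_of_le hle
    rw [hN, hS] at this
    omega

end Cfsg.Agent.Helper86.O2520
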