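import Mathlib
import Cfsg.Prelude.Def_Blocks
import Cfsg.Agent.Lib.Helper55.O2520Defs

/-! O2520 / S3C piece (K7) three_involutions_of_card36 (helper86 sub-server of helper55's O2520 server, S0984):
an involution `j` of `centralizer {y}` is not in `C(P) = P`; with `p ∈ P` not commuting with `j` the three conjugates
`j, p j p⁻¹, p² j p⁻²` are distinct involutions commuting with `y` (idea: helper67). -/

set_option autoImplicit false

namespace Cfsg.Agent.Helper86.O2520

open Cfsg Cfsg.Agent.Helper55.O2520
open scoped Classical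

universe u

theorem h86_three_le_card {α : Type u} [Finite α] (p : α → Prop) (a b c : α) (ha : p a) (hb : p b)
    (hc : p c) (hab : a ≠ b) (hac : a ≠ c) (hbc : b ≠ c) : 3 ≤ Nat.card {x : α // p x} := by
  have := Fintype.ofFinite α
  rw [Nat.card_eq_fintype_card, Fintype.card_subtype]
  have hsub : ({a, b, c} : Finset α) ⊆ Finset.univ.filter p := by
    intro x hx
    simp only [Finset.mem_insert, Finset.mem_singleton] at hx
    simp only [Finset.mem_filter, Finset.mem_univ, true_and]
    rcases hx with rfl | rfl | rfl <;> assumption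
  have h3 : ({a, b, c} : Finset α).card = 3 := by
    rw [Finset.card_insert_of_notMem, Finset.card_insert_of_notMem, Finset.card_singleton]
    · simpa using hbc
    · simp [hab, hac]
  calc 3 = ({a, b, c} : Finset α).card := h3.symm
    _ ≤ _ := Finset.card_le_card hsub

/-- (K7) -/
theorem three_involutions_of_card36 {G : Type u} [Group G] [Finite G] (P : Sylow 3 G)
    (hP : Nat.card (P : Subgroup G) = 9)
    (hC : Subgroup.centralizer ((P : Subgroup G) : Set G) = (P : Subgroup G))
    (y : G) (hyP : y ∈ (P : Subgroup G))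
    (hNy : ∀ n ∈ Subgroup.normalizer ((P : Subgroup G) : Set G), n * y = y * n → n ∈ (P : Subgroup G))
    (hM : Nat.card (Subgroup.centralizer ({y} : Set G)) = 36) :
    3 ≤ Nat.card {j : G // orderOf j = 2 ∧ j * y = y * j} := by
  have p2 : Fact (Nat.Prime 2) := ⟨by norm_num⟩
  -- an involution of `centralizer {y}`
  obtain ⟨j', hj'⟩ := exists_prime_orderOf_dvd_card' (G := Subgroup.centralizer ({y} : Set G)) 2
    (by rw [hM]; norm_num)
  set j : G := (j' : G) with hjdef
  have hj2 : orderOf j = 2 := by rw [hjdef, Subgroup.orderOf_coe]; exact hj'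
  have hjy : j * y = y * j := by
    have := j'.2
    rw [Subgroup.mem_centralizer_iff] at this
    exact (this y (Set.mem_singleton y)).symm
  have hjsq : j * j = 1 := by
    have := pow_orderOf_eq_one j
    rw [hj2, sq] at this
    exact this
  have hj1 : j ≠ 1 := by
    intro h
    rw [h, orderOf_one] at hj2
    omega
  -- `j ∉ P`
  have hjP : j ∉ (P : Subgroup G) := by
    intro h
    have h1 : orderOf (⟨j, h⟩ : (P : Subgroup G)) ∣ Nat.card (P : Subgroup G) := orderOf_dvd_natCard _
    rw [hP] at h1
    have h2 : orderOf (⟨j, h⟩ : (P : Subgroup G)) = 2 := by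
      rw [← Subgroup.orderOf_coe]; exact hj2
    rw [h2] at h1
    omega
  -- some `p ∈ P` does not commute with `j`
  have hex : ∃ p ∈ (P : Subgroup G), p * j ≠ j * p := by
    by_contra hno
    push Not at hno
    apply hjP
    rw [← hC, Subgroup.mem_centralizer_iff]
    intro h hh
    exact hno h hh
  obtain ⟨p, hpP, hpj⟩ := hex
  have hp9 : p ^ 9 = 1 := by
    have := pow_card_eq_one' (G := (P : Subgroup G)) (x := ⟨p, hpP⟩)
    rw [hP] at this
    have := congrArg Subtype.val this
    simpa using this
  -- `p` commutes with `y`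
  have hpy : p * y = y * p := by
    have hy' : y ∈ Subgroup.centralizer ((P : Subgroup G) : Set G) := by rw [hC]; exact hyP
    exact Subgroup.mem_centralizer_iff.mp hy' p hpP
  have hinvol : ∀ c : G, c * y = y * c →
      orderOf (c * j * c⁻¹) = 2 ∧ (c * j * c⁻¹) * y = y * (c * j * c⁻¹) := by
    intro c hcy
    constructor
    · apply orderOf_eq_prime
      · rw [sq]
        calc c * j * c⁻¹ * (c * j * c⁻¹) = c * (j * j) * c⁻¹ := by group
          _ = 1 := by rw [hjsq]; group
      · intro h
        apply hj1
        have : j = c⁻¹ * (c * j * c⁻¹) * c := by group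
        rw [this, h]; group
    · have hcy' : c⁻¹ * y = y * c⁻¹ := by
        calc c⁻¹ * y = c⁻¹ * (y * c) * c⁻¹ := by group
          _ = c⁻¹ * (c * y) * c⁻¹ := by rw [hcy]
          _ = y * c⁻¹ := by group
      calc c * j * c⁻¹ * y = c * j * (c⁻¹ * y) := by group
        _ = c * j * (y * c⁻¹) := by rw [hcy']
        _ = c * (j * y) * c⁻¹ := by group
        _ = c * (y * j) * c⁻¹ := by rw [hjy]
        _ = (c * y) * j * c⁻¹ := by group
        _ = (y * c) * j * c⁻¹ := by rw [hcy]
        _ = y * (c * j * c⁻¹) := by group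
  have hp2y : (p * p) * y = y * (p * p) := by
    calc p * p * y = p * (p * y) := by group
      _ = p * (y * p) := by rw [hpy]
      _ = (p * y) * p := by group
      _ = (y * p) * p := by rw [hpy]
      _ = y * (p * p) := by group
  -- distinctness
  have hd1 : j ≠ p * j * p⁻¹ := by
    intro h
    apply hpj
    calc p * j = (p * j * p⁻¹) * p := by group
      _ = j * p := by rw [← h]
  have hd2 : j ≠ (p * p) * j * (p * p)⁻¹ := by
    intro h
    -- then `p * p` commutes with `j`, hence so does `p = (p * p) ^ 5`
    have hc2 : (p * p) * j = j * (p * p) := by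
      calc p * p * j = ((p * p) * j * (p * p)⁻¹) * (p * p) := by group
        _ = j * (p * p) := by rw [← h]
    have hc : ∀ n : ℕ, (p * p) ^ n * j = j * (p * p) ^ n := by
      intro n
      induction n with
      | zero => simp
      | succ n ih =>
        rw [pow_succ, mul_assoc, hc2, ← mul_assoc, ih, mul_assoc]
    have hp5 : (p * p) ^ 5 = p := by
      have : (p * p) ^ 5 = p ^ 9 * p := by
        rw [← sq, ← pow_mul, ← pow_succ]
      rw [this, hp9, one_mul]
    have := hc 5
    rw [hp5] at this
    exact hpj this
  have hd3 : p * j * p⁻¹ ≠ (p * p) * j * (p * p)⁻¹ := by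
    intro h
    apply hd1
    calc j = p⁻¹ * (p * j * p⁻¹) * p := by group
      _ = p⁻¹ * (p * p * j * (p * p)⁻¹) * p := by rw [h]
      _ = p * j * p⁻¹ := by group
  have h0 := hinvol 1 (by simp)
  simp only [one_mul, inv_one, mul_one] at h0
  exact h86_three_le_card (fun j : G => orderOf j = 2 ∧ j * y = y * j) j (p * j * p⁻¹)
    ((p * p) * j * (p * p)⁻¹) h0 (hinvol p hpy) (hinvol (p * p) hp2y) hd1 hd2 hd3

end Cfsg.Agent.Helper86.O2520
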