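import Mathlib
import Cfsg.Prelude.Def_Blocks
import Cfsg.Agent.Lib.Helper55.O2520Defs
import Cfsg.Agent.Lib.Helper17.Simple
import Cfsg.Agent.Lib.Helper17.EmbedNormalizer
import Cfsg.Agent.Lib.Helper17.ConjCount
import Cfsg.Agent.Lib.Helper17.PrimeSylow
import Cfsg.Agent.Lib.Helper17.Counting
import Cfsg.Agent.Lib.Helper85.O2520K1
import Cfsg.Agent.Lib.Helper71.O2520K3
import Cfsg.Agent.Lib.Helper33.O2520K5
import Cfsg.Agent.Lib.Helper67.O2520K6
import Cfsg.Agent.Lib.Helper86.O2520K7
import Cfsg.Agent.Lib.Helper87.O2520K4

/-! O2520 piece (S3C) exists_order4 (helper55 server, S0984): assembly of the sub-pieces K1 .. K7. -/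

set_option autoImplicit false

namespace Cfsg.Agent.Helper86.O2520

open Cfsg Cfsg.Agent.Helper55.O2520
open scoped Classical

universe u

/-- conjugate elements have centralizers of the same order -/
theorem h86_card_centralizer_of_isConj {G : Type u} [Group G] [Finite G] {a b : G} (h : IsConj a b) :
    Nat.card (Subgroup.centralizer ({a} : Set G)) = Nat.card (Subgroup.centralizer ({b} : Set G)) := by
  have h1 := Cfsg.Agent.Helper17.card_carrier_mul_card_centralizer a
  have h2 := Cfsg.Agent.Helper17.card_carrier_mul_card_centralizer b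
  have e : ConjClasses.mk a = ConjClasses.mk b := ConjClasses.mk_eq_mk_iff_isConj.mpr h
  rw [e] at h1
  have hpos : 0 < Nat.card (ConjClasses.mk b).carrier := by
    have : Nat.card (ConjClasses.mk b).carrier ≠ 0 := by
      intro h0; rw [h0, zero_mul] at h2
      exact (Nat.card_pos (α := G)).ne h2
    omega
  exact Nat.eq_of_mul_eq_mul_left hpos (h1.trans h2.symm)

section grp
variable {G : Type u} [Group G] [Finite G] [IsSimpleGroup G] (hG : Nat.card G = 2520)
include hG

/-- (S3C) -/
theorem exists_order4 (h7 : Nat.card (Sylow 7 G) = 120) (h5 : Nat.card (Sylow 5 G) = 126)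
    (h3 : Nat.card (Sylow 3 G) = 70) (P : Sylow 3 G)
    (hC : Subgroup.centralizer ((P : Subgroup G) : Set G) = (P : Subgroup G))
    (hexp : ∀ x ∈ (P : Subgroup G), x ^ 3 = 1)
    (hovg : ∀ K : Subgroup G, Subgroup.normalizer ((P : Subgroup G) : Set G) < K → K ≠ ⊤ →
      Nat.card K = 360) :
    Done G ∨ ∃ u ∈ Subgroup.normalizer ((P : Subgroup G) : Set G), orderOf u = 4 := by
  by_contra hcon
  push Not at hcon
  obtain ⟨hnd, h4⟩ := hcon
  have p3 : Fact (Nat.Prime 3) := ⟨by norm_num⟩
  have p5 : Fact (Nat.Prime 5) := ⟨by norm_num⟩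
  have p7 : Fact (Nat.Prime 7) := ⟨by norm_num⟩
  have hP9 : Nat.card (P : Subgroup G) = 9 :=
    Cfsg.Agent.Helper17.sylow_card_eq P (k := 2) (m := 280) (by rw [hG]; norm_num) (by norm_num)
  have hN36 : Nat.card (Subgroup.normalizer ((P : Subgroup G) : Set G)) = 36 := by
    have h := Cfsg.Agent.Helper17.card_normalizer_mul_sylow_count P
    rw [h3, hG] at h
    omega
  have hmax : ∀ K : Subgroup G, Subgroup.normalizer ((P : Subgroup G) : Set G) < K → K = ⊤ := by
    intro K hK
    by_contra hne
    exact hnd ⟨K, hovg K hK hne⟩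
  have hab : ∀ a ∈ (P : Subgroup G), ∀ b ∈ (P : Subgroup G), a * b = b * a := by
    intro a ha b hb
    have ha' : a ∈ Subgroup.centralizer ((P : Subgroup G) : Set G) := by rw [hC]; exact ha
    exact (Subgroup.mem_centralizer_iff.mp ha' b hb).symm
  obtain ⟨x, x', y, hxP, hx'P, hyP, hx1, hx'1, hy1, hNx, hNx', hnc, hNy, hCx, hCx', hix, hix'⟩ :=
    Cfsg.Agent.Helper87.O2520.local36 (P : Subgroup G) hP9 hexp hC hN36 h4
  have ho : ∀ z ∈ (P : Subgroup G), z ≠ 1 → orderOf z = 3 := fun z hz hz1 =>
    orderOf_eq_prime (hexp z hz) hz1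
  have hox := ho x hxP hx1
  have hox' := ho x' hx'P hx'1
  have hoy := ho y hyP hy1
  have hzT : ∀ z : G, orderOf z = 3 → Subgroup.zpowers z ≠ ⊤ := by
    intro z hz h
    have := congrArg (fun H : Subgroup G => Nat.card H) h
    simp only [Nat.card_zpowers, hz, Subgroup.card_top, hG] at this
    omega
  -- centralizers of `x`, `x'`
  have hcx : Nat.card (Subgroup.centralizer ({x} : Set G)) = 18 := by
    have hle := Cfsg.Agent.Helper33.O2520.centralizer_le_of_maximal _ hmax x hx1 (hzT x hox) hNx
    rw [inf_eq_right.mpr hle] at hCx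
    exact hCx
  have hcx' : Nat.card (Subgroup.centralizer ({x'} : Set G)) = 18 := by
    have hle := Cfsg.Agent.Helper33.O2520.centralizer_le_of_maximal _ hmax x' hx'1 (hzT x' hox') hNx'
    rw [inf_eq_right.mpr hle] at hCx'
    exact hCx'
  have hclx : Nat.card (ConjClasses.mk x).carrier = 140 := by
    have h := Cfsg.Agent.Helper17.card_carrier_mul_card_centralizer x
    rw [hcx, hG] at h
    omega
  have hclx' : Nat.card (ConjClasses.mk x').carrier = 140 := by
    have h := Cfsg.Agent.Helper17.card_carrier_mul_card_centralizer x'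
    rw [hcx', hG] at h
    omega
  -- non-conjugacy
  have hxx' : ¬ IsConj x x' := by
    intro h
    obtain ⟨n, hn, hnx⟩ := Cfsg.Agent.Helper85.O2520.fusion_abelian_sylow P hab x x' hxP hx'P h
    exact hnc n hn hnx
  have hcy := Cfsg.Agent.Helper67.O2520.card_centralizer_cases hG h7 h5 P hab y hyP hoy hNy
  have hxy : ¬ IsConj x y := by
    intro h
    have := h86_card_centralizer_of_isConj h
    rw [hcx] at this
    rcases hcy with h9 | h36 <;> omega
  have hx'y : ¬ IsConj x' y := by
    intro h
    have := h86_card_centralizer_of_isConj h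
    rw [hcx'] at this
    rcases hcy with h9 | h36 <;> omega
  -- elements of order 7 and 5
  have h7c : Nat.card {g : G // orderOf g = 7} = 720 := by
    rw [Cfsg.Agent.Helper17.card_orderOf_eq_prime (p := 7)
      (fun Q => Cfsg.Agent.Helper17.sylow_card_eq Q (k := 1) (m := 360) (by rw [hG]; norm_num) (by norm_num)), h7]
  have h5c : Nat.card {g : G // orderOf g = 5} = 504 := by
    rw [Cfsg.Agent.Helper17.card_orderOf_eq_prime (p := 5)
      (fun Q => Cfsg.Agent.Helper17.sylow_card_eq Q (k := 1) (m := 504) (by rw [hG]; norm_num) (by norm_num)), h5]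
  have htot := Cfsg.Agent.Helper17.sum_card_orderOf_le (G := G) ({3, 5, 6, 7} : Finset ℕ)
  rw [Finset.sum_insert (by decide), Finset.sum_insert (by decide), Finset.sum_insert (by decide),
    Finset.sum_singleton, h7c, h5c, hG] at htot
  have hpw3 : ([x, x', y] : List G).Pairwise (fun a b => ¬ IsConj a b) := by
    refine List.pairwise_cons.mpr ⟨?_, List.pairwise_cons.mpr ⟨?_, List.pairwise_singleton _ _⟩⟩
    · intro b hb
      simp only [List.mem_cons, List.not_mem_nil, or_false] at hb
      rcases hb with rfl | rfl
      · exact hxx'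
      · exact hxy
    · intro b hb
      simp only [List.mem_cons, List.not_mem_nil, or_false] at hb
      rcases hb with rfl
      exact hx'y
  have hord3 : ∀ z ∈ ([x, x', y] : List G), orderOf z = 3 := by
    intro z hz
    simp only [List.mem_cons, List.not_mem_nil, or_false] at hz
    rcases hz with rfl | rfl | rfl
    · exact hox
    · exact hox'
    · exact hoy
  have hk2 := Cfsg.Agent.Helper71.O2520.card_order_ge_classes 3 [x, x', y] hpw3 hord3
  simp only [List.map_cons, List.map_nil, List.sum_cons, List.sum_nil, hclx, hclx'] at hk2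
  rcases hcy with h9 | h36
  · -- `|C(y)| = 9`: the class of `y` has 280 elements
    have hcly : Nat.card (ConjClasses.mk y).carrier = 280 := by
      have h := Cfsg.Agent.Helper17.card_carrier_mul_card_centralizer y
      rw [h9, hG] at h
      omega
    have hpw2 : ([x, x'] : List G).Pairwise (fun a b => ¬ IsConj a b) := by
      refine List.pairwise_cons.mpr ⟨?_, List.pairwise_singleton _ _⟩
      intro b hb
      simp only [List.mem_cons, List.not_mem_nil, or_false] at hb
      rcases hb with rfl
      exact hxx'
    have hk3 := Cfsg.Agent.Helper71.O2520.card_order_six_ge 3 [x, x'] hpw2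
      (by
        intro z hz
        simp only [List.mem_cons, List.not_mem_nil, or_false] at hz
        rcases hz with rfl | rfl
        · exact hox
        · exact hox')
      (by
        intro z hz
        simp only [List.mem_cons, List.not_mem_nil, or_false] at hz
        rcases hz with rfl | rfl
        · exact hix
        · exact hix')
    simp only [List.map_cons, List.map_nil, List.sum_cons, List.sum_nil, hclx, hclx'] at hk3
    rw [hcly] at hk2
    omega
  · -- `|C(y)| = 36`: the class of `y` has 70 elements, three involutions commute with `y`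
    have hcly : Nat.card (ConjClasses.mk y).carrier = 70 := by
      have h := Cfsg.Agent.Helper17.card_carrier_mul_card_centralizer y
      rw [h36, hG] at h
      omega
    have hiy := three_involutions_of_card36 P hP9 hC y hyP hNy h36
    have hk3 := Cfsg.Agent.Helper71.O2520.card_order_six_ge 3 [x, x', y] hpw3 hord3
      (by
        intro z hz
        simp only [List.mem_cons, List.not_mem_nil, or_false] at hz
        rcases hz with rfl | rfl | rfl
        · exact hix
        · exact hix'
        · exact hiy)
    simp only [List.map_cons, List.map_nil, List.sum_cons, List.sum_nil, hclx, hclx', hcly] at hk3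
    rw [hcly] at hk2
    omega

end grp

end Cfsg.Agent.Helper86.O2520
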