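import Mathlib
import Cfsg.Agent.S1017
import Cfsg.Agent.Lib.Helper17.SylowCount

/-!
# O4320 (B1b2): `b1_count` (helper50 server #6393, S0977)
-/

set_option autoImplicit false

namespace Cfsg.Agent.Helper86.O4320

open Cfsg MulAction

universe u

section GT2

variable {G : Type u} [Group G] [Finite G] [IsSimpleGroup G]

/-- (B1b2) -/
theorem b1_count (hG : Nat.card G = 4320) (h216 : Nat.card (Sylow 5 G) = 216) (R : Sylow 5 G)
    (u : G) (hu : orderOf u = 2) (huR : u ∈ Subgroup.centralizer ((R : Subgroup G) : Set G))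
    (hN : Subgroup.normalizer ((R : Subgroup G) : Set G) ≤ Subgroup.centralizer ({u} : Set G))
    (k : ℕ) (hk : Nat.card {g : G // IsConj u g ∧ g ∈ Subgroup.normalizer ((R : Subgroup G) : Set G)} = 1 + k)
    (hB2 : Nat.card {Q : Sylow 5 G // (Q : Subgroup G) ≤ Subgroup.centralizer ({u} : Set G)} ≡ 1 [MOD 5]) :
    ∃ a : ℕ, a = Nat.card {Q : Sylow 5 G // (Q : Subgroup G) ≤ Subgroup.centralizer ({u} : Set G)} ∧
      a % 5 = 1 ∧ Nat.card (Subgroup.centralizer ({u} : Set G)) = a * 20 ∧
      Nat.card (fixedBy (Sylow 5 G) u) = a * (1 + k) := by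
  have hp5 : Fact (Nat.Prime 5) := ⟨by norm_num⟩
  have hRC : (R : Subgroup G) ≤ Subgroup.centralizer ({u} : Set G) :=
    (Cfsg.Agent.S1017.le_centralizer_singleton_iff _ u).2 huR
  have hNc : Nat.card (Subgroup.normalizer ((R : Subgroup G) : Set G)) = 20 := by
    have := Cfsg.Agent.S1017.card_sylow_mul_card_normalizer R
    rw [h216, hG] at this
    omega
  have h1 := Cfsg.Agent.S1017.card_eq_card_mul (Subgroup.centralizer ({u} : Set G)) R hRC
  rw [inf_eq_left.mpr hN, hNc] at h1
  have h2 := Cfsg.Agent.Helper17.SylowCount.card_fixedBy_sylow_mul_card_conj R u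
  rw [h216, hk] at h2
  have h3 := Cfsg.Agent.Helper17.SylowCount.card_conj_mul_card_centralizer u
  rw [hG, h1] at h3
  refine ⟨_, rfl, ?_, h1, ?_⟩
  · have := hB2
    unfold Nat.ModEq at this
    omega
  · set a := Nat.card {Q : Sylow 5 G // (Q : Subgroup G) ≤ Subgroup.centralizer ({u} : Set G)}
    set c := Nat.card {g : G // IsConj u g}
    set f := Nat.card (fixedBy (Sylow 5 G) u)
    have hca : c * a = 216 := by
      have : c * a * 20 = 216 * 20 := by rw [mul_assoc]; omega
      exact Nat.eq_of_mul_eq_mul_right (by norm_num : 0 < 20) this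
    have hc0 : 0 < c := by
      rcases Nat.eq_zero_or_pos c with h | h
      · rw [h] at hca; omega
      · exact h
    have : f * c = a * (1 + k) * c := by
      rw [h2, ← hca]; ring
    exact Nat.eq_of_mul_eq_mul_right hc0 this

end GT2

end Cfsg.Agent.Helper86.O4320
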