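import Mathlib
import Cfsg.Agent.S1017

/-!
# O4320 (C36a): `thirtysix_invol` (helper50 server #6393, S0977)
-/

set_option autoImplicit false

namespace Cfsg.Agent.Helper86.O4320

open Cfsg MulAction

universe u

theorem h86_arith_ten_thirty (m : ℕ) (h30 : m ∣ 30) (h5 : 5 ∣ m) (h2 : 2 ∣ m) :
    m = 10 ∨ m = 30 := by
  have h10 : 2 * 5 ∣ m := Nat.Coprime.mul_dvd_of_dvd_of_dvd (by norm_num) h2 h5
  obtain ⟨k, rfl⟩ := h10
  have hk : k ∣ 3 := Nat.dvd_of_mul_dvd_mul_left (by norm_num : 0 < 2 * 5) (by simpa using h30)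
  rcases (Nat.dvd_prime Nat.prime_three).mp hk with rfl | rfl
  · left; norm_num
  · right; norm_num

section GT

variable {G : Type u} [Group G] [Finite G] [IsSimpleGroup G]

/-- (C36a) -/
theorem thirtysix_invol (hG : Nat.card G = 4320) (h36 : Nat.card (Sylow 5 G) = 36) (R : Sylow 5 G)
    (u : G) (hu : orderOf u = 2) (huR : u ∈ Subgroup.centralizer ((R : Subgroup G) : Set G)) :
    ∃ m : ℕ, (m = 10 ∨ m = 30) ∧
      Nat.card ↥(Subgroup.normalizer ((R : Subgroup G) : Set G) ⊓ Subgroup.centralizer ({u} : Set G)) = m ∧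
      Nat.card (Subgroup.centralizer ({u} : Set G)) = 16 * m := by
  have hp5 : Fact (Nat.Prime 5) := ⟨by norm_num⟩
  have hR5 : Nat.card (R : Subgroup G) = 5 := by
    have := Cfsg.Agent.S1017.sylow_card_eq R 1 864 (by rw [hG]; norm_num) (by norm_num)
    simpa using this
  have hu1 : u ≠ 1 := Cfsg.Agent.S1017.ne_one_of_orderOf_prime u Nat.prime_two hu
  -- the number of fixed points
  have hf5 := Cfsg.Agent.S1017.card_fixedBy_sylow_modEq R hR5 u huR
  have hf4 := Cfsg.Agent.S1017.card_fixedBy_mod_four (G := G) (by rw [hG]; norm_num)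
    (α := Sylow 5 G) u hu
  have hfle := Cfsg.Agent.S1017.card_fixedBy_le (G := G) (α := Sylow 5 G) u
  have hfne := Cfsg.Agent.S1017.card_fixedBy_ne (G := G) (α := Sylow 5 G)
    (Cfsg.Agent.S1017.sylow_action_nontrivial (by rw [h36]; norm_num)) u hu1
  rw [h36] at hf4 hfle hfne
  have hf : Nat.card (fixedBy (Sylow 5 G) u) = 16 := by
    unfold Nat.ModEq at hf5 hf4
    omega
  -- the centralizer
  have hcent := Cfsg.Agent.S1017.card_centralizer_eq R hR5 u huR (by rw [h36, hf]; norm_num)
  rw [hf] at hcent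
  refine ⟨_, ?_, rfl, hcent⟩
  -- arithmetic on `m`
  set m := Nat.card ↥(Subgroup.normalizer ((R : Subgroup G) : Set G) ⊓
    Subgroup.centralizer ({u} : Set G)) with hm
  have hN : Nat.card (Subgroup.normalizer ((R : Subgroup G) : Set G)) = 120 := by
    have := Cfsg.Agent.S1017.card_sylow_mul_card_normalizer R
    rw [h36, hG] at this
    omega
  have h120 : m ∣ 120 := by
    rw [← hN]
    exact Subgroup.card_dvd_of_le inf_le_left
  have h270 : m ∣ 270 := by
    have h1 : Nat.card (Subgroup.centralizer ({u} : Set G)) ∣ Nat.card G :=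
      Subgroup.card_subgroup_dvd_card _
    rw [hcent, hG] at h1
    exact Nat.dvd_of_mul_dvd_mul_left (by norm_num : 0 < 16) (by simpa using h1)
  have h30 : m ∣ 30 := by
    have := Nat.dvd_gcd h120 h270
    norm_num at this
    exact this
  have hRle : (R : Subgroup G) ≤ Subgroup.normalizer ((R : Subgroup G) : Set G) ⊓
      Subgroup.centralizer ({u} : Set G) :=
    le_inf Subgroup.le_normalizer ((Cfsg.Agent.S1017.le_centralizer_singleton_iff _ u).2 huR)
  have h5 : 5 ∣ m := by
    rw [← hR5]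
    exact Subgroup.card_dvd_of_le hRle
  have humem : u ∈ Subgroup.normalizer ((R : Subgroup G) : Set G) ⊓
      Subgroup.centralizer ({u} : Set G) := by
    refine Subgroup.mem_inf.mpr ⟨Subgroup.centralizer_le_normalizer _ huR, ?_⟩
    rw [Subgroup.mem_centralizer_iff]
    intro x hx
    rw [Set.mem_singleton_iff] at hx
    rw [hx]
  have h2 : 2 ∣ m := by
    rw [← hu]
    exact Subgroup.orderOf_dvd_natCard _ humem
  exact h86_arith_ten_thirty m h30 h5 h2

end GT

end Cfsg.Agent.Helper86.O4320
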