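import Mathlib

/-! O459648 piece (B2) grow: normalisers of p-subgroups grow (helper53 server, S1022). -/

set_option autoImplicit false

namespace Cfsg.Agent.Helper86.O459648

open Subgroup

theorem grow {G : Type*} [Group G] [Finite G] {p k : ℕ} [Fact p.Prime]
    (X : Subgroup G) (hX : Nat.card X = p ^ k) (hdvd : p ^ (k + 1) ∣ Nat.card G) :
    ∃ K : Subgroup G, Nat.card K = p ^ (k + 1) ∧ X ≤ K ∧ K ≤ normalizer (X : Set G) := by
  have h1 : p ^ (k + 1) ∣ Nat.card (normalizer (X : Set G)) :=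
    Sylow.prime_pow_dvd_card_normalizer hdvd hX
  have h2 : Nat.card (X.subgroupOf (normalizer (X : Set G))) = p ^ k := by
    rw [Nat.card_congr (subgroupOfEquivOfLe le_normalizer).toEquiv, hX]
  obtain ⟨K', hK', hle⟩ := Sylow.exists_subgroup_card_pow_succ h1 h2
  refine ⟨K'.map (normalizer (X : Set G)).subtype, ?_, ?_, ?_⟩
  · rw [Nat.card_congr (K'.equivMapOfInjective _ (subtype_injective _)).symm.toEquiv, hK']
  · intro x hx
    refine ⟨⟨x, le_normalizer hx⟩, hle ?_, rfl⟩
    rw [mem_subgroupOf]; exact hx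
  · rintro x ⟨y, _, rfl⟩
    exact y.2

end Cfsg.Agent.Helper86.O459648
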