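import Mathlib
import Cfsg.Agent.Lib.Helper93.OR0

/-!
# helper86: OR3 (Q3a) q3_table (helper93 server, S2459)

Every matrix over `ZMod 3` of determinant 1 with first column `(1,1,0)` is a product of two
`SL₃`-conjugates of `X3`: a table of 216 pairs `(u, v)` (found by a python search), checked by ONE kernel
`decide` over the 729 values of the six free entries, with explicit 9-tuple formulas for product,
adjugate and determinant.
-/

set_option autoImplicit false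

namespace Cfsg.Agent.Helper86.OR

open Matrix Cfsg.Agent.Helper93.OR

local notation "SL3" => Matrix.SpecialLinearGroup (Fin 3)

/-- explicit `3 × 3` matrices over `ZMod 3` as 9-tuples (row major). -/
structure H86M9 where
  a : ZMod 3
  b : ZMod 3
  c : ZMod 3
  d : ZMod 3
  e : ZMod 3
  f : ZMod 3
  g : ZMod 3
  h : ZMod 3
  i : ZMod 3
deriving DecidableEq

def h86_mul (A B : H86M9) : H86M9 :=
  ⟨A.a * B.a + A.b * B.d + A.c * B.g, A.a * B.b + A.b * B.e + A.c * B.h, A.a * B.c + A.b * B.f + A.c * B.i,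
   A.d * B.a + A.e * B.d + A.f * B.g, A.d * B.b + A.e * B.e + A.f * B.h, A.d * B.c + A.e * B.f + A.f * B.i,
   A.g * B.a + A.h * B.d + A.i * B.g, A.g * B.b + A.h * B.e + A.i * B.h, A.g * B.c + A.h * B.f + A.i * B.i⟩

def h86_adj (A : H86M9) : H86M9 :=
  ⟨A.e * A.i - A.f * A.h, A.c * A.h - A.b * A.i, A.b * A.f - A.c * A.e,
   A.f * A.g - A.d * A.i, A.a * A.i - A.c * A.g, A.c * A.d - A.a * A.f,
   A.d * A.h - A.e * A.g, A.b * A.g - A.a * A.h, A.a * A.e - A.b * A.d⟩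

def h86_det (A : H86M9) : ZMod 3 :=
  A.a * (A.e * A.i - A.f * A.h) - A.b * (A.d * A.i - A.f * A.g) + A.c * (A.d * A.h - A.e * A.g)

def h86_toMat (A : H86M9) : Matrix (Fin 3) (Fin 3) (ZMod 3) :=
  !![A.a, A.b, A.c; A.d, A.e, A.f; A.g, A.h, A.i]

theorem h86_toMat_mul (A B : H86M9) : h86_toMat (h86_mul A B) = h86_toMat A * h86_toMat B := by
  ext i j
  fin_cases i <;> fin_cases j <;>
    simp [h86_toMat, h86_mul, Matrix.mul_apply, Fin.sum_univ_three]

theorem h86_toMat_adj (A : H86M9) : h86_toMat (h86_adj A) = (h86_toMat A).adjugate := by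
  rw [h86_toMat, Matrix.adjugate_fin_three]
  ext i j
  fin_cases i <;> fin_cases j <;> simp [h86_toMat, h86_adj] <;> ring

theorem h86_det_toMat (A : H86M9) : (h86_toMat A).det = h86_det A := by
  rw [h86_toMat, Matrix.det_fin_three]
  simp [h86_det]
  ring

/-- the `i`-th ternary digit of `n`, in `ZMod 3`. -/
def h86_dg (n i : ℕ) : ZMod 3 := ((n / 3 ^ i % 3 : ℕ) : ZMod 3)

def h86_dec (n : ℕ) : H86M9 :=
  ⟨h86_dg n 0, h86_dg n 1, h86_dg n 2, h86_dg n 3, h86_dg n 4, h86_dg n 5, h86_dg n 6, h86_dg n 7,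
    h86_dg n 8⟩

/-- the table: entry `k = a + 3b + 9c + 27d + 81e + 243f` is `code u + 19683 * code v` for the matrix
`[[1,a,b],[1,c,d],[0,e,f]]` (0 when the determinant is not 1). -/
def h86_tbl : List ℕ := [
  0, 0, 0, 0, 0, 0, 0, 0, 0,
  0, 0, 0, 0, 0, 0, 0, 0, 0,
  0, 0, 0, 0, 0, 0, 0, 0, 0,
  0, 0, 0, 0, 0, 0, 0, 0, 0,
  0, 0, 0, 0, 0, 0, 0, 0, 0,
  0, 0, 0, 0, 0, 0, 0, 0, 0,
  0, 0, 0, 0, 0, 0, 0, 0, 0,
  0, 0, 0, 0, 0, 0, 0, 0, 0,
  0, 0, 0, 0, 0, 0, 0, 0, 0,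
  0, 0, 0, 201594834, 302037183, 58105764, 0, 0, 0,
  0, 0, 0, 65021058, 92122362, 106471269, 0, 0, 0,
  0, 0, 0, 240392214, 369532377, 111252051, 0, 0, 0,
  0, 0, 0, 0, 0, 0, 332447661, 198939816, 132034464,
  0, 0, 0, 0, 0, 0, 105827643, 93775734, 252153900,
  0, 0, 0, 0, 0, 0, 308313873, 18306738, 383414805,
  286225416, 20793357, 174502764, 0, 0, 0, 0, 0, 0,
  102864906, 95429106, 157487418, 0, 0, 0, 0, 0, 0,
  165580857, 20793843, 341374752, 0, 0, 0, 0, 0, 0,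
  0, 0, 0, 0, 0, 0, 310617027, 118823445, 286109505,
  0, 0, 0, 0, 0, 0, 210106638, 92121714, 323307945,
  0, 0, 0, 0, 0, 0, 199073223, 213949440, 157550841,
  240455637, 120349971, 249312987, 0, 0, 0, 0, 0, 0,
  240456123, 232477461, 31017582, 0, 0, 0, 0, 0, 0,
  281914596, 120350214, 275524425, 0, 0, 0, 0, 0, 0,
  0, 0, 0, 302640795, 364878441, 262828647, 0, 0, 0,
  0, 0, 0, 191396853, 199003239, 240525621, 0, 0, 0,
  0, 0, 0, 72529029, 165583692, 239991993, 0, 0, 0,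
  0, 0, 31076631, 0, 0, 102805857, 0, 0, 318043836,
  23562099, 0, 0, 235615806, 0, 0, 194165595, 0, 0,
  0, 157561776, 0, 0, 240396588, 0, 0, 370665486, 0,
  0, 0, 132050421, 0, 0, 240466572, 0, 0, 198944190,
  27282186, 0, 0, 72588078, 0, 0, 187899840, 0, 0,
  0, 300519405, 0, 0, 364819392, 0, 0, 58223862, 0,
  0, 0, 170904663, 0, 0, 194694849, 0, 0, 323426043,
  18247689, 0, 0, 80559936, 0, 0, 199014174, 0, 0,
  0, 280678941, 0, 0, 152713440, 0, 0, 318514041, 0,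
  0, 0, 375443838, 330745932, 0, 0, 0, 291001581, 0,
  150164667, 0, 0, 0, 249964713, 0, 0, 0, 152704449,
  0, 329735538, 0, 0, 0, 369536751, 384426090, 0, 0,
  0, 338238594, 0, 0, 0, 249323922, 26291475, 0, 0,
  0, 0, 227171799, 109008189, 0, 0, 0, 92181411, 0,
  103928031, 0, 0, 0, 308302938, 0, 0, 0, 196398522,
  276128280, 0, 0, 0, 83750526, 0, 0, 0, 170888706,
  0, 93834783, 0, 0, 0, 377635212, 358374546, 0, 0,
  0, 0, 210224736, 308427597, 0, 0, 0, 267021126, 0,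
  0, 0, 203250393, 0, 43767792, 0, 378169326, 0, 0,
  320699637, 0, 0, 0, 0, 221266899, 0, 364761882, 0,
  0, 114508494, 0, 111256425, 0, 0, 0, 0, 315382257,
  60822261, 0, 0, 0, 0, 284027238, 0, 240451263, 0,
  0, 322892415, 0, 225584037, 0, 0, 0, 0, 205968834,
  0, 0, 308298564, 0, 202257495, 0, 383406705, 0, 0,
  0, 45480213, 0, 111256911, 0, 0, 0, 0, 358370172,
  0, 0, 198998865, 0, 92239812, 0, 194569542, 0, 0,
  276069231, 0, 0, 0, 0, 280668006, 0, 200122983, 0,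
  0, 290997207, 0, 0, 203254767, 0, 0, 204905952, 0,
  0, 0, 165465594, 0, 0, 379109250, 0, 0, 17777727,
  65427267, 0, 0, 199057914, 0, 0, 60765399, 0, 0,
  0, 336593970, 0, 0, 121996782, 0, 0, 157605516, 0,
  0, 0, 109023498, 0, 0, 311620860, 0, 0, 164402712,
  197949105, 0, 0, 325967580, 0, 0, 303645303, 0, 0,
  0, 22101426, 0, 0, 20788983, 0, 0, 210699315, 0,
  0, 0, 81548217, 0, 0, 164934153, 0, 0, 249549183,
  249551613, 0, 0, 176092902, 0, 0, 250082811, 0, 0,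
  0, 233612514, 0, 72469980, 0, 0, 0, 0, 17718678,
  0, 0, 65031993, 0, 364760343, 0, 60883497, 0, 0,
  199062288, 0, 0, 0, 0, 240407523, 0, 285149169, 0,
  0, 0, 109017180, 0, 157609890, 0, 198955125, 0, 0,
  199062774, 0, 0, 0, 0, 147921480, 0, 109012563, 0,
  0, 180877383, 0, 311616486, 0, 0, 0, 0, 323366994,
  281973645, 0, 0, 0, 0, 83739591, 0, 125196363, 0,
  0, 354767940, 0, 357969708, 0, 0, 0, 0, 240514686,
  0, 0, 31135680, 0, 318529350, 0, 343076238, 0, 0,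
  0, 47074536, 0, 0, 0, 18365787, 203265702, 0, 0,
  0, 0, 351992637, 350411436, 0, 0, 0, 65016684, 0,
  286166367, 0, 0, 0, 143204121, 0, 0, 0, 128859588,
  165521808, 0, 0, 0, 45362115, 0, 0, 0, 191386161,
  0, 318518658, 0, 0, 0, 325965393, 111851289, 0, 0,
  0, 0, 300508470, 341958681, 0, 0, 0, 102746808, 0,
  0, 0, 191038428, 255270375, 0, 0, 0, 43826841, 0,
  58164813, 0, 0, 0, 318523032, 0, 0, 0, 191385918,
  0, 318518415, 0, 0, 0, 320235210, 21036114, 0, 0]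

def h86_U (k : ℕ) : H86M9 := h86_dec (h86_tbl.getD k 0 % 19683)

def h86_V (k : ℕ) : H86M9 := h86_dec (h86_tbl.getD k 0 / 19683)

def h86_X : H86M9 := ⟨0, 0, 1, 0, 1, 0, -1, 0, 0⟩

def h86_idx (a b c d e f : ZMod 3) : ℕ :=
  a.val + 3 * b.val + 9 * c.val + 27 * d.val + 81 * e.val + 243 * f.val

def h86_conj (u : H86M9) : H86M9 := h86_mul (h86_mul u h86_X) (h86_adj u)

set_option maxRecDepth 100000 in
theorem h86_check : ∀ a b c d e f : ZMod 3, h86_det ⟨1, a, b, 1, c, d, 0, e, f⟩ = 1 →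
    h86_det (h86_U (h86_idx a b c d e f)) = 1 ∧ h86_det (h86_V (h86_idx a b c d e f)) = 1 ∧
    (⟨1, a, b, 1, c, d, 0, e, f⟩ : H86M9) =
      h86_mul (h86_conj (h86_U (h86_idx a b c d e f))) (h86_conj (h86_V (h86_idx a b c d e f))) := by
  decide +kernel

theorem h86_X3 : ((X3 : SL3 (ZMod 3)) : Matrix (Fin 3) (Fin 3) (ZMod 3)) = h86_toMat h86_X := by
  show X3mat = h86_toMat h86_X
  ext i j
  fin_cases i <;> fin_cases j <;> simp [X3mat, h86_toMat, h86_X]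

/-- (Q3a) the table: every matrix over `ZMod 3` of determinant 1 with first column `(1,1,0)` is a product of
two `SL₃`-conjugates of `X3`. -/
theorem q3_table (M : Matrix (Fin 3) (Fin 3) (ZMod 3)) (hdet : M.det = 1)
    (hcol : ∀ i, M i 0 = ![1, 1, 0] i) :
    ∃ u v : SL3 (ZMod 3), M = ((u * X3 * u⁻¹ * (v * X3 * v⁻¹) : SL3 (ZMod 3)) :
      Matrix (Fin 3) (Fin 3) (ZMod 3)) := by
  have h0 : M 0 0 = 1 := by simpa using hcol 0
  have h1 : M 1 0 = 1 := by simpa using hcol 1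
  have h2 : M 2 0 = 0 := by simpa using hcol 2
  have hM : M = h86_toMat ⟨1, M 0 1, M 0 2, 1, M 1 1, M 1 2, 0, M 2 1, M 2 2⟩ := by
    ext i j
    fin_cases i <;> fin_cases j <;> simp [h86_toMat, h0, h1, h2]
  have hd : h86_det ⟨1, M 0 1, M 0 2, 1, M 1 1, M 1 2, 0, M 2 1, M 2 2⟩ = 1 := by
    rw [← h86_det_toMat, ← hM]; exact hdet
  obtain ⟨hU, hV, heq⟩ := h86_check _ _ _ _ _ _ hd
  set k := h86_idx (M 0 1) (M 0 2) (M 1 1) (M 1 2) (M 2 1) (M 2 2) with hk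
  refine ⟨⟨h86_toMat (h86_U k), by rw [h86_det_toMat]; exact hU⟩,
    ⟨h86_toMat (h86_V k), by rw [h86_det_toMat]; exact hV⟩, ?_⟩
  rw [hM, heq]
  simp only [h86_conj, h86_toMat_mul, h86_toMat_adj]
  rw [← h86_X3]
  rfl

end Cfsg.Agent.Helper86.OR
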