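import Mathlib
import Cfsg.Agent.Lib.Helper87.FusionNormalCrit
import Cfsg.Agent.Lib.Helper87.FusionRadical
import Cfsg.Agent.Lib.Helper87.FusionPuig
import Cfsg.Agent.Lib.Helper85.Constr1

set_option autoImplicit false

/-! A criterion for a strongly closed subgroup `P` to lie in a centric radical subgroup `R`: the elements of
`N_P(R)` with `p`-th power in `R` induce on `R ∩ P` automorphisms lying in `O_p(Aut_F(R ∩ P))`. -/

namespace Cfsg.Agent.Helper86

open Cfsg Cfsg.FusionSystem Cfsg.Agent.Helper87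

variable {Ω : Type*} [Group Ω] {S : Subgroup Ω}

theorem le_of_centric_radical_of_res_pCore {p : ℕ} [Fact p.Prime] [Finite S] (hS : IsPGroup p S)
    {F : FusionSystem S} {P R : Subgroup Ω} (hP : F.StronglyClosed P) (hcen : F.IsCentric R)
    (hrad : F.IsRadical p R)
    (hkey : ∀ x ∈ P, x ∈ Subgroup.normalizer (R : Set Ω) → x ^ p ∈ R →
      ∀ γ : F.autGroup (R ⊓ P),
        (∀ v : ↥(R ⊓ P), (((γ : MulAut ↥(R ⊓ P)) v : ↥(R ⊓ P)) : Ω) = x * v * x⁻¹) →
        γ ∈ pCore p (F.autGroup (R ⊓ P))) : P ≤ R := by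
  classical
  have hRS : R ≤ S := hcen.1
  have hPS : P ≤ S := hP.1
  haveI : Finite R := finite_of_le hRS
  have hTR : R ⊓ P ≤ R := inf_le_left
  have hTS : R ⊓ P ≤ S := hTR.trans hRS
  haveI : Finite ↥(R ⊓ P) := finite_of_le hTS
  haveI : Finite (F.autGroup (R ⊓ P)) := inferInstance
  have hinv : ∀ β ∈ F.autGroup R, ∀ x : R, (x : Ω) ∈ R ⊓ P → ((β x : R) : Ω) ∈ R ⊓ P :=
    fun β hβ x hx => ⟨(β x).2, aut_mem_of_stronglyClosed hP hRS hβ hx.2⟩
  let ρ := Cfsg.Agent.Helper85.resHom F hTR hRS hinv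
  let B₁ : Subgroup (F.autGroup R) := modSub F P R ⊓ (pCore p (F.autGroup (R ⊓ P))).comap ρ
  have hB₁n : B₁.Normal := by
    haveI := modSub_normal hP hRS
    haveI := pCore_normal p (F.autGroup (R ⊓ P))
    exact inferInstance
  have hB₁p : IsPGroup p B₁ := by
    rintro ⟨β, hβ1, hβ2⟩
    have hβ2' : ρ β ∈ pCore p (F.autGroup (R ⊓ P)) := hβ2
    obtain ⟨a, ha⟩ := (pCore_isPGroup (p := p) (G := F.autGroup (R ⊓ P))) ⟨ρ β, hβ2'⟩
    have ha' : ρ (β ^ p ^ a) = 1 := by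
      rw [map_pow]
      exact congrArg Subtype.val ha
    have hmem : β ^ p ^ a ∈ stabSub₁ F P R := by
      refine ⟨(modSub F P R).pow_mem hβ1 _, fun x hx => ?_⟩
      apply Subtype.ext
      have h1 := Cfsg.Agent.Helper85.resHom_apply F hTR hRS hinv (β ^ p ^ a) ⟨x, ⟨x.2, hx⟩⟩
      have h2 : ((ρ (β ^ p ^ a) : F.autGroup (R ⊓ P)) : MulAut ↥(R ⊓ P)) = 1 := by
        rw [ha']; rfl
      rw [← h1]
      show ((((ρ (β ^ p ^ a) : F.autGroup (R ⊓ P)) : MulAut ↥(R ⊓ P)) ⟨x, ⟨x.2, hx⟩⟩ : ↥(R ⊓ P)) : Ω) = x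
      rw [h2]; rfl
    obtain ⟨b, hb⟩ := (stabSub₁_isPGroup hS hRS (F := F) (T := P)) ⟨β ^ p ^ a, hmem⟩
    refine ⟨a + b, Subtype.ext ?_⟩
    have hb' : (β ^ p ^ a) ^ p ^ b = 1 := congrArg Subtype.val hb
    show β ^ p ^ (a + b) = 1
    rw [pow_add, pow_mul]; exact hb'
  have hB₁le : B₁ ≤ pCore p (F.autGroup R) := le_pCore hB₁n hB₁p
  have hInn : ∀ β ∈ B₁, (β : MulAut R) ∈ Inn R := by
    intro β hβ
    rw [← hrad.2]
    exact ⟨β, hB₁le hβ, rfl⟩
  have hstep : ∀ x ∈ P, x ∈ Subgroup.normalizer (R : Set Ω) → x ^ p ∈ R → x ∈ R := by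
    intro x hxP hxN hxp
    apply mem_of_conjAut_mem_inn hcen (hPS hxP) hxN
    have hA : conjAut R x hxN ∈ F.autGroup R :=
      autInducedBy_le_autGroup F hRS (conjAut_mem_autInducedBy (hPS hxP) hxN)
    apply hInn ⟨conjAut R x hxN, hA⟩
    refine ⟨?_, ?_⟩
    · intro r
      show (r : Ω)⁻¹ * ((conjAut R x hxN r : R) : Ω) ∈ P
      rw [conjAut_apply]
      have h1 : (r : Ω)⁻¹ * (x * r * x⁻¹) = ((r : Ω)⁻¹ * x * (r : Ω)⁻¹⁻¹) * x⁻¹ := by group
      rw [h1]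
      exact P.mul_mem (StronglyClosed.conj_mem hP (S.inv_mem (hRS r.2)) hxP) (P.inv_mem hxP)
    · show ρ ⟨conjAut R x hxN, hA⟩ ∈ pCore p (F.autGroup (R ⊓ P))
      apply hkey x hxP hxN hxp
      intro v
      rw [Cfsg.Agent.Helper85.resHom_apply]
      rfl
  have hNQ : ∀ q ∈ P, q ∈ Subgroup.normalizer (R : Set Ω) → q ∈ R := by
    intro q hqP hqN
    obtain ⟨k, hk⟩ := hS ⟨q, hPS hqP⟩
    have hk' : q ^ p ^ k = 1 := congrArg Subtype.val hk
    have hdown : ∀ j : ℕ, j ≤ k → q ^ p ^ (k - j) ∈ R := by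
      intro j
      induction j with
      | zero =>
        intro _
        rw [Nat.sub_zero, hk']; exact R.one_mem
      | succ j ih =>
        intro hj
        have h1 := ih (by omega)
        apply hstep _ (P.pow_mem hqP _) (Subgroup.pow_mem _ hqN _)
        rw [← pow_mul, ← pow_succ]
        have : k - (j + 1) + 1 = k - j := by omega
        rw [this]; exact h1
    have := hdown k le_rfl
    simpa using this
  by_contra hne
  have hT : P ⊔ R ≤ S := sup_le hPS hRS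
  have hTp : IsPGroup p (P ⊔ R : Subgroup Ω) := hS.to_le hT
  have hTfin : Finite (P ⊔ R : Subgroup Ω) := finite_of_le hT
  have hRT : R ≠ P ⊔ R := fun h => hne (h ▸ le_sup_left)
  obtain ⟨n, hn, hnR⟩ := exists_normalizer_not_mem (S := P ⊔ R) hTp le_sup_right hRT
  have hRN : R ≤ Subgroup.normalizer (P : Set Ω) := hRS.trans (StronglyClosed.le_normalizer hP)
  have hcoe := Subgroup.coe_mul_of_right_le_normalizer_left P R hRN
  have hnT : n ∈ (↑(P ⊔ R) : Set Ω) := hn.1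
  rw [hcoe] at hnT
  obtain ⟨q, hq, r, hr, rfl⟩ := hnT
  apply hnR
  have hqN : q ∈ Subgroup.normalizer (R : Set Ω) := by
    have h2 : q = (q * r) * r⁻¹ := by group
    rw [h2]
    exact Subgroup.mul_mem _ hn.2 (Subgroup.inv_mem _ (Subgroup.le_normalizer hr))
  exact R.mul_mem (hNQ q hq hqN) hr

end Cfsg.Agent.Helper86
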