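import Mathlib
import Cfsg.Agent.Lib.Helper62.SLN0

/-!
# SLNC piece SIG: the mirror automorphism `g ↦ P (g⁻¹)ᵀ P` of `SL (Unit ⊕ κ) F`
-/

set_option autoImplicit false

namespace Cfsg.Agent.Helper86.SLNC

open Matrix Module Cfsg.Agent.Helper93.U2 Cfsg.Agent.Helper62.SLN

section GRP

variable {F : Type*} [Field F] {κ : Type} [Fintype κ] [DecidableEq κ]

/-- the map `g ↦ ((g⁻¹)ᵀ).submatrix π π` as a monoid hom -/
noncomputable def sigHom {n : Type} [Fintype n] [DecidableEq n] (π : n ≃ n) :
    SpecialLinearGroup n F →* SpecialLinearGroup n F where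
  toFun g := ⟨(((g⁻¹ : SpecialLinearGroup n F).1)ᵀ).submatrix π π, by
    rw [det_submatrix_equiv_self, det_transpose]; exact (g⁻¹).2⟩
  map_one' := by
    apply Subtype.ext
    simp
  map_mul' g h := by
    apply Subtype.ext
    show ((((g * h)⁻¹ : SpecialLinearGroup n F).1)ᵀ).submatrix π π
      = (((g⁻¹ : SpecialLinearGroup n F).1)ᵀ).submatrix π π
        * (((h⁻¹ : SpecialLinearGroup n F).1)ᵀ).submatrix π π
    rw [submatrix_mul_equiv, ← transpose_mul, _root_.mul_inv_rev]
    rfl

theorem sigHom_val {n : Type} [Fintype n] [DecidableEq n] (π : n ≃ n)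
    (g : SpecialLinearGroup n F) :
    ((sigHom π g : SpecialLinearGroup n F) : Matrix n n F)
      = (((g⁻¹ : SpecialLinearGroup n F).1)ᵀ).submatrix π π := rfl

theorem sigHom_sigHom {n : Type} [Fintype n] [DecidableEq n] (π : n ≃ n)
    (hπ : ∀ x, π (π x) = x) (g : SpecialLinearGroup n F) :
    sigHom π (sigHom π g) = g := by
  apply Subtype.ext
  rw [sigHom_val, ← map_inv, sigHom_val, inv_inv]
  ext x y
  simp [hπ]

/-- the key criterion -/
theorem sigHom_eq_of {n : Type} [Fintype n] [DecidableEq n] (π : n ≃ n)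
    (g h : SpecialLinearGroup n F) (hgh : g.1 * ((h.1).submatrix π.symm π.symm)ᵀ = 1) :
    sigHom π g = h := by
  have hdet : ((h.1).submatrix π.symm π.symm)ᵀ.det = 1 := by
    rw [det_transpose, det_submatrix_equiv_self]; exact h.2
  have hinv : g⁻¹ = ⟨((h.1).submatrix π.symm π.symm)ᵀ, hdet⟩ := by
    apply inv_eq_of_mul_eq_one_right
    apply Subtype.ext
    exact hgh
  apply Subtype.ext
  rw [sigHom_val, hinv]
  ext x y
  simp

theorem sigHom_single {n : Type} [Fintype n] [DecidableEq n] (π : n ≃ n)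
    (g h : SpecialLinearGroup n F) (a b : n) (hab : a ≠ b) (s : F)
    (hg : g.1 = 1 + Matrix.single a b s)
    (hh : h.1 = 1 + Matrix.single (π.symm b) (π.symm a) (-s)) :
    sigHom π g = h := by
  apply sigHom_eq_of
  rw [hg, hh]
  rw [show ((1 + Matrix.single (π.symm b) (π.symm a) (-s) : Matrix n n F)).submatrix π.symm π.symm
      = (1 : Matrix n n F).submatrix π.symm π.symm
        + (Matrix.single (π.symm b) (π.symm a) (-s) : Matrix n n F).submatrix π.symm π.symm from rfl]
  rw [submatrix_one_equiv, submatrix_single_equiv, transpose_add,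
    transpose_one, transpose_single]
  simp only [Equiv.symm_symm, Equiv.apply_symm_apply]
  rw [mul_add, mul_one, add_mul, one_mul, single_mul_single_of_ne _ _ _ _ hab.symm, add_zero,
    add_assoc, ← single_add]
  simp

theorem qEl_single_val (i j : κ) (hij : i ≠ j) (s : F) :
    ((qEl i (s • (Pi.single j 1 : κ → F)) : SpecialLinearGroup (Unit ⊕ κ) F) :
        Matrix (Unit ⊕ κ) (Unit ⊕ κ) F) = 1 + Matrix.single (Sum.inr i) (Sum.inr j) s := by
  unfold qEl
  rw [lEl_val, tvEl_val]
  ext x y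
  rcases x with x | x <;> rcases y with y | y
  · simp [Matrix.single, Matrix.one_apply]
  · simp [Matrix.single, Matrix.one_apply]
  · simp [Matrix.single, Matrix.one_apply]
  · have : (1 : Matrix (Unit ⊕ κ) (Unit ⊕ κ) F) (Sum.inr x) (Sum.inr y) = (1 : Matrix κ κ F) x y := by
      simp [Matrix.one_apply]
    simp only [fromBlocks_apply₂₂, Matrix.add_apply, vecMulVec_apply, Matrix.single, of_apply,
      Sum.inr.injEq, Function.update_apply, Pi.smul_apply, Pi.single_apply, smul_eq_mul]
    rw [this]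
    congr 1
    by_cases h1 : x = i
    · by_cases h2 : y = j
      · subst h1; subst h2
        simp [hij.symm]
      · simp [h1, h2, Ne.symm h2]
    · simp [h1, Ne.symm h1]

theorem uEl_single_val (i : κ) (s : F) :
    ((uEl (s • (Pi.single i 1 : κ → F)) : SpecialLinearGroup (Unit ⊕ κ) F) :
        Matrix (Unit ⊕ κ) (Unit ⊕ κ) F) = 1 + Matrix.single (Sum.inl ()) (Sum.inr i) s := by
  rw [uEl_val]
  ext x y
  rcases x with x | x <;> rcases y with y | y
  · simp [Matrix.single, Matrix.one_apply]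
  · simp only [fromBlocks_apply₁₂, replicateRow_apply, Matrix.add_apply, Matrix.single, of_apply,
      Pi.smul_apply, Pi.single_apply, smul_eq_mul]
    by_cases h2 : y = i
    · subst h2; simp [Matrix.one_apply]
    · simp [h2, Ne.symm h2, Matrix.one_apply]
  · simp [Matrix.single, Matrix.one_apply]
  · simp [Matrix.single, Matrix.one_apply]

theorem exists_sigma (jn : κ) :
    ∃ σ : SpecialLinearGroup (Unit ⊕ κ) F ≃* SpecialLinearGroup (Unit ⊕ κ) F,
      (∀ g, σ (σ g) = g) ∧
      (∀ i : κ, i ≠ jn → ∀ s : F,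
        σ (qEl i (s • (Pi.single jn 1 : κ → F))) = uEl ((-s) • (Pi.single i 1 : κ → F))) ∧
      (∀ s : F, σ (uEl (s • (Pi.single jn 1 : κ → F))) = uEl ((-s) • (Pi.single jn 1 : κ → F))) ∧
      (∀ i j : κ, i ≠ j → i ≠ jn → j ≠ jn → ∀ s : F,
        σ (qEl j (s • (Pi.single i 1 : κ → F))) = qEl i ((-s) • (Pi.single j 1 : κ → F))) := by
  classical
  set π : (Unit ⊕ κ) ≃ (Unit ⊕ κ) := Equiv.swap (Sum.inl ()) (Sum.inr jn) with hπdef
  have hπ : ∀ x, π (π x) = x := fun x => Equiv.swap_apply_self _ _ x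
  have hsymm : π.symm = π := Equiv.symm_swap _ _
  have hinv : ∀ g : SpecialLinearGroup (Unit ⊕ κ) F, sigHom π (sigHom π g) = g :=
    sigHom_sigHom π hπ
  refine ⟨MonoidHom.toMulEquiv (sigHom π) (sigHom π) ?_ ?_, ?_, ?_, ?_, ?_⟩
  · ext1 g; exact hinv g
  · ext1 g; exact hinv g
  · intro g; exact hinv g
  · intro i hi s
    show sigHom π _ = _
    apply sigHom_single π _ _ (Sum.inr i) (Sum.inr jn) (by simpa using hi) s
      (qEl_single_val i jn hi s)
    rw [uEl_single_val, hsymm, hπdef, Equiv.swap_apply_right,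
      Equiv.swap_apply_of_ne_of_ne (by simp) (by simpa using hi)]
  · intro s
    show sigHom π _ = _
    apply sigHom_single π _ _ (Sum.inl ()) (Sum.inr jn) (by simp) s (uEl_single_val jn s)
    rw [uEl_single_val, hsymm, hπdef, Equiv.swap_apply_right, Equiv.swap_apply_left]
  · intro i j hij hi hj s
    show sigHom π _ = _
    apply sigHom_single π _ _ (Sum.inr j) (Sum.inr i) (by simpa using hij.symm) s
      (qEl_single_val j i hij.symm s)
    rw [qEl_single_val i j hij, hsymm, hπdef,
      Equiv.swap_apply_of_ne_of_ne (by simp) (by simpa using hi),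
      Equiv.swap_apply_of_ne_of_ne (by simp) (by simpa using hj)]

end GRP

end Cfsg.Agent.Helper86.SLNC
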