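import Mathlib
import Cfsg.Agent.Lib.Helper2.SR0
import Cfsg.Agent.Lib.Helper2.SRC0
import Cfsg.Agent.Lib.Helper71.SRT3
import Cfsg.Agent.Lib.Helper71.SRT4
import Cfsg.Agent.Lib.Helper79.SRC2
import Cfsg.Agent.Lib.Helper86.SRC6

/-!
# helper86: SR (C7) regular and (C8) cyclic (helper2 server, S2281)
-/

set_option autoImplicit false

namespace Cfsg.Agent.Helper86.SR

open Matrix Cfsg Cfsg.Agent.Helper13 Cfsg.Agent.Helper84.SpRoot Cfsg.Agent.Helper5.SpAut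
open Cfsg.Agent.Helper2.SR

section C
variable {F : Type*} [Field F] {m : ℕ}

/-- (C7) uses T4 C2 C6 -/
theorem regular {s : F} (hs : s ≠ 0) :
    IsNilpotent ((uEl (m := m) s).val - 1) ∧ ((uEl (m := m) s).val - 1) ^ (2 * (m + 2) - 1) ≠ 0 := by
  obtain ⟨hinj, hsurj, hlt⟩ := lvl_props (m := m)
  rw [Cfsg.Agent.Helper79.SR.uEl_val]
  refine Cfsg.Agent.Helper71.SR.tri_regular (2 * (m + 2)) (lvl (m := m)) hinj hsurj hlt ?_
    (uM (m := m) s - 1) (uM_lower s) (uM_subdiag hs)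
  refine ⟨Sum.inl 0, ?_⟩
  simp only [lvl]
  simp
  omega

/-- (C8) uses T3 C2 C6 C0 -/
theorem cyclic {s : F} (hs : s ≠ 0) :
    ∀ S : Submodule F (Fin (m + 2) ⊕ Fin (m + 2) → F), pV s ∈ S →
      (∀ x ∈ S, (uEl (m := m) s).val *ᵥ x ∈ S) →
      ∀ x, Cfsg.sympForm (m + 2) F x (be 0) = 0 → x ∈ S := by
  intro S hp hS x hx
  obtain ⟨hinj, hsurj, hlt⟩ := lvl_props (m := m)
  have hlvl0 : ∀ b : Fin (m + 2) ⊕ Fin (m + 2), lvl (m := m) b < 1 → b = Sum.inr 0 := by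
    intro b hb
    rcases b with i | i
    · have hi := i.isLt; simp only [lvl] at hb; omega
    · simp only [lvl] at hb
      have : i = 0 := by
        apply Fin.ext
        have h0 : ((0 : Fin (m + 2)) : ℕ) = 0 := rfl
        rw [h0]; omega
      rw [this]
  have hS' : ∀ y ∈ S, (1 + (uM (m := m) s - 1)) *ᵥ y ∈ S := by
    intro y hy
    have h1 : (1 + (uM (m := m) s - 1)) = uM (m := m) s := by abel
    rw [h1, ← Cfsg.Agent.Helper79.SR.uEl_val]
    exact hS y hy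
  refine Cfsg.Agent.Helper71.SR.tri_cyclic (lvl (m := m)) hinj hsurj (uM (m := m) s - 1)
    (uM_lower s) (uM_subdiag hs) S (pV s) hp ?_ ?_ hS' x ?_
  · intro b hb
    rw [hlvl0 b hb]
    simp [pV, be, bf]
  · refine ⟨Sum.inr 1, ?_, ?_⟩
    · simp [lvl]
    · simp [pV, be, bf, hs]
  · intro b hb
    rw [hlvl0 b hb]
    have := (Cfsg.Agent.Helper2.SR.form_basis x (0 : Fin (m + 2))).1
    rw [← this]
    exact hx

end C

end Cfsg.Agent.Helper86.SR
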