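import Mathlib
import Cfsg.Agent.Lib.Helper12.SUOT0
import Cfsg.Agent.Lib.Helper12.SUOT_T14
import Cfsg.Agent.Lib.Helper86.SUOT_T8a

/-! SUOT piece (T8) exists_p, hypothesis-form core (helper12 sub-server, S2282): from the `z, f` of (T8z),
`p = z + al^q N z`. -/

set_option autoImplicit false
set_option linter.unusedSectionVars false
set_option linter.unusedVariables false

namespace Cfsg.Agent.Helper86.SUOT

open Matrix Cfsg Cfsg.Agent.Helper13 Cfsg.Agent.Helper87.PsuA Cfsg.Agent.Helper12.SUOT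

variable {F : Type*} [Field F] [Fintype F] {q n : ℕ}

/-- (T8) core: the conclusion of (T8z) `exists_z` as the explicit hypothesis `hz` -/
theorem h86_exists_p_core (hF : Fintype.card F = q ^ 2) {b : Fin n → Fin n → F} (hb : HB q b)
    (hn : 5 ≤ n) (hodd : Odd n) (al : F)
    (hz : ∃ z f : Fin n → F,
      Cfsg.hermForm n F q z (b ⟨0, by omega⟩) = 0 ∧
      Cfsg.hermForm n F q z (b ⟨1, by omega⟩) = 1 ∧
      Cfsg.hermForm n F q z (Nm q b *ᵥ z) = 0 ∧
      Cfsg.hermForm n F q (Nm q b *ᵥ z) (Nm q b *ᵥ z) = 1 ∧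
      Cfsg.hermForm n F q z z = -(al * al ^ q) ∧
      Cfsg.hermForm n F q f f = 1 ∧
      Cfsg.hermForm n F q f (b ⟨0, by omega⟩) = 0 ∧
      Cfsg.hermForm n F q f (b ⟨1, by omega⟩) = 0 ∧
      Cfsg.hermForm n F q f z + al * Cfsg.hermForm n F q f (Nm q b *ᵥ z) = 0) :
    ∃ p f : Fin n → F,
      Cfsg.hermForm n F q p p = 0 ∧
      Cfsg.hermForm n F q p (b ⟨0, by omega⟩) = 0 ∧
      Cfsg.hermForm n F q p (b ⟨1, by omega⟩) = 1 ∧
      Cfsg.hermForm n F q (actv (uEl q b al) p) p = al * (al - al ^ q) ∧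
      Cfsg.hermForm n F q f f = 1 ∧
      Cfsg.hermForm n F q f p = 0 ∧
      Cfsg.hermForm n F q f (b ⟨0, by omega⟩) = 0 ∧
      Cfsg.hermForm n F q f (b ⟨1, by omega⟩) = 0 := by
  obtain ⟨z, f, hz0, hz1, hzN, hNN, hzz, hff, hf0, hf1, hfz⟩ := hz
  have hadj : Cfsg.hermForm n F q (Nm q b *ᵥ z) z = 0 := by
    rw [Nm_adj hF hb z z]; exact hzN
  have hpp : Cfsg.hermForm n F q (z + al ^ q • (Nm q b *ᵥ z)) (z + al ^ q • (Nm q b *ᵥ z)) = 0 := by
    simp only [hermForm_add_left, hermForm_smul_left, hermForm_add_right hF, hermForm_smul_right,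
      frob_frob hF, hadj, hzN, hNN, hzz]
    ring
  have hN0 : Nm q b *ᵥ b (⟨0, by omega⟩ : Fin n) = 0 := Nm_b_zero hF hb _ rfl
  have hN1 : Nm q b *ᵥ b (⟨1, by omega⟩ : Fin n) = b (⟨0, by omega⟩ : Fin n) :=
    Nm_b_succ hF hb ⟨0, by omega⟩ ⟨1, by omega⟩ rfl
  refine ⟨z + al ^ q • (Nm q b *ᵥ z), f, hpp, ?_, ?_, ?_, hff, ?_, hf0, hf1⟩
  · rw [hermForm_add_left, hermForm_smul_left, Nm_adj hF hb, hN0, H_zero_right hF, hz0]
    ring
  · rw [hermForm_add_left, hermForm_smul_left, Nm_adj hF hb, hN1, hz0, hz1]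
    ring
  · rw [hup_formula hF hb, hpp, hzN, hNN]
    ring
  · rw [hermForm_add_right hF, hermForm_smul_right, frob_frob hF]
    exact hfz

end Cfsg.Agent.Helper86.SUOT
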