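import Mathlib
import Cfsg.Prelude.Def_FusionSystem
import Cfsg.Agent.Lib.Helper83.FrobAbs
import Cfsg.Agent.S5092
import Cfsg.Agent.S5124
import Cfsg.Agent.S5203

set_option autoImplicit false

/-! # Tate's theorem for fusion systems, deduced from the Gaschütz-type extension theorem

The extension theorem ("every `S`-stable homomorphism from the hyperfocal subgroup to an abelian group
extends to `S`") enters as a hypothesis `key`. -/

namespace Cfsg.Agent.Helper86.TateFromKey

open Cfsg Cfsg.FusionSystem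

universe u

section GroupLemma

variable {G : Type*} [Group G] [Finite G]

/-- in a finite nilpotent group, between two normal subgroups `T₀ < T` there is a normal subgroup `T'` with
`T₀ ≤ T' < T` and `T / T'` central -/
theorem exists_central_step [Group.IsNilpotent G] (T₀ T : Subgroup G) [T₀.Normal] [T.Normal]
    (h : T₀ < T) :
    ∃ T' : Subgroup G, T'.Normal ∧ T₀ ≤ T' ∧ T' < T ∧ ∀ t ∈ T, ∀ g : G, t * g * t⁻¹ * g⁻¹ ∈ T' := by
  classical
  -- a maximal normal subgroup between
  let 𝒮 : Set (Subgroup G) := {K | K.Normal ∧ T₀ ≤ K ∧ K < T}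
  have h𝒮fin : 𝒮.Finite := Set.toFinite _
  have h𝒮ne : 𝒮.Nonempty := ⟨T₀, inferInstance, le_rfl, h⟩
  obtain ⟨T', hT'mem, hT'max⟩ := h𝒮fin.exists_maximal h𝒮ne
  obtain ⟨hT'n, hT₀T', hT'T⟩ := hT'mem
  haveI := hT'n
  refine ⟨T', hT'n, hT₀T', hT'T, ?_⟩
  -- the quotient
  let Q := G ⧸ T'
  let π : G →* Q := QuotientGroup.mk' T'
  have hπ : Function.Surjective π := QuotientGroup.mk'_surjective T'
  have hker : π.ker = T' := QuotientGroup.ker_mk' T'
  let Tb : Subgroup Q := T.map π
  haveI hTbn : Tb.Normal := Subgroup.Normal.map inferInstance π hπ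
  have hTbne : Tb ≠ ⊥ := by
    intro hb
    have : T ≤ T' := by
      intro t ht
      have h1 : π t ∈ Tb := ⟨t, ht, rfl⟩
      rw [hb, Subgroup.mem_bot] at h1
      rw [← hker]
      exact h1
    exact (lt_irrefl _ (lt_of_lt_of_le hT'T this))
  have hZ := Cfsg.Agent.Helper83.FrobAbs.center_inf_normal_ne_bot Tb hTbne
  -- the preimage
  let N : Subgroup Q := Subgroup.center Q ⊓ Tb
  haveI hNn : N.Normal := inferInstance
  let T'' : Subgroup G := N.comap π
  have hT''n : T''.Normal := inferInstance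
  have hT'T'' : T' ≤ T'' := by
    intro x hx
    show π x ∈ N
    have : π x = 1 := by rw [← MonoidHom.mem_ker, hker]; exact hx
    rw [this]
    exact N.one_mem
  have hT''T : T'' ≤ T := by
    intro x hx
    have h1 : π x ∈ Tb := hx.2
    obtain ⟨t, ht, e⟩ := h1
    have h2 : t⁻¹ * x ∈ T' := by
      rw [← hker, MonoidHom.mem_ker, map_mul, map_inv, e, inv_mul_cancel]
    have h3 : x = t * (t⁻¹ * x) := by group
    rw [h3]
    exact T.mul_mem ht (hT'T.le h2)
  have hne : T'' ≠ T' := by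
    intro he
    apply hZ
    rw [eq_bot_iff]
    intro q hq
    obtain ⟨x, rfl⟩ := hπ q
    have hx : x ∈ T'' := hq
    rw [he, ← hker] at hx
    rw [Subgroup.mem_bot]
    exact hx
  have hT''eq : T'' = T := by
    by_contra hcon
    have hlt : T'' < T := lt_of_le_of_ne hT''T hcon
    have hmem : T'' ∈ 𝒮 := ⟨hT''n, hT₀T'.trans hT'T'', hlt⟩
    have := hT'max hmem hT'T''
    exact hne (le_antisymm this hT'T'')
  intro t ht g
  have h1 : t ∈ T'' := hT''eq ▸ ht
  have h2 : π t ∈ Subgroup.center Q := h1.1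
  rw [Subgroup.mem_center_iff] at h2
  rw [← hker, MonoidHom.mem_ker]
  simp only [map_mul, map_inv]
  rw [← h2 (π g)]
  group

end GroupLemma

section Fusion

open scoped commutatorElement IsMulCommutative

variable {Ω : Type u} [Group Ω] {S : Subgroup Ω} [Finite S] {p : ℕ} [Fact p.Prime]

/-- the Gaschütz-type extension theorem for `F`: every `S`-stable homomorphism from the hyperfocal subgroup
to an abelian group extends to `S` -/
def Key (F : FusionSystem S) (p : ℕ) : Prop :=
  ∀ (A : Type u) [CommGroup A] (lam : ↥(F.hyperfocalSubgroup p) →* A),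
    (∀ (s : Ω) (_ : s ∈ S) (x : ↥(F.hyperfocalSubgroup p))
      (hx : s * (x : Ω) * s⁻¹ ∈ F.hyperfocalSubgroup p), lam ⟨s * (x : Ω) * s⁻¹, hx⟩ = lam x) →
    ∃ μ : S →* A, ∀ (x : ↥(F.hyperfocalSubgroup p)) (hx : (x : Ω) ∈ S), μ ⟨(x : Ω), hx⟩ = lam x

/-- **Tate's theorem** for fusion systems, from the extension theorem -/
theorem tate_of_key (hS : IsPGroup p S) (F : FusionSystem S) (hF : F.IsSaturated p)
    (H : FusionSystem S) (hH : H.IsSaturated p) (hHF : H.IsSubsystemOf F) (key : Key F p)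
    (heq : (frattini ↥S).map S.subtype ⊔ F.focalSubgroup =
      (frattini ↥S).map S.subtype ⊔ H.focalSubgroup) :
    F.hyperfocalSubgroup p = H.hyperfocalSubgroup p := by
  classical
  set T := F.hyperfocalSubgroup p with hTdef
  set T₀ := H.hyperfocalSubgroup p with hT₀def
  have hT₀T : T₀ ≤ T := Cfsg.Agent.S5203.hyperfocal_mono hHF
  have hTS : T ≤ S := Cfsg.Agent.S5124.hyperfocal_le F p
  by_contra hne
  have hlt : T₀ < T := lt_of_le_of_ne hT₀T (Ne.symm hne)
  let TS : Subgroup S := T.subgroupOf S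
  let T₀S : Subgroup S := T₀.subgroupOf S
  haveI hTSn : TS.Normal := ⟨fun x hx g => by
    have hx' : (x : Ω) ∈ T := Subgroup.mem_subgroupOf.1 hx
    have := Cfsg.Agent.S5124.conj_mem F p g.2 hx'
    exact Subgroup.mem_subgroupOf.2 this⟩
  haveI hT₀Sn : T₀S.Normal := ⟨fun x hx g => by
    have hx' : (x : Ω) ∈ T₀ := Subgroup.mem_subgroupOf.1 hx
    have := Cfsg.Agent.S5124.conj_mem H p g.2 hx'
    exact Subgroup.mem_subgroupOf.2 this⟩
  have hltS : T₀S < TS := by
    refine lt_of_le_of_ne (fun x hx => Subgroup.mem_subgroupOf.2 (hT₀T (Subgroup.mem_subgroupOf.1 hx))) ?_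
    intro he
    apply hne
    apply le_antisymm _ hT₀T
    intro x hx
    have h1 : (⟨x, hTS hx⟩ : S) ∈ TS := Subgroup.mem_subgroupOf.2 hx
    rw [← he] at h1
    exact Subgroup.mem_subgroupOf.1 h1
  haveI : Group.IsNilpotent S := hS.isNilpotent
  obtain ⟨T', hT'n, hT₀T', hT'T, hcent⟩ := exists_central_step T₀S TS hltS
  haveI := hT'n
  let Q := S ⧸ T'
  let π : S →* Q := QuotientGroup.mk' T'
  have hπ : Function.Surjective π := QuotientGroup.mk'_surjective T'
  have hker : π.ker = T' := QuotientGroup.ker_mk' T'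
  let ι : T →* S := Subgroup.inclusion hTS
  have hιT : ∀ x : T, ι x ∈ TS := fun x => Subgroup.mem_subgroupOf.2 x.2
  have hcen : ∀ x : T, π (ι x) ∈ Subgroup.center Q := by
    intro x
    rw [Subgroup.mem_center_iff]
    intro q
    obtain ⟨g, rfl⟩ := hπ q
    have h1 := hcent (ι x) (hιT x) g
    rw [← hker, MonoidHom.mem_ker] at h1
    simp only [map_mul, map_inv] at h1
    have h2 : π (ι x) * π g = π g * π (ι x) := by
      have := congrArg (fun z => z * (π g * π (ι x))) h1
      simpa [mul_assoc] using this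
    exact h2.symm
  let lam₀ : T →* Subgroup.center Q := (π.comp ι).codRestrict _ hcen
  let lam : T →* lam₀.range := lam₀.rangeRestrict
  have hlamsurj : Function.Surjective lam := lam₀.rangeRestrict_surjective
  have hlamval : ∀ x : T, (((lam x : lam₀.range) : Subgroup.center Q) : Q) = π (ι x) := fun _ => rfl
  have hstable : ∀ (s : Ω) (_ : s ∈ S) (x : T) (hx : s * (x : Ω) * s⁻¹ ∈ T),
      lam ⟨s * (x : Ω) * s⁻¹, hx⟩ = lam x := by
    intro s hs x hx
    apply Subtype.ext
    apply Subtype.ext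
    rw [hlamval, hlamval]
    have e : ι ⟨s * (x : Ω) * s⁻¹, hx⟩ = (⟨s, hs⟩ : S) * ι x * (⟨s, hs⟩ : S)⁻¹ := Subtype.ext rfl
    rw [e, map_mul, map_mul, map_inv]
    have hc := hcen x
    rw [Subgroup.mem_center_iff] at hc
    rw [hc (π ⟨s, hs⟩), mul_assoc, mul_inv_cancel, mul_one]
  obtain ⟨μ, hμ⟩ := key lam₀.range lam hstable
  have hμsurj : Function.Surjective μ := fun a => by
    obtain ⟨x, rfl⟩ := hlamsurj a
    exact ⟨⟨x, hTS x.2⟩, hμ x _⟩
  have hμT₀ : ∀ (x : Ω) (hx : x ∈ T₀), μ ⟨x, hTS (hT₀T hx)⟩ = 1 := by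
    intro x hx
    rw [hμ ⟨x, hT₀T hx⟩]
    apply Subtype.ext
    apply Subtype.ext
    rw [hlamval]
    show π (ι ⟨x, hT₀T hx⟩) = 1
    rw [← MonoidHom.mem_ker, hker]
    apply hT₀T'
    exact Subgroup.mem_subgroupOf.2 hx
  let M : Subgroup Ω := ((frattini ↥lam₀.range).comap μ).map S.subtype
  have hΦM : (frattini ↥S).map S.subtype ≤ M :=
    Subgroup.map_mono (frattini_le_comap_frattini_of_surjective hμsurj)
  have hfocH : H.focalSubgroup ≤ M := by
    rw [Cfsg.Agent.S5092.result p hS H hH]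
    apply sup_le
    · intro x hx
      refine ⟨⟨x, hTS (hT₀T hx)⟩, ?_, rfl⟩
      show μ _ ∈ frattini ↥lam₀.range
      rw [hμT₀ x hx]
      exact Subgroup.one_mem _
    · rw [Subgroup.commutator_le]
      intro a ha b hb
      refine ⟨⁅(⟨a, ha⟩ : S), (⟨b, hb⟩ : S)⁆, ?_, rfl⟩
      show μ _ ∈ frattini ↥lam₀.range
      rw [map_commutatorElement, commutatorElement_eq_one_iff_commute.2 (Commute.all _ _)]
      exact Subgroup.one_mem _
  have hTM : T ≤ M := by
    have h1 : T ≤ F.focalSubgroup := by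
      rw [Cfsg.Agent.S5092.result p hS F hF]
      exact le_sup_left
    have h2 : F.focalSubgroup ≤ (frattini ↥S).map S.subtype ⊔ F.focalSubgroup := le_sup_right
    rw [heq] at h2
    exact h1.trans (h2.trans (sup_le hΦM hfocH))
  have htop : frattini ↥lam₀.range = ⊤ := by
    rw [eq_top_iff]
    intro a _
    obtain ⟨x, rfl⟩ := hlamsurj a
    obtain ⟨y, hy, hyx⟩ := hTM x.2
    have hyeq : y = ⟨x, hTS x.2⟩ := Subtype.ext hyx
    rw [← hμ x (hTS x.2), ← hyeq]
    exact hy
  have hAbot : (⊥ : Subgroup ↥lam₀.range) = ⊤ :=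
    frattini_nongenerating (by rw [htop, bot_sup_eq])
  have hlam1 : ∀ x : T, lam x = 1 := by
    intro x
    have h1 : lam x ∈ (⊥ : Subgroup ↥lam₀.range) := by rw [hAbot]; exact Subgroup.mem_top _
    exact Subgroup.mem_bot.1 h1
  have hle : TS ≤ T' := by
    intro x hx
    have hxT : (x : Ω) ∈ T := Subgroup.mem_subgroupOf.1 hx
    have h1 := hlam1 ⟨x, hxT⟩
    have h2 : π (ι ⟨x, hxT⟩) = 1 := by
      rw [← hlamval, h1]
      rfl
    have h3 : ι ⟨(x : Ω), hxT⟩ = x := Subtype.ext rfl
    rw [h3, ← MonoidHom.mem_ker, hker] at h2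
    exact h2
  exact lt_irrefl _ (lt_of_lt_of_le hT'T hle)

/-- the full statement of Tate's theorem (focal, elementary focal and hyperfocal subgroups), from the
extension theorem -/
theorem statement_of_key (hS : IsPGroup p S) (F : FusionSystem S) (hF : F.IsSaturated p)
    (H : FusionSystem S) (hH : H.IsSaturated p) (hHF : H.IsSubsystemOf F) (key : Key F p) :
    (((frattini ↥S).map S.subtype ⊔ F.focalSubgroup) = ((frattini ↥S).map S.subtype ⊔ H.focalSubgroup) ↔
      F.focalSubgroup = H.focalSubgroup) ∧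
    (F.focalSubgroup = H.focalSubgroup ↔ F.hyperfocalSubgroup p = H.hyperfocalSubgroup p) := by
  have hfoc_of_hyp : F.hyperfocalSubgroup p = H.hyperfocalSubgroup p →
      F.focalSubgroup = H.focalSubgroup := by
    intro h
    rw [Cfsg.Agent.S5092.result p hS F hF, Cfsg.Agent.S5092.result p hS H hH, h]
  constructor
  · constructor
    · intro h
      exact hfoc_of_hyp (tate_of_key hS F hF H hH hHF key h)
    · intro h
      rw [h]
  · constructor
    · intro h
      exact tate_of_key hS F hF H hH hHF key (by rw [h])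
    · exact hfoc_of_hyp

end Fusion

end Cfsg.Agent.Helper86.TateFromKey
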