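import Mathlib
import Cfsg.Agent.Lib.Helper86.RankTwoGroup

set_option autoImplicit false

/-! Two transvections of a commutative group (of any rank) with centres `x`, `y`, each moving the centre of the
other: the group they generate contains an automorphism inverting `x` and `y` and commuting with the first
transvection. -/

namespace Cfsg.Agent.Helper86

variable {V : Type*} [CommGroup V]

/-- the square of `a b a` for normalized transvections `a`, `b` inverts the two centres -/
theorem aba_sq_apply (x y : V) (a b : MulAut V)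
    (hax : a x = x) (hay : a y = y * x) (hby : b y = y) (hbx : b x = x * y⁻¹) :
    (a * b * a * (a * b * a)) x = x⁻¹ ∧ (a * b * a * (a * b * a)) y = y⁻¹ := by
  have hwx : (a * b * a) x = y⁻¹ := by
    rw [MulAut.mul_apply, MulAut.mul_apply, hax, hbx, map_mul, map_inv, hax, hay]
    apply Additive.ofMul.injective
    simp only [ofMul_mul, ofMul_inv]
    abel
  have hwy : (a * b * a) y = x := by
    rw [MulAut.mul_apply, MulAut.mul_apply, hay, map_mul, hby, hbx, map_mul, map_mul, map_inv, hax, hay]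
    apply Additive.ofMul.injective
    simp only [ofMul_mul, ofMul_inv]
    abel
  constructor
  · rw [MulAut.mul_apply, hwx, map_inv, hwy]
  · rw [MulAut.mul_apply, hwy, hwx]

theorem exists_inverting_commuting
    {p : ℕ} [hp : Fact p.Prime] (A : Subgroup (MulAut V)) (x y : V) (hxp : x ^ p = 1) (hyp : y ^ p = 1)
    (u β : MulAut V) (hu : u ∈ A) (hβ : β ∈ A) (hux : u x = x)
    (hcomm : ∀ v : V, v⁻¹ * u v ∈ Subgroup.zpowers x)
    (huy : u y ≠ y) (hβy : β y = x) (hβx : u (β x) ≠ β x) :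
    ∃ δ ∈ A, δ x = x⁻¹ ∧ δ y = y⁻¹ ∧ ∀ v : V, δ (u v) = u (δ v) := by
  have hpos : 0 < p := hp.out.pos
  have hp1 : 1 < p := hp.out.one_lt
  have hform : ∀ v : V, ∃ k : ℕ, u v = v * x ^ k := by
    intro v
    obtain ⟨k, hk⟩ := exists_pow_of_mem_zpowers hpos x _ hxp (hcomm v)
    exact ⟨k, by rw [← hk]; group⟩
  set u' := β⁻¹ * u * β with hu'
  have hu'A : u' ∈ A := A.mul_mem (A.mul_mem (A.inv_mem hβ) hu) hβ
  have hβinv : β⁻¹ x = y := by rw [← hβy, MulAut.inv_apply_self]
  have hu'y : u' y = y := by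
    rw [hu', MulAut.mul_apply, MulAut.mul_apply, hβy, hux, hβinv]
  have hform' : ∀ v : V, ∃ l : ℕ, u' v = v * y ^ l := by
    intro v
    obtain ⟨l, hl⟩ := hform (β v)
    refine ⟨l, ?_⟩
    rw [hu', MulAut.mul_apply, MulAut.mul_apply, hl, map_mul, MulAut.inv_apply_self, map_pow, hβinv]
  obtain ⟨k₂, hk₂⟩ := hform y
  obtain ⟨k₁, hk₁⟩ := hform' x
  have hnd₂ : ¬ p ∣ k₂ := by
    rintro ⟨j, rfl⟩
    apply huy
    rw [hk₂, pow_mul, hxp, one_pow, mul_one]
  have hnd₁ : ¬ p ∣ k₁ := by
    rintro ⟨j, rfl⟩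
    apply hβx
    have h1 : u' x = x := by rw [hk₁, pow_mul, hyp, one_pow, mul_one]
    have h2 : β (u' x) = u (β x) := by
      rw [hu', MulAut.mul_apply, MulAut.mul_apply, MulAut.apply_inv_self]
    rw [← h2, h1]
  obtain ⟨s, -, hs⟩ := Nat.exists_mul_mod_eq_one_of_coprime
    ((Nat.Prime.coprime_iff_not_dvd hp.out).2 hnd₂).symm hp1
  obtain ⟨s₁, -, hs₁⟩ := Nat.exists_mul_mod_eq_one_of_coprime
    ((Nat.Prime.coprime_iff_not_dvd hp.out).2 hnd₁).symm hp1
  have hxfix : ∀ k : ℕ, u (x ^ k) = x ^ k := fun k => by rw [map_pow, hux]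
  have hyfix : ∀ k : ℕ, u' (y ^ k) = y ^ k := fun k => by rw [map_pow, hu'y]
  have hax : (u ^ s) x = x := aut_pow_fix u x hux s
  have hay : (u ^ s) y = y * x := by
    rw [aut_pow_apply_eq u y (x ^ k₂) hk₂ (hxfix k₂) s, ← pow_mul, pow_eq_pow_mod (k₂ * s) hxp, hs, pow_one]
  have hby : (u' ^ (s₁ * (p - 1))) y = y := aut_pow_fix u' y hu'y _
  have hyinv : y ^ (p - 1) = y⁻¹ := by
    apply eq_inv_of_mul_eq_one_left
    rw [← pow_succ, Nat.sub_add_cancel hp1.le, hyp]
  have hbx : (u' ^ (s₁ * (p - 1))) x = x * y⁻¹ := by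
    rw [aut_pow_apply_eq u' x (y ^ k₁) hk₁ (hyfix k₁) (s₁ * (p - 1)), ← pow_mul, ← mul_assoc, pow_mul,
      pow_eq_pow_mod (k₁ * s₁) hyp, hs₁, pow_one, hyinv]
  have haform : ∀ v : V, ∃ k : ℕ, (u ^ s) v = v * x ^ k := by
    intro v
    obtain ⟨k, hk⟩ := hform v
    exact ⟨k * s, by rw [aut_pow_apply_eq u v (x ^ k) hk (hxfix k) s, ← pow_mul]⟩
  have hbform : ∀ v : V, ∃ l : ℕ, (u' ^ (s₁ * (p - 1))) v = v * y ^ l := by
    intro v
    obtain ⟨l, hl⟩ := hform' v
    exact ⟨l * (s₁ * (p - 1)), by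
      rw [aut_pow_apply_eq u' v (y ^ l) hl (hyfix l) (s₁ * (p - 1)), ← pow_mul]⟩
  -- `u` is a power of `a`
  have hup : u ^ p = 1 := by
    ext v
    obtain ⟨k, hk⟩ := hform v
    rw [aut_pow_apply_eq u v (x ^ k) hk (hxfix k) p, ← pow_mul, mul_comm k p, pow_mul, hxp, one_pow, mul_one]
    rfl
  have hua : (u ^ s) ^ k₂ = u := by
    rw [← pow_mul, mul_comm]
    have h1 : k₂ * s = p * (k₂ * s / p) + 1 := by
      have := Nat.div_add_mod (k₂ * s) p
      omega
    rw [h1, pow_succ, pow_mul, hup, one_pow, one_mul]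
  set a := u ^ s with ha
  set b := u' ^ (s₁ * (p - 1)) with hb
  have haA : a ∈ A := A.pow_mem hu s
  have hbA : b ∈ A := A.pow_mem hu'A _
  obtain ⟨hδx, hδy⟩ := aba_sq_apply x y a b hax hay hby hbx
  set δ := a * b * a * (a * b * a) with hδ
  have hδA : δ ∈ A := A.mul_mem (A.mul_mem (A.mul_mem haA hbA) haA) (A.mul_mem (A.mul_mem haA hbA) haA)
  -- `δ` inverts `⟨x, y⟩` and fixes the common fixed points of `a`, `b`
  have hδC : ∀ t ∈ Subgroup.closure ({x, y} : Set V), δ t = t⁻¹ := by
    intro t ht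
    induction ht using Subgroup.closure_induction with
    | mem z hz =>
      rcases hz with rfl | hz
      · exact hδx
      · rw [Set.mem_singleton_iff] at hz; rw [hz]; exact hδy
    | one => simp
    | mul a' b' _ _ iha ihb => rw [map_mul, iha, ihb, mul_inv_rev, mul_comm]
    | inv a' _ iha => rw [map_inv, iha]
  have haC : ∀ t ∈ Subgroup.closure ({x, y} : Set V), a t ∈ Subgroup.closure ({x, y} : Set V) := by
    intro t ht
    induction ht using Subgroup.closure_induction with
    | mem z hz =>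
      rcases hz with rfl | hz
      · rw [hax]; exact Subgroup.subset_closure (by simp)
      · rw [Set.mem_singleton_iff] at hz
        rw [hz, hay]
        exact Subgroup.mul_mem _ (Subgroup.subset_closure (by simp)) (Subgroup.subset_closure (by simp))
    | one => rw [map_one]; exact Subgroup.one_mem _
    | mul a' b' _ _ iha ihb => rw [map_mul]; exact Subgroup.mul_mem _ iha ihb
    | inv a' _ iha => rw [map_inv]; exact Subgroup.inv_mem _ iha
  have hδfix : ∀ v : V, a v = v → b v = v → δ v = v := by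
    intro v h1 h2
    rw [hδ]
    simp only [MulAut.mul_apply, h1, h2]
  have hcommute : Commute δ a := by
    ext v
    obtain ⟨k, hk⟩ := haform v
    obtain ⟨l, hl⟩ := hbform v
    obtain ⟨v', hv'⟩ : ∃ v' : V, v' = v * (y ^ k)⁻¹ * x ^ l := ⟨_, rfl⟩
    obtain ⟨t, ht⟩ : ∃ t : V, t = y ^ k * (x ^ l)⁻¹ := ⟨_, rfl⟩
    have hvt : v = v' * t := by
      rw [hv', ht]
      apply Additive.ofMul.injective
      simp only [ofMul_mul, ofMul_inv, ofMul_pow, smul_add]
      abel
    have hav' : a v' = v' := by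
      rw [hv', map_mul, map_mul, map_inv, map_pow, map_pow, hk, hax, hay]
      apply Additive.ofMul.injective
      simp only [ofMul_mul, ofMul_inv, ofMul_pow, smul_add]
      abel
    have hbv' : b v' = v' := by
      rw [hv', map_mul, map_mul, map_inv, map_pow, map_pow, hl, hby, hbx]
      apply Additive.ofMul.injective
      simp only [ofMul_mul, ofMul_inv, ofMul_pow, smul_add, smul_neg]
      abel
    have htC : t ∈ Subgroup.closure ({x, y} : Set V) := by
      rw [ht]
      exact Subgroup.mul_mem _ (Subgroup.pow_mem _ (Subgroup.subset_closure (by simp)) k)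
        (Subgroup.inv_mem _ (Subgroup.pow_mem _ (Subgroup.subset_closure (by simp)) l))
    show δ (a v) = a (δ v)
    rw [hvt, map_mul, map_mul, map_mul, map_mul, hav', hδfix v' hav' hbv', hav', hδC t htC,
      hδC (a t) (haC t htC), map_inv]
  refine ⟨δ, hδA, hδx, hδy, fun v => ?_⟩
  have h := hcommute.pow_right k₂
  rw [hua] at h
  exact DFunLike.congr_fun h.eq v

end Cfsg.Agent.Helper86
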