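import Mathlib

/-! UT piece (X8r) exists_rho_omega (helper98 server, S2283): a field of order 64 contains roots of
`X^3 + X + 1` and `X^2 + X + 1`, and has characteristic 2. -/

set_option autoImplicit false

namespace Cfsg.Agent.Helper86.UT

variable {F : Type*} [Field F] [Fintype F]

theorem h86_two_eq_zero (hF8 : Fintype.card F = 8 ^ 2) : (2 : F) = 0 := by
  obtain ⟨p, hp⟩ := CharP.exists F
  have := hp
  obtain ⟨n, hpr, hcard⟩ := FiniteField.card F p
  rw [hF8] at hcard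
  have hdvd : p ∣ 8 ^ 2 := by
    rw [hcard]
    exact dvd_pow_self p n.pos.ne'
  have h2 : p ∣ 2 := by
    have : (8 : ℕ) ^ 2 = 2 ^ 6 := by norm_num
    rw [this] at hdvd
    exact hpr.dvd_of_dvd_pow hdvd
  have hp2 : p = 2 := (Nat.prime_dvd_prime_iff_eq hpr Nat.prime_two).mp h2
  subst hp2
  exact_mod_cast CharP.cast_eq_zero F 2

/-- (X8r) -/
theorem exists_rho_omega (hF8 : Fintype.card F = 8 ^ 2) :
    ∃ ρ ω : F, ρ ^ 3 = ρ + 1 ∧ ω ^ 2 = ω + 1 ∧ (2 : F) = 0 := by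
  have h2 : (2 : F) = 0 := h86_two_eq_zero hF8
  obtain ⟨γ, hγ⟩ := IsCyclic.exists_generator (α := Fˣ)
  have hord : orderOf γ = 63 := by
    rw [orderOf_eq_card_of_forall_mem_zpowers hγ, Nat.card_units, Nat.card_eq_fintype_card, hF8]
    norm_num
  -- `ω`
  have hw3 : ((γ ^ 21 : Fˣ) : F) ^ 3 = 1 := by
    have : (γ ^ 21) ^ 3 = (1 : Fˣ) := by
      rw [← pow_mul, show 21 * 3 = 63 from rfl, ← hord]; exact pow_orderOf_eq_one γ
    have h' := congrArg Units.val this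
    rw [Units.val_pow_eq_pow_val, Units.val_one] at h'
    exact h'
  have hw1 : ((γ ^ 21 : Fˣ) : F) ≠ 1 := by
    intro h
    have : γ ^ 21 = 1 := by exact_mod_cast Units.ext h
    have := orderOf_dvd_of_pow_eq_one this
    rw [hord] at this
    omega
  set w : F := ((γ ^ 21 : Fˣ) : F) with hwdef
  have hwq : w ^ 2 + w + 1 = 0 := by
    have hprod : (w - 1) * (w ^ 2 + w + 1) = 0 := by
      have : (w - 1) * (w ^ 2 + w + 1) = w ^ 3 - 1 := by ring
      rw [this, hw3, sub_self]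
    rcases mul_eq_zero.mp hprod with h | h
    · exact absurd (sub_eq_zero.mp h) hw1
    · exact h
  -- `ρ`
  have hr7 : ((γ ^ 9 : Fˣ) : F) ^ 7 = 1 := by
    have : (γ ^ 9) ^ 7 = (1 : Fˣ) := by
      rw [← pow_mul, show 9 * 7 = 63 from rfl, ← hord]; exact pow_orderOf_eq_one γ
    have h' := congrArg Units.val this
    rw [Units.val_pow_eq_pow_val, Units.val_one] at h'
    exact h'
  have hr1 : ((γ ^ 9 : Fˣ) : F) ≠ 1 := by
    intro h
    have : γ ^ 9 = 1 := by exact_mod_cast Units.ext h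
    have := orderOf_dvd_of_pow_eq_one this
    rw [hord] at this
    omega
  set r : F := ((γ ^ 9 : Fˣ) : F) with hrdef
  have hr0 : r ≠ 0 := Units.ne_zero _
  have hS : r ^ 6 + r ^ 5 + r ^ 4 + r ^ 3 + r ^ 2 + r + 1 = 0 := by
    have hprod : (r - 1) * (r ^ 6 + r ^ 5 + r ^ 4 + r ^ 3 + r ^ 2 + r + 1) = 0 := by
      have : (r - 1) * (r ^ 6 + r ^ 5 + r ^ 4 + r ^ 3 + r ^ 2 + r + 1) = r ^ 7 - 1 := by ring
      rw [this, hr7, sub_self]
    rcases mul_eq_zero.mp hprod with h | h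
    · exact absurd (sub_eq_zero.mp h) hr1
    · exact h
  have hAB : (r ^ 3 + r + 1) * (r ^ 3 + r ^ 2 + 1) = 0 := by
    linear_combination hS + r ^ 3 * h2
  rcases mul_eq_zero.mp hAB with hA | hB
  · refine ⟨r, w, ?_, ?_, h2⟩
    · linear_combination hA - (r + 1) * h2
    · linear_combination hwq - (w + 1) * h2
  · have hρ : r⁻¹ * r = 1 := inv_mul_cancel₀ hr0
    refine ⟨r⁻¹, w, ?_, ?_, h2⟩
    · linear_combination (r⁻¹) ^ 3 * hB
        - ((r⁻¹) ^ 2 * r ^ 2 + r⁻¹ * r + 1 + r⁻¹ * (r⁻¹ * r + 1)) * hρ - (r⁻¹ + 1) * h2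
    · linear_combination hwq - (w + 1) * h2

end Cfsg.Agent.Helper86.UT
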